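import Cfsg.Agent.Lib.JFour.VCentT

/-!
# The normalizer of an elementary subgroup of order `2 ^ 11`

Its order, its two classes of involutions of lengths 1771 and 276 and the centralizer of an element
of the second class, for every such subgroup of a group of this type.
-/

set_option autoImplicit false
set_option maxRecDepth 100000
set_option linter.style.haveILetI false
set_option linter.unusedSectionVars false

open Cfsg

namespace CfsgLib.JFour

variable {G : Type*} [Group G] [Finite G] {M : Type*} [Group M] [Finite M] {z π : G} {E : Subgroup G}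

namespace Ctx.Std

variable {J : Ctx M z π E} {g : ℕ → M} {vec : ℕ → G} {V : Subgroup G} (D : J.Std g vec V)
include D

/-- The order of the normalizer of the hexad subgroup is 5760. -/
theorem card_normalizer_hexK_eq : Nat.card ↥(Subgroup.normalizer (hexK g : Set M)) = 5760 := by
  classical
  obtain ⟨Z, hZK, hZ, hC⟩ := D.full.H.cent
  have hZ1 : Z ≠ 1 := fun h => by rw [h, orderOf_one] at hZ; norm_num at hZ
  set N := Subgroup.normalizer (hexK g : Set M)
  have h := card_orbit_mul N Z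
  have h1 : N ⊓ Subgroup.centralizer ({Z} : Set M) = Subgroup.centralizer ({Z} : Set M) :=
    inf_eq_right.2 fun x hx => hC x (Subgroup.mem_centralizer_singleton_iff.1 hx)
  have h2 : {v : M | ∃ n ∈ N, n * Z * n⁻¹ = v} = (hexK g : Set M) \ {1} := by
    ext v
    constructor
    · rintro ⟨n, hn, rfl⟩
      refine ⟨(Subgroup.mem_normalizer_iff.1 hn Z).1 hZK, fun e => hZ1 ?_⟩
      rw [Set.mem_singleton_iff, mul_inv_eq_one, mul_eq_left] at e
      exact e
    · rintro ⟨hv, hv1⟩
      obtain ⟨d, hd, hde⟩ := D.hexK_trans hZK hZ1 hv (fun e => hv1 (Set.mem_singleton_iff.2 e))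
      exact ⟨_, hd, hde⟩
  rw [h1, h2, Set.ncard_sdiff_singleton_of_mem (hexK g).one_mem, ← Nat.card_coe_set_eq] at h
  simp only [SetLike.coe_sort_coe, D.hexK_card_eq.1, D.small.card_invol Z hZ] at h
  omega

/-- An element of `C(z)` outside `H0` normalizes the subgroup. -/
theorem exists_outer : ∃ w : G, w * z = z * w ∧ w ∈ Subgroup.normalizer (V : Set G) ∧ w ∉ H0 z π E := by
  obtain ⟨h, hz, hp⟩ := J.swap
  set A := V.map (MulAut.conj h).toMonoidHom with hA
  have hAz : ∀ a ∈ A, a * z = z * a := by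
    rintro _ ⟨v, hv, rfl⟩
    show h * v * h⁻¹ * z = z * (h * v * h⁻¹)
    calc h * v * h⁻¹ * z = h * (v * (h⁻¹ * z * h)) * h⁻¹ := by group
      _ = h * (v * z) * h⁻¹ := by rw [mul_assoc h⁻¹, ← hz, inv_mul_cancel_left]
      _ = h * z * v * h⁻¹ := by rw [D.isV.cz v hv]; group
      _ = _ := by rw [hz]; group
  have hA1 : ∀ a ∈ A, a * a = 1 := by
    rintro _ ⟨v, hv, rfl⟩
    rw [← map_mul, D.isV.sq v hv, map_one]
  have hAc : Nat.card A = 2 ^ 11 := by
    rw [hA, Subgroup.card_map_of_injective (MulAut.conj h).injective, D.isV.card]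
  obtain ⟨d, hd⟩ := D.full.exists_isV_conj hAz hA1 hAc
  have hW := D.isV.unique D.small hd
  obtain ⟨hdz, -⟩ := mem_CZ.1 d.2
  have hdz' : (d : G)⁻¹ * z = z * (d : G)⁻¹ := (Commute.inv_left (show Commute (d : G) z from hdz)).eq
  have hwz : (d : G)⁻¹ * h * z = z * ((d : G)⁻¹ * h) := by
    rw [mul_assoc, hz, ← mul_assoc, hdz', mul_assoc]
  refine ⟨(d : G)⁻¹ * h, hwz, D.mem_normalizer_of_conj fun v hv => ?_, fun hw => J.swap_not_mem hz hp ?_⟩
  · rw [← hW, Subgroup.mem_map_equiv, MulAut.conj_symm_apply, hA, Subgroup.mem_map_equiv, MulAut.conj_symm_apply]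
    simpa [mul_assoc] using hv
  · have := mul_mem (CZ_le_H0 z π E d.2) hw
    rwa [mul_inv_cancel_left] at this

/-- The order of the part of the normalizer in `C(z)`. -/
theorem card_normalizer_cent :
    Nat.card ↥(Subgroup.normalizer (V : Set G) ⊓ Subgroup.centralizer ({z} : Set G)) = 2 ^ 11 * 138240 := by
  classical
  set N := Subgroup.normalizer (V : Set G) with hN
  -- the part in `C(z, π)`
  set C' := (Subgroup.normalizer (hexK g : Set M)).comap J.proj with hC'
  have hC'N : ∀ c : ↥(CZ z π), c ∈ C' ↔ (c : G) ∈ N := fun c =>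
    ⟨D.isV.mem_normalizer D.small, D.proj_mem_normalizer⟩
  have hC'card : Nat.card C' = 34560 := by
    have h1 := Subgroup.card_mul_index (Subgroup.normalizer (hexK g : Set M))
    rw [D.card_normalizer_hexK_eq, D.small.card] at h1
    have h2 := C'.card_mul_index
    rw [J.card_CZ D.small.card, hC', Subgroup.index_comap_of_surjective _ J.proj_surj] at h2
    have h3 : (Subgroup.normalizer (hexK g : Set M)).index = 77 := by omega
    rw [h3] at h2
    rw [hC']
    omega
  -- the part in `H0`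
  set A := N ⊓ H0 z π E with hA
  have hEA : E ≤ A := le_inf D.E_le (E_le_H0 z π E)
  haveI : (E.subgroupOf A).Normal := ⟨fun x hx y => Subgroup.mem_subgroupOf.2
    (J.conjE (Subgroup.mem_centralizer_singleton_iff.1 (J.H0_le y.2.2)) (Subgroup.mem_subgroupOf.1 hx))⟩
  let φ : ↥C' →* ↥A ⧸ E.subgroupOf A := (QuotientGroup.mk' _).comp
    (((CZ z π).subtype.comp C'.subtype).codRestrict A fun c => ⟨(hC'N c).1 c.2, CZ_le_H0 z π E c.1.2⟩)
  have hφ : Function.Surjective φ := by
    intro q
    induction q using QuotientGroup.induction_on with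
    | H a =>
      obtain ⟨e, he, c, hc, hac⟩ := J.mem_H0.1 a.2.2
      have hcN : c ∈ N := by
        have := mul_mem (inv_mem (D.E_le he)) a.2.1
        rwa [hac, inv_mul_cancel_left] at this
      refine ⟨⟨⟨c, hc⟩, (hC'N _).2 hcN⟩, QuotientGroup.eq.2 (Subgroup.mem_subgroupOf.2 ?_)⟩
      show c⁻¹ * (a : G) ∈ E
      rw [hac, ← mul_assoc]
      exact J.conjE' (mem_CZ.1 hc).1 he
  have hker : Nat.card φ.ker = 2 := by
    have hmem : ∀ c : ↥C', c ∈ φ.ker ↔ ((c : ↥(CZ z π)) : G) ∈ E := fun c => by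
      rw [MonoidHom.mem_ker]
      exact (QuotientGroup.eq_one_iff _).trans Subgroup.mem_subgroupOf
    have hzC : (⟨z, J.z_mem_CZ⟩ : ↥(CZ z π)) ∈ C' := by
      rw [hC'N]; exact Subgroup.le_normalizer D.isV.z_mem
    have he : (φ.ker : Set ↥C') = {1, ⟨_, hzC⟩} := by
      ext c
      rw [SetLike.mem_coe, hmem, Set.mem_insert_iff, Set.mem_singleton_iff]
      constructor
      · intro h
        rcases J.eq_center_of_mem_E c.1.2 h with k | k
        · exact Or.inl (Subtype.ext (Subtype.ext k))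
        · exact Or.inr (Subtype.ext (Subtype.ext k))
      · rintro (rfl | rfl)
        exacts [E.one_mem, J.s.z_mem]
    rw [← SetLike.coe_sort_coe, Nat.card_coe_set_eq, he, Set.ncard_pair fun e => J.z_ne ?_]
    exact (congrArg (fun x : ↥C' => ((x : ↥(CZ z π)) : G)) e).symm
  have hAcard : Nat.card A = 2 ^ 11 * 69120 := by
    have h1 := φ.ker.card_mul_index
    rw [Subgroup.index_ker, MonoidHom.range_eq_top.2 hφ, Subgroup.card_top, hker, hC'card] at h1
    rw [Subgroup.card_eq_card_quotient_mul_card_subgroup (E.subgroupOf A),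
      Nat.card_congr (Subgroup.subgroupOfEquivOfLe hEA).toEquiv, J.cardE]
    omega
  -- index two
  obtain ⟨w, hwz, hwN, hw0⟩ := D.exists_outer
  set B := N ⊓ Subgroup.centralizer ({z} : Set G)
  let F : ↥A × Bool → ↥B := fun p =>
    ⟨(p.1 : G) * (if p.2 then w else 1), B.mul_mem ⟨p.1.2.1, J.H0_le p.1.2.2⟩ (by
      cases p.2
      · exact B.one_mem
      · exact ⟨hwN, Subgroup.mem_centralizer_singleton_iff.2 hwz⟩)⟩
  have hF : Function.Bijective F := by
    constructor
    · rintro ⟨a, b⟩ ⟨a', b'⟩ h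
      have h' : (a : G) * (if b then w else 1) = (a' : G) * (if b' then w else 1) := congrArg Subtype.val h
      rcases b <;> rcases b' <;> simp only [Bool.false_eq_true, ↓reduceIte, mul_one, mul_left_inj] at h'
      · exact Prod.ext (Subtype.ext h') rfl
      · refine (hw0 ?_).elim
        have := (H0 z π E).mul_mem ((H0 z π E).inv_mem a'.2.2) a.2.2
        rwa [h', inv_mul_cancel_left] at this
      · refine (hw0 ?_).elim
        have := (H0 z π E).mul_mem ((H0 z π E).inv_mem a.2.2) a'.2.2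
        rwa [← h', inv_mul_cancel_left] at this
      · exact Prod.ext (Subtype.ext h') rfl
    · rintro ⟨b, hbN, hbz⟩
      by_cases hb : b ∈ H0 z π E
      · exact ⟨(⟨b, hbN, hb⟩, false), Subtype.ext (mul_one b)⟩
      · have hwz' : w⁻¹ * z = z * w⁻¹ := (Commute.inv_left (show Commute w z from hwz)).eq
        have h0 : b * w⁻¹ ∈ H0 z π E := J.mul_mem_H0 (Subgroup.mem_centralizer_singleton_iff.1 hbz) hwz' hb
          (fun k => hw0 (inv_mem_iff.1 k))
        exact ⟨(⟨b * w⁻¹, (Subgroup.normalizer (V : Set G)).mul_mem hbN ((Subgroup.normalizer (V : Set G)).inv_mem hwN), h0⟩, true), Subtype.ext (inv_mul_cancel_right b w)⟩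
  rw [← Nat.card_congr (Equiv.ofBijective F hF), Nat.card_prod, hAcard, Nat.card_eq_fintype_card (α := Bool),
    Fintype.card_bool]
  norm_num

/-- The order of the normalizer. -/
theorem card_normalizer : Nat.card ↥(Subgroup.normalizer (V : Set G)) = 2 ^ 11 * 244823040 := by
  have h := card_orbit_mul (Subgroup.normalizer (V : Set G)) z
  rw [D.orbit_eq D.isV.z_mem, D.conj_classes.2.2.2, D.card_normalizer_cent] at h
  omega

/-- The order of the centralizer of an element not conjugate to `z`. -/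
theorem card_cent {t : G} (ht : IsD z V t) :
    Nat.card ↥(Subgroup.centralizer ({t} : Set G)) = 2 ^ 11 * 887040 := by
  have h := card_orbit_mul (Subgroup.normalizer (V : Set G)) t
  have hle : Subgroup.centralizer ({t} : Set G) ≤ Subgroup.normalizer (V : Set G) := fun x hx =>
    D.cent_le_normalizer ht (Subgroup.mem_centralizer_singleton_iff.1 hx)
  rw [inf_eq_right.2 hle, D.ncard_D ht, D.card_normalizer] at h
  omega

end Ctx.Std

/-- Every elementary subgroup of order `2 ^ 11` is conjugate to a standard one. -/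
theorem exists_std [IsSimpleGroup G] (hG : ¬ IsMulCommutative G) {z : G} (hJ : IsOfJankoFourTypeAt z)
    {V : Subgroup G} (hV : IsElementaryAbelian 2 V) (hcard : Nat.card ↥V = 2 ^ 11) :
    ∃ (π : G) (J : Ctx ↥Cfsg.Spor.M22 z π (twoCoreOfCentralizer z)) (g : ℕ → ↥Cfsg.Spor.M22) (vec : ℕ → G)
      (V0 : Subgroup G) (c : G), J.Std g vec V0 ∧ V = V0.map (MulAut.conj c).toMonoidHom := by
  haveI := Fact.mk Nat.prime_two
  obtain ⟨P, hP⟩ := hJ
  obtain ⟨π, -, J, g, vec, S⟩ := exists_full hG hP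
  obtain ⟨V0, hV0⟩ := S.exists_isV
  have hU := unique11_of_type (G := G) ⟨z, P, hP⟩
  obtain ⟨T0, hT0⟩ := (IsPGroup.of_card (p := 2) hV0.card).exists_le_sylow
  obtain ⟨T, hT⟩ := (IsPGroup.of_card (p := 2) hcard).exists_le_sylow
  obtain ⟨c, hc⟩ := MulAction.exists_smul_eq G T0 T
  refine ⟨π, J, g, vec, V0, c, ⟨S, hV0, hU⟩, hU T V _ T.2 hT ?_ ?_ ?_ hcard ?_⟩
  · rw [← hc, Sylow.coe_subgroup_smul]
    exact Subgroup.map_mono hT0
  · intro a ha
    rw [← pow_two]
    exact hV.2 a ha
  · rintro _ ⟨v, hv, rfl⟩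
    rw [← map_mul, hV0.sq v hv, map_one]
  · rw [Subgroup.card_map_of_injective (MulAut.conj c).injective, hV0.card]

theorem mem_conj_map {V : Subgroup G} {c x : G} :
    x ∈ V.map (MulAut.conj c).toMonoidHom ↔ c⁻¹ * x * c ∈ V := by
  rw [Subgroup.mem_map_equiv, MulAut.conj_symm_apply]

theorem normalizer_conj_map {V : Subgroup G} {c n : G} :
    n ∈ Subgroup.normalizer ((V.map (MulAut.conj c).toMonoidHom : Subgroup G) : Set G) ↔
      c⁻¹ * n * c ∈ Subgroup.normalizer (V : Set G) := by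
  rw [Subgroup.mem_normalizer_iff, Subgroup.mem_normalizer_iff]
  constructor
  · intro h y
    have := h (c * y * c⁻¹)
    rw [mem_conj_map, mem_conj_map, show c⁻¹ * (c * y * c⁻¹) * c = y by group] at this
    rw [this, show c⁻¹ * n * c * y * (c⁻¹ * n * c)⁻¹ = c⁻¹ * (n * (c * y * c⁻¹) * n⁻¹) * c by group]
  · intro h y
    rw [mem_conj_map, mem_conj_map, h (c⁻¹ * y * c),
      show c⁻¹ * n * c * (c⁻¹ * y * c) * (c⁻¹ * n * c)⁻¹ = c⁻¹ * (n * y * n⁻¹) * c by group]

/-- Orbits under the normalizer of a conjugate subgroup. -/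
theorem conj_orbit (V : Subgroup G) (c x : G) :
    {v : G | ∃ n ∈ Subgroup.normalizer ((V.map (MulAut.conj c).toMonoidHom : Subgroup G) : Set G),
        n * (c * x * c⁻¹) * n⁻¹ = v} =
      (fun v => c * v * c⁻¹) '' {v : G | ∃ n ∈ Subgroup.normalizer (V : Set G), n * x * n⁻¹ = v} := by
  ext v
  constructor
  · rintro ⟨n, hn, rfl⟩
    exact ⟨_, ⟨c⁻¹ * n * c, normalizer_conj_map.1 hn, rfl⟩, by group⟩
  · rintro ⟨_, ⟨n, hn, rfl⟩, rfl⟩
    exact ⟨c * n * c⁻¹, normalizer_conj_map.2 (by rwa [show c⁻¹ * (c * n * c⁻¹) * c = n by group]), by group⟩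

/-- The orbits of the normalizer of an elementary subgroup of order `2 ^ 11`. -/
theorem eleven_orbits [IsSimpleGroup G] (hG : ¬ IsMulCommutative G) {z : G} (hJ : IsOfJankoFourTypeAt z)
    {V : Subgroup G} (hV : IsElementaryAbelian 2 V) (hcard : Nat.card ↥V = 2 ^ 11) :
    ∃ z' t : G, z' ∈ V ∧ t ∈ V ∧ t ≠ 1 ∧ IsConj z z' ∧ ¬ IsConj z t ∧
    Set.ncard {v : G | ∃ n ∈ Subgroup.normalizer (V : Set G), n * z' * n⁻¹ = v} = 1771 ∧
    Set.ncard {v : G | ∃ n ∈ Subgroup.normalizer (V : Set G), n * t * n⁻¹ = v} = 276 ∧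
    Subgroup.centralizer ({t} : Set G) ≤ Subgroup.normalizer (V : Set G) := by
  obtain ⟨π, J, g, vec, V0, c, D, rfl⟩ := exists_std hG hJ hV hcard
  have ht := D.seed_IsD
  have hinj : Function.Injective fun v : G => c * v * c⁻¹ := (MulAut.conj c).injective
  refine ⟨c * z * c⁻¹, c * vec 260 * c⁻¹, ⟨z, D.isV.z_mem, rfl⟩, ⟨_, ht.1, rfl⟩, ?_, isConj_iff.2 ⟨c, rfl⟩,
    fun h => ht.2.2 ((isConj_conj_iff c).1 h), ?_, ?_, fun x hx => ?_⟩
  · rw [Ne, mul_inv_eq_one, mul_eq_left]
    exact ht.2.1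
  · rw [conj_orbit, Set.ncard_image_of_injective _ hinj, D.orbit_eq D.isV.z_mem, D.conj_classes.2.2.2]
  · rw [conj_orbit, Set.ncard_image_of_injective _ hinj, D.ncard_D ht]
  · have hx' := Subgroup.mem_centralizer_singleton_iff.1 hx
    have h := D.cent_le_normalizer ht (x := c⁻¹ * x * c) (by
      calc c⁻¹ * x * c * vec 260 = c⁻¹ * (x * (c * vec 260 * c⁻¹)) * c := by group
        _ = _ := by rw [hx']; group)
    exact normalizer_conj_map.2 h

/-- The second class of involutions: the centralizer and its order. -/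
theorem cent_second_le [IsSimpleGroup G] (hG : ¬ IsMulCommutative G) {z : G} (hJ : IsOfJankoFourTypeAt z)
    {V : Subgroup G} (hV : IsElementaryAbelian 2 V) (hcard : Nat.card ↥V = 2 ^ 11) {t : G} (ht : t ∈ V)
    (h1 : t ≠ 1) (hzt : ¬ IsConj z t) :
    Subgroup.centralizer ({t} : Set G) ≤ Subgroup.normalizer (V : Set G) ∧
      Nat.card ↥(Subgroup.centralizer ({t} : Set G)) = 2 ^ 11 * 887040 := by
  obtain ⟨π, J, g, vec, V0, c, D, rfl⟩ := exists_std hG hJ hV hcard
  obtain ⟨t0, ht0, rfl⟩ := ht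
  rw [MulEquiv.coe_toMonoidHom, MulAut.conj_apply] at h1 hzt ⊢
  have hD : IsD z V0 t0 := ⟨ht0, fun e => h1 (by rw [e]; group), fun k => hzt ((isConj_conj_iff c).2 k)⟩
  have hmap : Subgroup.centralizer ({c * t0 * c⁻¹} : Set G) =
      (Subgroup.centralizer ({t0} : Set G)).map (MulAut.conj c).toMonoidHom := by
    ext x
    rw [Subgroup.mem_map_equiv, MulAut.conj_symm_apply, Subgroup.mem_centralizer_singleton_iff,
      Subgroup.mem_centralizer_singleton_iff]
    constructor
    · intro h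
      calc c⁻¹ * x * c * t0 = c⁻¹ * (x * (c * t0 * c⁻¹)) * c := by group
        _ = _ := by rw [h]; group
    · intro h
      calc x * (c * t0 * c⁻¹) = c * (c⁻¹ * x * c * t0) * c⁻¹ := by group
        _ = _ := by rw [h]; group
  refine ⟨fun x hx => ?_, by rw [hmap, Subgroup.card_map_of_injective (MulAut.conj c).injective, D.card_cent hD]⟩
  rw [hmap] at hx
  obtain ⟨y, hy, rfl⟩ := hx
  have h := D.cent_le_normalizer hD (Subgroup.mem_centralizer_singleton_iff.1 hy)
  refine normalizer_conj_map.2 ?_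
  rw [MulEquiv.coe_toMonoidHom, MulAut.conj_apply, show c⁻¹ * (c * y * c⁻¹) * c = y by group]
  exact h

end CfsgLib.JFour
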