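import Cfsg.Agent.Lib.JFour.VOrbits

/-!
# The normalizer of the standard elementary subgroup

It is self-centralizing, controls the fusion of its elements and its normalizer contains `E`, `π` and
lifts of the normalizer of the hexad subgroup.
-/

set_option autoImplicit false
set_option maxRecDepth 100000
set_option linter.style.haveILetI false
set_option linter.unusedSectionVars false

open Cfsg

namespace CfsgLib.JFour

variable {G : Type*} [Group G] [Finite G] {M : Type*} [Group M] [Finite M] {z π : G} {E : Subgroup G}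

/-- A 2-subgroup contains at most one elementary subgroup of order `2 ^ 11`. -/
def Unique11 (G : Type*) [Group G] : Prop :=
  ∀ S A B : Subgroup G, IsPGroup 2 S → A ≤ S → B ≤ S → (∀ a ∈ A, a * a = 1) → (∀ b ∈ B, b * b = 1) →
    Nat.card A = 2 ^ 11 → Nat.card B = 2 ^ 11 → A = B

theorem elementary_of_sq {A : Subgroup G} (h : ∀ a ∈ A, a * a = 1) : IsElementaryAbelian 2 A :=
  ⟨⟨⟨fun a b => Subtype.ext (comm_of_sq h a a.2 b b.2)⟩⟩, fun a ha => by rw [pow_two]; exact h a ha⟩

theorem unique11_of_type (hJ : IsOfJankoFourType G) : Unique11 G := by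
  haveI := Fact.mk Nat.prime_two
  intro S A B hS hA hB hA1 hB1 hAc hBc
  obtain ⟨T, hT⟩ := hS.exists_le_sylow
  exact (unique_eleven hJ T).unique ⟨hA.trans hT, elementary_of_sq hA1, hAc⟩ ⟨hB.trans hT, elementary_of_sq hB1, hBc⟩

/-- Everything on the standard subgroup. -/
structure Ctx.Std (J : Ctx M z π E) (g : ℕ → M) (vec : ℕ → G) (V : Subgroup G) : Prop where
  full : J.Full g vec
  isV : J.IsV g V
  uniq : Unique11 G

namespace Ctx.Std

variable {J : Ctx M z π E} {g : ℕ → M} {vec : ℕ → G} {V : Subgroup G} (D : J.Std g vec V)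
include D

theorem small : Small M := D.full.small

theorem mem_normalizer_of_conj {k : G} (h : ∀ v ∈ V, k * v * k⁻¹ ∈ V) : k ∈ Subgroup.normalizer (V : Set G) := by
  have heq : V.map (MulAut.conj k).toMonoidHom = V := by
    refine Subgroup.eq_of_le_of_card_ge ?_ (by rw [Subgroup.card_map_of_injective (MulAut.conj k).injective])
    rintro _ ⟨v, hv, rfl⟩
    exact h v hv
  rw [Subgroup.mem_normalizer_iff]
  intro x
  conv_rhs => rw [← heq, Subgroup.mem_map_equiv, MulAut.conj_symm_apply]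
  rw [show k⁻¹ * (k * x * k⁻¹) * k = x by group]

theorem conj_mem {k : G} (hk : k ∈ Subgroup.normalizer (V : Set G)) {v : G} (hv : v ∈ V) : k * v * k⁻¹ ∈ V :=
  (Subgroup.mem_normalizer_iff.1 hk v).1 hv

/-- Two conjugates in a subgroup in which `V` is normal coincide. -/
theorem eq_of_le_normalizer {k : G} (h : ∀ v ∈ V, k * v * k⁻¹ ∈ Subgroup.normalizer (V : Set G)) :
    k ∈ Subgroup.normalizer (V : Set G) := by
  haveI := Fact.mk Nat.prime_two
  set W := V.map (MulAut.conj k).toMonoidHom with hW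
  have hV2 : IsPGroup 2 V := IsPGroup.of_card D.isV.card
  have hWc : Nat.card W = 2 ^ 11 := by
    rw [hW, Subgroup.card_map_of_injective (MulAut.conj k).injective, D.isV.card]
  have hWN : W ≤ Subgroup.normalizer (V : Set G) := by rintro _ ⟨v, hv, rfl⟩; exact h v hv
  have hS : IsPGroup 2 ↥(V ⊔ W) := hV2.to_sup_of_normal_left' (IsPGroup.of_card hWc) hWN
  have hW1 : ∀ w ∈ W, w * w = 1 := by
    rintro _ ⟨v, hv, rfl⟩
    show k * v * k⁻¹ * (k * v * k⁻¹) = 1
    rw [show k * v * k⁻¹ * (k * v * k⁻¹) = k * (v * v) * k⁻¹ by group, D.isV.sq v hv]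
    group
  have heq := D.uniq _ W V hS le_sup_right le_sup_left hW1 D.isV.sq hWc D.isV.card
  exact D.mem_normalizer_of_conj fun v hv => heq.le ⟨v, hv, rfl⟩

theorem pi_mem : π ∈ Subgroup.normalizer (V : Set G) :=
  D.isV.mem_normalizer D.small (d := ⟨π, J.pi_mem_CZ⟩) (by rw [J.proj_pi]; exact one_mem _)

theorem E_le : E ≤ Subgroup.normalizer (V : Set G) := by
  haveI := Fact.mk Nat.prime_two
  intro e he
  have hV2 : IsPGroup 2 V := IsPGroup.of_card D.isV.card
  have hVN : V ≤ Subgroup.normalizer (E : Set G) := fun v hv =>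
    J.s.cz (Subgroup.mem_centralizer_singleton_iff.2 (D.isV.cz v hv))
  have hS : IsPGroup 2 ↥(E ⊔ V) := (IsPGroup.of_card J.cardE).to_sup_of_normal_left' hV2 hVN
  set W := V.map (MulAut.conj e).toMonoidHom with hW
  have hWc : Nat.card W = 2 ^ 11 := by
    rw [hW, Subgroup.card_map_of_injective (MulAut.conj e).injective, D.isV.card]
  have hW1 : ∀ w ∈ W, w * w = 1 := by
    rintro _ ⟨v, hv, rfl⟩
    show e * v * e⁻¹ * (e * v * e⁻¹) = 1
    rw [show e * v * e⁻¹ * (e * v * e⁻¹) = e * (v * v) * e⁻¹ by group, D.isV.sq v hv]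
    group
  have hWS : W ≤ E ⊔ V := by
    rintro _ ⟨v, hv, rfl⟩
    exact mul_mem (mul_mem (Subgroup.mem_sup_left he) (Subgroup.mem_sup_right hv))
      (inv_mem (Subgroup.mem_sup_left he))
  have heq := D.uniq _ W V hS hWS le_sup_right hW1 D.isV.sq hWc D.isV.card
  exact D.mem_normalizer_of_conj fun v hv => heq.le ⟨v, hv, rfl⟩

/-- The perpendicular of the part in `E`. -/
theorem perp_inf : perp E (V ⊓ E) = V ⊓ E := by
  refine (Subgroup.eq_of_le_of_card_ge (fun x hx => mem_perp.2 ⟨(Subgroup.mem_inf.1 hx).2, fun a ha =>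
    D.isV.comm a (Subgroup.mem_inf.1 ha).1 x (Subgroup.mem_inf.1 hx).1⟩) ?_).symm
  have h := J.card_mul_perp (A := V ⊓ E) ⟨D.isV.z_mem, J.s.z_mem⟩ inf_le_right
  rw [D.full.card_inf_E D.isV] at h
  rw [D.full.card_inf_E D.isV]
  omega

/-- Its elements in `E` commuting with it. -/
theorem mem_of_comm {e : G} (he : e ∈ E) (h : ∀ a ∈ V, a ∈ E → a * e = e * a) : e ∈ V :=
  (D.perp_inf.le (mem_perp.2 ⟨he, fun a ha => h a ha.1 ha.2⟩)).1

theorem hexK_card_eq : Nat.card (hexK g) = 16 ∧ ∀ m ∈ hexK g, ∃ i, i < 16 ∧ m = ((hexS.getD i []).map g).prod := by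
  classical
  have hsq := D.full.hexK_sq
  have hle : Nat.card (hexK g) ≤ 16 :=
    D.small.abelian _ (isPGroup_of_sq hsq) (comm_of_sq hsq)
  have hmem : ∀ i : Fin 16, ((hexS.getD (i : ℕ) []).map g).prod ∈ hexK g := by
    intro i
    have hi : (i : ℕ) < hexS.length := by rw [hexS, List.length_map, List.length_sublists]; exact i.2
    rw [List.getD_eq_getElem _ _ hi]
    simp only [hexS, List.getElem_map]
    rw [List.map_flatten, List.prod_flatten]
    refine list_prod_mem fun x hx => ?_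
    simp only [List.mem_map, exists_exists_and_eq_and] at hx
    obtain ⟨w, hw, rfl⟩ := hx
    exact Subgroup.subset_closure ⟨w, (List.mem_sublists.1 (List.getElem_mem _)).subset hw, rfl⟩
  let f : Fin 16 → ↥(hexK g) := fun i => ⟨_, hmem i⟩
  have hf : Function.Injective f := fun i j h => D.full.S16.distinct i j (congrArg Subtype.val h)
  have hge : 16 ≤ Nat.card (hexK g) := by
    have := Nat.card_le_card_of_injective f hf
    rwa [Nat.card_fin] at this
  refine ⟨le_antisymm hle hge, fun m hm => ?_⟩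
  letI := Fintype.ofFinite ↥(hexK g)
  obtain ⟨i, hi⟩ := ((Fintype.bijective_iff_injective_and_card f).2 ⟨hf, by
    rw [Fintype.card_fin, ← Nat.card_eq_fintype_card]; omega⟩).2 ⟨m, hm⟩
  exact ⟨i, i.2, (congrArg Subtype.val hi).symm⟩

/-- The listed products. -/
theorem hexS_mem {i : ℕ} : ((hexS.getD i []).map g).prod ∈ hexK g := by
  by_cases hi : i < hexS.length
  · rw [List.getD_eq_getElem _ _ hi]
    simp only [hexS, List.getElem_map]
    rw [List.map_flatten, List.prod_flatten]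
    refine list_prod_mem fun x hx => ?_
    simp only [List.mem_map, exists_exists_and_eq_and] at hx
    obtain ⟨w, hw, rfl⟩ := hx
    exact Subgroup.subset_closure ⟨w, (List.mem_sublists.1 (List.getElem_mem _)).subset hw, rfl⟩
  · rw [List.getD_eq_default _ _ (Nat.not_lt.1 hi)]
    exact one_mem _

/-- The first two normalizing words normalize the hexad subgroup. -/
theorem normW_mem {s : ℕ} (hs : s < 2) :
    ((normW.getD s []).map g).prod ∈ Subgroup.normalizer (hexK g : Set M) := by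
  set m := ((normW.getD s []).map g).prod with hm
  have hle : ∀ x ∈ hexK g, m * x * m⁻¹ ∈ hexK g := by
    intro x hx
    obtain ⟨i, hi, rfl⟩ := D.hexK_card_eq.2 x hx
    have hq : (normW.getD s [], i, (normPerm.getD s []).getD i 0) ∈ conjL :=
      List.mem_append_left _ (List.mem_flatMap.2 ⟨s, List.mem_range.2 hs, List.mem_map.2 ⟨i, List.mem_range.2 hi, rfl⟩⟩)
    have h := D.full.H.conjW _ hq
    simp only [List.map_append, List.prod_append] at h
    rw [hm, h, mul_inv_cancel_right]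
    exact D.hexS_mem
  have heq : (hexK g).map (MulAut.conj m).toMonoidHom = hexK g := by
    refine Subgroup.eq_of_le_of_card_ge ?_ (by rw [Subgroup.card_map_of_injective (MulAut.conj m).injective])
    rintro _ ⟨v, hv, rfl⟩
    exact hle v hv
  rw [Subgroup.mem_normalizer_iff]
  intro x
  conv_rhs => rw [← heq, Subgroup.mem_map_equiv, MulAut.conj_symm_apply]
  rw [show m⁻¹ * (m * x * m⁻¹) * m = x by group]

/-- The moves preserving the fixed space. -/
theorem exists_normB {B : List ℕ} (hB : B ∈ normB) :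
    ∃ d : ↥(CZ z π), (d : G) ∈ Subgroup.normalizer (V : Set G) ∧ Acts z vec (d : G) B := by
  simp only [normB, List.mem_cons, List.not_mem_nil, or_false] at hB
  rcases hB with rfl | rfl | rfl
  · obtain ⟨c, hc, hc'⟩ := D.full.Mo.lift (w := normW.getD 0 []) (by decide)
    exact ⟨c, D.isV.mem_normalizer D.small (hc ▸ D.normW_mem (by norm_num)), hc'⟩
  · obtain ⟨c, hc, hc'⟩ := D.full.Mo.lift (w := normW.getD 1 []) (by decide)
    exact ⟨c, D.isV.mem_normalizer D.small (hc ▸ D.normW_mem (by norm_num)), hc'⟩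
  · exact ⟨⟨π, J.pi_mem_CZ⟩, D.pi_mem, D.full.Mo.om⟩

/-- The centralizer of the hexad subgroup. -/
theorem cent_hexK {m : M} (hm : ∀ x ∈ hexK g, x * m = m * x) : m ∈ hexK g := by
  classical
  haveI := Fact.mk Nat.prime_two
  set C := Subgroup.centralizer (hexK g : Set M) with hC
  have hmC : m ∈ C := Subgroup.mem_centralizer_iff.2 hm
  have hKC : hexK g ≤ C := fun x hx => Subgroup.mem_centralizer_iff.2 fun y hy =>
    comm_of_sq D.full.hexK_sq y hy x hx
  obtain ⟨Z, hZK, hZ, -⟩ := D.full.H.cent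
  have hCZ : C ≤ Subgroup.centralizer ({Z} : Set M) := fun y hy =>
    Subgroup.mem_centralizer_singleton_iff.2 (Subgroup.mem_centralizer_iff.1 hy Z hZK).symm
  have h3 : ∀ y ∈ C, orderOf y ≠ 3 := by
    intro y hy h
    have hKy : hexK g ≤ Subgroup.centralizer ({y} : Set M) := fun x hx =>
      Subgroup.mem_centralizer_singleton_iff.2 (Subgroup.mem_centralizer_iff.1 hy x hx)
    have := Subgroup.card_dvd_of_le hKy
    rw [D.hexK_card_eq.1, D.small.card_three y h] at this
    norm_num at this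
  have hC2 : IsPGroup 2 C := by
    have hd : Nat.card C ∣ 128 := by
      have h384 := Subgroup.card_dvd_of_le hCZ
      rw [D.small.card_invol Z hZ, show (384 : ℕ) = 128 * 3 by norm_num] at h384
      refine Nat.Coprime.dvd_of_dvd_mul_right ?_ h384
      refine (Nat.Prime.coprime_iff_not_dvd Nat.prime_three).2 (fun h => ?_) |>.symm
      haveI := Fact.mk Nat.prime_three
      obtain ⟨y, hy⟩ := exists_prime_orderOf_dvd_card' (G := ↥C) 3 h
      exact h3 y y.2 (by rw [Subgroup.orderOf_coe, hy])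
    obtain ⟨k, -, hk⟩ := (Nat.dvd_prime_pow Nat.prime_two).1 (show Nat.card C ∣ 2 ^ 7 by simpa using hd)
    exact IsPGroup.of_card hk
  set B := Subgroup.closure ((hexK g : Set M) ∪ {m}) with hB
  haveI hBc : IsMulCommutative ↥B := by
    rw [hB]
    refine Subgroup.isMulCommutative_closure fun a ha b hb => ?_
    rcases ha with ha | ha <;> rcases hb with hb | hb
    · exact comm_of_sq D.full.hexK_sq a ha b hb
    · rw [Set.mem_singleton_iff.1 hb]; exact hm a ha
    · rw [Set.mem_singleton_iff.1 ha]; exact (hm b hb).symm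
    · rw [Set.mem_singleton_iff.1 ha, Set.mem_singleton_iff.1 hb]
  have hBC : B ≤ C := (Subgroup.closure_le _).2 (Set.union_subset hKC (Set.singleton_subset_iff.2 hmC))
  have hle := D.small.abelian B (hC2.to_le hBC) fun a ha b hb =>
    congrArg Subtype.val (mul_comm' (⟨a, ha⟩ : ↥B) ⟨b, hb⟩)
  have heq : hexK g = B := Subgroup.eq_of_le_of_card_ge
    (fun x hx => Subgroup.subset_closure (Or.inl hx)) (by rw [D.hexK_card_eq.1]; exact hle)
  rw [heq]
  exact Subgroup.subset_closure (Or.inr rfl)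

/-- It is self-centralizing. -/
theorem centralizer_le : Subgroup.centralizer (V : Set G) ≤ V := by
  intro x hx
  have hxc : ∀ v ∈ V, v * x = x * v := Subgroup.mem_centralizer_iff.1 hx
  have hxz : x * z = z * x := (hxc z D.isV.z_mem).symm
  have hU : ∀ {a : G}, a ∈ V ⊓ E → π * a * π⁻¹ ∈ V ⊓ E := fun {a} ha =>
    ⟨D.conj_mem D.pi_mem ha.1, J.conjE J.piz ha.2⟩
  have hH : x ∈ H0 z π E := by
    by_contra hn
    obtain ⟨f, hf, hxp⟩ := (J.not_mem_H0_iff hxz).1 hn
    obtain ⟨a, ha, haz⟩ : ∃ a ∈ V ⊓ E, a ∉ Subgroup.zpowers z := by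
      refine SetLike.not_le_iff_exists.1 fun h => ?_
      have := Subgroup.card_le_of_le h
      rw [D.full.card_inf_E D.isV, J.card_zpowers_z] at this
      norm_num at this
    have hpa := hU ha
    -- the semilinear action
    have e1 : π * a * π⁻¹ = x * (π * a * π⁻¹) * x⁻¹ := by rw [← hxc _ hpa.1, mul_inv_cancel_right]
    have e2 : x * (π * a * π⁻¹) * x⁻¹ = f * (π⁻¹ * (f⁻¹ * a * f) * π) * f⁻¹ := by
      calc x * (π * a * π⁻¹) * x⁻¹ = (x * π * x⁻¹) * (x * a * x⁻¹) * (x * π * x⁻¹)⁻¹ := by group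
        _ = (f * π⁻¹ * f⁻¹) * a * (f * π⁻¹ * f⁻¹)⁻¹ := by rw [hxp, ← hxc a ha.1, mul_inv_cancel_right]
        _ = _ := by group
    have r1 : Rel z (π * a * π⁻¹) (π⁻¹ * a * π) := by
      rw [e1, e2]
      refine J.rel_trans (J.rel_conj_E hf (J.conjE' J.piz (mul_mem (mul_mem (inv_mem hf) ha.2) hf))) ?_
      have h1 := J.rel_conj_E (inv_mem hf) ha.2
      rw [inv_inv] at h1
      have h2 := J.rel_conj (c := π⁻¹) (Commute.inv_left (show Commute π z from J.piz)).eq h1
      rwa [inv_inv] at h2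
    have r2 := J.rel_conj J.piz r1
    rw [show π * (π * a * π⁻¹) * π⁻¹ = π * π * a * (π * π)⁻¹ by group, ← J.pi_inv, inv_inv,
      show π * (π⁻¹ * a * π) * π⁻¹ = a by group] at r2
    have r3 : Rel z (π * a * π⁻¹) a := J.rel_trans r1 r2
    rcases J.fpf_rel ha.2 r3 with k | k <;> apply haz <;> rw [k]
    · exact one_mem _
    · rw [mul_one]; exact Subgroup.mem_zpowers z
  obtain ⟨e, he, c, hc, hxec⟩ := J.mem_H0.1 hH
  -- the image centralizes the hexad subgroup
  have hcK : J.proj ⟨c, hc⟩ ∈ hexK g := by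
    refine D.cent_hexK fun y hy => ?_
    obtain ⟨c', hc', hc'2⟩ := J.exists_lift_invol D.small (D.full.hexK_sq y hy)
    have hv : (c' : G) ∈ V := D.isV.lift c' hc'2 (hc' ▸ hy)
    rw [← hc', ← map_mul, ← map_mul]
    refine J.proj_eq ?_
    obtain ⟨hcz', -⟩ := mem_CZ.1 c'.2
    have hcz := (mem_CZ.1 hc).1
    simp only [Subgroup.coe_mul]
    have e3 : (c' : G) * c * (c * c')⁻¹ = ((c' : G) * e⁻¹ * (c' : G)⁻¹) * e := by
      have h := hxc _ hv
      rw [hxec] at h
      have h' : c = e⁻¹ * ((c' : G) * e * c * (c' : G)⁻¹) := by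
        rw [show (c' : G) * e * c = (c' : G) * (e * c) by group, h]; group
      calc (c' : G) * c * (c * c')⁻¹ = (c' : G) * c * (c' : G)⁻¹ * c⁻¹ := by group
        _ = (c' : G) * c * (c' : G)⁻¹ * (e⁻¹ * ((c' : G) * e * c * (c' : G)⁻¹))⁻¹ := by rw [← h']
        _ = _ := by group
    rw [e3]
    exact mul_mem (J.conjE hcz' (inv_mem he)) he
  obtain ⟨c', hc', hc'2⟩ := J.exists_lift_invol D.small (D.full.hexK_sq _ hcK)
  have hv : (c' : G) ∈ V := D.isV.lift c' hc'2 (hc' ▸ hcK)
  obtain ⟨u, huE, hu, k, hk, he'⟩ := J.exists_pow' (c := ⟨c, hc⟩ * c'⁻¹) (by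
    rw [map_mul, map_inv, hc', mul_inv_cancel])
  simp only [Subgroup.coe_mul, InvMemClass.coe_inv] at he'
  have hy : x * (c' : G)⁻¹ = e * u * π ^ k := by rw [hxec, mul_assoc e c, he', mul_assoc]
  have hyc : ∀ v ∈ V, v * (e * u * π ^ k) = e * u * π ^ k * v := by
    intro v hv'
    rw [← hy]
    exact ((show Commute v x from hxc v hv').mul_right
      (show Commute v (c' : G) from D.isV.comm v hv' _ hv).inv_right).eq
  -- the power of `π` vanishes
  obtain ⟨a, ha, haz⟩ : ∃ a ∈ V ⊓ E, a ∉ Subgroup.zpowers z := by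
    refine SetLike.not_le_iff_exists.1 fun h => ?_
    have := Subgroup.card_le_of_le h
    rw [D.full.card_inf_E D.isV, J.card_zpowers_z] at this
    norm_num at this
  have heu : e * u ∈ E := mul_mem he huE
  have hr : Rel z (π ^ k * a * (π ^ k)⁻¹) a := by
    have h := hyc a ha.1
    have h2 : (e * u) * (π ^ k * a * (π ^ k)⁻¹) * (e * u)⁻¹ = a := by
      calc _ = e * u * π ^ k * a * (e * u * π ^ k)⁻¹ := by group
        _ = a := by rw [← h, mul_inv_cancel_right]
    have h3 := J.rel_conj_E heu (J.conjE ((show Commute π z from J.piz).pow_left k).eq ha.2)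
    rw [h2] at h3
    exact J.rel_symm h3
  have hk0 : k = 0 := by
    by_contra hk0
    have r3 : Rel z (π * a * π⁻¹) a := by
      interval_cases k
      · exact absurd rfl hk0
      · simpa using hr
      · rw [pow_two, ← J.pi_inv, inv_inv] at hr
        have := J.rel_conj J.piz hr
        rw [show π * (π⁻¹ * a * π) * π⁻¹ = a by group] at this
        exact J.rel_symm this
    rcases J.fpf_rel ha.2 r3 with k' | k' <;> apply haz <;> rw [k']
    · exact one_mem _
    · rw [mul_one]; exact Subgroup.mem_zpowers z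
  rw [hk0, pow_zero, mul_one] at hy hyc
  have hmem : e * u ∈ V := D.mem_of_comm heu fun v hv' _ => hyc v hv'
  have := mul_mem hmem hv
  rwa [← hy, inv_mul_cancel_right] at this

/-- It controls the fusion of its elements. -/
theorem fuse {a k : G} (ha : a ∈ V) (hk : k * a * k⁻¹ ∈ V) :
    ∃ n ∈ Subgroup.normalizer (V : Set G), n * a * n⁻¹ = k * a * k⁻¹ := by
  haveI := Fact.mk Nat.prime_two
  set b := k * a * k⁻¹ with hb
  set C := Subgroup.centralizer ({b} : Set G) with hC
  set W := V.map (MulAut.conj k).toMonoidHom with hW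
  have hVC : V ≤ C := fun v hv => Subgroup.mem_centralizer_singleton_iff.2 (D.isV.comm v hv b hk)
  have hWC : W ≤ C := by
    rintro _ ⟨v, hv, rfl⟩
    refine Subgroup.mem_centralizer_singleton_iff.2 ?_
    show k * v * k⁻¹ * (k * a * k⁻¹) = k * a * k⁻¹ * (k * v * k⁻¹)
    rw [show k * v * k⁻¹ * (k * a * k⁻¹) = k * (v * a) * k⁻¹ by group, D.isV.comm v hv a ha]
    group
  have hV2 : IsPGroup 2 V := IsPGroup.of_card D.isV.card
  have hW2 : IsPGroup 2 W := hV2.map _
  obtain ⟨P, hP⟩ := (hV2.of_equiv (Subgroup.subgroupOfEquivOfLe hVC).symm).exists_le_sylow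
  obtain ⟨Q, hQ⟩ := (hW2.of_equiv (Subgroup.subgroupOfEquivOfLe hWC).symm).exists_le_sylow
  obtain ⟨c, hc⟩ := MulAction.exists_smul_eq ↥C Q P
  set S := (P : Subgroup ↥C).map C.subtype with hS
  have hWS : V.map (MulAut.conj ((c : G) * k)).toMonoidHom ≤ S := by
    rintro _ ⟨v, hv, rfl⟩
    have hvW : k * v * k⁻¹ ∈ W := ⟨v, hv, rfl⟩
    have h : c * ⟨k * v * k⁻¹, hWC hvW⟩ * c⁻¹ ∈ ((c • Q : Sylow 2 ↥C) : Subgroup ↥C) := by
      rw [Sylow.coe_subgroup_smul]
      exact ⟨_, hQ hvW, rfl⟩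
    rw [hc] at h
    refine ⟨_, h, ?_⟩
    show (c : G) * (k * v * k⁻¹) * (c : G)⁻¹ = (c : G) * k * v * ((c : G) * k)⁻¹
    group
  have hVS : V ≤ S := fun v hv => ⟨⟨v, hVC hv⟩, hP hv, rfl⟩
  have hck1 : ∀ w ∈ V.map (MulAut.conj ((c : G) * k)).toMonoidHom, w * w = 1 := by
    rintro _ ⟨v, hv, rfl⟩
    rw [← map_mul, D.isV.sq v hv, map_one]
  have heq := D.uniq S _ V (P.2.map C.subtype) hWS hVS hck1 D.isV.sq
    (by rw [Subgroup.card_map_of_injective (MulAut.conj _).injective, D.isV.card]) D.isV.card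
  refine ⟨(c : G) * k, D.mem_normalizer_of_conj fun v hv => heq.le ⟨v, hv, rfl⟩, ?_⟩
  calc (c : G) * k * a * ((c : G) * k)⁻¹ = (c : G) * b * (c : G)⁻¹ := by rw [hb]; group
    _ = b := by rw [Subgroup.mem_centralizer_singleton_iff.1 c.2, mul_inv_cancel_right]

end Ctx.Std

end CfsgLib.JFour
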