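import Cfsg.Agent.Lib.Extraspecial.LargePair
import Cfsg.Prelude.Def_JankoFourType

/-!
# The working hypothesis for a centralizer of Janko-four shape

`Ctx M z π E`: `E` is extraspecial of order `2 ^ 13` with the usual centre properties at `z`, the
element `π` of order three acts fixed point freely on `E / ⟨z⟩`, every element of `C(z)` maps `π`
into a conjugate of `π ^ ±1` by an element of `E`, both signs occur, and `C_H(π)` maps onto `M`
with kernel `⟨z, π⟩`, which lies in the derived group for its odd part.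
-/

set_option autoImplicit false
set_option linter.style.haveILetI false
set_option linter.unusedSectionVars false

open Cfsg
open scoped commutatorElement

namespace CfsgLib.JFour

variable {G : Type*} [Group G]

/-- The centralizer of `z` and `π`. -/
def CZ (z π : G) : Subgroup G :=
  Subgroup.centralizer ({z} : Set G) ⊓ Subgroup.centralizer ({π} : Set G)

theorem mem_CZ {z π c : G} : c ∈ CZ z π ↔ c * z = z * c ∧ c * π = π * c := by
  rw [CZ, Subgroup.mem_inf, Subgroup.mem_centralizer_singleton_iff,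
    Subgroup.mem_centralizer_singleton_iff]

/-- The hypothesis, in the form used in the proofs. -/
structure Ctx (M : Type*) [Group M] [Finite G] (z π : G) (E : Subgroup G) : Prop where
  s : Extraspecial.Setting E z
  cardE : Nat.card E = 2 ^ 13
  pi3 : π * π * π = 1
  pi1 : π ≠ 1
  piz : π * z = z * π
  fpf : ∀ e ∈ E, e * π = π * e → e = 1 ∨ e = z
  normP : ∀ h : G, h * z = z * h → ∃ e ∈ E, h * π * h⁻¹ = e * π * e⁻¹ ∨ h * π * h⁻¹ = e * π⁻¹ * e⁻¹
  swap : ∃ h : G, h * z = z * h ∧ h * π * h⁻¹ = π⁻¹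
  derived : π ∈ ⁅CZ z π, CZ z π⁆
  quot : ∃ φ : ↥(CZ z π) →* M, Function.Surjective φ ∧
    ∀ c : ↥(CZ z π), φ c = 1 ↔ ∃ u : G, (u = 1 ∨ u = z) ∧
      ((c : G) = u ∨ (c : G) = u * π ∨ (c : G) = u * π⁻¹)

namespace Ctx

variable [Finite G] {M : Type*} [Group M] {z π : G} {E : Subgroup G} (J : Ctx M z π E)
include J

theorem zz : z * z = 1 := J.s.zz

theorem z_ne : z ≠ 1 := J.s.ne_one

theorem pi_inv : π⁻¹ = π * π := inv_eq_of_mul_eq_one_left (by rw [J.pi3])

theorem pi_inv_ne : π⁻¹ ≠ π := by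
  intro h
  rw [J.pi_inv] at h
  exact J.pi1 (mul_left_cancel (h.trans (mul_one π).symm))

theorem orderOf_pi : orderOf π = 3 :=
  orderOf_eq_prime (by rw [pow_succ, pow_two, J.pi3]) J.pi1

theorem pi_mem_CZ : π ∈ CZ z π := mem_CZ.2 ⟨J.piz, rfl⟩

theorem z_mem_CZ : z ∈ CZ z π := mem_CZ.2 ⟨rfl, J.piz.symm⟩

theorem pi_not_mem : π ∉ E := by
  intro h
  rcases J.fpf π h rfl with e | e
  · exact J.pi1 e
  · have h3 := J.pi3
    rw [e, J.zz, one_mul] at h3
    exact J.z_ne h3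

theorem conjE {h : G} (hz : h * z = z * h) {e : G} (he : e ∈ E) : h * e * h⁻¹ ∈ E :=
  (Subgroup.mem_normalizer_iff.mp (J.s.cz (Subgroup.mem_centralizer_singleton_iff.mpr hz)) e).mp he

theorem conjE' {h : G} (hz : h * z = z * h) {e : G} (he : e ∈ E) : h⁻¹ * e * h ∈ E := by
  have := J.conjE (h := h⁻¹) (by rw [← mul_inv_eq_iff_eq_mul, inv_inv, mul_assoc, ← hz,
    inv_mul_cancel_left]) he
  rwa [inv_inv] at this

/-- Conjugating the hypothesis. -/
theorem conj (g : G) :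
    Ctx M (g * z * g⁻¹) (g * π * g⁻¹) (E.map (MulAut.conj g).toMonoidHom) := by
  set f := MulAut.conj g with hf
  have hf' : ∀ x, f x = g * x * g⁻¹ := fun x => MulAut.conj_apply g x
  have hC : CZ (f z) (f π) = (CZ z π).map f.toMonoidHom := by
    ext x
    rw [Subgroup.mem_map_equiv, mem_CZ, mem_CZ]
    constructor
    · rintro ⟨h1, h2⟩
      exact ⟨f.injective (by simp [h1]), f.injective (by simp [h2])⟩
    · rintro ⟨h1, h2⟩
      refine ⟨f.symm.injective ?_, f.symm.injective ?_⟩ <;> simp [h1, h2]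
  simp only [← hf']
  constructor
  · exact hf' z ▸ J.s.conj g
  · rw [Subgroup.card_map_of_injective f.injective, J.cardE]
  · rw [← map_mul, ← map_mul, J.pi3, map_one]
  · exact fun h => J.pi1 (f.injective (h.trans (map_one f).symm))
  · rw [← map_mul, ← map_mul, J.piz]
  · rintro _ ⟨e, he, rfl⟩ h
    rcases J.fpf e he (f.injective (by simpa using h)) with rfl | rfl
    · exact Or.inl (map_one f)
    · exact Or.inr rfl
  · intro h hh
    obtain ⟨k, rfl⟩ := f.surjective h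
    rw [← map_mul, ← map_mul, f.injective.eq_iff] at hh
    obtain ⟨e, he, h1⟩ := J.normP k hh
    refine ⟨f e, ⟨e, he, rfl⟩, ?_⟩
    simp only [← map_inv, ← map_mul, f.injective.eq_iff]
    exact h1
  · obtain ⟨k, hk, hk'⟩ := J.swap
    exact ⟨f k, by rw [← map_mul, ← map_mul, hk],
      by rw [← map_inv, ← map_mul, ← map_mul, hk', map_inv]⟩
  · rw [hC, ← Subgroup.map_commutator]
    exact ⟨π, J.derived, rfl⟩
  · obtain ⟨φ, hsurj, hker⟩ := J.quot
    let ψ : ↥(CZ (f z) (f π)) →* ↥(CZ z π) :=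
      (f.symm.toMonoidHom.comp (CZ (f z) (f π)).subtype).codRestrict (CZ z π) fun x => by
        obtain ⟨y, hy, hyx⟩ := hC.le x.2
        show f.symm (x : G) ∈ CZ z π
        rw [← hyx]
        simpa using hy
    refine ⟨φ.comp ψ, fun m => ?_, fun c => ?_⟩
    · obtain ⟨c, rfl⟩ := hsurj m
      refine ⟨⟨f c, hC.ge ⟨c, c.2, rfl⟩⟩, congrArg φ (Subtype.ext ?_)⟩
      show f.symm (f c) = c
      simp
    · rw [MonoidHom.comp_apply, hker]
      have hval : ((ψ c : ↥(CZ z π)) : G) = f.symm c := rfl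
      simp only [hval]
      constructor
      · rintro ⟨u, hu, h⟩
        refine ⟨f u, by rcases hu with rfl | rfl <;> simp, ?_⟩
        rcases h with h | h | h <;> [left; (right; left); (right; right)] <;>
          · rw [f.symm_apply_eq.1 h]
            try simp
      · rintro ⟨u, hu, h⟩
        refine ⟨f.symm u, by rcases hu with rfl | rfl <;> simp, ?_⟩
        rcases h with h | h | h <;> [left; (right; left); (right; right)] <;>
          · rw [h]; try simp

/-- The centralizer of `z` is covered by `E C` and its translate by an inverting element. -/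
def H0 (z π : G) (E : Subgroup G) : Subgroup G := E ⊔ CZ z π

omit J in
theorem CZ_le_H0 (z π : G) (E : Subgroup G) : CZ z π ≤ H0 z π E := le_sup_right

omit J in
theorem E_le_H0 (z π : G) (E : Subgroup G) : E ≤ H0 z π E := le_sup_left

theorem H0_le : H0 z π E ≤ Subgroup.centralizer ({z} : Set G) :=
  sup_le J.s.le_centralizer_z inf_le_left

theorem mem_H0 {h : G} : h ∈ H0 z π E ↔ ∃ e ∈ E, ∃ c ∈ CZ z π, h = e * c := by
  have hn : CZ z π ≤ Subgroup.normalizer (E : Set G) := inf_le_left.trans J.s.cz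
  rw [H0, ← SetLike.mem_coe, Subgroup.coe_mul_of_right_le_normalizer_left E (CZ z π) hn]
  constructor
  · rintro ⟨e, he, c, hc, rfl⟩; exact ⟨e, he, c, hc, rfl⟩
  · rintro ⟨e, he, c, hc, rfl⟩; exact ⟨e, he, c, hc, rfl⟩

theorem z_mem_H0 : z ∈ H0 z π E := E_le_H0 z π E J.s.z_mem

theorem pi_mem_H0 : π ∈ H0 z π E := CZ_le_H0 z π E J.pi_mem_CZ

/-- An element of `C(z)` sending `π` to a conjugate of itself under `E` lies in `H0`. -/
theorem mem_H0_of_conj {h e : G} (hz : h * z = z * h) (he : e ∈ E)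
    (hp : h * π * h⁻¹ = e * π * e⁻¹) : h ∈ H0 z π E := by
  refine J.mem_H0.2 ⟨e, he, e⁻¹ * h, mem_CZ.2 ⟨?_, ?_⟩, by group⟩
  · rw [mul_assoc, hz, ← mul_assoc, ← mul_assoc, J.s.z_comm (inv_mem he)]
  · calc e⁻¹ * h * π = e⁻¹ * (h * π * h⁻¹) * h := by group
      _ = _ := by rw [hp]; group

/-- The subgroup `H0` is exactly the set of those elements. -/
theorem H0_iff {h : G} (hz : h * z = z * h) :
    h ∈ H0 z π E ↔ ∃ e ∈ E, h * π * h⁻¹ = e * π * e⁻¹ := by
  refine ⟨fun hh => ?_, fun ⟨e, he, hp⟩ => J.mem_H0_of_conj hz he hp⟩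
  obtain ⟨e, he, c, hc, rfl⟩ := J.mem_H0.1 hh
  refine ⟨e, he, ?_⟩
  calc e * c * π * (e * c)⁻¹ = e * (c * π * c⁻¹) * e⁻¹ := by group
    _ = _ := by rw [mul_inv_eq_iff_eq_mul.2 (mem_CZ.1 hc).2]

/-- No `E`-conjugate of `π` is an `E`-conjugate of its inverse. -/
theorem no_flip {a b : G} (ha : a ∈ E) (hb : b ∈ E) : a * π * a⁻¹ ≠ b * π⁻¹ * b⁻¹ := by
  intro h
  have h1 : b⁻¹ * a * π * (b⁻¹ * a)⁻¹ = π⁻¹ := by
    calc b⁻¹ * a * π * (b⁻¹ * a)⁻¹ = b⁻¹ * (a * π * a⁻¹) * b := by group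
      _ = _ := by rw [h]; group
  set u := b⁻¹ * a with hu
  have huE : u ∈ E := mul_mem (inv_mem hb) ha
  have h2 : π * π = π * u * π⁻¹ * u⁻¹ := by
    calc π * π = π * (π⁻¹)⁻¹ := by rw [inv_inv]
      _ = π * (u * π * u⁻¹)⁻¹ := by rw [h1]
      _ = _ := by group
  have h3 : π * u * π⁻¹ ∈ E := J.conjE J.piz huE
  have h4 : π * π ∈ E := h2 ▸ mul_mem h3 (inv_mem huE)
  rw [← J.pi_inv] at h4
  exact J.pi_not_mem (inv_mem_iff.1 h4)

theorem not_mem_H0_iff {h : G} (hz : h * z = z * h) :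
    h ∉ H0 z π E ↔ ∃ e ∈ E, h * π * h⁻¹ = e * π⁻¹ * e⁻¹ := by
  constructor
  · intro hn
    obtain ⟨e, he, h1 | h1⟩ := J.normP h hz
    · exact (hn (J.mem_H0_of_conj hz he h1)).elim
    · exact ⟨e, he, h1⟩
  · rintro ⟨e, he, h1⟩ hh
    obtain ⟨f, hf, h2⟩ := (J.H0_iff hz).1 hh
    exact J.no_flip hf he (h2.symm.trans h1)

/-- `H0` has index two in `C(z)`. -/
theorem mul_mem_H0 {a b : G} (haz : a * z = z * a) (hbz : b * z = z * b)
    (ha : a ∉ H0 z π E) (hb : b ∉ H0 z π E) : a * b ∈ H0 z π E := by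
  obtain ⟨e, he, h1⟩ := (J.not_mem_H0_iff haz).1 ha
  obtain ⟨f, hf, h2⟩ := (J.not_mem_H0_iff hbz).1 hb
  refine J.mem_H0_of_conj (e := a * f * a⁻¹ * e) ?_ (mul_mem (J.conjE haz hf) he) ?_
  · rw [mul_assoc, hbz, ← mul_assoc, haz, mul_assoc]
  · calc a * b * π * (a * b)⁻¹ = a * (b * π * b⁻¹) * a⁻¹ := by group
      _ = a * (f * π⁻¹ * f⁻¹) * a⁻¹ := by rw [h2]
      _ = (a * f * a⁻¹) * (a * π * a⁻¹)⁻¹ * (a * f * a⁻¹)⁻¹ := by group
      _ = _ := by rw [h1]; group

theorem swap_not_mem {h : G} (hz : h * z = z * h) (hp : h * π * h⁻¹ = π⁻¹) : h ∉ H0 z π E :=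
  (J.not_mem_H0_iff hz).2 ⟨1, one_mem E, by rw [hp]; group⟩

/-- The quotient of `C(z)` by `H0` has order two: squares and commutators lie in `H0`. -/
theorem sq_mem_H0 {a : G} (haz : a * z = z * a) : a * a ∈ H0 z π E := by
  by_cases ha : a ∈ H0 z π E
  · exact mul_mem ha ha
  · exact J.mul_mem_H0 haz haz ha ha

theorem mem_of_mul_mem {a b : G} (haz : a * z = z * a) (hbz : b * z = z * b) :
    a * b ∈ H0 z π E ↔ (a ∈ H0 z π E ↔ b ∈ H0 z π E) := by
  constructor
  · intro h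
    constructor
    · intro ha
      exact ((H0 z π E).mul_mem_cancel_left ha).1 h
    · intro hb
      exact ((H0 z π E).mul_mem_cancel_right hb).1 h
  · intro h
    by_cases ha : a ∈ H0 z π E
    · exact mul_mem ha (h.1 ha)
    · exact J.mul_mem_H0 haz hbz ha (fun hb => ha (h.2 hb))

end Ctx

end CfsgLib.JFour
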