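import Cfsg.Agent.Lib.JFour.XCase

/-!
# Centralizers of pairs

The centralizers of `z` and `a`, and of a conjugate `w ≠ z` of `z` in `C(π)`, both have order 2304,
the latter lies in `C(z)`, and `z` lies in its derived group.
-/

set_option autoImplicit false
set_option maxRecDepth 100000
set_option linter.style.haveILetI false
set_option linter.unusedSectionVars false

open Cfsg
open scoped commutatorElement

namespace CfsgLib.JFour

variable {G : Type*} [Group G] [Finite G] {M : Type*} [Group M] [Finite M] {z π : G} {E : Subgroup G}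

/-- The centralizer of two elements. -/
def C2 (x y : G) : Subgroup G :=
  Subgroup.centralizer ({x} : Set G) ⊓ Subgroup.centralizer ({y} : Set G)

theorem mem_C2 {x y t : G} : t ∈ C2 x y ↔ t * x = x * t ∧ t * y = y * t := by
  rw [C2, Subgroup.mem_inf, Subgroup.mem_centralizer_singleton_iff, Subgroup.mem_centralizer_singleton_iff]

theorem map_C2 (h x y : G) :
    (C2 x y).map (MulAut.conj h).toMonoidHom = C2 (h * x * h⁻¹) (h * y * h⁻¹) := by
  ext t
  obtain ⟨t, rfl⟩ := (MulAut.conj h).surjective t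
  rw [Subgroup.mem_map_equiv, MulEquiv.symm_apply_apply, mem_C2, mem_C2, MulAut.conj_apply]
  simp only [← MulAut.conj_apply, ← map_mul, (MulAut.conj h).injective.eq_iff]

/-- Two commuting elements of order three generating a subgroup of order nine centralize no involution. -/
theorem not_comm_of_nine (F : Small M) {a b x : M} (ha : a * a * a = 1) (ha1 : a ≠ 1) (hb : b * b * b = 1)
    (hab : a * b = b * a) (hba : b ∉ Subgroup.zpowers a) (hx : orderOf x = 2) (hax : a * x = x * a) :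
    b * x ≠ x * b := by
  intro hbx
  haveI := Fact.mk Nat.prime_three
  set Hn := Subgroup.closure ({a, b} : Set M) with hHn
  have hc : ∀ s ∈ Hn, ∀ t ∈ Hn, s * t = t * s := by
    intro s hs t ht
    induction hs, ht using Subgroup.closure_induction₂ with
    | mem s t hs ht =>
      rcases hs with rfl | rfl <;> rcases ht with rfl | rfl
      exacts [rfl, hab, hab.symm, rfl]
    | one_left t _ => simp
    | one_right t _ => simp
    | mul_left s t r _ _ _ h1 h2 => exact ((show Commute s r from h1).mul_left (show Commute t r from h2)).eq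
    | mul_right s t r _ _ _ h1 h2 => exact ((show Commute r s from h1).mul_right (show Commute r t from h2)).eq
    | inv_left s t _ _ h => exact ((show Commute s t from h).inv_left).eq
    | inv_right s t _ _ h => exact ((show Commute s t from h).inv_right).eq
  have h3 : ∀ s ∈ Hn, s ^ 3 = 1 := by
    intro s hs
    induction hs using Subgroup.closure_induction with
    | mem s hs => rcases hs with rfl | rfl <;> rw [pow_succ, pow_two] <;> assumption
    | one => exact one_pow 3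
    | mul s t hs ht h1 h2 => rw [(show Commute s t from hc s hs t ht).mul_pow, h1, h2, one_mul]
    | inv s _ h => rw [inv_pow, h, inv_one]
  obtain ⟨n, hn⟩ := IsPGroup.iff_card.1 (fun s : ↥Hn => ⟨1, Subtype.ext (by simpa using h3 s s.2)⟩ : IsPGroup 3 ↥Hn)
  have hd1 : Nat.card Hn ∣ 384 := by
    rw [← F.card_invol x hx]
    refine Subgroup.card_dvd_of_le ((Subgroup.closure_le _).2 ?_)
    rintro s (rfl | rfl)
    exacts [Subgroup.mem_centralizer_singleton_iff.2 hax, Subgroup.mem_centralizer_singleton_iff.2 hbx]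
  have hle : Subgroup.zpowers a ≤ Hn := Subgroup.zpowers_le.2 (Subgroup.subset_closure (Or.inl rfl))
  have ho : Nat.card (Subgroup.zpowers a) = 3 := by
    rw [Nat.card_zpowers]; exact orderOf_eq_prime (by rw [pow_succ, pow_two, ha]) ha1
  rw [hn] at hd1
  have hn1 : n ≤ 1 := by
    by_contra h
    have : 9 ∣ 384 := (Nat.pow_dvd_pow 3 (show 2 ≤ n by omega)).trans hd1
    norm_num at this
  have : Subgroup.zpowers a = Hn := Subgroup.eq_of_le_of_card_ge hle (by
    rw [hn, ho]
    interval_cases n <;> norm_num)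
  exact hba (this ▸ Subgroup.subset_closure (Or.inr rfl))

/-- An abelian group generated by an element of order three and two involutions. -/
theorem invol_cases {a x y : M} (ha : a * a * a = 1) (hx : x * x = 1) (hy : y * y = 1)
    (hax : a * x = x * a) (hay : a * y = y * a) (hxy : x * y = y * x)
    {t : M} (ht : t ∈ Subgroup.closure ({a, x, y} : Set M)) (ht2 : t * t = 1) :
    t = 1 ∨ t = x ∨ t = y ∨ t = x * y := by
  have key : t ^ 3 = 1 ∨ t ^ 3 = x ∨ t ^ 3 = y ∨ t ^ 3 = x * y := by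
    have hc : ∀ s ∈ Subgroup.closure ({a, x, y} : Set M), ∀ r ∈ Subgroup.closure ({a, x, y} : Set M),
        s * r = r * s := by
      intro s hs r hr
      induction hs, hr using Subgroup.closure_induction₂ with
      | mem s r hs hr =>
        rcases hs with rfl | rfl | rfl <;> rcases hr with rfl | rfl | rfl
        exacts [rfl, hax, hay, hax.symm, rfl, hxy, hay.symm, hxy.symm, rfl]
      | one_left r _ => simp
      | one_right r _ => simp
      | mul_left s t r _ _ _ h1 h2 => exact ((show Commute s r from h1).mul_left (show Commute t r from h2)).eq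
      | mul_right s t r _ _ _ h1 h2 => exact ((show Commute r s from h1).mul_right (show Commute r t from h2)).eq
      | inv_left s t _ _ h => exact ((show Commute s t from h).inv_left).eq
      | inv_right s t _ _ h => exact ((show Commute s t from h).inv_right).eq
    have hxyx : x * y * x = y := by rw [hxy, mul_assoc, hx, mul_one]
    have hmul : ∀ p q : M, (p = 1 ∨ p = x ∨ p = y ∨ p = x * y) → (q = 1 ∨ q = x ∨ q = y ∨ q = x * y) →
        (p * q = 1 ∨ p * q = x ∨ p * q = y ∨ p * q = x * y) := by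
      have h01 : x * (x * y) = y := by rw [← mul_assoc, hx, one_mul]
      have h02 : y * (x * y) = x := by rw [hxy, ← mul_assoc, hy, one_mul]
      have h03 : x * y * y = x := by rw [mul_assoc, hy, mul_one]
      have h04 : x * y * (x * y) = 1 := by rw [mul_assoc, h02, hx]
      intro p q hp hq
      rcases hp with hp | hp | hp | hp <;> rcases hq with hq | hq | hq | hq <;> rw [hp, hq]
      all_goals simp [hx, hy, h01, h02, h03, h04, hxyx, hxy.symm]
    clear ht2
    induction ht using Subgroup.closure_induction with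
    | mem s hs =>
      rcases hs with rfl | rfl | rfl
      · exact Or.inl (by rw [pow_succ, pow_two, ha])
      · exact Or.inr (Or.inl (by rw [pow_succ, pow_two, hx, one_mul]))
      · exact Or.inr (Or.inr (Or.inl (by rw [pow_succ, pow_two, hy, one_mul])))
    | one => exact Or.inl (one_pow 3)
    | mul s r hs hr h1 h2 => rw [(show Commute s r from hc s hs r hr).mul_pow]; exact hmul _ _ h1 h2
    | inv s _ h =>
      have hxy2 : (x * y)⁻¹ = x * y := by
        rw [mul_inv_rev, inv_eq_of_mul_eq_one_right hx, inv_eq_of_mul_eq_one_right hy, hxy]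
      rw [inv_pow]
      rcases h with h | h | h | h <;> rw [h]
      · exact Or.inl inv_one
      · exact Or.inr (Or.inl (inv_eq_of_mul_eq_one_right hx))
      · exact Or.inr (Or.inr (Or.inl (inv_eq_of_mul_eq_one_right hy)))
      · exact Or.inr (Or.inr (Or.inr hxy2))
  rwa [pow_succ, pow_two, ht2, one_mul] at key

namespace Ctx

variable (J : Ctx M z π E)
include J

theorem mem_C2_H0 {c : G} {a : ↥(CZ z π)} (hc : c ∈ C2 z (a : G)) (h : c ∈ H0 z π E) :
    (⟨c, h⟩ : ↥(H0 z π E)) ∈ (C2 z (a : G)).subgroupOf (H0 z π E) := hc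

/-- The image of `C(z, a) ∩ H0` has order at most twelve. -/
theorem card_image_le (F : Small M) {a b : ↥(CZ z π)} (P : J.IsPair a b) {ψ : ↥(H0 z π E) →* M}
    (hψ : ∀ (h : ↥(H0 z π E)) (c : ↥(CZ z π)), (h : G) * (c : G)⁻¹ ∈ E → ψ h = J.proj c) :
    Nat.card (((C2 z (a : G)).subgroupOf (H0 z π E)).map ψ) ≤ 12 := by
  classical
  set I := ((C2 z (a : G)).subgroupOf (H0 z π E)).map ψ with hI
  set Ca := Subgroup.centralizer ({J.proj a} : Set M) with hCa
  have hIa : ∀ i ∈ I, i * J.proj a = J.proj a * i := by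
    rintro _ ⟨t, ht, rfl⟩
    have haH : (a : G) ∈ H0 z π E := CZ_le_H0 z π E a.2
    rw [← hψ ⟨a, haH⟩ a (by simp), ← map_mul, ← map_mul]
    exact congrArg ψ (Subtype.ext (mem_C2.1 (Subgroup.mem_subgroupOf.1 ht)).2)
  have hba : J.proj b * J.proj a = J.proj a * J.proj b := by
    have h : (b : G) * a * ((a : G) * b)⁻¹ ∈ KN π E := by
      rw [show (b : G) * a * ((a : G) * b)⁻¹ = ((a : G) * b * (a : G)⁻¹ * (b : G)⁻¹)⁻¹ by group, P.comm]
      exact inv_mem J.pi_mem_KN
    have hH : (b : G) * a * ((a : G) * b)⁻¹ ∈ H0 z π E := J.KN_le h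
    have h1 := (J.psi_eq_one hψ (h := ⟨_, hH⟩)).2 h
    rw [hψ ⟨_, hH⟩ (b * a * (a * b)⁻¹) (by
      simp only [Subgroup.coe_mul, InvMemClass.coe_inv, mul_inv_cancel, one_mem])] at h1
    rwa [map_mul, map_inv, mul_inv_eq_one, map_mul, map_mul] at h1
  have hbI : ∀ k, k < 3 → J.proj b ^ k ∈ I → k = 0 := by
    intro k hk hbk
    obtain ⟨t, ht, hbt⟩ := hbk
    obtain ⟨-, hta⟩ := mem_C2.1 (Subgroup.mem_subgroupOf.1 ht)
    have hbH : ((b : G) ^ k) ∈ H0 z π E := CZ_le_H0 z π E (pow_mem b.2 k)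
    have h1 : ψ (⟨_, hbH⟩ * t⁻¹) = 1 := by
      rw [map_mul, map_inv, hψ ⟨_, hbH⟩ (b ^ k) (by simp), map_pow, hbt, mul_inv_cancel]
    have hq := (J.psi_eq_one hψ).1 h1
    simp only [Subgroup.coe_mul, InvMemClass.coe_inv] at hq
    obtain ⟨e, he, i, -, hei⟩ := J.mem_KN.1 hq
    have haz : (a : G) * z = z * a := (mem_CZ.1 a.2).1
    have hap : Commute (a : G) (π ^ i) := (show Commute (a : G) π from (mem_CZ.1 a.2).2).pow_right i
    -- compare the commutators with `a`
    have hbk : (b : G) ^ k = e * π ^ i * (t : G) := by rw [← hei]; group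
    have hcomm : (a : G) * (b : G) ^ k * (a : G)⁻¹ * ((b : G) ^ k)⁻¹ = (a : G) * e * (a : G)⁻¹ * e⁻¹ := by
      rw [hbk]
      calc (a : G) * (e * π ^ i * t) * (a : G)⁻¹ * (e * π ^ i * t)⁻¹
          = (a : G) * e * ((π ^ i) * ((t : G) * (a : G)⁻¹) * (t : G)⁻¹ * (π ^ i)⁻¹) * e⁻¹ := by group
        _ = (a : G) * e * (π ^ i * (a : G)⁻¹ * (π ^ i)⁻¹) * e⁻¹ := by
            rw [show (t : G) * (a : G)⁻¹ = (a : G)⁻¹ * t from
              (Commute.inv_right (show Commute (t : G) a from hta)).eq]; group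
        _ = _ := by rw [← hap.inv_left.eq]; group
    have hpk : ∀ n : ℕ, (a : G) * (b : G) ^ n * (a : G)⁻¹ * ((b : G) ^ n)⁻¹ = π ^ n := by
      intro n
      induction n with
      | zero => simp
      | succ n ih =>
        have hbp : Commute ((b : G) ^ n) π := (show Commute (b : G) π from (mem_CZ.1 b.2).2).pow_left n
        calc (a : G) * (b : G) ^ (n + 1) * (a : G)⁻¹ * ((b : G) ^ (n + 1))⁻¹
            = ((a : G) * (b : G) ^ n * (a : G)⁻¹ * ((b : G) ^ n)⁻¹) *
                ((b : G) ^ n * ((a : G) * b * (a : G)⁻¹ * (b : G)⁻¹) * ((b : G) ^ n)⁻¹) := by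
              rw [pow_succ]; group
          _ = _ := by rw [ih, P.comm, hbp.eq, mul_inv_cancel_right, ← pow_succ]
    have hpE : π ^ k ∈ E := by
      rw [← hpk, hcomm]
      exact mul_mem (J.conjE haz he) (inv_mem he)
    have h2 := J.pi_pow_mem_E hpE
    have h3 := orderOf_dvd_of_pow_eq_one h2
    rw [J.orderOf_pi] at h3
    omega
  let f : I × Fin 3 → Ca := fun q => ⟨J.proj b ^ (q.2 : ℕ) * q.1,
    Subgroup.mem_centralizer_singleton_iff.2
      (((show Commute (J.proj b) (J.proj a) from hba).pow_left _).mul_left (hIa _ q.1.2)).eq⟩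
  have hinj : Function.Injective f := by
    rintro ⟨i, k⟩ ⟨i', k'⟩ h
    have h' : J.proj b ^ (k : ℕ) * i = J.proj b ^ (k' : ℕ) * i' := congrArg Subtype.val h
    have hmem : ∀ n m : ℕ, ∀ u v : I, J.proj b ^ (n + m) * u = J.proj b ^ m * v → J.proj b ^ n ∈ I := by
      intro n m u v e
      rw [show n + m = m + n from add_comm n m, pow_add, mul_assoc] at e
      rw [show J.proj b ^ n = (v : M) * (u : M)⁻¹ by rw [← mul_left_cancel e, mul_inv_cancel_right]]
      exact mul_mem v.2 (inv_mem u.2)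
    have hkk : k = k' := by
      apply Fin.ext
      rcases le_total (k' : ℕ) k with hle | hle
      · have := hbI ((k : ℕ) - k') (by omega) (hmem _ k' i i' (by rw [Nat.sub_add_cancel hle]; exact h'))
        omega
      · have := hbI ((k' : ℕ) - k) (by omega) (hmem _ k i' i (by rw [Nat.sub_add_cancel hle]; exact h'.symm))
        omega
    subst hkk
    exact Prod.ext (Subtype.ext (mul_left_cancel h')) rfl
  have hle := Nat.card_le_card_of_injective f hinj
  have ho : orderOf (J.proj a) = 3 := orderOf_eq_prime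
    (by rw [pow_succ, pow_two, ← map_mul, ← map_mul, P.cube, map_one]) P.a_ne
  rw [Nat.card_prod, Nat.card_fin, hCa, F.card_three _ ho] at hle
  omega

/-- The part of `C(z, a)` in `E⟨π⟩` has order at most 96. -/
theorem card_KN_cent {a b : ↥(CZ z π)} (P : J.IsPair a b) :
    Nat.card ↥(KN π E ⊓ C2 z (a : G)) ≤ 96 := by
  obtain ⟨haz, hap⟩ := mem_CZ.1 a.2
  have hfx : ∀ e ∈ fx z E (a : G), ∀ k : ℕ, e * π ^ k ∈ KN π E ⊓ C2 z (a : G) := fun e he k => by
    have heE := J.fx_le haz he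
    refine ⟨mul_mem (J.E_le_KN heE) (pow_mem J.pi_mem_KN k), mem_C2.2 ⟨?_, ?_⟩⟩
    · exact ((show Commute e z from J.s.z_comm heE).mul_left ((show Commute π z from J.piz).pow_left k)).eq
    · exact ((show Commute e (a : G) from (J.comm_of_fx a.2 he).symm).mul_left
        ((show Commute π (a : G) from hap.symm).pow_left k)).eq
  have hsurj : Function.Surjective (fun q : fx z E (a : G) × Fin 3 =>
      (⟨(q.1 : G) * π ^ (q.2 : ℕ), hfx _ q.1.2 _⟩ : ↥(KN π E ⊓ C2 z (a : G)))) := by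
    rintro ⟨t, htK, htC⟩
    obtain ⟨e, he, k, hk, rfl⟩ := J.mem_KN.1 htK
    obtain ⟨-, hta⟩ := mem_C2.1 htC
    have hea : (a : G) * e * (a : G)⁻¹ = e := by
      have hpa : Commute (a : G) (π ^ k) := (show Commute (a : G) π from hap).pow_right k
      calc (a : G) * e * (a : G)⁻¹ = (a : G) * (e * π ^ k) * (a : G)⁻¹ * (π ^ k)⁻¹ := by
            rw [mul_assoc (a : G) (e * π ^ k), mul_assoc e, ← hpa.inv_left.eq]; group
        _ = e := by rw [← hta, mul_inv_cancel_right, mul_inv_cancel_right]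
    exact ⟨(⟨e, (J.mem_fx haz).2 ⟨he, Or.inl hea⟩⟩, ⟨k, hk⟩), rfl⟩
  have h := Nat.card_le_card_of_surjective _ hsurj
  rw [Nat.card_prod, Nat.card_fin, P.card_fx] at h
  omega

/-- `C(z, a)` has order at most 2304. -/
theorem card_C2_le (F : Small M) {a b : ↥(CZ z π)} (P : J.IsPair a b) {ψ : ↥(H0 z π E) →* M}
    (hψ : ∀ (h : ↥(H0 z π E)) (c : ↥(CZ z π)), (h : G) * (c : G)⁻¹ ∈ E → ψ h = J.proj c) :
    Nat.card (C2 z (a : G)) ≤ 2 * Nat.card ↥(C2 z (a : G) ⊓ H0 z π E) ∧
      Nat.card ↥(C2 z (a : G) ⊓ H0 z π E) ≤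
        96 * Nat.card (((C2 z (a : G)).subgroupOf (H0 z π E)).map ψ) := by
  refine ⟨J.card_le_H0 fun x hx => (mem_C2.1 hx).1, ?_⟩
  set S := (C2 z (a : G)).subgroupOf (H0 z π E) with hS
  have hcard : Nat.card S = Nat.card ↥(C2 z (a : G) ⊓ H0 z π E) :=
    Nat.card_congr
      ⟨fun s => ⟨s, s.2, s.1.2⟩, fun t => ⟨⟨t, t.2.2⟩, t.2.1⟩, fun _ => rfl, fun _ => rfl⟩
  let f : ↥S →* M := ψ.comp S.subtype
  have hrange : f.range = S.map ψ := by
    rw [MonoidHom.range_comp, Subgroup.range_subtype]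
  have hker : Nat.card f.ker ≤ 96 := by
    refine le_trans ?_ (J.card_KN_cent P)
    refine Nat.card_le_card_of_injective
      (fun s => ⟨((s.1 : ↥S).1 : G), (J.psi_eq_one hψ).1 s.2, (s.1 : ↥S).2⟩) ?_
    intro s t h
    exact Subtype.ext (Subtype.ext (Subtype.ext (congrArg (fun u : ↥(KN π E ⊓ C2 z (a : G)) => (u : G)) h)))
  rw [← hcard, ← f.ker.card_mul_index, Subgroup.index_ker, hrange]
  exact Nat.mul_le_mul_right _ hker

/-- An involution of `C(z, π)` has centralizer there of order at least 2304. -/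
theorem card_cent_ge (F : Small M) {g : ℕ → M} (T : Tables M g) {w : G} (hw : w ∈ CZ z π)
    (hw2 : w * w = 1) (hw1 : w ≠ 1) (hwz : w ≠ z) :
    2304 ≤ Nat.card ↥(CZ z π ⊓ Subgroup.centralizer ({w} : Set G)) := by
  have hx : orderOf (J.proj ⟨w, hw⟩) = 2 := by
    refine orderOf_eq_prime (by rw [pow_two, ← map_mul,
      show (⟨w, hw⟩ : ↥(CZ z π)) * ⟨w, hw⟩ = 1 from Subtype.ext hw2, map_one]) fun h => ?_
    rcases J.small_of_proj_one h (Or.inl hw2) with e | e
    exacts [hw1 e, hwz e]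
  set K := (Subgroup.centralizer ({J.proj ⟨w, hw⟩} : Set M)).comap J.proj with hK
  set W := (Subgroup.centralizer ({(⟨w, hw⟩ : ↥(CZ z π))} : Set ↥(CZ z π))) with hW
  have hgen : ∀ m ∈ Subgroup.closure {t : M | t * t = 1 ∧ t * J.proj ⟨w, hw⟩ = J.proj ⟨w, hw⟩ * t},
      m ∈ W.map J.proj := by
    intro m hm
    refine ((Subgroup.closure_le _).2 ?_) hm
    rintro t ⟨ht, htx⟩
    obtain ⟨c, hc, hc2⟩ := J.exists_lift_sq ht
    have hcw : (c : G) * c = 1 := J.sq_eq_one F hc2
    obtain ⟨hwz', hwp⟩ := mem_CZ.1 hw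
    obtain ⟨u, huE, hu, k, -, hk⟩ := J.exists_pow' (c := c * ⟨w, hw⟩ * (c * ⟨w, hw⟩))
      (by
        rw [map_mul, map_mul, hc]
        calc t * J.proj ⟨w, hw⟩ * (t * J.proj ⟨w, hw⟩)
            = t * (J.proj ⟨w, hw⟩ * t) * J.proj ⟨w, hw⟩ := by group
          _ = t * t * (J.proj ⟨w, hw⟩ * J.proj ⟨w, hw⟩) := by rw [← htx]; group
          _ = 1 := by rw [ht, one_mul, ← pow_two, ← hx, pow_orderOf_eq_one])
    simp only [Subgroup.coe_mul] at hk
    have hk0 : π ^ k = 1 := by
      have hq : ((c : G) * w * ((c : G) * w)) * ((w * (c : G)) * (w * c)) = 1 := by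
        calc ((c : G) * w * ((c : G) * w)) * ((w * (c : G)) * (w * c))
            = (c : G) * w * (c : G) * (w * w) * c * w * c := by group
          _ = (c : G) * w * ((c : G) * c) * w * c := by rw [hw2]; group
          _ = (c : G) * (w * w) * c := by rw [hcw]; group
          _ = 1 := by rw [hw2, mul_one, hcw]
      have hwc : w * (c : G) * (w * c) = (c : G)⁻¹ * ((c : G) * w * ((c : G) * w)) * c := by group
      have hc1 : Commute (c : G) (u * π ^ k) := by
        refine Commute.mul_right ?_ ((show Commute (c : G) π from (mem_CZ.1 c.2).2).pow_right k)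
        rcases hu with e | e <;> rw [e]
        exacts [Commute.one_right _, (mem_CZ.1 c.2).1]
      rw [hwc, hk, mul_assoc (c : G)⁻¹, ← hc1.eq, inv_mul_cancel_left] at hq
      have hu2 : u * u = 1 := by rcases hu with e | e <;> rw [e]; exacts [one_mul 1, J.zz]
      have hupi : Commute u (π ^ k) := by
        rcases hu with e | e <;> rw [e]
        exacts [Commute.one_left _, ((show Commute π z from J.piz).pow_left k).symm]
      have hp2 : π ^ k * π ^ k = 1 := by
        calc π ^ k * π ^ k = u * u * (π ^ k * π ^ k) := by rw [hu2, one_mul]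
          _ = u * (u * π ^ k) * π ^ k := by group
          _ = u * (π ^ k * u) * π ^ k := by rw [hupi.eq]
          _ = u * π ^ k * (u * π ^ k) := by group
          _ = 1 := hq
      have h3 : (π ^ k) ^ 3 = 1 := by rw [← pow_mul, mul_comm, pow_mul, J.pi_pow_three, one_pow]
      rw [pow_succ, pow_two, hp2, one_mul] at h3
      exact h3
    rw [hk0, mul_one] at hk
    have hcw' : (c : G) * w * ((c : G) * w) = 1 := by
      refine J.sq_eq_one F (c := c * ⟨w, hw⟩) ?_
      show (c : G) * w * ((c : G) * w) = 1 ∨ (c : G) * w * ((c : G) * w) = z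
      rw [hk]; exact hu
    refine ⟨c, Subgroup.mem_centralizer_singleton_iff.2 (Subtype.ext ?_), hc⟩
    show (c : G) * w = w * c
    calc (c : G) * w = ((c : G) * w)⁻¹ := eq_inv_of_mul_eq_one_left hcw'
      _ = w * c := by rw [mul_inv_rev, inv_eq_of_mul_eq_one_right hw2, inv_eq_of_mul_eq_one_right hcw]
  have hKW : K ≤ W := by
    intro c hc
    obtain ⟨d, hd, hdc⟩ := hgen _ (T.invol_gen _ hx _ (Subgroup.mem_centralizer_singleton_iff.1 hc))
    obtain ⟨u, huE, hu, k, -, hk⟩ := J.exists_pow' (c := c * d⁻¹)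
      (by rw [map_mul, map_inv, hdc, mul_inv_cancel])
    have hd' := Subgroup.mem_centralizer_singleton_iff.1 hd
    refine Subgroup.mem_centralizer_singleton_iff.2 ?_
    have hce : c = c * d⁻¹ * d := by group
    rw [hce]
    refine ((show Commute (c * d⁻¹) ⟨w, hw⟩ from Subtype.ext ?_).mul_left hd').eq
    show ((c * d⁻¹ : ↥(CZ z π)) : G) * w = w * ((c * d⁻¹ : ↥(CZ z π)) : G)
    rw [hk]
    refine (Commute.mul_left ?_ ((show Commute π w from (mem_CZ.1 hw).2.symm).pow_left k)).eq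
    rcases hu with e | e <;> rw [e]
    exacts [Commute.one_left _, (mem_CZ.1 hw).1.symm]
  have hKcard : Nat.card K = 2304 := by
    let f : ↥K →* M := J.proj.comp K.subtype
    have hr : f.range = Subgroup.centralizer ({J.proj ⟨w, hw⟩} : Set M) := by
      rw [MonoidHom.range_comp, Subgroup.range_subtype, hK,
        Subgroup.map_comap_eq_self_of_surjective J.proj_surj]
    have hk : Nat.card f.ker = Nat.card J.proj.ker :=
      Nat.card_congr ⟨fun s => ⟨s.1.1, s.2⟩,
        fun t => ⟨⟨t.1, Subgroup.mem_comap.2 (by rw [show J.proj t.1 = 1 from t.2]; exact one_mem _)⟩, t.2⟩,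
        fun _ => rfl, fun _ => rfl⟩
    have h1 := J.proj.ker.card_mul_index
    rw [Subgroup.index_ker, MonoidHom.range_eq_top.2 J.proj_surj, Subgroup.card_top, J.card_CZ F.card,
      F.card] at h1
    rw [← f.ker.card_mul_index, Subgroup.index_ker, hr, F.card_invol _ hx, hk]
    omega
  rw [← hKcard]
  refine (Subgroup.card_le_of_le hKW).trans (Nat.card_le_card_of_injective
    (fun c => ⟨((c : ↥(CZ z π)) : G), (c : ↥(CZ z π)).2,
      Subgroup.mem_centralizer_singleton_iff.2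
        (congrArg Subtype.val (Subgroup.mem_centralizer_singleton_iff.1 c.2))⟩) ?_)
  intro c d h
  exact Subtype.ext (Subtype.ext (congrArg (fun u : ↥(CZ z π ⊓ Subgroup.centralizer ({w} : Set G)) => (u : G)) h))

/-- The centralizer of `w` in `C(π)` lies in `C(z)`, has order 2304 and its derived group contains `z`. -/
theorem cent_facts (F : Small M) {g : ℕ → M} (T : Tables M g) {a b : ↥(CZ z π)} (P : J.IsPair a b)
    {w h : G} (hw : w ∈ CZ z π) (hwne : w ≠ z) (hh : h * z * h⁻¹ = w) (hha : h * (a : G) * h⁻¹ = π) :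
    C2 w π = CZ z π ⊓ Subgroup.centralizer ({w} : Set G) ∧ Nat.card (C2 w π) = 2304 ∧
      z ∈ ⁅C2 w π, C2 w π⁆ := by
  classical
  haveI := Fact.mk Nat.prime_two
  haveI := Fact.mk Nat.prime_three
  obtain ⟨ψ, hψ⟩ := J.exists_projH
  have hmap : (C2 z (a : G)).map (MulAut.conj h).toMonoidHom = C2 w π := by rw [map_C2, hh, hha]
  have hcard : Nat.card (C2 w π) = Nat.card (C2 z (a : G)) := by
    rw [← hmap, Subgroup.card_map_of_injective (K := C2 z (a : G)) (f := (MulAut.conj h).toMonoidHom) (MulAut.conj h).injective]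
  have hw2 : w * w = 1 := by
    rw [← hh]
    calc h * z * h⁻¹ * (h * z * h⁻¹) = h * (z * z) * h⁻¹ := by group
      _ = 1 := by rw [J.zz]; group
  have hw1 : w ≠ 1 := fun e => by
    rw [e, mul_inv_eq_one] at hh
    exact J.z_ne (mul_eq_left.1 hh)
  have hle : CZ z π ⊓ Subgroup.centralizer ({w} : Set G) ≤ C2 w π := fun t ht =>
    mem_C2.2 ⟨Subgroup.mem_centralizer_singleton_iff.1 ht.2, (mem_CZ.1 ht.1).2⟩
  have h2304 := J.card_cent_ge F T hw hw2 hw1 hwne
  obtain ⟨hb1, hb2⟩ := J.card_C2_le F P hψ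
  have hb3 := J.card_image_le F P hψ
  have hle' := Subgroup.card_le_of_le hle
  have heq : C2 w π = CZ z π ⊓ Subgroup.centralizer ({w} : Set G) :=
    (Subgroup.eq_of_le_of_card_ge hle (by omega)).symm
  have hC : Nat.card (C2 w π) = 2304 := by omega
  refine ⟨heq, hC, ?_⟩
  obtain ⟨S, hS⟩ : ∃ S, S = C2 z (a : G) := ⟨_, rfl⟩
  rw [← hS] at hmap hcard hb1 hb2 hb3
  set I := (S.subgroupOf (H0 z π E)).map ψ with hI
  have hI12 : Nat.card I = 12 := by omega
  obtain ⟨σ, hσ, hσH⟩ : ∃ σ ∈ S, σ ∉ H0 z π E := by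
    refine SetLike.not_le_iff_exists.1 fun hle0 => ?_
    rw [inf_eq_left.2 hle0] at hb1 hb2
    omega
  obtain ⟨hσz, hσa⟩ := mem_C2.1 (hS ▸ hσ)
  obtain ⟨haz, hap⟩ := mem_CZ.1 a.2
  obtain ⟨hbz, hbp⟩ := mem_CZ.1 b.2
  -- the element over `w`
  obtain ⟨za, hza⟩ : ∃ za, za = h⁻¹ * z * h := ⟨_, rfl⟩
  have hzaS : za ∈ S ∧ ∀ t ∈ S, t * za = za * t := by
    have key : ∀ t ∈ C2 w π, t * z = z * t := fun t ht => (mem_CZ.1 (Subgroup.mem_inf.1 (heq.le ht)).1).1
    have hzC : z ∈ C2 w π := mem_C2.2 ⟨(mem_CZ.1 hw).1.symm, J.piz.symm⟩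
    constructor
    · obtain ⟨t, ht, htz⟩ := hmap.ge hzC
      rw [hza, ← show h * t * h⁻¹ = z from htz]
      simpa [mul_assoc] using ht
    · intro t ht
      have := key _ (hmap.le ⟨t, ht, rfl⟩)
      change h * t * h⁻¹ * z = z * (h * t * h⁻¹) at this
      rw [hza]
      calc t * (h⁻¹ * z * h) = h⁻¹ * (h * t * h⁻¹ * z) * h := by group
        _ = _ := by rw [this]; group
  have hπS : π ∈ S := by rw [hS]; exact mem_C2.2 ⟨J.piz, hap.symm⟩
  have haS : (a : G) ∈ S := by rw [hS]; exact mem_C2.2 ⟨haz, rfl⟩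
  have hzaC : za ∈ CZ z π :=
    mem_CZ.2 ⟨(mem_C2.1 (hS ▸ hzaS.1)).1, (hzaS.2 π hπS).symm⟩
  have hza2 : za * za = 1 := by
    rw [hza]
    calc h⁻¹ * z * h * (h⁻¹ * z * h) = h⁻¹ * (z * z) * h := by group
      _ = 1 := by rw [J.zz]; group
  have hza1 : za ≠ 1 := fun e => J.z_ne <| by
    calc z = h * za * h⁻¹ := by rw [hza]; group
      _ = 1 := by rw [e]; group
  have hzaz : za ≠ z := fun e => hwne <| by
    rw [← hh]
    calc h * z * h⁻¹ = h * za * h⁻¹ := by rw [e]
      _ = z := by rw [hza]; group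
  -- it suffices to treat `za`
  suffices hgoal : za ∈ ⁅S, S⁆ by
    have : z ∈ (⁅S, S⁆).map (MulAut.conj h).toMonoidHom := ⟨za, hgoal, by
      show h * za * h⁻¹ = z
      rw [hza]; group⟩
    rwa [Subgroup.map_commutator, hmap] at this
  set D := ⁅S, S⁆ with hD
  have hcomD : ∀ {s t : G}, s ∈ S → t ∈ S → s * t * s⁻¹ * t⁻¹ ∈ D := fun hs ht =>
    Subgroup.commutator_mem_commutator hs ht
  set Q := fx z E (a : G) with hQ
  have hQS : Q ≤ S := fun e he => by
    rw [hS]
    exact mem_C2.2 ⟨J.s.z_comm (J.fx_le haz he), (J.comm_of_fx a.2 he).symm⟩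
  have hzD : z ∈ D := by
    obtain ⟨x, hx, hxt⟩ := P.not_perp
    obtain ⟨y, hy, hyx⟩ : ∃ y ∈ Q, y * x ≠ x * y := by
      by_contra hno
      push Not at hno
      exact hxt (J.perp_fx haz ▸ mem_perp.2 ⟨J.fx_le haz hx, hno⟩)
    rcases J.s.comm_cases (J.fx_le haz hy) (J.fx_le haz hx) with e | e
    · exact absurd (mul_inv_eq_iff_eq_mul.1 e) hyx
    · have := hcomD (hQS hy) (hQS hx)
      rwa [e, mul_inv_cancel_right] at this
  have hQD : Q ≤ D := by
    intro x hx
    have hxE := J.fx_le haz hx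
    have h1 := mul_mem (hcomD hπS (hQS hx)) (hcomD (inv_mem hπS) (hQS hx))
    rw [inv_inv] at h1
    rcases J.decomp hxE with e | e <;> rw [e]
    exacts [h1, mul_mem hzD h1]
  -- `π` lies in `D`
  obtain ⟨f, hf, hfπ⟩ := (J.not_mem_H0_iff hσz).1 hσH
  have hπD : π ∈ D := by
    have h1 := hcomD hσ hπS
    rw [hfπ] at h1
    set e := f * (π⁻¹ * f⁻¹ * π) with he
    have heE : e ∈ E := mul_mem hf (J.conjE' J.piz (inv_mem hf))
    have hval : f * π⁻¹ * f⁻¹ * π⁻¹ = e * π := by
      have hpp : π⁻¹ * π⁻¹ = π := by rw [← mul_inv_rev, ← J.pi_inv, inv_inv]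
      calc f * π⁻¹ * f⁻¹ * π⁻¹ = e * (π⁻¹ * π⁻¹) := by rw [he]; group
        _ = _ := by rw [hpp]
    rw [hval] at h1
    have heS : e ∈ S := by
      have : e * π ∈ S := (Subgroup.commutator_le.2 fun s hs t ht =>
        mul_mem (mul_mem (mul_mem hs ht) (inv_mem hs)) (inv_mem ht)) h1
      simpa using mul_mem this (inv_mem hπS)
    have heQ : e ∈ Q := (J.mem_fx haz).2 ⟨heE, Or.inl (mul_inv_eq_iff_eq_mul.2
      (mem_C2.1 (hS ▸ heS)).2.symm)⟩
    simpa using mul_mem (inv_mem (hQD heQ)) h1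
  have hKD : ∀ t ∈ S, t ∈ KN π E → t ∈ D := by
    intro t ht htK
    obtain ⟨e, he, k, -, rfl⟩ := J.mem_KN.1 htK
    have heS : e ∈ S := by simpa using mul_mem ht (inv_mem (pow_mem hπS k))
    refine mul_mem (hQD ((J.mem_fx haz).2 ⟨he, Or.inl (mul_inv_eq_iff_eq_mul.2
      (mem_C2.1 (hS ▸ heS)).2.symm)⟩)) (pow_mem hπD k)
  -- the action of `σ` on `H0`
  have hσH0 : ∀ t : ↥(H0 z π E), σ * (t : G) * σ⁻¹ ∈ H0 z π E := fun t => by
    have h1 : σ * (t : G) * σ⁻¹ * (t : G)⁻¹ ∈ H0 z π E :=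
      J.comm_mem_H0 hσz (Subgroup.mem_centralizer_singleton_iff.1 (J.H0_le t.2))
    simpa using mul_mem h1 t.2
  let τ : ↥(H0 z π E) →* M := ψ.comp
    (MonoidHom.mk' (fun t => (⟨_, hσH0 t⟩ : ↥(H0 z π E))) fun s t => Subtype.ext (by simp [mul_assoc]))
  have hτ1 : ∀ {t : ↥(H0 z π E)}, τ t = 1 → ψ t = 1 := fun {t} ht => by
    have h1 : σ * (t : G) * σ⁻¹ ∈ KN π E := (J.psi_eq_one hψ).1 ht
    have h2 := J.conj_mem_KN ((Commute.inv_left (show Commute σ z from hσz)).eq) h1
    rw [inv_inv, show σ⁻¹ * (σ * (t : G) * σ⁻¹) * σ = (t : G) by group] at h2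
    exact (J.psi_eq_one hψ).2 h2
  -- the images
  set ai := J.proj a with hai
  set bi := J.proj b with hbi
  set xi := J.proj ⟨za, hzaC⟩ with hxi
  have hxi2 : orderOf xi = 2 := by
    refine orderOf_eq_prime (by rw [pow_two, ← map_mul,
      show (⟨za, hzaC⟩ : ↥(CZ z π)) * ⟨za, hzaC⟩ = 1 from Subtype.ext hza2, map_one]) fun e => ?_
    rcases J.small_of_proj_one e (Or.inl hza2) with e | e
    exacts [hza1 e, hzaz e]
  have hai3 : ai * ai * ai = 1 := by rw [← map_mul, ← map_mul, P.cube, map_one]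
  have hψCZ : ∀ c : ↥(CZ z π), ψ ⟨c, CZ_le_H0 z π E c.2⟩ = J.proj c := fun c => hψ _ c (by simp)
  have hcommI : ∀ c : ↥(CZ z π), (c : G) ∈ S → J.proj c * xi = xi * J.proj c := fun c hc => by
    rw [hxi, ← map_mul, ← map_mul]
    exact congrArg J.proj (Subtype.ext (hzaS.2 c hc))
  have hax : ai * xi = xi * ai := hcommI a haS
  have hbab : (b : G) * a * (b : G)⁻¹ = π⁻¹ * a := by
    calc (b : G) * a * (b : G)⁻¹ = ((a : G) * b * (a : G)⁻¹ * (b : G)⁻¹)⁻¹ * a := by group
      _ = _ := by rw [P.comm]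
  have hab : ai * bi = bi * ai := by
    have h1 : J.proj (b * a * b⁻¹) = J.proj (⟨π, J.pi_mem_CZ⟩⁻¹ * a) :=
      congrArg J.proj (Subtype.ext (by simpa using hbab))
    rw [map_mul, map_mul, map_inv, map_mul, map_inv, J.proj_pi, inv_one, one_mul,
      mul_inv_eq_iff_eq_mul] at h1
    exact h1.symm
  have hba : bi ∉ Subgroup.zpowers ai := by
    intro hmem
    obtain ⟨i, hi⟩ := Subgroup.mem_zpowers_iff.1 hmem
    obtain ⟨u, huE, hu, k, -, hk⟩ := J.exists_pow' (c := b * (a ^ i)⁻¹)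
      (by rw [map_mul, map_inv, map_zpow, hi, mul_inv_cancel])
    simp only [Subgroup.coe_mul, InvMemClass.coe_inv, SubgroupClass.coe_zpow] at hk
    have hbe : (b : G) = u * π ^ k * (a : G) ^ i := by rw [← hk]; group
    have hc : Commute (a : G) (b : G) := by
      rw [hbe]
      refine Commute.mul_right (Commute.mul_right ?_ ((show Commute (a : G) π from hap).pow_right k))
        ((Commute.refl (a : G)).zpow_right i)
      rcases hu with e | e <;> rw [e]
      exacts [Commute.one_right _, haz]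
    apply J.pi1
    rw [← P.comm, hc.eq]
    group
  have hnb : bi * xi ≠ xi * bi :=
    not_comm_of_nine F hai3 P.a_ne P.b_cube hab hba hxi2 hax
  -- the conjugate under `b`
  obtain ⟨y0, hy0⟩ : ∃ y0 : ↥(CZ z π), y0 = b * ⟨za, hzaC⟩ * b⁻¹ := ⟨_, rfl⟩
  have hy0v : (y0 : G) = (b : G) * za * (b : G)⁻¹ := by rw [hy0]; rfl
  have hy0S : (y0 : G) ∈ S := by
    rw [hS]
    refine mem_C2.2 ⟨(mem_CZ.1 y0.2).1, ?_⟩
    have h1 : Commute (y0 : G) ((b : G) * a * (b : G)⁻¹) := by
      rw [hy0v]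
      show _ = _
      calc (b : G) * za * (b : G)⁻¹ * ((b : G) * a * (b : G)⁻¹) = (b : G) * (za * a) * (b : G)⁻¹ := by group
        _ = (b : G) * (a * za) * (b : G)⁻¹ := by rw [hzaS.2 _ haS]
        _ = _ := by group
    rw [hbab] at h1
    have h2 := (show Commute (y0 : G) π from (mem_CZ.1 y0.2).2).mul_right h1
    rwa [mul_inv_cancel_left] at h2
  set yi := J.proj y0 with hyi
  have hyx : yi = bi * xi * bi⁻¹ := by rw [hyi, hy0, map_mul, map_mul, map_inv]
  have hxx : xi * xi = 1 := by rw [← pow_two, ← hxi2, pow_orderOf_eq_one]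
  have hyy : yi * yi = 1 := by
    rw [hyx]
    calc bi * xi * bi⁻¹ * (bi * xi * bi⁻¹) = bi * (xi * xi) * bi⁻¹ := by group
      _ = 1 := by rw [hxx]; group
  have hyne : yi ≠ xi := fun e => hnb (by rw [hyx, mul_inv_eq_iff_eq_mul] at e; exact e)
  have hy1 : yi ≠ 1 := fun e => by
    rw [hyx, mul_inv_eq_one, mul_eq_left] at e
    rw [e, orderOf_one] at hxi2
    norm_num at hxi2
  have hay : ai * yi = yi * ai := by
    rw [hai, hyi, ← map_mul, ← map_mul]
    exact congrArg J.proj (Subtype.ext ((mem_C2.1 (hS ▸ hy0S)).2.symm))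
  have hxy : xi * yi = yi * xi := (hcommI y0 hy0S).symm
  -- the image of `C(z, a) ∩ H0`
  have hImem : ∀ {t : G} (ht : t ∈ S) (htH : t ∈ H0 z π E), ψ ⟨t, htH⟩ ∈ I := fun {t} ht htH =>
    ⟨⟨t, htH⟩, ht, rfl⟩
  have hImemC : ∀ c : ↥(CZ z π), (c : G) ∈ S → J.proj c ∈ I := fun c hc =>
    hψCZ c ▸ hImem hc (CZ_le_H0 z π E c.2)
  have hIeq : I = Subgroup.centralizer ({ai} : Set M) ⊓ Subgroup.centralizer ({xi} : Set M) := by
    refine Subgroup.eq_of_le_of_card_ge ?_ ?_
    · rintro _ ⟨t, ht, rfl⟩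
      rw [Subgroup.mem_inf, Subgroup.mem_centralizer_singleton_iff, Subgroup.mem_centralizer_singleton_iff,
        hai, hxi, ← hψCZ a, ← hψCZ ⟨za, hzaC⟩, ← map_mul, ← map_mul, ← map_mul, ← map_mul]
      exact ⟨congrArg ψ (Subtype.ext (mem_C2.1 (hS ▸ (Subgroup.mem_subgroupOf.1 ht))).2),
        congrArg ψ (Subtype.ext (hzaS.2 _ (Subgroup.mem_subgroupOf.1 ht)))⟩
    · have d1 : Nat.card ↥(Subgroup.centralizer ({ai} : Set M) ⊓ Subgroup.centralizer ({xi} : Set M)) ∣ 36 := by
        rw [← F.card_three ai (orderOf_eq_prime (by rw [pow_succ, pow_two, hai3]) P.a_ne)]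
        exact Subgroup.card_dvd_of_le inf_le_left
      have d2 : Nat.card ↥(Subgroup.centralizer ({ai} : Set M) ⊓ Subgroup.centralizer ({xi} : Set M)) ∣ 384 := by
        rw [← F.card_invol xi hxi2]
        exact Subgroup.card_dvd_of_le inf_le_right
      rw [hI12]
      exact Nat.le_of_dvd (by norm_num) (Nat.dvd_gcd d1 d2)
  have hgen : I = Subgroup.closure ({ai, xi, yi} : Set M) := by
    have hle : Subgroup.closure ({ai, xi, yi} : Set M) ≤ I := by
      refine (Subgroup.closure_le _).2 ?_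
      rintro s (rfl | rfl | rfl)
      exacts [hImemC a haS, hImemC _ hzaS.1, hImemC y0 hy0S]
    refine (Subgroup.eq_of_le_of_card_ge hle ?_).symm
    rw [hI12]
    set A3 := Subgroup.closure ({ai, xi, yi} : Set M) with hA3
    have d3 : 3 ∣ Nat.card A3 := by
      have := orderOf_dvd_natCard (G := ↥A3) ⟨ai, Subgroup.subset_closure (Or.inl rfl)⟩
      rwa [Subgroup.orderOf_mk, orderOf_eq_prime (p := 3) (by rw [pow_succ, pow_two, hai3]) P.a_ne] at this
    have d4 : 4 ∣ Nat.card A3 := by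
      let K4 : Subgroup M := Subgroup.closure ({xi, yi} : Set M)
      have hK4 : K4 ≤ A3 := Subgroup.closure_mono (Set.subset_insert _ _)
      have hc : ∀ s ∈ K4, s * s = 1 ∧ s * xi = xi * s ∧ s * yi = yi * s := by
        intro s hs
        induction hs using Subgroup.closure_induction with
        | mem s hs =>
          rcases hs with rfl | rfl
          exacts [⟨hxx, rfl, hxy⟩, ⟨hyy, hxy.symm, rfl⟩]
        | one => simp
        | mul s t hs ht h1 h2 =>
          have hst : s * t = t * s := by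
            have hle2 : K4 ≤ Subgroup.centralizer ({t} : Set M) := (Subgroup.closure_le _).2 fun u hu => by
              rcases hu with rfl | rfl
              exacts [Subgroup.mem_centralizer_singleton_iff.2 h2.2.1.symm,
                Subgroup.mem_centralizer_singleton_iff.2 h2.2.2.symm]
            exact Subgroup.mem_centralizer_singleton_iff.1 (hle2 hs)
          refine ⟨?_, ((show Commute s xi from h1.2.1).mul_left (show Commute t xi from h2.2.1)).eq,
            ((show Commute s yi from h1.2.2).mul_left (show Commute t yi from h2.2.2)).eq⟩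
          calc s * t * (s * t) = s * (t * s) * t := by group
            _ = s * s * (t * t) := by rw [← hst]; group
            _ = 1 := by rw [h1.1, h2.1, one_mul]
        | inv s _ h1 =>
          rw [inv_eq_of_mul_eq_one_right h1.1]
          exact h1
      obtain ⟨n, hn⟩ := IsPGroup.iff_card.1
        (fun s : ↥K4 => ⟨1, Subtype.ext (by simpa [pow_two] using (hc s s.2).1)⟩ : IsPGroup 2 ↥K4)
      have h3 : 3 ≤ Nat.card K4 := by
        have hinj : Function.Injective (fun i : Fin 3 =>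
            (⟨![1, xi, yi] i, by
              fin_cases i
              exacts [one_mem _, Subgroup.subset_closure (Or.inl rfl),
                Subgroup.subset_closure (Or.inr rfl)]⟩ : ↥K4)) := by
          intro i j hij
          have h' := congrArg Subtype.val hij
          have hx1 : xi ≠ 1 := fun e => by rw [e, orderOf_one] at hxi2; norm_num at hxi2
          fin_cases i <;> fin_cases j <;> simp at h' ⊢ <;>
            first
            | exact hx1 h'
            | exact hx1 h'.symm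
            | exact hy1 h'
            | exact hy1 h'.symm
            | exact hyne h'
            | exact hyne h'.symm
        simpa using Nat.card_le_card_of_injective _ hinj
      refine dvd_trans ?_ (Subgroup.card_dvd_of_le hK4)
      rw [hn] at h3 ⊢
      have : 2 ≤ n := by
        by_contra hlt
        interval_cases n <;> norm_num at h3
      exact Nat.pow_dvd_pow 2 this
    exact Nat.le_of_dvd Nat.card_pos (Nat.Coprime.mul_dvd_of_dvd_of_dvd (by norm_num) d3 d4)
  -- where `σ` sends `y0`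
  have hy' : σ * (y0 : G) * σ⁻¹ ∈ S := mul_mem (mul_mem hσ hy0S) (inv_mem hσ)
  let Y : ↥(H0 z π E) := ⟨y0, CZ_le_H0 z π E y0.2⟩
  let Z : ↥(H0 z π E) := ⟨za, CZ_le_H0 z π E hzaC⟩
  have hYi : ψ Y = yi := hψCZ y0
  have hZi : ψ Z = xi := hψCZ ⟨za, hzaC⟩
  have hτZ : τ Z = xi := by
    show ψ ⟨σ * za * σ⁻¹, _⟩ = xi
    rw [← hZi]
    exact congrArg ψ (Subtype.ext (show σ * za * σ⁻¹ = za by rw [hzaS.2 σ hσ, mul_inv_cancel_right]))
  have hτI : τ Y ∈ I := hImem hy' _
  have hτ2 : τ Y * τ Y = 1 := by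
    rw [← map_mul, show Y * Y = 1 from Subtype.ext (by
      show (y0 : G) * y0 = 1
      rw [hy0v]
      calc (b : G) * za * (b : G)⁻¹ * ((b : G) * za * (b : G)⁻¹) = (b : G) * (za * za) * (b : G)⁻¹ := by group
        _ = 1 := by rw [hza2]; group), map_one]
  rcases invol_cases hai3 hxx hyy hax hay hxy (hgen ▸ hτI) hτ2 with e | e | e | e
  · exact absurd (hYi.symm.trans (hτ1 e)) hy1
  · refine absurd ?_ hyne
    have h1 : ψ (Y * Z⁻¹) = 1 := hτ1 (by rw [map_mul, map_inv, e, hτZ, mul_inv_cancel])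
    rw [map_mul, map_inv, hYi, hZi, mul_inv_eq_one] at h1
    exact h1
  · -- `σ` fixes both, so agrees with `b`
    exfalso
    let B : ↥(H0 z π E) := ⟨b, CZ_le_H0 z π E b.2⟩
    let A : ↥(H0 z π E) := ⟨a, CZ_le_H0 z π E a.2⟩
    have hτA : τ A = ai := by
      show ψ ⟨σ * (a : G) * σ⁻¹, _⟩ = ai
      rw [hai, ← hψCZ a]
      exact congrArg ψ (Subtype.ext (show σ * (a : G) * σ⁻¹ = a by rw [hσa, mul_inv_cancel_right]))
    have hyB : Y = B * Z * B⁻¹ := Subtype.ext (by simpa [Y, B, Z] using hy0v)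
    have hβx : τ B * xi * (τ B)⁻¹ = yi := by rw [← hτZ, ← map_inv, ← map_mul, ← map_mul, ← hyB, e]
    have hβa : τ B * ai = ai * τ B := by
      suffices hc : τ (B * A * (A * B)⁻¹) = 1 by
        rw [map_mul, map_inv, mul_inv_eq_one, map_mul, map_mul, hτA] at hc
        exact hc
      show ψ _ = 1
      refine (J.psi_eq_one hψ).2 ?_
      show σ * ((b : G) * a * ((a : G) * b)⁻¹) * σ⁻¹ ∈ KN π E
      refine J.conj_mem_KN hσz ?_
      rw [show (b : G) * a * ((a : G) * b)⁻¹ = ((a : G) * b * (a : G)⁻¹ * (b : G)⁻¹)⁻¹ by group, P.comm]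
      exact inv_mem J.pi_mem_KN
    have hiI : bi⁻¹ * τ B ∈ I := by
      rw [hIeq, Subgroup.mem_inf, Subgroup.mem_centralizer_singleton_iff,
        Subgroup.mem_centralizer_singleton_iff]
      refine ⟨((show Commute bi ai from hab.symm).inv_left.mul_left hβa).eq, ?_⟩
      rw [← mul_inv_eq_iff_eq_mul]
      calc bi⁻¹ * τ B * xi * (bi⁻¹ * τ B)⁻¹ = bi⁻¹ * (τ B * xi * (τ B)⁻¹) * bi := by group
        _ = xi := by rw [hβx, hyx]; group
    obtain ⟨v, hv, hvi⟩ := hiI
    have hva : (v : G) * a = a * v := (mem_C2.1 (hS ▸ (Subgroup.mem_subgroupOf.1 hv))).2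
    let σB : ↥(H0 z π E) := ⟨σ * b * σ⁻¹, hσH0 B⟩
    have hq : ψ (σB * (B * v)⁻¹) = 1 := by
      rw [map_mul, map_inv, map_mul, hvi, hψCZ b, ← hbi, mul_inv_cancel_left]
      exact mul_inv_cancel (τ B)
    have hqK := (J.psi_eq_one hψ).1 hq
    obtain ⟨q, hqE, k, -, hqk⟩ := J.mem_KN.1 hqK
    have hqk' : σ * (b : G) * σ⁻¹ = q * π ^ k * ((b : G) * v) := by rw [← hqk]; simp [σB, B, mul_assoc]
    have hpa : Commute (a : G) (π ^ k) := (show Commute (a : G) π from hap).pow_right k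
    have hbk : Commute π (π ^ k) := (Commute.refl π).pow_right k
    have e1 : (a : G) * (σ * b * σ⁻¹) * (a : G)⁻¹ * (σ * b * σ⁻¹)⁻¹ = f * π⁻¹ * f⁻¹ := by
      have : (a : G) * σ = σ * a := hσa.symm
      calc (a : G) * (σ * b * σ⁻¹) * (a : G)⁻¹ * (σ * b * σ⁻¹)⁻¹
          = ((a : G) * σ) * b * ((a : G) * σ)⁻¹ * σ * (b : G)⁻¹ * σ⁻¹ := by group
        _ = σ * ((a : G) * b * (a : G)⁻¹ * (b : G)⁻¹) * σ⁻¹ := by rw [this]; group
        _ = _ := by rw [P.comm, hfπ]
    have e2 : (a : G) * (σ * b * σ⁻¹) * (a : G)⁻¹ * (σ * b * σ⁻¹)⁻¹ =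
        (a : G) * q * (a : G)⁻¹ * π * q⁻¹ := by
      rw [hqk']
      calc (a : G) * (q * π ^ k * ((b : G) * v)) * (a : G)⁻¹ * (q * π ^ k * ((b : G) * v))⁻¹
          = (a : G) * q * (π ^ k * ((b : G) * ((v : G) * (a : G)⁻¹) * (v : G)⁻¹ * (b : G)⁻¹) * (π ^ k)⁻¹) * q⁻¹ := by group
        _ = (a : G) * q * (π ^ k * ((b : G) * (a : G)⁻¹ * (b : G)⁻¹) * (π ^ k)⁻¹) * q⁻¹ := by
            rw [show (v : G) * (a : G)⁻¹ = (a : G)⁻¹ * v from
              (Commute.inv_right (show Commute (v : G) a from hva)).eq]; group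
        _ = (a : G) * q * (π ^ k * ((a : G)⁻¹ * π) * (π ^ k)⁻¹) * q⁻¹ := by
            rw [show (b : G) * (a : G)⁻¹ * (b : G)⁻¹ = ((b : G) * a * (b : G)⁻¹)⁻¹ by group, hbab]; group
        _ = (a : G) * q * ((a : G)⁻¹ * π * π ^ k * (π ^ k)⁻¹) * q⁻¹ := by
            rw [((hpa.inv_left.symm).mul_right hbk.symm).eq]
        _ = _ := by group
    have h2 : π ^ 2 ∈ E := by
      have e3 := e2.symm.trans e1
      set r := (a : G) * q * (a : G)⁻¹ with hr
      have hrE : r ∈ E := J.conjE haz hqE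
      have e4 : π = r⁻¹ * (f * π⁻¹ * f⁻¹) * q := by rw [← e3]; group
      have e5 : π ^ 2 = r⁻¹ * f * (π⁻¹ * (f⁻¹ * q) * π) := by
        rw [pow_two]
        conv_lhs => arg 1; rw [e4]
        group
      rw [e5]
      exact mul_mem (mul_mem (inv_mem hrE) hf) (J.conjE' J.piz (mul_mem (inv_mem hf) hqE))
    have h3 := J.pi_pow_mem_E h2
    rw [pow_two, ← J.pi_inv, inv_eq_one] at h3
    exact J.pi1 h3
  · -- the commutator is `za`
    have h1 := hcomD hσ hy0S
    set d := σ * (y0 : G) * σ⁻¹ * (y0 : G)⁻¹ with hd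
    have hdH : d ∈ H0 z π E := mul_mem (hσH0 Y) (inv_mem Y.2)
    have hdK : za * d⁻¹ ∈ KN π E := by
      refine (J.psi_eq_one hψ (h := Z * ⟨d, hdH⟩⁻¹)).1 ?_
      have hdψ : ψ ⟨d, hdH⟩ = τ Y * (ψ Y)⁻¹ := by
        rw [← map_inv]
        show ψ ⟨d, hdH⟩ = ψ _ * ψ _
        rw [← map_mul]
        exact congrArg ψ (Subtype.ext rfl)
      rw [map_mul, map_inv, hdψ, e, hYi, hZi, mul_inv_cancel_right, mul_inv_cancel]
    have hdS : d ∈ S := mul_mem hy' (inv_mem hy0S)
    simpa using mul_mem (hKD _ (mul_mem hzaS.1 (inv_mem hdS)) hdK) h1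

end Ctx

end CfsgLib.JFour
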