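import Cfsg.Agent.Lib.JFour.Proj

/-!
# Conjugates of `z` in `H0 ∖ E`

Such a conjugate is conjugate under `E` to an involution of `C(z, π)`, or else its centralizer in
`E` is small and a conjugate of `z` other than `z` lies in `E`.
-/

set_option autoImplicit false
set_option linter.style.haveILetI false
set_option linter.unusedSectionVars false

open Cfsg

namespace CfsgLib.JFour

variable {G : Type*} [Group G] [Finite G] {M : Type*} [Group M] {z π : G} {E : Subgroup G}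

namespace Ctx

variable (J : Ctx M z π E)
include J

/-- The `C(z, π)`-part of an element of `H0`. -/
theorem exists_part (h : ↥(H0 z π E)) : ∃ c : ↥(CZ z π), (h : G) * (c : G)⁻¹ ∈ E := by
  obtain ⟨e, he, c, hc, hh⟩ := J.mem_H0.1 h.2
  exact ⟨⟨c, hc⟩, by rw [hh]; simpa using he⟩

theorem proj_part {h : G} (c c' : ↥(CZ z π)) (h1 : h * (c : G)⁻¹ ∈ E) (h2 : h * (c' : G)⁻¹ ∈ E) :
    J.proj c = J.proj c' := by
  refine J.proj_eq ?_
  have e := mul_mem (inv_mem h1) h2
  rwa [show (h * (c : G)⁻¹)⁻¹ * (h * (c' : G)⁻¹) = (c : G) * (c' : G)⁻¹ by group] at e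

/-- A homomorphism from `H0` onto `M` extending the projection. -/
theorem exists_projH : ∃ ψ : ↥(H0 z π E) →* M,
    ∀ (h : ↥(H0 z π E)) (c : ↥(CZ z π)), (h : G) * (c : G)⁻¹ ∈ E → ψ h = J.proj c := by
  classical
  choose f hf using J.exists_part
  refine ⟨MonoidHom.mk' (fun h => J.proj (f h)) fun a b => ?_, fun h c hc => J.proj_part _ _ (hf h) hc⟩
  rw [← map_mul]
  refine J.proj_part _ _ (hf (a * b)) ?_
  have h1 := hf a
  have h2 := J.conjE (mem_CZ.1 (f a).2).1 (hf b)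
  have e : ((a * b : ↥(H0 z π E)) : G) * ((f a * f b : ↥(CZ z π)) : G)⁻¹ =
      (a : G) * (f a : G)⁻¹ * ((f a : G) * ((b : G) * (f b : G)⁻¹) * (f a : G)⁻¹) := by
    simp only [Subgroup.coe_mul]; group
  rw [e]
  exact mul_mem h1 h2

variable [Finite M]

/-- A two-subgroup of `H0` with abelian image meets `E` in index at most sixteen. -/
theorem card_abelian_bound (F : Small M) {A : Subgroup G} (hA : A ≤ H0 z π E) (h2 : IsPGroup 2 A)
    (hc : ∀ a ∈ A, ∀ b ∈ A, a * b = b * a) : Nat.card A ≤ 16 * Nat.card ↥(A ⊓ E) := by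
  obtain ⟨ψ, hψ⟩ := J.exists_projH
  let f : ↥A →* M := ψ.comp (Subgroup.inclusion hA)
  have hr : Nat.card f.range ≤ 16 := by
    refine F.abelian _ ?_ ?_
    · exact h2.of_surjective f.rangeRestrict f.rangeRestrict_surjective
    · rintro _ ⟨a, rfl⟩ _ ⟨b, rfl⟩
      rw [← map_mul, ← map_mul]
      exact congrArg f (Subtype.ext (hc a a.2 b b.2))
  have hk : Nat.card f.ker ≤ Nat.card ↥(A ⊓ E) := by
    rw [← Subgroup.card_map_of_injective A.subtype_injective]
    refine Subgroup.card_le_of_le ?_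
    rintro _ ⟨a, ha, rfl⟩
    refine ⟨a.2, ?_⟩
    obtain ⟨c, hc'⟩ := J.exists_part ⟨a, hA a.2⟩
    have h1 : J.proj c = 1 := (hψ ⟨a, hA a.2⟩ c hc').symm.trans ha
    obtain ⟨u, hu, hcu⟩ := J.proj_eq_one.1 h1
    have huE : u ∈ E := by rcases hu with hu | hu <;> rw [hu]; exacts [one_mem E, J.s.z_mem]
    obtain ⟨k, hk⟩ := h2 a
    have hak : (a : G) ^ 2 ^ k = 1 := by simpa using congrArg Subtype.val hk
    -- the odd part vanishes
    have key : ∀ t : G, t * z = z * t → t ^ 3 = 1 → (a : G) = (a : G) * (c : G)⁻¹ * u * t →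
        (a : G) * (c : G)⁻¹ * u ∈ E → (a : G) ∈ E := by
      intro t ht ht3 he heE
      have hp : ∀ n : ℕ, ∃ e ∈ E, (a : G) ^ n = e * t ^ n := by
        intro n
        induction n with
        | zero => exact ⟨1, one_mem E, by simp⟩
        | succ n ih =>
          obtain ⟨e, he', hn⟩ := ih
          have htn : t ^ n * z = z * t ^ n := ((show Commute t z from ht).pow_left n).eq
          refine ⟨e * (t ^ n * ((a : G) * (c : G)⁻¹ * u) * (t ^ n)⁻¹), mul_mem he' (J.conjE htn heE), ?_⟩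
          rw [pow_succ, hn, pow_succ]
          conv_lhs => rw [he]
          group
      obtain ⟨e, he', hn⟩ := hp (2 ^ k)
      rw [hak] at hn
      have htk : t ^ 2 ^ k ∈ E := by
        rw [show t ^ 2 ^ k = e⁻¹ by rw [eq_inv_iff_mul_eq_one]; exact (mul_eq_one_comm.1 hn.symm)]
        exact inv_mem he'
      have hcop : Nat.Coprime (2 ^ k) 3 := (by norm_num : Nat.Coprime 2 3).pow_left k
      obtain ⟨m, -, hm⟩ := Nat.exists_mul_mod_eq_one_of_coprime hcop (by norm_num)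
      have htE : t ∈ E := by
        have hm' : (t ^ 2 ^ k) ^ m = t := by
          rw [← pow_mul, ← Nat.mod_add_div (2 ^ k * m) 3, hm, pow_add, pow_mul, ht3, one_pow, mul_one, pow_one]
        rw [← hm']
        exact pow_mem htk m
      rw [he]; exact mul_mem heE htE
    have hE' : (a : G) * (c : G)⁻¹ * u ∈ E := mul_mem hc' huE
    rcases hcu with k | k | k
    · have e : (a : G) = (a : G) * (c : G)⁻¹ * u := by rw [k]; group
      rw [Subgroup.coe_subtype, e]; exact hE'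
    · exact key π J.piz (by rw [pow_succ, pow_two, J.pi3]) (by rw [k]; group) hE'
    · exact key π⁻¹ (Commute.inv_left (show Commute π z from J.piz)).eq
        (by rw [inv_pow, pow_succ, pow_two, J.pi3, inv_one]) (by rw [k]; group) hE'
  rw [← f.ker.card_mul_index, Subgroup.index_ker, mul_comm 16]
  exact Nat.mul_le_mul hk hr

/-- An involution of `H0` is `e c` with `c` an involution of `C(z, π)` or central. -/
theorem exists_split (F : Small M) {w : G} (hw : w ∈ H0 z π E) (hw2 : w * w = 1) :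
    ∃ e ∈ E, ∃ c ∈ CZ z π, w = e * c ∧ c * c = 1 ∧ Rel z (c * e * c⁻¹) e := by
  obtain ⟨e, he, c, hc, rfl⟩ := J.mem_H0.1 hw
  have hcz := (mem_CZ.1 hc).1
  have hcE : c * e * c⁻¹ ∈ E := J.conjE hcz he
  have h1 : e * (c * e * c⁻¹) * (c * c) = 1 := by rw [← hw2]; group
  have hcc : c * c ∈ E := by
    rw [eq_inv_of_mul_eq_one_right h1]
    exact inv_mem (mul_mem he hcE)
  have h2 : c * c = 1 ∨ c * c = z := J.eq_center_of_mem_E (mul_mem hc hc) hcc
  have h3 := J.sq_eq_one F (c := ⟨c, hc⟩) h2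
  refine ⟨e, he, c, hc, rfl, h3, ?_⟩
  rw [h3, mul_one] at h1
  rw [eq_inv_of_mul_eq_one_right h1]
  exact J.rel_inv he

/-- Conjugates of `z` in `H0 ∖ E` lead to conjugates in `C(z, π)` or in `E`. -/
theorem inner_cases (F : Small M)
    (hdim : ∀ c ∈ CZ z π, c * c = 1 → c ≠ 1 → c ≠ z → Nat.card (fx z E c) = 2 ^ 9)
    {g : G} (hw : g * z * g⁻¹ ∈ H0 z π E) (hne : g * z * g⁻¹ ≠ z) :
    ∃ k : G, k * z * k⁻¹ ≠ z ∧ (k * z * k⁻¹ ∈ E ∨ k * z * k⁻¹ ∈ CZ z π) := by
  classical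
  by_cases hwE : g * z * g⁻¹ ∈ E
  · exact ⟨g, hne, Or.inl hwE⟩
  have J' := J.conj g
  obtain ⟨w, hwdef⟩ : ∃ w, w = g * z * g⁻¹ := ⟨_, rfl⟩
  rw [← hwdef] at hw hne hwE J'
  have hw2 : w * w = 1 := J'.zz
  obtain ⟨e, he, c, hc, hwc, hc2, hcr⟩ := J.exists_split F hw hw2
  have hcz := (mem_CZ.1 hc).1
  have hzE : ∀ {x : G}, (x = 1 ∨ x = z) → x ∈ E := by
    rintro x (h | h) <;> rw [h]
    exacts [one_mem E, J.s.z_mem]
  have hc1 : c ≠ 1 := fun h => hwE (by rw [hwc, h, mul_one]; exact he)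
  have hcne : c ≠ z := fun h => hwE (by rw [hwc, h]; exact mul_mem he J.s.z_mem)
  have hfx : e ∈ fx z E c := (J.mem_fx hcz).2 ⟨he, hcr⟩
  by_cases het : e ∈ tc z E c
  · -- conjugate under `E` to `c` or `c z`
    obtain ⟨d, hd, her⟩ := (J.mem_tc hcz).1 het
    have hcd : c * d * c⁻¹ ∈ E := J.conjE hcz hd
    have hinv : Rel z (c * d * c⁻¹ * d⁻¹) (d * (c * d⁻¹ * c⁻¹)) := by
      refine J.rel_symm ?_
      rw [show d * (c * d⁻¹ * c⁻¹) = (c * d * c⁻¹ * d⁻¹)⁻¹ by group]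
      exact J.rel_inv (mul_mem hcd (inv_mem hd))
    have h1 : Rel z (e * c) (d * c * d⁻¹) := by
      rw [show d * c * d⁻¹ = d * (c * d⁻¹ * c⁻¹) * c by group]
      exact J.rel_mul (J.s.z_comm (mul_mem hd (J.conjE hcz (inv_mem hd))))
        (J.rel_trans her hinv) (J.rel_refl c)
    have hdz : d⁻¹ * z * d = z := by
      rw [mul_assoc, ← J.s.z_comm hd, inv_mul_cancel_left]
    have e0 : d⁻¹ * g * z * (d⁻¹ * g)⁻¹ = d⁻¹ * (e * c) * d := by
      rw [← hwc, hwdef]; group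
    refine ⟨d⁻¹ * g, fun h => hne ?_, Or.inr ?_⟩
    · have e1 : w = d * z * d⁻¹ := by
        rw [hwc, ← h, e0]; group
      rw [e1, J.s.z_comm hd, mul_inv_cancel_right]
    · rw [e0]
      rcases h1 with k | k <;> rw [k]
      · have : d⁻¹ * (d * c * d⁻¹) * d = c := by group
        rw [this]; exact hc
      · have : d⁻¹ * (z * (d * c * d⁻¹)) * d = (d⁻¹ * z * d) * c := by group
        rw [this, hdz]; exact mul_mem J.z_mem_CZ hc
  -- the centralizer in `E` is small
  by_cases hzw : z ∈ E.map (MulAut.conj g).toMonoidHom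
  · obtain ⟨x, hx, hxz⟩ := hzw
    change g * x * g⁻¹ = z at hxz
    have e0 : g⁻¹ * z * (g⁻¹)⁻¹ = x := by
      calc g⁻¹ * z * (g⁻¹)⁻¹ = g⁻¹ * (g * x * g⁻¹) * (g⁻¹)⁻¹ := by rw [hxz]
        _ = x := by group
    refine ⟨g⁻¹, fun h => hne ?_, Or.inl (by rw [e0]; exact hx)⟩
    rw [hwdef]
    calc g * z * g⁻¹ = g * (g⁻¹ * z * (g⁻¹)⁻¹) * g⁻¹ := by rw [h]
      _ = z := by group
  have hwz : w * z = z * w := Subgroup.mem_centralizer_singleton_iff.1 (J.H0_le hw)
  set E' := E.map (MulAut.conj g).toMonoidHom with hE'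
  set T := tc z E c with hT
  set Fc := fx z E c with hFc
  have hT9 : Nat.card T = 2 ^ 5 := by
    have := J.card_tc_mul_fx hcz
    rw [hdim c hc hc2 hc1 hcne, ← hT] at this
    norm_num at this ⊢
    omega
  have hTle : T ≤ Fc := J.tc_le_fx hcz fun x hx => Or.inl (by rw [hc2]; group)
  -- conjugation by `w` on `Fc`
  have hwconj : ∀ x ∈ Fc, w * x * w⁻¹ = e * x * e⁻¹ := by
    intro x hx
    rw [hwc, show e * c * x * (e * c)⁻¹ = e * (c * x * c⁻¹) * e⁻¹ by group,
      mul_inv_eq_iff_eq_mul.2 (J.comm_of_fx hc hx)]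
  set Z5 : Subgroup G := T ⊔ Subgroup.zpowers e with hZ5
  have hZ5F : Z5 ≤ Fc := sup_le hTle (Subgroup.zpowers_le.2 hfx)
  have hT5 : T ≤ Z5 := le_sup_left
  have heZ5 : e ∈ Z5 := le_sup_right (a := T) (Subgroup.mem_zpowers e)
  set CE := perp E Z5 with hCE
  have hCEF : CE ≤ Fc := fun x hx => by
    rw [hFc, ← J.perp_tc hcz]; exact perp_anti hT5 hx
  have hCEw : ∀ {x : G}, x ∈ CE → w * x = x * w := fun {x} hx => by
    rw [← mul_inv_eq_iff_eq_mul, hwconj x (hCEF hx),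
      mul_inv_eq_iff_eq_mul, (mem_perp.1 hx).2 e heZ5]
  have hZ5E : Z5 ≤ E := hZ5F.trans (J.fx_le hcz)
  have hzZ5 : z ∈ Z5 := hT5 (J.z_mem_tc hcz)
  -- `Z5` has order at most `2 ^ 6` and centralizes itself
  have hZ5c : Z5 ≤ CE := by
    have key : ∀ x ∈ Fc, (∀ t ∈ T, t * x = x * t) → e * x = x * e → x ∈ CE := by
      intro x hx h1 h2
      have hle : Z5 ≤ Subgroup.centralizer ({x} : Set G) :=
        sup_le (fun t ht => Subgroup.mem_centralizer_singleton_iff.2 (h1 t ht))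
          (Subgroup.zpowers_le.2 (Subgroup.mem_centralizer_singleton_iff.2 h2))
      exact mem_perp.2 ⟨J.fx_le hcz hx, fun a ha =>
        Subgroup.mem_centralizer_singleton_iff.1 (hle ha)⟩
    refine sup_le (fun x hx => key x (hTle hx)
      (fun t ht => (mem_perp.1 (J.fx_le_perp hcz (hTle hx))).2 t ht)
      ((mem_perp.1 (J.fx_le_perp hcz hfx)).2 x hx).symm) ?_
    exact Subgroup.zpowers_le.2 (key e hfx
      (fun t ht => (mem_perp.1 (J.fx_le_perp hcz hfx)).2 t ht) rfl)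
  obtain ⟨r, hr, hre⟩ : ∃ r ∈ Fc, r * e ≠ e * r := by
    by_contra h
    push Not at h
    apply het
    rw [hT, ← J.perp_fx hcz]
    exact mem_perp.2 ⟨he, h⟩
  have hwr : w * r * w⁻¹ = z * r := by
    rw [hwconj r hr]
    exact (J.s.comm_cases he (J.fx_le hcz hr)).resolve_left fun h =>
      hre (mul_inv_eq_iff_eq_mul.1 h).symm
  have hmul5 := J.card_mul_perp hzZ5 hZ5E
  rw [← hCE] at hmul5
  have hZ5card : Nat.card Z5 ≤ 2 ^ 6 := by
    have h := J.card_perp_step (J.tc_le hcz) he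
    rw [J.perp_tc hcz, ← hT, ← hZ5, ← hCE, hdim c hc hc2 hc1 hcne] at h
    by_contra hlt
    push Not at hlt
    have h8 : 2 ^ 8 ≤ Nat.card CE := by omega
    have := Nat.mul_lt_mul_of_lt_of_le hlt h8 (Nat.card_pos (α := CE))
    omega
  have hperpCE : perp E CE = Z5 := J.perp_perp hzZ5 hZ5E
  -- an abelian subgroup of index two
  have hCE8 : 2 ^ 8 ≤ Nat.card CE := by
    by_contra hlt
    push Not at hlt
    have := Nat.mul_lt_mul_of_le_of_lt hZ5card hlt (by norm_num : 0 < 2 ^ 6)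
    omega
  obtain ⟨r', hr', hr'Z⟩ : ∃ x ∈ CE, x ∉ Z5 := by
    refine SetLike.not_le_iff_exists.1 fun h => ?_
    have := Subgroup.card_le_of_le h
    omega
  set A : Subgroup G := Z5 ⊔ Subgroup.zpowers r' with hA
  have hACE : A ≤ CE := sup_le hZ5c (Subgroup.zpowers_le.2 hr')
  have hAE : A ≤ E := hACE.trans (perp_le _ _)
  have hAc : ∀ a ∈ A, ∀ b ∈ A, a * b = b * a := by
    haveI : IsMulCommutative A := by
      rw [hA, Subgroup.zpowers_eq_closure, ← Subgroup.closure_eq Z5, ← Subgroup.closure_union]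
      refine Subgroup.isMulCommutative_closure fun a ha b hb => ?_
      rcases ha with ha | ha <;> rcases hb with hb | hb
      · exact ((mem_perp.1 (hZ5c hb)).2 a ha)
      · rw [Set.mem_singleton_iff.1 hb]; exact (mem_perp.1 hr').2 a ha
      · rw [Set.mem_singleton_iff.1 ha]; exact ((mem_perp.1 hr').2 b hb).symm
      · rw [Set.mem_singleton_iff.1 ha, Set.mem_singleton_iff.1 hb]
    exact fun a ha b hb => congrArg Subtype.val (mul_comm' (⟨a, ha⟩ : A) ⟨b, hb⟩)
  have hA7 : 2 * Nat.card Z5 ≤ Nat.card A := by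
    have hle : Z5 ≤ A := le_sup_left
    have h1 := Subgroup.card_mul_index (Z5.subgroupOf A)
    rw [Nat.card_congr (Subgroup.subgroupOfEquivOfLe hle).toEquiv] at h1
    have h2 : 2 ≤ (Z5.subgroupOf A).index := by
      have h3 := Subgroup.index_ne_zero_of_finite (H := Z5.subgroupOf A)
      have h4 : (Z5.subgroupOf A).index ≠ 1 := fun e' =>
        hr'Z (Subgroup.relIndex_eq_one.1 e' (le_sup_right (a := Z5) (Subgroup.mem_zpowers r')))
      omega
    rw [← h1, mul_comm 2]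
    exact Nat.mul_le_mul_left _ h2
  have hT6 : 2 * 2 ^ 5 ≤ Nat.card Z5 := by
    have h1 := Subgroup.card_mul_index (T.subgroupOf Z5)
    rw [Nat.card_congr (Subgroup.subgroupOfEquivOfLe hT5).toEquiv, hT9] at h1
    have h2 : 2 ≤ (T.subgroupOf Z5).index := by
      have h3 := Subgroup.index_ne_zero_of_finite (H := T.subgroupOf Z5)
      have h4 : (T.subgroupOf Z5).index ≠ 1 := fun e' => het (Subgroup.relIndex_eq_one.1 e' heZ5)
      omega
    rw [← h1, mul_comm 2]
    exact Nat.mul_le_mul_left _ h2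
  -- its part in the conjugate of `H0`
  set H' := H0 w (g * π * g⁻¹) E'
  have hAw : ∀ {a : G}, a ∈ A → a * w = w * a := fun ha => (hCEw (hACE ha)).symm
  set B : Subgroup G := A ⊓ H' with hB
  have hBc : Nat.card A ≤ 2 * Nat.card B := by
    have hrel : B.relIndex A ≤ 2 := by
      by_cases hall : A ≤ H'
      · rw [Subgroup.relIndex_eq_one.2 (show A ≤ B from le_inf le_rfl hall)]; norm_num
      · obtain ⟨t, ht, htH⟩ := SetLike.not_le_iff_exists.1 hall
        refine le_of_eq ?_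
        rw [Subgroup.relIndex, Subgroup.index_eq_two_iff]
        refine ⟨⟨t, ht⟩, fun b => ?_⟩
        have hmem : ∀ x : ↥A, x ∈ B.subgroupOf A ↔ (x : G) ∈ H' := fun x => by
          rw [Subgroup.mem_subgroupOf, hB, Subgroup.mem_inf]
          exact ⟨fun h => h.2, fun h => ⟨x.2, h⟩⟩
        rw [hmem, hmem, Subgroup.coe_mul, J'.mem_of_mul_mem (hAw b.2) (hAw ht)]
        by_cases hb : (b : G) ∈ H'
        · exact Or.inr ⟨hb, fun h => htH (h.1 hb)⟩
        · exact Or.inl ⟨⟨fun h => absurd h hb, fun h => absurd h htH⟩, hb⟩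
    have h1 := Subgroup.card_mul_index (B.subgroupOf A)
    rw [Nat.card_congr (Subgroup.subgroupOfEquivOfLe (inf_le_left : B ≤ A)).toEquiv] at h1
    rw [← h1, mul_comm 2]
    exact Nat.mul_le_mul_left _ hrel
  have hB2 : IsPGroup 2 B := by
    have hEp : IsPGroup 2 E := IsPGroup.of_card J.cardE
    exact hEp.to_le (inf_le_left.trans hAE)
  have hK := J'.card_abelian_bound F (inf_le_right : B ≤ H') hB2
    fun a ha b hb => hAc a ha.1 b hb.1
  set K : Subgroup G := B ⊓ E' with hKdef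
  have hBK : Nat.card B ≤ 16 * Nat.card K := hK
  have hKA : K ≤ A := inf_le_left.trans inf_le_left
  -- it is central in the centralizer of `w` in `E`
  have hKZ : K ≤ Z5 := by
    intro k hk
    rw [← hperpCE]
    refine mem_perp.2 ⟨hAE (hKA hk), fun x hx => ?_⟩
    have hxw : x * w = w * x := (hCEw hx).symm
    have hkE' : x * k * x⁻¹ ∈ E' := J'.conjE hxw hk.2
    rcases J.s.comm_cases (perp_le _ _ hx) (hAE (hKA hk)) with h | h
    · exact mul_inv_eq_iff_eq_mul.1 h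
    · exfalso
      apply hzw
      have h' := E'.mul_mem (h ▸ hkE') (E'.inv_mem hk.2)
      rwa [mul_inv_cancel_right] at h'
  -- so it meets the commutators nontrivially
  obtain ⟨k, hkK, hkT, hk1⟩ : ∃ k ∈ K, k ∈ T ∧ k ≠ 1 := by
    by_contra h
    push Not at h
    have hinj : Function.Injective (fun p : ↥K × ↥T => (⟨(p.1 : G) * p.2,
        mul_mem (hKZ p.1.2) (hT5 p.2.2)⟩ : ↥Z5)) := by
      rintro ⟨a, b⟩ ⟨a', b'⟩ hh
      have hh' : (a : G) * b = a' * b' := congrArg Subtype.val hh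
      have h1 : (a' : G)⁻¹ * a = b' * (b : G)⁻¹ := by
        rw [inv_mul_eq_iff_eq_mul, ← mul_assoc, ← hh']; group
      have h2 := h _ (K.mul_mem (K.inv_mem a'.2) a.2) (by rw [h1]; exact T.mul_mem b'.2 (T.inv_mem b.2))
      have ha : (a' : G) = a := inv_mul_eq_one.1 h2
      refine Prod.ext (Subtype.ext ha.symm) (Subtype.ext ?_)
      rw [ha] at hh'
      exact mul_left_cancel hh'
    have hle := Nat.card_le_card_of_injective _ hinj
    rw [Nat.card_prod, hT9] at hle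
    omega
  have hkE : k ∈ E := hAE (hKA hkK)
  have hkz : k ≠ z := fun h => hzw (h ▸ hkK.2)
  -- `k` is a commutator with `w`
  obtain ⟨d, hd, hkd⟩ := (J.mem_tc hcz).1 hkT
  obtain ⟨d', hd', hkd'⟩ : ∃ d' ∈ E, w * d' * w⁻¹ * d'⁻¹ = k := by
    have hcd : c * d * c⁻¹ ∈ E := J.conjE hcz hd
    have h1 : Rel z (w * d * w⁻¹ * d⁻¹) k := by
      refine J.rel_trans ?_ (J.rel_symm hkd)
      rw [hwc, show e * c * d * (e * c)⁻¹ * d⁻¹ = e * (c * d * c⁻¹) * e⁻¹ * d⁻¹ by group]
      exact J.rel_mul (J.s.z_comm hcd) (J.rel_conj_E he hcd) (J.rel_refl d⁻¹)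
    rcases h1 with h1 | h1
    · exact ⟨d, hd, h1⟩
    · refine ⟨d * r, mul_mem hd (J.fx_le hcz hr), ?_⟩
      have hwd : w * d * w⁻¹ ∈ E := J.conjE hwz hd
      calc w * (d * r) * w⁻¹ * (d * r)⁻¹ = w * d * w⁻¹ * (w * r * w⁻¹) * r⁻¹ * d⁻¹ := by group
        _ = (w * d * w⁻¹ * z) * d⁻¹ := by rw [hwr]; group
        _ = z * (w * d * w⁻¹ * d⁻¹) := by rw [J.s.z_comm hwd]; group
        _ = k := by rw [h1, ← mul_assoc, J.zz, one_mul]
  -- `k` and `w k` are conjugate inside the conjugate of `E`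
  obtain ⟨u, hu, huk⟩ := J'.s.exists_move hkK.2 hk1 (fun h => hwE (h ▸ hkE))
  have hwk : d' * g * z * (d' * g)⁻¹ = w * k := by
    calc d' * g * z * (d' * g)⁻¹ = d' * w * d'⁻¹ := by rw [hwdef]; group
      _ = k⁻¹ * w := by rw [← hkd']; group
      _ = w * k := by
        have hkw : k * w = w * k := hAw (hKA hkK)
        have hk2 : k * k = 1 := by
          rcases J.s.sq_cases hkE with h | h
          · exact h
          · exact (hzw (h ▸ mul_mem hkK.2 hkK.2)).elim
        rw [inv_eq_of_mul_eq_one_right hk2, hkw]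
  refine ⟨u⁻¹ * (d' * g), ?_, Or.inl ?_⟩
  all_goals
    have e0 : u⁻¹ * (d' * g) * z * (u⁻¹ * (d' * g))⁻¹ = k := by
      rw [show u⁻¹ * (d' * g) * z * (u⁻¹ * (d' * g))⁻¹ = u⁻¹ * (d' * g * z * (d' * g)⁻¹) * u by group,
        hwk, ← huk]
      group
    rw [e0]
  · exact hkz
  · exact hkE

end Ctx

end CfsgLib.JFour
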