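import Cfsg.Agent.Lib.JFour.Rigid
import Cfsg.Agent.Lib.JFour.Inner

/-!
# Consequences of the normal forms

Involutions of `C(z, π)` fix a subspace of dimension eight, and the two kinds of elementary
subgroups of order sixteen of `M` are told apart by their fixed spaces.
-/

set_option autoImplicit false
set_option maxRecDepth 100000
set_option linter.style.haveILetI false
set_option linter.unusedSectionVars false

open Cfsg

namespace CfsgLib.JFour

/-- The multiple of square one of the matrix of a word in the generators. -/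
def wB (w : List ℕ) : List ℕ :=
  let B := wordB MS w
  sB (((List.range 3).find? fun k => comp (sB k B) (sB k B) == idB).getD 0) B

/-- The vectors moved into a line by every generator of the small elementary subgroup. -/
def inUS (n : ℕ) : Bool :=
  duadW.all fun w => Nat.beq (Nat.xor (ap (wB w) n) n) 0 || Nat.beq (Nat.xor (ap (wB w) n) n) vFix

theorem invW_ok : ([4] :: (duadW ++ hexW)).all (fun w =>
    comp (wB w) (wB w) == idB && okB (wB w) && (w.all fun k => decide (k < 5)) &&
      (List.range 3).all fun k => !(comp (sB k (wordB MS w)) (sB k (wordB MS w)) == idB) ||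
        sB k (wordB MS w) == wB w) = true := by
  decide +kernel

theorem count_y : ((List.range 4096).filter fun n => ap (wB [4]) n == n).length = 256 := by
  decide +kernel

theorem duad_fix : (List.range 4096).all (fun n =>
    !(duadW.all fun w => Nat.beq (ap (wB w) n) n) || Nat.beq n 0 || Nat.beq n vFix ||
      Nat.beq (ap gW0 n) vFix || Nat.beq (ap gW0 (ap gW0 n)) vFix) = true := by
  decide +kernel

theorem duad_US : ((List.range 4096).filter inUS).length = 64 := by decide +kernel

theorem hex_fix : (List.range 4096).all (fun n =>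
    (hexW.all fun w => Nat.beq (ap (wB w) n) n) ||
      !(hexW.all fun w => hexW.all fun w' =>
        Nat.beq (Nat.xor (ap (wB w) n) n) 0 || Nat.beq (Nat.xor (ap (wB w') n) n) 0 ||
          Nat.beq (Nat.xor (ap (wB w) n) n) (Nat.xor (ap (wB w') n) n))) = true := by
  decide +kernel

theorem witness_ok : okB (wordB MS gW) = true ∧ okB (wordB MS hW) = true ∧ ap (wordB MS gW) vFix = vFix ∧
    Nat.xor (ap (wordB MS gW) 1) 1 = 275 ∧ Nat.xor (ap (wordB MS gW) 275) 275 = 33 ∧
    ap (wordB MS hW) vFix = 33 ∧ inUS 33 = false ∧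
    ap (wB (duadW.getD 1 [])) 33 = 33 ∧
    ap (comp (wB (duadW.getD 0 [])) (wB (duadW.getD 2 []))) 33 = 33 ∧
    ap (wB (duadW.getD 3 [])) 33 = 33 := by
  decide +kernel

variable {G : Type*} [Group G] [Finite G] {M : Type*} [Group M] [Finite M] {z π : G} {E : Subgroup G}

/-- What is required of the group on 22 points and its generators. -/
structure Tables (M : Type*) [Group M] [Finite M] (g : ℕ → M) : Prop where
  gens : Gens M g
  e16 : ∀ A : Subgroup M, Nat.card A = 16 → (∀ a ∈ A, a * a = 1) → ∃ m : M, ∃ W ∈ [duadW, hexW],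
    A = Subgroup.closure {x | ∃ w ∈ W, x = m * (w.map g).prod * m⁻¹}
  invol_gen : ∀ x : M, orderOf x = 2 → ∀ y : M, y * x = x * y →
    y ∈ Subgroup.closure {t : M | t * t = 1 ∧ t * x = x * t}

theorem Tables.map {g : ℕ → M} (T : Tables M g) (θ : M ≃* M) : Tables M (fun k => θ (g k)) where
  gens := T.gens.map θ
  invol_gen := T.invol_gen
  e16 A hA h1 := by
    obtain ⟨m, W, hW, he⟩ := T.e16 (A.comap θ.toMonoidHom) (by
        rw [← hA]
        refine Nat.card_congr ⟨fun a => ⟨θ a, a.2⟩, fun a => ⟨θ.symm a, ?_⟩, fun a => ?_, fun a => ?_⟩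
        · rw [Subgroup.mem_comap, MulEquiv.coe_toMonoidHom, MulEquiv.apply_symm_apply]; exact a.2
        · exact Subtype.ext (θ.symm_apply_apply _)
        · exact Subtype.ext (θ.apply_symm_apply _))
      (fun a ha => θ.injective (by rw [map_mul, map_one]; exact h1 _ ha))
    refine ⟨θ m, W, hW, ?_⟩
    have h2 := congrArg (Subgroup.map θ.toMonoidHom) he
    rw [Subgroup.map_comap_eq_self_of_surjective θ.surjective, MonoidHom.map_closure] at h2
    rw [h2]
    congr 1
    have e : (fun k => θ (g k)) = θ ∘ g := rfl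
    ext x
    simp only [Set.mem_image, Set.mem_ofPred_eq, e, ← List.map_map, ← map_list_prod]
    constructor
    · rintro ⟨_, ⟨w, hw, rfl⟩, rfl⟩
      exact ⟨w, hw, by simp⟩
    · rintro ⟨w, hw, rfl⟩
      exact ⟨_, ⟨w, hw, rfl⟩, by simp⟩

namespace Ctx

variable (J : Ctx M z π E)
include J

/-- An element of `C(z, π)` whose square lies in `E` is an involution or central. -/
theorem part_sq (F : Small M) {a : G} {c : ↥(CZ z π)} (h : a * (c : G)⁻¹ ∈ E) (ha : a * a ∈ E) :
    (c : G) * c = 1 := by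
  have hcz := (mem_CZ.1 c.2).1
  set u := a * (c : G)⁻¹ with hu
  have h1 : a * a = u * ((c : G) * u * (c : G)⁻¹) * ((c : G) * c) := by rw [hu]; group
  have h2 : (c : G) * c ∈ E := by
    have := mul_mem (inv_mem (mul_mem h (J.conjE hcz h))) ha
    rwa [h1, inv_mul_cancel_left] at this
  exact J.sq_eq_one F (J.eq_center_of_mem_E (mul_mem c.2 c.2) h2)

/-- Such an element with trivial image lies in `E`. -/
theorem mem_E_of_part (F : Small M) {a : G} {c : ↥(CZ z π)} (h : a * (c : G)⁻¹ ∈ E) (ha : a * a ∈ E)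
    (h1 : J.proj c = 1) : a ∈ E := by
  have h2 := J.small_of_proj_one h1 (Or.inl (J.part_sq F h ha))
  have hc : (c : G) ∈ E := by
    rcases h2 with k | k <;> rw [k]
    exacts [one_mem E, J.s.z_mem]
  simpa using mul_mem h hc

/-- Commutators in `C(z)` lie in `H0`. -/
theorem comm_mem_H0 {a b : G} (ha : a * z = z * a) (hb : b * z = z * b) :
    a * b * a⁻¹ * b⁻¹ ∈ H0 z π E := by
  have ha' : a⁻¹ * z = z * a⁻¹ := (Commute.inv_left (show Commute a z from ha)).eq
  have hb' : b⁻¹ * z = z * b⁻¹ := (Commute.inv_left (show Commute b z from hb)).eq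
  have h1 : (a * b) * z = z * (a * b) := ((show Commute a z from ha).mul_left (show Commute b z from hb)).eq
  have h2 : (a * b * a⁻¹) * z = z * (a * b * a⁻¹) :=
    ((show Commute (a * b) z from h1).mul_left (show Commute a⁻¹ z from ha')).eq
  rw [J.mem_of_mul_mem h2 hb', inv_mem_iff, J.mem_of_mul_mem h1 ha', inv_mem_iff,
    J.mem_of_mul_mem ha hb]
  tauto

/-- A subgroup of `C(z)` meets `H0` in index at most two. -/
theorem card_le_H0 {S : Subgroup G} (hS : ∀ x ∈ S, x * z = z * x) :
    Nat.card S ≤ 2 * Nat.card ↥(S ⊓ H0 z π E) := by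
  by_cases h : S ≤ H0 z π E
  · rw [inf_eq_left.2 h]; omega
  obtain ⟨a, ha, haH⟩ := SetLike.not_le_iff_exists.1 h
  have h2 : ((S ⊓ H0 z π E).subgroupOf S).index = 2 := by
    rw [Subgroup.index_eq_two_iff]
    refine ⟨⟨a, ha⟩, fun b => ?_⟩
    simp only [Subgroup.mem_subgroupOf, Subgroup.mem_inf, Subgroup.coe_mul, SetLike.coe_mem, true_and,
      mul_mem b.2 ha, J.mem_of_mul_mem (hS _ b.2) (hS a ha)]
    unfold Xor
    tauto
  have := ((S ⊓ H0 z π E).subgroupOf S).card_mul_index
  rw [h2, Nat.card_congr (Subgroup.subgroupOfEquivOfLe (inf_le_left : S ⊓ H0 z π E ≤ S)).toEquiv] at this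
  omega

end Ctx

/-- If the conjugates of `d` under `S` lie in two values, half of `S` centralizes `d`. -/
theorem card_le_two_mul_centralizer {S : Subgroup G} {d d' : G}
    (h : ∀ x ∈ S, x * d * x⁻¹ = d ∨ x * d * x⁻¹ = d') :
    Nat.card S ≤ 2 * Nat.card ↥(S ⊓ Subgroup.centralizer ({d} : Set G)) := by
  set T := S ⊓ Subgroup.centralizer ({d} : Set G) with hT
  by_cases hle : S ≤ T
  · have h' : Nat.card S ≤ Nat.card T := Subgroup.card_le_of_le hle
    omega
  obtain ⟨a, ha, haT⟩ := SetLike.not_le_iff_exists.1 hle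
  have hmem : ∀ x ∈ S, x ∈ T ↔ x * d * x⁻¹ = d := fun x hx => by
    rw [Subgroup.mem_inf, Subgroup.mem_centralizer_singleton_iff, mul_inv_eq_iff_eq_mul]
    exact ⟨fun h => h.2, fun h => ⟨hx, h⟩⟩
  have hadn : a * d * a⁻¹ ≠ d := fun e => haT ((hmem a ha).2 e)
  have had : a * d * a⁻¹ = d' := (h a ha).resolve_left hadn
  have hai : a⁻¹ * d * a ≠ d := fun e => hadn (by
    calc a * d * a⁻¹ = a * (a⁻¹ * d * a) * a⁻¹ := by rw [e]
      _ = d := by group)
  have h2 : (T.subgroupOf S).index = 2 := by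
    rw [Subgroup.index_eq_two_iff]
    refine ⟨⟨a⁻¹, inv_mem ha⟩, fun b => ?_⟩
    simp only [Subgroup.mem_subgroupOf, Subgroup.coe_mul, hmem _ b.2, hmem _ (mul_mem b.2 (inv_mem ha))]
    rcases h b b.2 with hb | hb
    · refine Or.inr ⟨hb, fun e => hai ?_⟩
      have : (b : G) * (a⁻¹ * d * a) * (b : G)⁻¹ = (b : G) * d * (b : G)⁻¹ := by
        rw [hb]
        calc (b : G) * (a⁻¹ * d * a) * (b : G)⁻¹ = (b : G) * a⁻¹ * d * ((b : G) * a⁻¹)⁻¹ := by group
          _ = d := e
      exact mul_left_cancel (mul_right_cancel this)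
    · by_cases hd : d' = d
      · exact absurd (had.trans hd) hadn
      refine Or.inl ⟨?_, fun e => hd (hb.symm.trans e)⟩
      rcases h _ (mul_mem b.2 (inv_mem ha)) with e | e
      · exact e
      · exfalso
        apply hai
        have : (b : G) * (a⁻¹ * d * a) * (b : G)⁻¹ = (b : G) * d * (b : G)⁻¹ := by
          rw [hb]
          calc (b : G) * (a⁻¹ * d * a) * (b : G)⁻¹ = (b : G) * a⁻¹ * d * ((b : G) * a⁻¹)⁻¹ := by group
            _ = d' := e
        exact mul_left_cancel (mul_right_cancel this)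
  have := (T.subgroupOf S).card_mul_index
  rw [h2, Nat.card_congr (Subgroup.subgroupOfEquivOfLe (inf_le_left : T ≤ S)).toEquiv] at this
  simp only [hT] at this ⊢
  omega

namespace Ctx.Model

variable {J : Ctx M z π E} {g : ℕ → M} {vec : ℕ → G} (Mo : J.Model g vec)
include Mo

/-- Lifts of words. -/
theorem lift {w : List ℕ} (hw : ∀ k ∈ w, k < 5) :
    ∃ c : ↥(CZ z π), J.proj c = (w.map g).prod ∧ Acts z vec (c : G) (wordB MS w) := by
  classical
  choose f hf1 hf2 using fun k : Fin 5 => Mo.gens k k.2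
  let c : ℕ → ↥(CZ z π) := fun k => if h : k < 5 then f ⟨k, h⟩ else 1
  refine ⟨(w.map c).prod, ?_, J.acts_word Mo.coords fun k hk => ?_⟩
  · rw [map_list_prod, List.map_map]
    refine congrArg List.prod (List.map_congr_left fun k hk => ?_)
    simp only [Function.comp_apply, c, dif_pos (hw k hk)]
    exact hf1 ⟨k, hw k hk⟩
  · simp only [c, dif_pos (hw k hk)]
    exact hf2 ⟨k, hw k hk⟩

/-- Conjugating the coordinates by an element of `C(z, π)`. -/
theorem conj (d : ↥(CZ z π)) :
    J.Model (fun k => J.proj d * g k * (J.proj d)⁻¹) (fun n => (d : G) * vec n * (d : G)⁻¹) := by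
  obtain ⟨hdz, hdp⟩ := mem_CZ.1 d.2
  have hdz' : (d : G)⁻¹ * z = z * (d : G)⁻¹ := (Commute.inv_left (show Commute (d : G) z from hdz)).eq
  have hrel : ∀ {a b : G}, Rel z a b → Rel z ((d : G) * a * (d : G)⁻¹) ((d : G) * b * (d : G)⁻¹) :=
    fun h => J.rel_conj hdz h
  have hacts : ∀ {c : G} {B : List ℕ}, Acts z vec c B →
      Acts z (fun n => (d : G) * vec n * (d : G)⁻¹) ((d : G) * c * (d : G)⁻¹) B := by
    intro c B h
    refine ⟨h.1, fun n hn => ?_⟩
    have e := hrel (h.2 n hn)
    convert e using 1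
    group
  refine ⟨⟨fun n hn => J.conjE hdz (Mo.coords.mem n hn), fun m n hm hn => ?_, fun n hn h => ?_,
    fun e he => ?_⟩, ?_, fun k hk => ?_⟩
  · convert hrel (Mo.coords.add m n hm hn) using 1
    group
  · refine Mo.coords.inj n hn ?_
    have e := J.rel_conj hdz' h
    simp only [inv_inv] at e
    rw [show (d : G)⁻¹ * ((d : G) * vec n * (d : G)⁻¹) * d = vec n by group,
      show (d : G)⁻¹ * 1 * d = 1 by group] at e
    exact e
  · obtain ⟨n, hn, h⟩ := Mo.coords.surj _ (J.conjE' hdz he)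
    refine ⟨n, hn, ?_⟩
    have e1 := hrel h
    rwa [show (d : G) * ((d : G)⁻¹ * e * d) * (d : G)⁻¹ = e by group] at e1
  · have := hacts Mo.om
    rwa [show (d : G) * π * (d : G)⁻¹ = π by rw [hdp, mul_inv_cancel_right]] at this
  · obtain ⟨c, hc, hc'⟩ := Mo.gens k hk
    exact ⟨d * c * d⁻¹, by rw [map_mul, map_mul, map_inv, hc], hacts hc'⟩

/-- An element with square in `E` and the image of one of the listed involutions acts by its
matrix. -/
theorem acts_invol (F : Small M) {w : List ℕ} (hw : w ∈ [4] :: (duadW ++ hexW)) {a : G}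
    {c : ↥(CZ z π)} (h : a * (c : G)⁻¹ ∈ E) (ha : a * a ∈ E) (hc : J.proj c = (w.map g).prod) :
    Acts z vec a (wB w) := by
  have hok := invW_ok
  simp only [List.all_eq_true, Bool.and_eq_true, Bool.not_eq_true', beq_iff_eq, decide_eq_true_eq,
    beq_eq_false_iff_ne] at hok
  obtain ⟨⟨⟨-, -⟩, hk5⟩, hall⟩ := hok w hw
  simp only [Bool.or_eq_true, Bool.not_eq_true', beq_eq_false_iff_ne, beq_iff_eq] at hall
  obtain ⟨c₀, hc₀, hA₀⟩ := Mo.lift hk5
  obtain ⟨k, hk, hA⟩ := J.acts_of_proj Mo.coords Mo.om hA₀ (hc.trans hc₀.symm)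
  have hcz := (mem_CZ.1 c.2).1
  have hsq := Mo.coords.acts_mul J hA hcz hA (okB_comp hA.1 hA.1)
  rw [J.part_sq F h ha] at hsq
  have he : comp (sB k (wordB MS w)) (sB k (wordB MS w)) = idB := by
    have hlen : (comp (sB k (wordB MS w)) (sB k (wordB MS w))).length = 12 := by
      have := okB_comp hA.1 hA.1
      simp only [okB, Bool.and_eq_true, beq_iff_eq] at this
      exact this.1
    refine List.ext_getElem (by rw [hlen]; rfl) fun i hi _ => ?_
    rw [hlen] at hi
    have e := Mo.coords.acts_eq J hsq (Mo.coords.acts_one J) (2 ^ i)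
      (lt_of_lt_of_le (Nat.pow_lt_pow_right (by norm_num) hi) (by norm_num))
    rw [ap_pow, ap_pow, List.getD_eq_getElem _ _ (by omega), List.getD_eq_getElem _ _ hi] at e
    exact e
  have hk0 : sB k (wordB MS w) = wB w := (hall k (List.mem_range.2 hk)).resolve_left fun e => e he
  rw [hk0] at hA
  have := Mo.coords.acts_mul_E J hA h hcz
  rwa [show a * (c : G)⁻¹ * (c : G) = a by group] at this

/-- Involutions fix a subspace of dimension eight. -/
theorem card_fx (F : Small M) (hg : g 4 ≠ 1) (hg2 : g 4 * g 4 = 1) :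
    ∀ c ∈ CZ z π, c * c = 1 → c ≠ 1 → c ≠ z → Nat.card (fx z E c) = 2 ^ 9 := by
  intro c hc hc2 hc1 hcz'
  have hp1 : J.proj ⟨c, hc⟩ ≠ 1 := fun h => by
    rcases J.small_of_proj_one h (Or.inl hc2) with e | e
    · exact hc1 e
    · exact hcz' e
  have ho : orderOf (J.proj ⟨c, hc⟩) = 2 := orderOf_eq_prime
    (by rw [pow_two, ← map_mul, show (⟨c, hc⟩ : ↥(CZ z π)) * ⟨c, hc⟩ = 1 from Subtype.ext hc2, map_one]) hp1
  have ho4 : orderOf (g 4) = 2 := orderOf_eq_prime (by rw [pow_two]; exact hg2) hg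
  obtain ⟨m, hm⟩ := isConj_iff.1 (F.invol_conj _ _ ho ho4)
  obtain ⟨d, rfl⟩ := J.proj_surj m
  set c' := d * ⟨c, hc⟩ * d⁻¹ with hc'
  have hc'2 : c' * c' = 1 := by
    calc c' * c' = d * (⟨c, hc⟩ * ⟨c, hc⟩) * d⁻¹ := by rw [hc']; group
      _ = 1 := by rw [show (⟨c, hc⟩ : ↥(CZ z π)) * ⟨c, hc⟩ = 1 from Subtype.ext hc2]; group
  have hA := Mo.acts_invol F (w := [4]) List.mem_cons_self (a := (c' : G)) (c := c')
    (by rw [mul_inv_cancel]; exact one_mem E)
    (by rw [show (c' : G) * c' = 1 from congrArg Subtype.val hc'2]; exact one_mem E)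
    (by rw [hc', map_mul, map_mul, map_inv, hm]; simp)
  have hcard := Mo.coords.card_fx J hA (mem_CZ.1 c'.2).1
  rw [count_y] at hcard
  have hdz := (mem_CZ.1 d.2).1
  have hmap : (fx z E c).map (MulAut.conj (d : G)).toMonoidHom = fx z E (c' : G) := by
    ext x
    rw [Subgroup.mem_map_equiv, J.mem_fx (mem_CZ.1 hc).1, J.mem_fx (mem_CZ.1 c'.2).1, MulAut.conj_symm_apply]
    have hconj : ((c' : ↥(CZ z π)) : G) = (d : G) * c * (d : G)⁻¹ := rfl
    rw [hconj]
    have hdz' : (d : G)⁻¹ * z = z * (d : G)⁻¹ := (Commute.inv_left (show Commute (d : G) z from hdz)).eq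
    constructor
    · rintro ⟨h1, h2⟩
      refine ⟨?_, ?_⟩
      · have := J.conjE hdz h1
        rwa [show (d : G) * ((d : G)⁻¹ * x * d) * (d : G)⁻¹ = x by group] at this
      · have := J.rel_conj hdz h2
        convert this using 1 <;> group
    · rintro ⟨h1, h2⟩
      refine ⟨J.conjE' hdz h1, ?_⟩
      have := J.rel_conj hdz' h2
      convert this using 1 <;> group
  rw [← hmap, Subgroup.card_map_of_injective (MulAut.conj (d : G)).injective] at hcard
  omega

end Ctx.Model

end CfsgLib.JFour
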