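import Mathlib

/-!
# Binary linear maps given by their columns

A map on vectors packed as natural numbers is given by the list of images of the unit vectors.
-/

set_option autoImplicit false

namespace CfsgLib.JFour

/-- Application of a column list. -/
def ap : List ℕ → ℕ → ℕ
  | [], _ => 0
  | b :: B, n => cond (n % 2 == 1) (Nat.xor b (ap B (n / 2))) (ap B (n / 2))

/-- The composite, first `C` then `B`. -/
def comp (B C : List ℕ) : List ℕ := C.map (ap B)

/-- The identity on twelve coordinates. -/
def idB : List ℕ := [1, 2, 4, 8, 16, 32, 64, 128, 256, 512, 1024, 2048]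

/-- A block diagonal map, given by three maps of four coordinates. -/
def blk (X Y W : List ℕ) : List ℕ := X ++ Y.map (· * 16) ++ W.map (· * 256)

/-- The image of a word in the column lists `ms`. -/
def wordB (ms : List (List ℕ)) : List ℕ → List ℕ
  | [] => idB
  | k :: w => comp (ms.getD k idB) (wordB ms w)

/-- All columns are vectors of twelve coordinates. -/
def okB (B : List ℕ) : Bool := B.length == 12 && B.all (fun c => decide (c < 4096))

theorem ap_zero : ∀ B : List ℕ, ap B 0 = 0
  | [] => rfl
  | b :: B => by simp [ap, ap_zero B]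

theorem ap_xor : ∀ (B : List ℕ) (m n : ℕ), ap B (m ^^^ n) = ap B m ^^^ ap B n
  | [], _, _ => by simp [ap]
  | b :: B, m, n => by
    have h2 : (m ^^^ n) / 2 = (m / 2) ^^^ (n / 2) := by
      apply Nat.eq_of_testBit_eq
      intro i
      simp [Nat.testBit_div_two]
    have h0 : ((m ^^^ n) % 2 == 1) = ((m % 2 == 1) ^^ (n % 2 == 1)) := by
      have := Nat.testBit_xor m n 0
      simp only [Nat.testBit_zero] at this
      rcases Nat.mod_two_eq_zero_or_one m with hm | hm <;>
        rcases Nat.mod_two_eq_zero_or_one n with hn | hn <;>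
        rcases Nat.mod_two_eq_zero_or_one (m ^^^ n) with hx | hx <;>
        simp_all
    simp only [ap, h2, h0, ap_xor B]
    have hxor : ∀ a c : ℕ, Nat.xor a c = a ^^^ c := fun _ _ => rfl
    cases (m % 2 == 1) <;> cases (n % 2 == 1) <;>
      simp [hxor, Nat.xor_assoc, Nat.xor_comm, Nat.xor_left_comm, Nat.xor_self]

theorem ap_lt : ∀ {B : List ℕ}, (∀ c ∈ B, c < 4096) → ∀ n, ap B n < 4096
  | [], _, _ => by simp [ap]
  | b :: B, h, n => by
    have ih := ap_lt (B := B) (fun c hc => h c (List.mem_cons_of_mem _ hc)) (n / 2)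
    have hb : b < 2 ^ 12 := h b List.mem_cons_self
    simp only [ap]
    cases (n % 2 == 1)
    · exact ih
    · exact Nat.xor_lt_two_pow (n := 12) hb ih

theorem okB_lt {B : List ℕ} (h : okB B = true) (n : ℕ) : ap B n < 4096 := by
  simp only [okB, Bool.and_eq_true, List.all_eq_true, decide_eq_true_eq] at h
  exact ap_lt h.2 n

theorem ap_comp (B : List ℕ) : ∀ (C : List ℕ) (n : ℕ), ap (comp B C) n = ap B (ap C n)
  | [], n => by simp [comp, ap, ap_zero]
  | c :: C, n => by
    have ih := ap_comp B C (n / 2)
    simp only [comp] at ih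
    simp only [comp, List.map_cons, ap]
    cases (n % 2 == 1)
    · simpa using ih
    · simp only [cond_true, ih]
      exact (ap_xor B c (ap C (n / 2))).symm

/-- Two column lists with the same values on the unit vectors agree. -/
theorem ap_ext {B C : List ℕ} {f : ℕ → ℕ} (hf : ∀ m n, m < 4096 → n < 4096 → f (m ^^^ n) = f m ^^^ f n)
    (hB : ∀ i < 12, f (2 ^ i) = ap B (2 ^ i)) (hC : C = B) :
    ∀ n < 4096, f n = ap C n := by
  subst hC
  have h0 : f 0 = 0 := by
    have := hf 0 0 (by norm_num) (by norm_num)
    simp only [Nat.xor_self] at this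
    exact this
  suffices H : ∀ k ≤ 12, ∀ n < 2 ^ k, f n = ap C n from fun n hn => H 12 le_rfl n hn
  intro k
  induction k with
  | zero => intro _ n hn; rw [pow_zero, Nat.lt_one_iff] at hn; rw [hn, h0, ap_zero]
  | succ k ih =>
    intro hk n hn
    by_cases hlt : n < 2 ^ k
    · exact ih (by omega) n hlt
    · have h12 : 2 ^ k < 4096 := by
        calc 2 ^ k < 2 ^ 12 := Nat.pow_lt_pow_right (by norm_num) (by omega)
          _ = 4096 := by norm_num
      have hlow : n ^^^ 2 ^ k < 2 ^ k := by
        apply Nat.lt_pow_two_of_testBit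
        intro i hi
        rw [Nat.testBit_xor, Nat.testBit_two_pow]
        rcases eq_or_lt_of_le hi with rfl | hlt'
        · have hpk : 2 ^ (k + 1) = 2 * 2 ^ k := by rw [pow_succ]; ring
          have : n.testBit k = true := by
            rw [Nat.testBit, Nat.shiftRight_eq_div_pow]
            have h1 : n / 2 ^ k = 1 :=
              Nat.div_eq_of_lt_le (by omega) (by omega)
            simp [h1]
          simp [this]
        · have : n.testBit i = false := Nat.testBit_lt_two_pow (lt_of_lt_of_le hn
            (Nat.pow_le_pow_right (by norm_num) hlt'))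
          simp [this, Nat.ne_of_lt hlt']
      have e : n = (n ^^^ 2 ^ k) ^^^ 2 ^ k := by rw [Nat.xor_assoc, Nat.xor_self, Nat.xor_zero]
      rw [e, hf _ _ (lt_trans hlow h12) h12, ap_xor, ih (by omega) _ hlow, hB k (by omega)]

end CfsgLib.JFour
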