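import Cfsg.Agent.Lib.JFour.Oper
import Cfsg.Agent.Lib.JFour.Lin

/-!
# Coordinates on `E` modulo its centre

`Coords z E vec`: the numbers below `4096` parametrise `E` modulo `⟨z⟩`, with exclusive or matching
multiplication.  `Acts z vec c B`: conjugation by `c` is given by the columns `B`.
-/

set_option autoImplicit false
set_option linter.style.haveILetI false
set_option linter.unusedSectionVars false

open Cfsg

namespace CfsgLib.JFour

variable {G : Type*} [Group G]

/-- Coordinates on `E` modulo the centre. -/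
structure Coords (z : G) (E : Subgroup G) (vec : ℕ → G) : Prop where
  mem : ∀ n, n < 4096 → vec n ∈ E
  add : ∀ m n, m < 4096 → n < 4096 → Rel z (vec (Nat.xor m n)) (vec m * vec n)
  inj : ∀ n, n < 4096 → Rel z (vec n) 1 → n = 0
  surj : ∀ e ∈ E, ∃ n, n < 4096 ∧ Rel z e (vec n)

/-- Conjugation by `c` is given by the columns `B`. -/
def Acts (z : G) (vec : ℕ → G) (c : G) (B : List ℕ) : Prop :=
  okB B = true ∧ ∀ n, n < 4096 → Rel z (c * vec n * c⁻¹) (vec (ap B n))

/-- The product of the generators selected by the bits of `n`. -/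
def vlist : List G → ℕ → G
  | [], _ => 1
  | g :: gs, n => cond (n % 2 == 1) (g * vlist gs (n / 2)) (vlist gs (n / 2))

theorem vlist_mem {A : Subgroup G} : ∀ {gs : List G}, (∀ g ∈ gs, g ∈ A) → ∀ n, vlist gs n ∈ A
  | [], _, _ => one_mem A
  | g :: gs, h, n => by
    have ih := vlist_mem (gs := gs) (fun x hx => h x (List.mem_cons_of_mem _ hx)) (n / 2)
    simp only [vlist]
    cases (n % 2 == 1)
    · exact ih
    · exact A.mul_mem (h g List.mem_cons_self) ih

namespace Ctx

variable [Finite G] {M : Type*} [Group M] {z π : G} {E : Subgroup G} (J : Ctx M z π E)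
include J

theorem rel_swap {a b : G} (ha : a ∈ E) (hb : b ∈ E) : Rel z (a * b) (b * a) := J.comm_val ha hb

theorem rel_sq {a : G} (ha : a ∈ E) : Rel z (a * a) 1 := by
  rcases J.s.sq_cases ha with h | h
  · exact Or.inl h
  · exact Or.inr (by rw [h, mul_one])

theorem rel_cancel {a b : G} (hb : b ∈ E) (h : Rel z (a * b) 1) : Rel z a b := by
  have h' := J.rel_mul (b := 1) (by simp) h (J.rel_refl b⁻¹)
  rw [mul_inv_cancel_right, one_mul] at h'
  exact J.rel_trans h' (J.rel_inv hb)

theorem vlist_xor {gs : List G} (hgs : ∀ g ∈ gs, g ∈ E) (m n : ℕ) :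
    Rel z (vlist gs (Nat.xor m n)) (vlist gs m * vlist gs n) := by
  induction gs generalizing m n with
  | nil => exact Or.inl (one_mul 1).symm
  | cons g gs ih =>
    have hg : g ∈ E := hgs g List.mem_cons_self
    have hrest : ∀ x ∈ gs, x ∈ E := fun x hx => hgs x (List.mem_cons_of_mem _ hx)
    have hh : Nat.xor m n / 2 = Nat.xor (m / 2) (n / 2) := by
      show (m ^^^ n) / 2 = (m / 2) ^^^ (n / 2)
      apply Nat.eq_of_testBit_eq
      intro i
      simp [Nat.testBit_div_two]
    have h0 : (Nat.xor m n % 2 == 1) = ((m % 2 == 1) ^^ (n % 2 == 1)) := by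
      show ((m ^^^ n) % 2 == 1) = _
      have := Nat.testBit_xor m n 0
      simp only [Nat.testBit_zero] at this
      rcases Nat.mod_two_eq_zero_or_one m with hm | hm <;>
        rcases Nat.mod_two_eq_zero_or_one n with hn | hn <;>
        rcases Nat.mod_two_eq_zero_or_one (m ^^^ n) with hx | hx <;>
        simp_all
    have h := ih hrest (m / 2) (n / 2)
    set A := vlist gs (m / 2)
    set B := vlist gs (n / 2)
    have hA : A ∈ E := vlist_mem hrest _
    have hB : B ∈ E := vlist_mem hrest _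
    simp only [vlist, hh, h0]
    cases (m % 2 == 1) <;> cases (n % 2 == 1) <;>
      simp only [Bool.bne_false, Bool.bne_true, Bool.false_bne, Bool.true_bne, Bool.not_true,
        Bool.not_false, cond_true, cond_false]
    · exact h
    · refine J.rel_trans (J.rel_mul (J.s.z_comm hg) (J.rel_refl g) h) ?_
      rw [← mul_assoc, ← mul_assoc]
      exact J.rel_mul (J.s.z_comm (mul_mem hA hg)) (J.rel_swap hg hA) (J.rel_refl B)
    · refine J.rel_trans (J.rel_mul (J.s.z_comm hg) (J.rel_refl g) h) ?_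
      rw [← mul_assoc]
      exact J.rel_refl _
    · refine J.rel_trans h ?_
      have h1 : Rel z (g * A * (g * B)) (A * g * (g * B)) :=
        J.rel_mul (J.s.z_comm (mul_mem hA hg)) (J.rel_swap hg hA) (J.rel_refl _)
      refine J.rel_symm (J.rel_trans h1 ?_)
      rw [show A * g * (g * B) = A * (g * g) * B by group]
      have h2 : Rel z (A * (g * g) * B) (A * 1 * B) :=
        J.rel_mul (J.s.z_comm (by simpa using hA)) (J.rel_mul (J.s.z_comm hA) (J.rel_refl A) (J.rel_sq hg))
          (J.rel_refl B)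
      simpa using h2

/-- A list of twelve independent generators gives coordinates. -/
theorem coords_of_list {gs : List G} (hgs : ∀ g ∈ gs, g ∈ E)
    (hind : ∀ n, n < 4096 → Rel z (vlist gs n) 1 → n = 0) : Coords z E (vlist gs) where
  mem n _ := vlist_mem hgs n
  add m n _ _ := J.vlist_xor hgs m n
  inj := hind
  surj e he := by
    classical
    let f : Fin 4096 × Fin 2 → ↥E := fun p =>
      ⟨z ^ (p.2 : ℕ) * vlist gs p.1, mul_mem (pow_mem J.s.z_mem _) (vlist_mem hgs _)⟩
    have hinj : Function.Injective f := by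
      rintro ⟨m, i⟩ ⟨n, j⟩ h
      have h' : z ^ (i : ℕ) * vlist gs m = z ^ (j : ℕ) * vlist gs n := congrArg Subtype.val h
      have hp : ∀ i : Fin 2, Rel z (z ^ (i : ℕ)) 1 := fun i => by
        fin_cases i
        · exact Or.inl (pow_zero z)
        · exact Or.inr (by simp)
      have hmn : Rel z (vlist gs m) (vlist gs n) := by
        have h1 := J.rel_mul (b := 1) (by simp) (hp i) (J.rel_refl (vlist gs m))
        have h2 := J.rel_mul (b := 1) (by simp) (hp j) (J.rel_refl (vlist gs n))
        rw [one_mul] at h1 h2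
        rw [h'] at h1
        exact J.rel_trans (J.rel_symm h1) h2
      have hmn0 : Nat.xor (m : ℕ) n = 0 := by
        refine hind _ (Nat.xor_lt_two_pow (n := 12) m.2 n.2) ?_
        refine J.rel_trans (J.vlist_xor hgs _ _) ?_
        exact J.rel_trans (J.rel_mul (J.s.z_comm (vlist_mem hgs _)) hmn (J.rel_refl _))
          (J.rel_sq (vlist_mem hgs _))
      have e1 : m = n := Fin.ext (Nat.xor_eq_zero_iff.1 hmn0)
      subst e1
      have h2 := mul_right_cancel h'
      refine Prod.ext rfl ?_
      fin_cases i <;> fin_cases j <;> simp at h2 ⊢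
      · exact J.z_ne h2.symm
      · exact J.z_ne h2
    haveI : Fintype ↥E := Fintype.ofFinite _
    have hbij : Function.Bijective f :=
      (Fintype.bijective_iff_injective_and_card f).2 ⟨hinj, by
        rw [← Nat.card_eq_fintype_card (α := ↥E), J.cardE]; simp⟩
    obtain ⟨⟨m, i⟩, hm⟩ := hbij.2 ⟨e, he⟩
    refine ⟨m, m.2, ?_⟩
    have hm' : z ^ (i : ℕ) * vlist gs m = e := congrArg Subtype.val hm
    rw [← hm']
    fin_cases i
    · exact Or.inl (by simp)
    · exact Or.inr (by simp)

end Ctx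

namespace Coords

variable [Finite G] {M : Type*} [Group M] {z π : G} {E : Subgroup G} {vec : ℕ → G}
  (V : Coords z E vec) (J : Ctx M z π E)
include V J

theorem rel_iff {m n : ℕ} (hm : m < 4096) (hn : n < 4096) : Rel z (vec m) (vec n) ↔ m = n := by
  refine ⟨fun h => ?_, fun h => h ▸ J.rel_refl _⟩
  apply Nat.xor_eq_zero_iff.1
  refine V.inj _ (Nat.xor_lt_two_pow (n := 12) hm hn) ?_
  refine J.rel_trans (V.add m n hm hn) ?_
  exact J.rel_trans (J.rel_mul (J.s.z_comm (V.mem n hn)) h (J.rel_refl _)) (J.rel_sq (V.mem n hn))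

theorem rel_zero : Rel z (vec 0) 1 := by
  have h : Rel z (vec 0) (vec 0 * vec 0) := V.add 0 0 (by norm_num) (by norm_num)
  exact J.rel_trans h (J.rel_sq (V.mem 0 (by norm_num)))

/-- The columns of an element of `C(z)`. -/
theorem exists_acts {c : G} (hc : c * z = z * c) : ∃ B, Acts z vec c B := by
  classical
  have h : ∀ n, n < 4096 → ∃ m, m < 4096 ∧ Rel z (c * vec n * c⁻¹) (vec m) :=
    fun n hn => V.surj _ (J.conjE hc (V.mem n hn))
  choose f hf using h
  let g : ℕ → ℕ := fun n => if hn : n < 4096 then f n hn else 0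
  have hg : ∀ n, n < 4096 → g n < 4096 ∧ Rel z (c * vec n * c⁻¹) (vec (g n)) := fun n hn => by
    simp only [g, dif_pos hn]; exact hf n hn
  have hlin : ∀ m n, m < 4096 → n < 4096 → g (m ^^^ n) = g m ^^^ g n := by
    intro m n hm hn
    have hmn : m ^^^ n < 4096 := Nat.xor_lt_two_pow (n := 12) hm hn
    have hg' : g m ^^^ g n < 4096 := Nat.xor_lt_two_pow (n := 12) (hg m hm).1 (hg n hn).1
    refine (V.rel_iff J (hg _ hmn).1 hg').1 ?_
    refine J.rel_trans (J.rel_symm (hg _ hmn).2) ?_
    refine J.rel_trans (J.rel_conj hc (V.add m n hm hn)) ?_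
    rw [show c * (vec m * vec n) * c⁻¹ = c * vec m * c⁻¹ * (c * vec n * c⁻¹) by group]
    exact J.rel_trans (J.rel_mul (J.s.z_comm (V.mem _ (hg m hm).1)) (hg m hm).2 (hg n hn).2)
      (J.rel_symm (V.add _ _ (hg m hm).1 (hg n hn).1))
  refine ⟨(List.range 12).map fun i => g (2 ^ i), ?_, fun n hn => ?_⟩
  · simp only [okB, List.length_map, List.length_range, beq_self_eq_true, Bool.true_and,
      List.all_eq_true, decide_eq_true_eq, List.mem_map, List.mem_range]
    rintro _ ⟨i, hi, rfl⟩
    refine (hg _ ?_).1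
    exact Nat.pow_lt_pow_right (by norm_num) (show i < 12 by omega)
  · rw [← ap_ext hlin ?_ rfl n hn]
    · exact (hg n hn).2
    · intro i hi
      interval_cases i <;> simp [ap, List.range_succ, Nat.xor]

theorem acts_one : Acts z vec 1 idB := by
  refine ⟨by decide, fun n hn => ?_⟩
  have : ap idB n = n := by
    refine (ap_ext (f := fun n => n) (fun _ _ _ _ => rfl) ?_ rfl n hn).symm
    intro i hi
    interval_cases i <;> decide
  rw [this]
  exact Or.inl (by group)

theorem acts_mul {c d : G} {B C : List ℕ} (hc : Acts z vec c B) (hcz : c * z = z * c)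
    (hd : Acts z vec d C) (hBC : okB (comp B C) = true) : Acts z vec (c * d) (comp B C) := by
  refine ⟨hBC, fun n hn => ?_⟩
  rw [ap_comp, show c * d * vec n * (c * d)⁻¹ = c * (d * vec n * d⁻¹) * c⁻¹ by group]
  exact J.rel_trans (J.rel_conj hcz (hd.2 n hn)) (hc.2 _ (okB_lt hd.1 n))

theorem acts_eq {c : G} {B C : List ℕ} (h : Acts z vec c B) (h' : Acts z vec c C) :
    ∀ n, n < 4096 → ap B n = ap C n := fun n hn =>
  (V.rel_iff J (okB_lt h.1 n) (okB_lt h'.1 n)).1 (J.rel_trans (J.rel_symm (h.2 n hn)) (h'.2 n hn))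

/-- Elements of `E` act trivially, so a factor from `E` may be dropped. -/
theorem acts_mul_E {c u : G} {B : List ℕ} (h : Acts z vec c B) (hu : u ∈ E) (hcz : c * z = z * c) :
    Acts z vec (u * c) B := by
  refine ⟨h.1, fun n hn => ?_⟩
  rw [show u * c * vec n * (u * c)⁻¹ = u * (c * vec n * c⁻¹) * u⁻¹ by group]
  exact J.rel_trans (J.rel_conj_E hu (J.conjE hcz (V.mem n hn))) (h.2 n hn)

theorem mem_fx_vec {c : G} {B : List ℕ} (h : Acts z vec c B) (hcz : c * z = z * c) {n : ℕ}
    (hn : n < 4096) : vec n ∈ fx z E c ↔ ap B n = n := by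
  rw [J.mem_fx hcz]
  refine ⟨fun h' => (V.rel_iff J (okB_lt h.1 n) hn).1 (J.rel_trans (J.rel_symm (h.2 n hn)) h'.2),
    fun h' => ⟨V.mem n hn, ?_⟩⟩
  have := h.2 n hn
  rwa [h'] at this

/-- The order of a subgroup of `E` containing `z`. -/
theorem card_eq {A : Subgroup G} (hA : A ≤ E) (hz : z ∈ A) (p : ℕ → Bool)
    (hp : ∀ n, n < 4096 → (vec n ∈ A ↔ p n = true)) :
    Nat.card A = 2 * ((List.range 4096).filter p).length := by
  classical
  have hnd : ((List.range 4096).filter p).Nodup := List.nodup_range.filter _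
  have hcard : ((List.range 4096).filter p).length = Nat.card {n : Fin 4096 // p n = true} := by
    rw [Nat.card_eq_fintype_card, Fintype.card_subtype, ← List.toFinset_card_of_nodup hnd]
    refine Finset.card_bij (fun n hn => ⟨n, List.mem_range.1 (List.mem_filter.1 (List.mem_toFinset.1 hn)).1⟩)
      ?_ ?_ ?_
    · intro n hn
      simp only [Finset.mem_filter, Finset.mem_univ, true_and]
      exact (List.mem_filter.1 (List.mem_toFinset.1 hn)).2
    · intro m _ n _ h
      exact congrArg Fin.val h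
    · intro n hn
      simp only [Finset.mem_filter, Finset.mem_univ, true_and] at hn
      exact ⟨n.val, List.mem_toFinset.2 (List.mem_filter.2 ⟨List.mem_range.2 n.2, hn⟩), rfl⟩
  rw [hcard, show 2 * Nat.card {n : Fin 4096 // p n = true} =
      Nat.card (Fin 2 × {n : Fin 4096 // p n = true}) by
    rw [Nat.card_prod, Nat.card_eq_fintype_card (α := Fin 2), Fintype.card_fin]]
  refine (Nat.card_congr (Equiv.ofBijective (fun q : Fin 2 × {n : Fin 4096 // p n = true} =>
    (⟨z ^ (q.1 : ℕ) * vec q.2.1, mul_mem (pow_mem hz _) ((hp _ q.2.1.2).2 q.2.2)⟩ : ↥A)) ⟨?_, ?_⟩)).symm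
  · rintro ⟨i, m⟩ ⟨j, n⟩ h
    have h' : z ^ (i : ℕ) * vec m.1 = z ^ (j : ℕ) * vec n.1 := congrArg Subtype.val h
    have hp' : ∀ i : Fin 2, Rel z (z ^ (i : ℕ)) 1 := fun i => by
      fin_cases i
      · exact Or.inl (pow_zero z)
      · exact Or.inr (by simp)
    have hmn : Rel z (vec m.1) (vec n.1) := by
      have h1 := J.rel_mul (b := 1) (by simp) (hp' i) (J.rel_refl (vec m.1))
      have h2 := J.rel_mul (b := 1) (by simp) (hp' j) (J.rel_refl (vec n.1))
      rw [one_mul] at h1 h2
      rw [h'] at h1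
      exact J.rel_trans (J.rel_symm h1) h2
    have e1 : m = n := Subtype.ext (Fin.ext ((V.rel_iff J m.1.2 n.1.2).1 hmn))
    subst e1
    have h2 := mul_right_cancel h'
    refine Prod.ext ?_ rfl
    fin_cases i <;> fin_cases j <;> simp at h2 ⊢
    · exact J.z_ne h2.symm
    · exact J.z_ne h2
  · rintro ⟨a, ha⟩
    obtain ⟨n, hn, hr⟩ := V.surj a (hA ha)
    have hmem : p n = true := (hp n hn).1 (by
      rcases J.rel_symm hr with k | k <;> rw [k]
      · exact ha
      · exact mul_mem hz ha)
    rcases hr with k | k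
    · exact ⟨⟨0, ⟨⟨n, hn⟩, hmem⟩⟩, Subtype.ext (by simp [k])⟩
    · exact ⟨⟨1, ⟨⟨n, hn⟩, hmem⟩⟩, Subtype.ext (by simp [k])⟩

theorem card_fx {c : G} {B : List ℕ} (h : Acts z vec c B) (hcz : c * z = z * c) :
    Nat.card (fx z E c) = 2 * ((List.range 4096).filter fun n => ap B n == n).length :=
  V.card_eq J (J.fx_le hcz) (J.z_mem_fx hcz) _ fun n hn => by
    rw [V.mem_fx_vec J h hcz hn, beq_iff_eq]

end Coords

end CfsgLib.JFour
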