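import Cfsg.Agent.Lib.JFour.Cent

/-!
# The centralizer of `π` lies in `C(z)`

The conjugates of `z` in `C(π)` commuting with `z` are trivial, so `C(π)` is an odd core times
`C(z, π)`, and a four group with small centralizers shows that the core is `⟨π⟩`.
-/

set_option autoImplicit false
set_option maxRecDepth 100000
set_option linter.style.haveILetI false
set_option linter.unusedSectionVars false

open Cfsg
open scoped commutatorElement

namespace CfsgLib.JFour

variable {G : Type*} [Group G] [Finite G] {M : Type*} [Group M] [Finite M] {z π : G} {E : Subgroup G}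

theorem Small.center_eq_one (F : Small M) {m : M} (h : ∀ x : M, x * m = m * x) : m = 1 := by
  haveI := F.simple
  rcases (inferInstance : (Subgroup.center M).Normal).eq_bot_or_eq_top with hc | hc
  · exact Subgroup.mem_bot.1 (hc ▸ Subgroup.mem_center_iff.2 h)
  · exfalso
    obtain ⟨a, -, -, ha, -, -, -, -, -, ha1, -⟩ := F.cube
    haveI := Fact.mk Nat.prime_two
    have ho : orderOf a = 2 := orderOf_eq_prime (by rw [pow_two, ha]) ha1
    have h384 := F.card_invol a ho
    rw [show Subgroup.centralizer ({a} : Set M) = ⊤ from eq_top_iff.2 fun x _ =>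
      Subgroup.mem_centralizer_singleton_iff.2
        (Subgroup.mem_center_iff.1 (hc.ge (Subgroup.mem_top a)) x), Subgroup.card_top, F.card] at h384
    norm_num at h384

theorem Small.derived_eq_top (F : Small M) : ⁅(⊤ : Subgroup M), (⊤ : Subgroup M)⁆ = ⊤ := by
  haveI := F.simple
  rcases (inferInstance : (⁅(⊤ : Subgroup M), (⊤ : Subgroup M)⁆).Normal).eq_bot_or_eq_top with h | h
  · exfalso
    obtain ⟨a, -, -, -, -, -, -, -, -, ha1, -⟩ := F.cube
    refine ha1 (F.center_eq_one fun x => ?_)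
    have h1 := Subgroup.mem_bot.1
      (h ▸ Subgroup.commutator_mem_commutator (Subgroup.mem_top x) (Subgroup.mem_top a))
    exact commutatorElement_eq_one_iff_mul_comm.1 h1
  · exact h

theorem Small.normal_odd (F : Small M) {S : Subgroup M} (hS : S.Normal) (hodd : Odd (Nat.card S)) :
    S = ⊥ := by
  haveI := F.simple
  rcases hS.eq_bot_or_eq_top with h | h
  · exact h
  · exfalso
    rw [h, Subgroup.card_top, F.card] at hodd
    exact absurd hodd (by decide)

namespace Ctx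

variable (J : Ctx M z π E)
include J

/-- Some conjugate of `z` other than `z` lies in `C(z, π)`. -/
theorem exists_conj_CZ [IsSimpleGroup G] (hG : ¬ IsMulCommutative G) (F : Small M) {g : ℕ → M}
    {vec : ℕ → G} (Mo : J.Model g vec) (T : Tables M g)
    (hdim : ∀ c ∈ CZ z π, c * c = 1 → c ≠ 1 → c ≠ z → Nat.card (fx z E c) = 2 ^ 9) :
    ∃ k : G, k * z * k⁻¹ ∈ CZ z π ∧ k * z * k⁻¹ ≠ z := by
  obtain ⟨k, hk, hne⟩ := J.exists_inner hG
  obtain ⟨k, hne, hk | hk⟩ := J.inner_cases F hdim hk hne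
  · obtain ⟨k', h1, h2⟩ := J.exists_conj_CZ_of_E F Mo T hdim hk hne
    exact ⟨k', h2, h1⟩
  · exact ⟨k, hk, hne⟩

/-- `C(z, π)` is perfect once `z` lies in its derived group. -/
theorem CZ_perfect (F : Small M) (hz : z ∈ ⁅CZ z π, CZ z π⁆) : ⁅CZ z π, CZ z π⁆ = CZ z π := by
  refine le_antisymm (Subgroup.commutator_le.2 fun s hs t ht =>
    mul_mem (mul_mem (mul_mem hs ht) (inv_mem hs)) (inv_mem ht)) fun c hc => ?_
  have htop : (⁅(⊤ : Subgroup ↥(CZ z π)), (⊤ : Subgroup ↥(CZ z π))⁆).map J.proj = ⊤ := by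
    rw [Subgroup.map_commutator, ← MonoidHom.range_eq_map, MonoidHom.range_eq_top.2 J.proj_surj,
      F.derived_eq_top]
  obtain ⟨d, hd, hdc⟩ := htop.ge (Subgroup.mem_top (J.proj ⟨c, hc⟩))
  have hdD : (d : G) ∈ ⁅CZ z π, CZ z π⁆ := by
    have h1 : (d : G) ∈ (⁅(⊤ : Subgroup ↥(CZ z π)), (⊤ : Subgroup ↥(CZ z π))⁆).map (CZ z π).subtype :=
      ⟨d, hd, rfl⟩
    rwa [Subgroup.map_commutator, ← MonoidHom.range_eq_map, Subgroup.range_subtype] at h1
  obtain ⟨u, -, hu, k, -, he⟩ := J.exists_pow' (c := ⟨c, hc⟩ * d⁻¹)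
    (by rw [map_mul, map_inv, hdc, mul_inv_cancel])
  simp only [Subgroup.coe_mul, InvMemClass.coe_inv] at he
  rw [show c = u * π ^ k * (d : G) by rw [← he]; group]
  refine mul_mem (mul_mem ?_ (pow_mem J.derived k)) hdD
  rcases hu with e | e <;> rw [e]
  exacts [one_mem _, hz]

/-- The centralizer of `π` lies in `C(z)`. -/
theorem cent_pi_le (F : Small M) {g : ℕ → M} (T : Tables M g)
    (hdim : ∀ c ∈ CZ z π, c * c = 1 → c ≠ 1 → c ≠ z → Nat.card (fx z E c) = 2 ^ 9)
    {a b : ↥(CZ z π)} (P : J.IsPair a b) {w h : G} (hw : w ∈ CZ z π) (hwne : w ≠ z)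
    (hh : h * z * h⁻¹ = w) (hha : h * (a : G) * h⁻¹ = π) :
    z ∈ ⁅CZ z π, CZ z π⁆ ∧ Subgroup.centralizer ({π} : Set G) = CZ z π := by
  classical
  obtain ⟨heq, hcard, hzD⟩ := J.cent_facts F T P hw hwne hh hha
  have hzC : z ∈ ⁅CZ z π, CZ z π⁆ := by
    refine Subgroup.commutator_mono ?_ ?_ hzD <;> exact heq.le.trans inf_le_left
  refine ⟨hzC, le_antisymm ?_ inf_le_right⟩
  set X := Subgroup.centralizer ({π} : Set G) with hX
  have hzX : z ∈ X := Subgroup.mem_centralizer_singleton_iff.2 J.piz.symm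
  have hπX : π ∈ X := Subgroup.mem_centralizer_singleton_iff.2 rfl
  obtain ⟨hwz, hwπ⟩ := mem_CZ.1 hw
  have hwX : w ∈ X := Subgroup.mem_centralizer_singleton_iff.2 hwπ
  -- `z` is isolated in `X`
  obtain ⟨N, hN, hodd, hcom⟩ := exists_fused_or_core (G := ↥X) (z := ⟨z, hzX⟩)
    (by rw [Subgroup.orderOf_mk]; exact J.s.ordz) (fun k hk => by
      by_contra hne
      have hkπ : (k : G) * π = π * k := Subgroup.mem_centralizer_singleton_iff.1 k.2
      have hv : (k : G) * z * (k : G)⁻¹ ∈ CZ z π := by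
        refine mem_CZ.2 ⟨congrArg Subtype.val hk, ?_⟩
        calc (k : G) * z * (k : G)⁻¹ * π = (k : G) * z * ((k : G)⁻¹ * π) := by group
          _ = (k : G) * (z * π) * (k : G)⁻¹ := by
            rw [(Commute.inv_left (show Commute (k : G) π from hkπ)).eq]; group
          _ = ((k : G) * π) * z * (k : G)⁻¹ := by rw [← J.piz]; group
          _ = _ := by rw [hkπ]; group
      have hvne : (k : G) * z * (k : G)⁻¹ ≠ z := fun e => hne (Subtype.ext e)
      obtain ⟨h', hh', hha'⟩ := J.exists_h F hdim P hv hvne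
      obtain ⟨-, hc', -⟩ := J.cent_facts F T P hv hvne hh' hha'
      have hle : (CZ z π).map (MulAut.conj (k : G)).toMonoidHom ≤ C2 ((k : G) * z * (k : G)⁻¹) π := by
        rintro _ ⟨c, hc, rfl⟩
        obtain ⟨h1, h2⟩ := mem_CZ.1 hc
        refine mem_C2.2 ⟨?_, ?_⟩
        · show (k : G) * c * (k : G)⁻¹ * ((k : G) * z * (k : G)⁻¹) =
            (k : G) * z * (k : G)⁻¹ * ((k : G) * c * (k : G)⁻¹)
          calc (k : G) * c * (k : G)⁻¹ * ((k : G) * z * (k : G)⁻¹) = (k : G) * (c * z) * (k : G)⁻¹ := by group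
            _ = _ := by rw [h1]; group
        · show (k : G) * c * (k : G)⁻¹ * π = π * ((k : G) * c * (k : G)⁻¹)
          exact (((show Commute (k : G) π from hkπ).mul_left (show Commute c π from h2)).mul_left
            (show Commute (k : G) π from hkπ).inv_left).eq
      have := Subgroup.card_le_of_le hle
      rw [Subgroup.card_map_of_injective (K := CZ z π) (f := (MulAut.conj (k : G)).toMonoidHom)
        (MulAut.conj (k : G)).injective, J.card_CZ F.card, hc'] at this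
      omega)
  haveI := hN
  set N0 := N.map X.subtype with hN0
  have hN0odd : Odd (Nat.card N0) := by
    rw [hN0, Subgroup.card_map_of_injective X.subtype_injective]; exact hodd
  have hN0X : N0 ≤ X := Subgroup.map_subtype_le _
  have hN0norm : ∀ x ∈ X, ∀ n ∈ N0, x * n * x⁻¹ ∈ N0 := by
    rintro x hx _ ⟨n, hn, rfl⟩
    exact ⟨_, hN.conj_mem n hn ⟨x, hx⟩, rfl⟩
  -- the core meets `C(z, π)` in powers of `π`
  have hmeet : ∀ n ∈ N0, n ∈ CZ z π → ∃ k, n = π ^ k := by
    intro n hn hnC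
    set R := (N0.subgroupOf (CZ z π)).map J.proj with hR
    have hRn : R.Normal := by
      refine Subgroup.Normal.map ⟨fun r hr c => ?_⟩ J.proj J.proj_surj
      exact hN0norm _ (inf_le_right (a := Subgroup.centralizer ({z} : Set G)) c.2) _ hr
    have hRodd : Odd (Nat.card R) := by
      refine Odd.of_dvd_nat ?_ (Subgroup.card_map_dvd (H := N0.subgroupOf (CZ z π)) J.proj)
      have := Subgroup.card_comap_dvd_of_injective N0 (CZ z π).subtype (CZ z π).subtype_injective
      exact hN0odd.of_dvd_nat this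
    have h1 : J.proj ⟨n, hnC⟩ = 1 :=
      Subgroup.mem_bot.1 (F.normal_odd hRn hRodd ▸ ⟨⟨n, hnC⟩, hn, rfl⟩)
    obtain ⟨u, -, hu, k, -, he⟩ := J.exists_pow' h1
    refine ⟨k, ?_⟩
    rcases hu with e | e
    · simpa [e] using he
    exfalso
    change n = u * π ^ k at he
    rw [e] at he
    have hn3 : n ^ 3 = z := by
      rw [he, (show Commute z (π ^ k) from ((show Commute π z from J.piz).pow_left k).symm).mul_pow,
        ← pow_mul, mul_comm k, pow_mul, J.pi_pow_three, one_pow, mul_one, pow_succ, pow_two, J.zz, one_mul]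
    have hzN : z ∈ N0 := hn3 ▸ pow_mem hn 3
    have h2 := orderOf_dvd_natCard (G := ↥N0) ⟨z, hzN⟩
    rw [Subgroup.orderOf_mk, J.s.ordz] at h2
    have h3 : Odd 2 := hN0odd.of_dvd_nat h2
    exact absurd h3 (by decide)
  have hkill : ∀ (v : G) (k : ℕ), v * π ^ k * π ^ k = v → π ^ k = 1 := by
    intro v k h
    have h2 : π ^ k * π ^ k = 1 := by rwa [mul_assoc, mul_eq_left] at h
    have h3 : (π ^ k) ^ 3 = 1 := by rw [← pow_mul, mul_comm, pow_mul, J.pi_pow_three, one_pow]
    rwa [pow_succ, pow_two, h2, one_mul] at h3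
  -- an involution with small centralizer inverts the core modulo `π`
  have hinv : ∀ τ ∈ X, τ * τ = 1 → (∀ n ∈ N0, n * τ = τ * n → ∃ k, n = π ^ k) →
      ∀ n ∈ N0, ∃ k, τ * n * τ⁻¹ = n⁻¹ * π ^ k := by
    intro τ hτ hτ2 hfix n hn
    have hτπ : Commute τ π := Subgroup.mem_centralizer_singleton_iff.1 hτ
    set pX : ↥X := ⟨π, hπX⟩
    haveI : (Subgroup.zpowers pX).Normal := ⟨fun x hx y => by
      obtain ⟨i, rfl⟩ := Subgroup.mem_zpowers_iff.1 hx
      have hc : Commute y pX := Subtype.ext (Subgroup.mem_centralizer_singleton_iff.1 y.2)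
      rw [(hc.zpow_right i).eq, mul_inv_cancel_right]
      exact Subgroup.zpow_mem_zpowers pX i⟩
    set K : Subgroup ↥N := (Subgroup.zpowers pX).subgroupOf N with hK
    let c : ↥N →* ↥N := (MulAut.conjNormal (⟨τ, hτ⟩ : ↥X)).toMonoidHom
    have hcv : ∀ m : ↥N, (((c m : ↥N) : ↥X) : G) = τ * ((m : ↥X) : G) * τ⁻¹ := fun m => rfl
    have hKc : K ≤ K.comap c := fun m hm => by
      show c m ∈ K
      have : c m = m := by
        obtain ⟨i, hi⟩ := Subgroup.mem_zpowers_iff.1 (Subgroup.mem_subgroupOf.1 hm)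
        refine Subtype.ext (Subtype.ext ?_)
        rw [hcv, show ((m : ↥X) : G) = π ^ i by rw [← hi]; rfl, (hτπ.zpow_right i).eq, mul_inv_cancel_right]
      rwa [this]
    let φ : (↥N ⧸ K) →* (↥N ⧸ K) := QuotientGroup.map K K c hKc
    have hpow : ∀ {t : ↥X}, t ∈ Subgroup.zpowers pX → ∃ i : ℕ, (t : G) = π ^ i := fun {t} ht => by
      obtain ⟨i, rfl⟩ := Submonoid.mem_powers_iff _ _ |>.1 (mem_powers_iff_mem_zpowers.2 ht)
      exact ⟨i, rfl⟩
    have hφ : MonoidHom.FixedPointFree φ := fun q hq => by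
      obtain ⟨m, rfl⟩ := QuotientGroup.mk_surjective q
      rw [QuotientGroup.map_mk, QuotientGroup.eq, Subgroup.mem_subgroupOf] at hq
      obtain ⟨i, hi⟩ := hpow hq
      simp only [Subgroup.coe_mul, InvMemClass.coe_inv, hcv] at hi
      have hm1 : τ * ((m : ↥X) : G) * τ⁻¹ = ((m : ↥X) : G) * (π ^ i)⁻¹ := by rw [← hi]; group
      have hm2 : ((m : ↥X) : G) = ((m : ↥X) : G) * (π ^ i)⁻¹ * (π ^ i)⁻¹ := by
        conv_lhs =>
          rw [show ((m : ↥X) : G) = τ * (τ * ((m : ↥X) : G) * τ⁻¹) * τ⁻¹ by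
            rw [show τ⁻¹ = τ from inv_eq_of_mul_eq_one_right hτ2,
              show τ * (τ * ((m : ↥X) : G) * τ) * τ = τ * τ * ((m : ↥X) : G) * (τ * τ) by group, hτ2, one_mul, mul_one]]
        rw [hm1, show τ * (((m : ↥X) : G) * (π ^ i)⁻¹) * τ⁻¹ =
          τ * ((m : ↥X) : G) * τ⁻¹ * (τ * π ^ i * τ⁻¹)⁻¹ by group, hm1, (hτπ.pow_right i).eq,
          mul_inv_cancel_right]
      have hi1 : π ^ i = 1 := hkill (((m : ↥X) : G) * (π ^ i)⁻¹ * (π ^ i)⁻¹) i (by
        rw [inv_mul_cancel_right, inv_mul_cancel_right]; exact hm2)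
      rw [hi1, inv_one, mul_one, mul_inv_eq_iff_eq_mul] at hm1
      obtain ⟨k, hk⟩ := hfix _ ⟨(m : ↥X), m.2, rfl⟩ hm1.symm
      refine (QuotientGroup.eq_one_iff m).2 (Subgroup.mem_subgroupOf.2 ?_)
      rw [show (m : ↥X) = pX ^ k from Subtype.ext (by simpa [pX] using hk)]
      exact Subgroup.npow_mem_zpowers pX k
    have hφ2 : Function.Involutive φ := fun q => by
      obtain ⟨m, rfl⟩ := QuotientGroup.mk_surjective q
      simp only [φ, QuotientGroup.map_mk]
      refine congrArg _ (Subtype.ext (Subtype.ext ?_))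
      rw [hcv, hcv, show τ * (τ * ((m : ↥X) : G) * τ⁻¹) * τ⁻¹ = τ * τ * ((m : ↥X) : G) * (τ * τ)⁻¹ by group,
        hτ2, one_mul, inv_one, mul_one]
    obtain ⟨t, ht, rfl⟩ := hn
    have := congrFun (hφ.coe_eq_inv_of_involutive hφ2) (QuotientGroup.mk (⟨t, ht⟩ : ↥N))
    simp only [φ, QuotientGroup.map_mk, ← QuotientGroup.mk_inv, QuotientGroup.eq,
      Subgroup.mem_subgroupOf] at this
    obtain ⟨i, hi⟩ := hpow (inv_mem this)
    refine ⟨i, ?_⟩
    rw [← hi]
    simp only [Subgroup.coe_mul, InvMemClass.coe_inv, hcv, Subgroup.coe_subtype]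
    group
  have hww : w * w = 1 := by
    rw [← hh]
    calc h * z * h⁻¹ * (h * z * h⁻¹) = h * (z * z) * h⁻¹ := by group
      _ = 1 := by rw [J.zz]; group
  have iz := hinv z hzX J.zz fun n hn hc =>
    hmeet n hn (mem_CZ.2 ⟨hc, Subgroup.mem_centralizer_singleton_iff.1 (hN0X hn)⟩)
  have iw := hinv w hwX hww fun n hn hc =>
    hmeet n hn (Subgroup.mem_inf.1 (heq.le (mem_C2.2 ⟨hc,
      Subgroup.mem_centralizer_singleton_iff.1 (hN0X hn)⟩))).1
  -- `w z` centralizes the core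
  have hwzN : ∀ n ∈ N0, n * (w * z) = w * z * n := by
    intro n hn
    obtain ⟨i, hi⟩ := iz n hn
    obtain ⟨j, hj⟩ := iw n⁻¹ (inv_mem hn)
    have hwpi : Commute w (π ^ i) := (show Commute w π from hwπ).pow_right i
    obtain ⟨l, hl⟩ : ∃ l, w * z * n * (w * z)⁻¹ = n * π ^ l := ⟨j + i, by
      calc w * z * n * (w * z)⁻¹ = w * (z * n * z⁻¹) * w⁻¹ := by group
        _ = (w * n⁻¹ * w⁻¹) * (w * π ^ i * w⁻¹) := by rw [hi]; group
        _ = _ := by rw [hj, hwpi.eq, mul_inv_cancel_right, inv_inv, pow_add, mul_assoc]⟩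
    have hwz2 : w * z * (w * z) = 1 := by
      calc w * z * (w * z) = w * (z * w) * z := by group
        _ = w * w * (z * z) := by rw [← hwz]; group
        _ = 1 := by rw [hww, J.zz, one_mul]
    have hwzπ : Commute (w * z) (π ^ l) :=
      (Commute.mul_left (show Commute w π from hwπ) (show Commute π z from J.piz).symm).pow_right l
    have hl1 : π ^ l = 1 := hkill n l (by
      calc n * π ^ l * π ^ l = w * z * n * (w * z)⁻¹ * (w * z * π ^ l * (w * z)⁻¹) := by
            rw [← hl, hwzπ.eq, mul_inv_cancel_right]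
        _ = w * z * (n * π ^ l) * (w * z)⁻¹ := by group
        _ = w * z * (w * z) * n * ((w * z) * (w * z))⁻¹ := by rw [← hl]; group
        _ = n := by rw [hwz2, one_mul, inv_one, mul_one])
    rw [hl1, mul_one, mul_inv_eq_iff_eq_mul] at hl
    exact hl.symm
  -- hence so does all of `C(z, π)`
  set S := CZ z π ⊓ Subgroup.centralizer (N0 : Set G) with hS
  have hSn : (S.subgroupOf (CZ z π)).Normal := ⟨fun s hs c => by
    refine Subgroup.mem_subgroupOf.2 (Subgroup.mem_inf.2 ⟨(c * s * c⁻¹).2, ?_⟩)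
    refine Subgroup.mem_centralizer_iff.2 fun n hn => ?_
    have hcX : (c : G) ∈ X := inf_le_right (a := Subgroup.centralizer ({z} : Set G)) c.2
    have h1 := hN0norm _ (inv_mem hcX) n hn
    rw [inv_inv] at h1
    have h2 := Subgroup.mem_centralizer_iff.1 (Subgroup.mem_subgroupOf.1 hs).2 _ h1
    simp only [Subgroup.coe_mul, InvMemClass.coe_inv]
    calc n * ((c : G) * s * (c : G)⁻¹) = (c : G) * ((c : G)⁻¹ * n * c * s) * (c : G)⁻¹ := by group
      _ = _ := by rw [h2]; group⟩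
  have hwzS : w * z ∈ S := Subgroup.mem_inf.2
    ⟨mul_mem hw J.z_mem_CZ, Subgroup.mem_centralizer_iff.2 hwzN⟩
  have htop : (S.subgroupOf (CZ z π)).map J.proj = ⊤ := by
    haveI := F.simple
    refine ((Subgroup.Normal.map hSn J.proj J.proj_surj).eq_bot_or_eq_top).resolve_left fun hb => ?_
    have h1 : J.proj ⟨w * z, mul_mem hw J.z_mem_CZ⟩ = 1 :=
      Subgroup.mem_bot.1 (hb ▸ ⟨⟨w * z, mul_mem hw J.z_mem_CZ⟩, hwzS, rfl⟩)
    have h2 : J.proj ⟨w, hw⟩ = 1 := by
      rw [show (⟨w * z, mul_mem hw J.z_mem_CZ⟩ : ↥(CZ z π)) = ⟨w, hw⟩ * ⟨z, J.z_mem_CZ⟩ from rfl,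
        map_mul, J.proj_z, mul_one] at h1
      exact h1
    rcases J.small_of_proj_one h2 (Or.inl hww) with e | e
    · change w = 1 at e
      rw [e, mul_inv_eq_one, mul_eq_left] at hh
      exact J.z_ne hh
    · exact hwne e
  have hsplit : ∀ c ∈ CZ z π, ∃ s ∈ S, ∀ t ∈ CZ z π, Commute (s⁻¹ * c) t := by
    intro c hc
    obtain ⟨s, hs, hsc⟩ := htop.ge (Subgroup.mem_top (J.proj ⟨c, hc⟩))
    obtain ⟨u, -, hu, k, -, he⟩ := J.exists_pow' (c := s⁻¹ * ⟨c, hc⟩)
      (by rw [map_mul, map_inv, hsc, inv_mul_cancel])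
    simp only [Subgroup.coe_mul, InvMemClass.coe_inv] at he
    refine ⟨s, hs, fun t ht => ?_⟩
    rw [he]
    obtain ⟨h1, h2⟩ := mem_CZ.1 ht
    refine Commute.mul_left ?_ ((show Commute π t from h2.symm).pow_left k)
    rcases hu with e | e <;> rw [e]
    exacts [Commute.one_left t, h1.symm]
  have hDS : ⁅CZ z π, CZ z π⁆ ≤ S := Subgroup.commutator_le.2 fun c hc d hd => by
    obtain ⟨s, hs, hsc⟩ := hsplit c hc
    obtain ⟨t, ht, htd⟩ := hsplit d hd
    have hsC : s ∈ CZ z π := hs.1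
    have htC : t ∈ CZ z π := ht.1
    have e1 := hsc d hd
    have e2 := htd s hsC
    have hval : ⁅c, d⁆ = s * t * s⁻¹ * t⁻¹ := by
      rw [commutatorElement_def]
      calc c * d * c⁻¹ * d⁻¹ = s * ((s⁻¹ * c) * d * (s⁻¹ * c)⁻¹) * s⁻¹ * d⁻¹ := by group
        _ = s * d * s⁻¹ * d⁻¹ := by rw [e1.eq, mul_inv_cancel_right]
        _ = s * t * ((t⁻¹ * d) * s⁻¹ * (t⁻¹ * d)⁻¹) * t⁻¹ := by group
        _ = _ := by rw [e2.inv_right.eq, mul_inv_cancel_right]
    rw [hval]
    exact mul_mem (mul_mem (mul_mem hs ht) (inv_mem hs)) (inv_mem ht)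
  -- the core is generated by `π`
  intro x hx
  have hNπ : ∀ n ∈ N0, ∃ k, n = π ^ k := fun n hn =>
    hmeet n hn (mem_CZ.2 ⟨Subgroup.mem_centralizer_iff.1 (Subgroup.mem_inf.1 (hDS hzC)).2 n hn,
      Subgroup.mem_centralizer_singleton_iff.1 (hN0X hn)⟩)
  obtain ⟨k, hk⟩ := hNπ _ ⟨_, hcom ⟨x, hx⟩, rfl⟩
  simp only [Subgroup.coe_subtype, Subgroup.coe_mul, InvMemClass.coe_inv] at hk
  have hxz : z * x * z⁻¹ = π ^ k * x := by rw [← hk]; group
  have hzπ : Commute z (π ^ k) := ((show Commute π z from J.piz).pow_left k).symm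
  have hk1 : π ^ k = 1 := hkill 1 k (by
    have h2 : z * (z * x * z⁻¹) * z⁻¹ = x := by
      calc z * (z * x * z⁻¹) * z⁻¹ = z * z * x * (z * z)⁻¹ := by group
        _ = x := by rw [J.zz, one_mul, inv_one, mul_one]
    rw [hxz, show z * (π ^ k * x) * z⁻¹ = (z * π ^ k * z⁻¹) * (z * x * z⁻¹) by group, hzπ.eq,
      mul_inv_cancel_right, hxz, ← mul_assoc, mul_eq_right] at h2
    rw [one_mul, h2])
  rw [hk1, one_mul, mul_inv_eq_iff_eq_mul] at hxz
  exact mem_CZ.2 ⟨hxz.symm, Subgroup.mem_centralizer_singleton_iff.1 hx⟩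

/-- Elements normalizing `⟨π⟩` centralize `z`. -/
theorem normalizer_le (F : Small M) (hC : Subgroup.centralizer ({π} : Set G) = CZ z π) {k : G}
    (hk : k * π * k⁻¹ = π ∨ k * π * k⁻¹ = π⁻¹) : k * z = z * k := by
  have hmem : ∀ c, c * π = π * c → c ∈ CZ z π := fun c hc =>
    hC.le (Subgroup.mem_centralizer_singleton_iff.2 hc)
  have hnorm : ∀ c, c ∈ CZ z π → k⁻¹ * c * k ∈ CZ z π := fun c hc => by
    have hcp : c * π = π * c := (mem_CZ.1 hc).2
    have hcp' : Commute c (k * π * k⁻¹) := by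
      rcases hk with e | e <;> rw [e]
      exacts [hcp, Commute.inv_right hcp]
    refine hmem _ ?_
    calc k⁻¹ * c * k * π = k⁻¹ * (c * (k * π * k⁻¹)) * k := by group
      _ = _ := by rw [hcp'.eq]; group
  set v := k * z * k⁻¹ with hv
  have hvC : v ∈ CZ z π := by
    refine hmem _ ?_
    have h1 : Commute v (k * π * k⁻¹) := by
      show _ = _
      calc v * (k * π * k⁻¹) = k * (z * π) * k⁻¹ := by rw [hv]; group
        _ = _ := by rw [← J.piz, hv]; group
    rcases hk with e | e <;> rw [e] at h1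
    · exact h1
    · have := h1.inv_right; rwa [inv_inv] at this
  have hcent : ∀ c : ↥(CZ z π), c * ⟨v, hvC⟩ = ⟨v, hvC⟩ * c := fun c => Subtype.ext <| by
    show (c : G) * v = v * c
    have := (mem_CZ.1 (hnorm c c.2)).1
    calc (c : G) * v = k * (k⁻¹ * c * k * z) * k⁻¹ := by rw [hv]; group
      _ = _ := by rw [this, hv]; group
  have h1 : J.proj ⟨v, hvC⟩ = 1 := F.center_eq_one fun m => by
    obtain ⟨c, rfl⟩ := J.proj_surj m
    rw [← map_mul, ← map_mul, hcent]
  have hv2 : v * v = 1 := by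
    rw [hv]
    calc k * z * k⁻¹ * (k * z * k⁻¹) = k * (z * z) * k⁻¹ := by group
      _ = 1 := by rw [J.zz]; group
  rcases J.small_of_proj_one h1 (Or.inl hv2) with e | e
  · change v = 1 at e
    rw [hv, mul_inv_eq_one, mul_eq_left] at e
    exact absurd e J.z_ne
  · change v = z at e
    rw [hv, mul_inv_eq_iff_eq_mul] at e
    exact e

/-- The centre of `C(z, π)` is the kernel of the projection. -/
theorem center_eq (F : Small M) : Subgroup.center ↥(CZ z π) = J.proj.ker := by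
  ext c
  constructor
  · intro hc
    refine F.center_eq_one fun m => ?_
    obtain ⟨d, rfl⟩ := J.proj_surj m
    rw [← map_mul, ← map_mul, Subgroup.mem_center_iff.1 hc d]
  · intro hc
    obtain ⟨u, -, hu, k, -, he⟩ := J.exists_pow' hc
    refine Subgroup.mem_center_iff.2 fun d => Subtype.ext ?_
    show (d : G) * c = c * d
    rw [he]
    obtain ⟨h1, h2⟩ := mem_CZ.1 d.2
    refine (Commute.mul_right ?_ ((show Commute (d : G) π from h2).pow_right k)).eq
    rcases hu with e | e <;> rw [e]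
    exacts [Commute.one_right _, h1]

end Ctx

end CfsgLib.JFour
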