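import Mathlib

/-!
# Data for the rigidity of the six-dimensional module

Column lists for the candidate generators, the relations used, and the words of the witnesses.
-/

set_option autoImplicit false

namespace CfsgLib.JFour

/-- Relations of the five generators. -/
def relList : List (List ℕ) := [
  [0, 0, 0],
  [1, 1, 1],
  [4, 4],
  [2, 2, 2, 2],
  [3, 3, 3, 3],
  [0, 1, 0, 0, 1, 1],
  [2, 0, 2, 2, 2, 1, 1, 0],
  [2, 1, 2, 2, 2, 1, 1, 0, 0],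
  [3, 0, 3, 3, 3, 1],
  [3, 1, 3, 3, 3, 0, 0],
  [4, 0, 4, 0, 0],
  [4, 1, 4, 1, 1, 1, 1, 4, 1],
  [4, 1, 2, 4, 1, 2, 4, 1, 2, 4, 1, 2, 4, 1, 2, 4, 1, 2],
  [2, 3, 4, 1, 2, 3, 4, 1, 2, 3, 4, 1, 2, 3, 4, 1],
  [3, 2, 2, 3]]

/-- Base matrix of the third generator. -/
def m0I : List ℕ := [803, 305, 3212, 1220, 275, 545, 1100, 2180, 785, 290, 3140, 1160]

/-- Its inverse. -/
def m0Iinv : List ℕ := [290, 563, 1160, 2252, 275, 545, 1100, 2180, 530, 803, 2120, 3212]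

/-- Base matrices of the fourth generator, by the two exponents, with inverses. -/
def m0J : List ((ℕ × ℕ) × List ℕ × List ℕ) := [
  ((0, 0), [273, 546, 1092, 2184, 801, 306, 3204, 1224, 561, 786, 2244, 3144], [273, 546, 1092, 2184, 561, 786, 2244, 3144, 801, 306, 3204, 1224]),
  ((0, 1), [546, 819, 2184, 3276, 531, 801, 2124, 3204, 561, 786, 2244, 3144], [291, 561, 1164, 2244, 531, 801, 2124, 3204, 819, 273, 3276, 1092]),
  ((0, 2), [546, 819, 2184, 3276, 801, 306, 3204, 1224, 291, 561, 1164, 2244], [531, 801, 2124, 3204, 819, 273, 3276, 1092, 291, 561, 1164, 2244]),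
  ((1, 0), [786, 291, 3144, 1164, 546, 819, 2184, 3276, 306, 531, 1224, 2124], [819, 273, 3276, 1092, 561, 786, 2244, 3144, 306, 531, 1224, 2124]),
  ((1, 1), [561, 786, 2244, 3144, 546, 819, 2184, 3276, 531, 801, 2124, 3204], [561, 786, 2244, 3144, 306, 531, 1224, 2124, 819, 273, 3276, 1092]),
  ((1, 2), [786, 291, 3144, 1164, 273, 546, 1092, 2184, 531, 801, 2124, 3204], [531, 801, 2124, 3204, 273, 546, 1092, 2184, 786, 291, 3144, 1164]),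
  ((2, 0), [306, 531, 1224, 2124, 786, 291, 3144, 1164, 546, 819, 2184, 3276], [819, 273, 3276, 1092, 786, 291, 3144, 1164, 801, 306, 3204, 1224]),
  ((2, 1), [306, 531, 1224, 2124, 291, 561, 1164, 2244, 273, 546, 1092, 2184], [291, 561, 1164, 2244, 306, 531, 1224, 2124, 273, 546, 1092, 2184]),
  ((2, 2), [801, 306, 3204, 1224, 291, 561, 1164, 2244, 546, 819, 2184, 3276], [801, 306, 3204, 1224, 819, 273, 3276, 1092, 786, 291, 3144, 1164])]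

/-- Changes of basis normalising the third generator. -/
def witI : List (ℕ × List ℕ × List ℕ) := [
  (0, [1, 2, 4, 8], [1, 2, 4, 8]),
  (0, [1, 2, 12, 4], [1, 2, 8, 12]),
  (0, [1, 2, 8, 12], [1, 2, 12, 4]),
  (2, [1, 2, 4, 8], [1, 2, 4, 8]),
  (2, [1, 2, 8, 12], [1, 2, 12, 4]),
  (2, [1, 2, 12, 4], [1, 2, 8, 12]),
  (1, [1, 2, 4, 8], [1, 2, 4, 8]),
  (1, [1, 2, 12, 4], [1, 2, 8, 12]),
  (1, [1, 2, 8, 12], [1, 2, 12, 4]),
  (0, [5, 10, 1, 2], [4, 8, 5, 10]),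
  (1, [7, 9, 3, 1], [8, 12, 5, 10]),
  (2, [6, 11, 2, 3], [12, 4, 5, 10]),
  (0, [4, 8, 1, 2], [4, 8, 1, 2]),
  (2, [7, 9, 2, 3], [12, 4, 9, 14]),
  (1, [6, 11, 3, 1], [8, 12, 13, 6]),
  (2, [4, 8, 2, 3], [12, 4, 1, 2]),
  (1, [5, 10, 3, 1], [8, 12, 9, 14]),
  (0, [7, 9, 1, 2], [4, 8, 13, 6]),
  (1, [4, 8, 3, 1], [8, 12, 1, 2]),
  (2, [5, 10, 2, 3], [12, 4, 13, 6]),
  (0, [6, 11, 1, 2], [4, 8, 9, 14]),
  (1, [6, 11, 2, 3], [12, 4, 5, 10]),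
  (2, [5, 10, 1, 2], [4, 8, 5, 10]),
  (0, [7, 9, 3, 1], [8, 12, 5, 10]),
  (0, [4, 8, 3, 1], [8, 12, 1, 2]),
  (2, [6, 11, 1, 2], [4, 8, 9, 14]),
  (1, [5, 10, 2, 3], [12, 4, 13, 6]),
  (2, [4, 8, 1, 2], [4, 8, 1, 2]),
  (0, [6, 11, 3, 1], [8, 12, 13, 6]),
  (1, [7, 9, 2, 3], [12, 4, 9, 14]),
  (1, [4, 8, 2, 3], [12, 4, 1, 2]),
  (0, [5, 10, 3, 1], [8, 12, 9, 14]),
  (2, [7, 9, 1, 2], [4, 8, 13, 6]),
  (2, [7, 9, 3, 1], [8, 12, 5, 10]),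
  (0, [6, 11, 2, 3], [12, 4, 5, 10]),
  (1, [5, 10, 1, 2], [4, 8, 5, 10]),
  (0, [4, 8, 2, 3], [12, 4, 1, 2]),
  (1, [7, 9, 1, 2], [4, 8, 13, 6]),
  (2, [5, 10, 3, 1], [8, 12, 9, 14]),
  (2, [4, 8, 3, 1], [8, 12, 1, 2]),
  (1, [6, 11, 1, 2], [4, 8, 9, 14]),
  (0, [5, 10, 2, 3], [12, 4, 13, 6]),
  (1, [4, 8, 1, 2], [4, 8, 1, 2]),
  (0, [7, 9, 2, 3], [12, 4, 9, 14]),
  (2, [6, 11, 3, 1], [8, 12, 13, 6])]

/-- The two normal forms of the third generator. -/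
def canI : List (List ℕ) := [
  [803, 305, 3212, 1220, 275, 545, 1100, 2180, 785, 290, 3140, 1160],
  [803, 305, 4015, 1525, 275, 545, 1375, 2725, 785, 290, 3925, 1450]]

/-- Changes of basis normalising the fifth generator. -/
def witY : List (List ℕ × List ℕ) := [
  ([1, 2, 5, 10], [1, 2, 5, 10]),
  ([1, 2, 4, 8], [1, 2, 4, 8]),
  ([1, 2, 7, 9], [1, 2, 7, 9]),
  ([1, 2, 6, 11], [1, 2, 6, 11])]

/-- The normal forms of the five generators. -/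
def MS : List (List ℕ) := [
  [1, 2, 4, 8, 32, 48, 128, 192, 768, 256, 3072, 1024],
  [16, 32, 64, 128, 256, 512, 1024, 2048, 1, 2, 4, 8],
  [803, 305, 4015, 1525, 275, 545, 1375, 2725, 785, 290, 3925, 1450],
  [306, 531, 1530, 2655, 786, 291, 3930, 1455, 546, 819, 2730, 4095],
  [5, 10, 4, 8, 80, 160, 64, 128, 256, 512, 1024, 2048]]

/-- Generators of the elementary subgroup with a small fixed space. -/
def duadW : List (List ℕ) := [
  [4],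
  [0, 2, 2, 1],
  [2, 3, 4, 3, 2],
  [3, 1, 4, 3, 1, 4, 1, 3, 2, 4, 2, 4, 2, 1]]

/-- Generators of the elementary subgroup with a large fixed space. -/
def hexW : List (List ℕ) := [
  [3, 2, 1, 4, 3, 2],
  [1, 3, 4, 2, 4, 2, 4, 3, 2, 2],
  [2, 4, 3, 4, 3, 4, 2, 2, 4, 2, 0],
  [4, 3, 2, 4, 2, 4, 3, 4, 2, 4, 3, 2, 1]]

/-- The common fixed vector. -/
def vFix : ℕ := 76

/-- A word fixing the fixed vector. -/
def gW : List ℕ := [2, 3, 0]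

/-- A word carrying the fixed vector to the witness. -/
def hW : List ℕ := [4, 1, 3, 1, 0]

/-- Words fixing the witness. -/
def fixW : List (List ℕ) := [
  [0, 2, 2, 1],
  [4, 2, 3, 4, 3, 2],
  [3, 1, 4, 3, 1, 4, 1, 3, 2, 4, 2, 4, 2, 1]]

end CfsgLib.JFour
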