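import Cfsg.Agent.Lib.JFour.Cons

/-!
# A conjugate of `z` in `E` yields one in `C(z, π)`

If `w` is a conjugate of `z` in `E`, then the centralizer of `z` in the conjugate `E'` of `E` maps
onto an elementary subgroup of order sixteen of `M` with small fixed space, and a commutator in
`E` outside `E'` becomes an involution of `C(w)` conjugate under `E'` into `C(w, π')`.
-/

set_option autoImplicit false
set_option maxRecDepth 100000
set_option linter.style.haveILetI false
set_option linter.unusedSectionVars false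

open Cfsg

namespace CfsgLib.JFour

variable {G : Type*} [Group G] [Finite G] {M : Type*} [Group M] [Finite M] {z π : G} {E : Subgroup G}

namespace Ctx

variable (J : Ctx M z π E)
include J

/-- An involution of `H0` with large centralizer in `E` is conjugate under `E` into `C(z, π)`. -/
theorem conj_to_CZ (F : Small M)
    (hdim : ∀ c ∈ CZ z π, c * c = 1 → c ≠ 1 → c ≠ z → Nat.card (fx z E c) = 2 ^ 9)
    {d : G} (hd : d ∈ H0 z π E) (hd2 : d * d = 1) (hdE : d ∉ E)
    (hbig : 2 ^ 9 ≤ Nat.card ↥(E ⊓ Subgroup.centralizer ({d} : Set G))) :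
    ∃ u ∈ E, u⁻¹ * d * u ∈ CZ z π := by
  obtain ⟨e, he, c, hc, rfl, hc2, hcr⟩ := J.exists_split F hd hd2
  have hcz := (mem_CZ.1 hc).1
  have hc1 : c ≠ 1 := fun h => hdE (by rw [h, mul_one]; exact he)
  have hcne : c ≠ z := fun h => hdE (by rw [h]; exact mul_mem he J.s.z_mem)
  set C := E ⊓ Subgroup.centralizer ({e * c} : Set G) with hC
  have hmem : ∀ x ∈ C, x ∈ fx z E c ∧ e * x = x * e := by
    intro x hx
    obtain ⟨hxE, hxc⟩ := hx
    replace hxc : x * (e * c) = e * c * x := Subgroup.mem_centralizer_singleton_iff.1 hxc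
    have h1 : c * x * c⁻¹ = e⁻¹ * x * e := by
      calc c * x * c⁻¹ = e⁻¹ * (e * c * x) * c⁻¹ := by group
        _ = _ := by rw [← hxc]; group
    have hxfx : x ∈ fx z E c := (J.mem_fx hcz).2 ⟨hxE, by
      rw [h1]; have := J.rel_conj_E (inv_mem he) hxE; rwa [inv_inv] at this⟩
    refine ⟨hxfx, ?_⟩
    rw [mul_inv_eq_iff_eq_mul.2 (J.comm_of_fx hc hxfx)] at h1
    calc e * x = e * (e⁻¹ * x * e) := by rw [← h1]
      _ = x * e := by group
  have heq : C = fx z E c := Subgroup.eq_of_le_of_card_ge (fun x hx => (hmem x hx).1)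
    ((hdim c hc hc2 hc1 hcne).trans_le hbig)
  have het : e ∈ tc z E c := by
    rw [← J.perp_fx hcz]
    exact mem_perp.2 ⟨he, fun x hx => ((hmem x (heq ▸ hx)).2).symm⟩
  obtain ⟨d, hd', her⟩ := (J.mem_tc hcz).1 het
  have hcd : c * d * c⁻¹ ∈ E := J.conjE hcz hd'
  have hinv : Rel z (c * d * c⁻¹ * d⁻¹) (d * (c * d⁻¹ * c⁻¹)) := by
    refine J.rel_symm ?_
    rw [show d * (c * d⁻¹ * c⁻¹) = (c * d * c⁻¹ * d⁻¹)⁻¹ by group]
    exact J.rel_inv (mul_mem hcd (inv_mem hd'))
  have h1 : Rel z (e * c) (d * c * d⁻¹) := by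
    rw [show d * c * d⁻¹ = d * (c * d⁻¹ * c⁻¹) * c by group]
    exact J.rel_mul (J.s.z_comm (mul_mem hd' (J.conjE hcz (inv_mem hd'))))
      (J.rel_trans her hinv) (J.rel_refl c)
  have hdz : d⁻¹ * z * d = z := by
    rw [mul_assoc, ← J.s.z_comm hd', inv_mul_cancel_left]
  refine ⟨d, hd', ?_⟩
  rcases h1 with k | k <;> rw [k]
  · rw [show d⁻¹ * (d * c * d⁻¹) * d = c by group]; exact hc
  · rw [show d⁻¹ * (z * (d * c * d⁻¹)) * d = (d⁻¹ * z * d) * c by group, hdz]
    exact mul_mem J.z_mem_CZ hc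

/-- The dimension of the fixed spaces passes to conjugates. -/
theorem dim_conj (k : G)
    (hdim : ∀ c ∈ CZ z π, c * c = 1 → c ≠ 1 → c ≠ z → Nat.card (fx z E c) = 2 ^ 9) :
    ∀ c ∈ CZ (k * z * k⁻¹) (k * π * k⁻¹), c * c = 1 → c ≠ 1 → c ≠ k * z * k⁻¹ →
      Nat.card (fx (k * z * k⁻¹) (E.map (MulAut.conj k).toMonoidHom) c) = 2 ^ 9 := by
  intro c hc hc2 hc1 hcz'
  obtain ⟨h1, h2⟩ := mem_CZ.1 hc
  set f := MulAut.conj k
  have hf : ∀ x, f x = k * x * k⁻¹ := fun x => MulAut.conj_apply k x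
  obtain ⟨c₀, rfl⟩ := f.surjective c
  rw [← hf] at h1 h2 hcz' ⊢
  rw [← map_mul, ← map_mul, f.injective.eq_iff] at h1
  rw [← map_mul, ← map_mul, f.injective.eq_iff] at h2
  have h0 := hdim c₀ (mem_CZ.2 ⟨h1, h2⟩) (f.injective (by rw [map_mul, map_one]; exact hc2))
    (fun e => hc1 (by rw [e, map_one])) (fun e => hcz' (by rw [e]))
  have J' := J.conj k
  simp only [← hf] at J'
  rw [← h0, ← Subgroup.card_map_of_injective (K := fx z E c₀) (f := f.toMonoidHom) f.injective]
  congr 2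
  ext x
  obtain ⟨x₀, rfl⟩ := f.surjective x
  rw [J'.mem_fx (by rw [← map_mul, ← map_mul, h1]), Subgroup.mem_map_equiv, Subgroup.mem_map_equiv,
    MulEquiv.symm_apply_apply, J.mem_fx h1]
  simp only [Rel, ← map_mul, ← map_inv, f.injective.eq_iff]

end Ctx

theorem prod_conj {g : ℕ → M} (m : M) (w : List ℕ) :
    (w.map fun k => m * g k * m⁻¹).prod = m * (w.map g).prod * m⁻¹ := by
  have e : (fun k => m * g k * m⁻¹) = (MulAut.conj m) ∘ g := funext fun k => (MulAut.conj_apply m _).symm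
  rw [e, ← List.map_map, ← map_list_prod, MulAut.conj_apply]

theorem gW0_cube {n : ℕ} (hn : n < 4096) : ap gW0 (ap gW0 (ap gW0 n)) = n := by
  rw [← ap_comp, ← ap_comp, show comp (comp gW0 gW0) gW0 = idB by decide, ap_idB hn]

set_option maxHeartbeats 1000000 in
/-- A conjugate of `z` in `E` gives one in `C(z, π)`. -/
theorem Ctx.exists_conj_CZ_of_E (J : Ctx M z π E) (F : Small M) {g : ℕ → M} {vec : ℕ → G}
    (Mo : J.Model g vec) (T : Tables M g)
    (hdim : ∀ c ∈ CZ z π, c * c = 1 → c ≠ 1 → c ≠ z → Nat.card (fx z E c) = 2 ^ 9)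
    {k : G} (hwE : k * z * k⁻¹ ∈ E) (hne : k * z * k⁻¹ ≠ z) :
    ∃ k' : G, k' * z * k'⁻¹ ≠ z ∧ k' * z * k'⁻¹ ∈ CZ z π := by
  classical
  have J' := J.conj k
  have hdim' := J.dim_conj k hdim
  have hzE' := J.s.conj_center_mem hwE hne (by rw [J.cardE]; norm_num)
  obtain ⟨w, hw⟩ : ∃ w, w = k * z * k⁻¹ := ⟨_, rfl⟩
  obtain ⟨E', hE'⟩ : ∃ E', E' = E.map (MulAut.conj k).toMonoidHom := ⟨_, rfl⟩
  rw [← hw] at hwE hne J' hdim'
  rw [← hE'] at hzE' J' hdim'
  have hw1 : w ≠ 1 := J'.z_ne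
  have hw2 : w * w = 1 := J'.zz
  have hzw : z ≠ w := Ne.symm hne
  have hwz : w * z = z * w := J.s.z_comm hwE
  obtain ⟨u₀, hu₀, hu₀w⟩ := J.s.exists_move hwE hw1 hne
  -- the intersection
  set U : Subgroup G := E ⊓ E' with hU
  have hUc : ∀ a ∈ U, ∀ b ∈ U, a * b = b * a := by
    intro a ha b hb
    rcases J.s.comm_cases ha.1 hb.1 with h | h
    · exact mul_inv_eq_iff_eq_mul.1 h
    rcases J'.s.comm_cases ha.2 hb.2 with h' | h'
    · exact mul_inv_eq_iff_eq_mul.1 h'
    · exact absurd (mul_right_cancel (h.symm.trans h')) hzw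
  have hUcard : Nat.card U ≤ 2 ^ 7 := J.card_abelian_le inf_le_left hUc
  have hzU : z ∈ U := ⟨J.s.z_mem, hzE'⟩
  have hwU : w ∈ U := ⟨hwE, J'.s.z_mem⟩
  -- the part of `E'` in `H0`
  set A : Subgroup G := E' ⊓ Subgroup.centralizer ({z} : Set G) ⊓ H0 z π E with hA
  have hAz : ∀ {a : G}, a ∈ A → a * z = z * a := fun {a} ha =>
    Subgroup.mem_centralizer_singleton_iff.1 ha.1.2
  have hAsq : ∀ {a : G}, a ∈ A → a * a ∈ E := fun {a} ha => by
    rcases J'.s.sq_cases ha.1.1 with h | h <;> rw [h]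
    exacts [one_mem E, hwE]
  have hUA : U ≤ A := fun a ha =>
    ⟨⟨ha.2, Subgroup.mem_centralizer_singleton_iff.2 (J.s.z_comm ha.1)⟩, E_le_H0 z π E ha.1⟩
  have hA11 : 2 ^ 11 ≤ Nat.card A := by
    have h1 := card_le_two_mul_centralizer (S := E') (d := z) (d' := w * z)
      fun x hx => J'.s.comm_cases hx hzE'
    have h2 := J.card_le_H0 (S := E' ⊓ Subgroup.centralizer ({z} : Set G))
      fun x hx => Subgroup.mem_centralizer_singleton_iff.1 hx.2
    have h3 : Nat.card E' = 2 ^ 13 := J'.cardE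
    rw [← hA] at h2
    omega
  obtain ⟨ψ, hψ⟩ := J.exists_projH
  let f : ↥A →* M := ψ.comp (Subgroup.inclusion inf_le_right)
  have hfpart : ∀ (a : ↥A) (c : ↥(CZ z π)), (a : G) * (c : G)⁻¹ ∈ E → f a = J.proj c :=
    fun a c h => hψ ⟨a, a.2.2⟩ c h
  have hker : f.ker.map A.subtype ≤ U := by
    rintro _ ⟨a, ha, rfl⟩
    obtain ⟨c, hc⟩ := J.exists_part ⟨a, a.2.2⟩
    exact ⟨J.mem_E_of_part F hc (hAsq a.2) ((hfpart a c hc).symm.trans ha), a.2.1.1⟩
  have hf2 : ∀ x ∈ f.range, x * x = 1 := by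
    rintro _ ⟨a, rfl⟩
    rw [← map_mul, hfpart (a * a) 1 (by simpa using hAsq a.2), map_one]
  have hr16 : Nat.card f.range = 16 := by
    have hc : ∀ x ∈ f.range, ∀ y ∈ f.range, x * y = y * x := by
      intro x hx y hy
      calc x * y = (x * y)⁻¹ := (inv_eq_of_mul_eq_one_right (hf2 _ (mul_mem hx hy))).symm
        _ = y * x := by
          rw [mul_inv_rev, inv_eq_of_mul_eq_one_right (hf2 _ hx), inv_eq_of_mul_eq_one_right (hf2 _ hy)]
    have h1 : Nat.card f.range ≤ 16 := by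
      refine F.abelian _ (fun x => ⟨1, Subtype.ext ?_⟩) hc
      simpa [pow_two] using hf2 _ x.2
    have h2 : Nat.card f.ker ≤ 2 ^ 7 := by
      rw [← Subgroup.card_map_of_injective A.subtype_injective]
      exact (Subgroup.card_le_of_le hker).trans hUcard
    have h3 := f.ker.card_mul_index
    rw [Subgroup.index_ker] at h3
    by_contra hne16
    have := Nat.mul_le_mul h2 (show Nat.card f.range ≤ 15 by omega)
    omega
  have hU7 : Nat.card U = 2 ^ 7 := by
    refine le_antisymm hUcard ?_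
    have h2 : Nat.card f.ker ≤ Nat.card U := by
      rw [← Subgroup.card_map_of_injective A.subtype_injective]
      exact Subgroup.card_le_of_le hker
    have h3 := f.ker.card_mul_index
    rw [Subgroup.index_ker, hr16] at h3
    omega
  obtain ⟨m, W, hW, hrange⟩ := T.e16 f.range hr16 hf2
  obtain ⟨d₀, rfl⟩ := J.proj_surj m
  have Mo₁ := Mo.conj d₀
  obtain ⟨g₁, hg₁⟩ : ∃ g₁ : ℕ → M, g₁ = fun i => J.proj d₀ * g i * (J.proj d₀)⁻¹ := ⟨_, rfl⟩
  rw [← hg₁] at Mo₁
  have hrange₁ : f.range = Subgroup.closure {x | ∃ v ∈ W, x = (v.map g₁).prod} := by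
    rw [hrange, hg₁]
    simp only [prod_conj]
  -- the argument in suitable coordinates
  have key : ∀ (vc : ℕ → G), J.Model g₁ vc → ∀ nw, nw < 4096 → Rel z w (vc nw) →
      ∀ v ∈ W, ∃ a : ↥A, f a = (v.map g₁).prod ∧ Acts z vc (a : G) (wB v) ∧ ap (wB v) nw = nw ∧
        ∀ n < 4096, vc n ∈ U → ap (wB v) n = n ∨ ap (wB v) n = Nat.xor nw n := by
    intro vc Mv nw hnw hwn v hv
    obtain ⟨a, ha⟩ : (v.map g₁).prod ∈ f.range := by
      rw [hrange₁]; exact Subgroup.subset_closure ⟨v, hv, rfl⟩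
    obtain ⟨c, hc⟩ := J.exists_part ⟨a, a.2.2⟩
    have hv' : v ∈ [4] :: (duadW ++ hexW) := by
      simp only [List.mem_cons, List.not_mem_nil, or_false] at hW
      refine List.mem_cons_of_mem _ (List.mem_append.2 ?_)
      rcases hW with rfl | rfl
      exacts [Or.inl hv, Or.inr hv]
    have hact := Mv.acts_invol F hv' (a := (a : G)) hc (hAsq a.2) ((hfpart a c hc).symm.trans ha)
    have haw : (a : G) * w = w * a := J'.s.z_comm a.2.1.1
    refine ⟨a, ha, hact, ?_, fun n hn hnU => ?_⟩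
    · refine (Mv.coords.rel_iff J (okB_lt hact.1 nw) hnw).1 ?_
      refine J.rel_trans (J.rel_symm (hact.2 nw hnw)) ?_
      refine J.rel_trans (J.rel_conj (hAz a.2) (J.rel_symm hwn)) ?_
      rw [haw, mul_inv_cancel_right]
      exact hwn
    · rcases J'.s.comm_cases a.2.1.1 hnU.2 with h | h
      · left
        refine (Mv.coords.rel_iff J (okB_lt hact.1 n) hn).1 ?_
        refine J.rel_trans (J.rel_symm (hact.2 n hn)) ?_
        rw [h]; exact J.rel_refl _
      · right
        refine (Mv.coords.rel_iff J (okB_lt hact.1 n) (Nat.xor_lt_two_pow (n := 12) hnw hn)).1 ?_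
        refine J.rel_trans (J.rel_symm (hact.2 n hn)) ?_
        rw [h]
        exact J.rel_trans (J.rel_mul (J.s.z_comm (Mv.coords.mem nw hnw)) hwn (J.rel_refl _))
          (J.rel_symm (Mv.coords.add nw n hnw hn))
  -- the part centralizing the intersection is the intersection
  have hnoc : ∀ S : Subgroup G, S ≤ A → (∀ x ∈ S, ∀ u ∈ U, u * x = x * u) → Nat.card S ≤ 2 ^ 7 := by
    intro S hS hc
    have h1 : S ≤ perp E' U := fun x hx => mem_perp.2 ⟨(hS hx).1.1, hc x hx⟩
    have h2 := J'.card_mul_perp hwU (inf_le_right : U ≤ E')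
    rw [hU7] at h2
    have := Subgroup.card_le_of_le h1
    omega
  obtain ⟨nw, hnw, hwn⟩ := Mo₁.coords.surj w hwE
  simp only [List.mem_cons, List.not_mem_nil, or_false] at hW
  rcases hW with rfl | rfl
  swap
  · -- the large fixed space
    exfalso
    set S := A ⊓ Subgroup.centralizer (U : Set G) with hS
    have hgen : ∀ v ∈ hexW, (v.map g₁).prod ∈ (S.subgroupOf A).map f := by
      intro v hv
      obtain ⟨a, ha, hact, hafix, hamove⟩ := key _ Mo₁ nw hnw hwn v hv
      refine ⟨a, Subgroup.mem_inf.2 ⟨a.2, Subgroup.mem_centralizer_iff.2 fun x hx => ?_⟩, ha⟩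
      obtain ⟨n, hn, hxn⟩ := Mo₁.coords.surj x hx.1
      have hnU : (fun i => (d₀ : G) * vec i * (d₀ : G)⁻¹) n ∈ U := by
        rcases hxn with e | e
        · show (d₀ : G) * vec n * (d₀ : G)⁻¹ ∈ U
          rw [← e]; exact hx
        · have e' : z * x = (fun i => (d₀ : G) * vec i * (d₀ : G)⁻¹) n := by
            rw [e, ← mul_assoc, J.zz, one_mul]
          exact e' ▸ mul_mem hzU hx
      have hfix : ap (wB v) n = n := by
        have hx' := hex_fix
        simp only [List.all_eq_true, List.mem_range, Bool.or_eq_true, Bool.not_eq_true',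
          ← Bool.not_eq_true, Nat.beq_eq, List.mem_range] at hx'
        rcases hx' n hn with h | h
        · exact h v hv
        · refine absurd (fun v₁ hv₁ v₂ hv₂ => ?_) h
          obtain ⟨-, -, -, -, h1⟩ := key _ Mo₁ nw hnw hwn v₁ hv₁
          obtain ⟨-, -, -, -, h2⟩ := key _ Mo₁ nw hnw hwn v₂ hv₂
          rcases h1 n hn hnU with e1 | e1
          · exact Or.inl (Or.inl (by rw [e1]; exact Nat.xor_self n))
          rcases h2 n hn hnU with e2 | e2
          · exact Or.inl (Or.inr (by rw [e2]; exact Nat.xor_self n))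
          · exact Or.inr (by rw [e1, e2])
      have hxz : x * z = z * x := J.s.z_comm hx.1
      have hrel : Rel z ((a : G) * x * (a : G)⁻¹) x := by
        refine J.rel_trans (J.rel_conj (hAz a.2) hxn) (J.rel_trans (hact.2 n hn) ?_)
        rw [hfix]; exact J.rel_symm hxn
      rcases J'.s.comm_cases a.2.1.1 hx.2 with h | h
      · exact (mul_inv_eq_iff_eq_mul.1 h).symm
      · rw [h] at hrel
        rcases hrel with e | e
        · exact absurd (mul_eq_right.1 e) hw1
        · exact absurd (mul_right_cancel e) hne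
    have hsurj : f.range ≤ (S.subgroupOf A).map f := by
      rw [hrange₁, Subgroup.closure_le]
      rintro _ ⟨v, hv, rfl⟩
      exact hgen v hv
    have h16 : 16 ≤ Nat.card ((S.subgroupOf A).map f) := hr16 ▸ Subgroup.card_le_of_le hsurj
    have hSU : U ≤ S := fun a ha =>
      Subgroup.mem_inf.2 ⟨hUA ha, Subgroup.mem_centralizer_iff.2 fun b hb => hUc b hb a ha⟩
    have h7 := hnoc S inf_le_left fun x hx u hu => Subgroup.mem_centralizer_iff.1 hx.2 u hu
    have heq : U = S := Subgroup.eq_of_le_of_card_ge hSU (by omega)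
    have hbot : (S.subgroupOf A).map f = ⊥ := by
      rw [eq_bot_iff]
      rintro _ ⟨a, ha, rfl⟩
      have haU : (a : G) ∈ U := heq ▸ Subgroup.mem_subgroupOf.1 ha
      rw [Subgroup.mem_bot, hfpart a 1 (by simpa using haU.1), map_one]
    rw [hbot, Subgroup.card_bot] at h16
    omega
  -- the small fixed space; move the fixed vector
  have hfix : ∀ v ∈ duadW, ap (wB v) nw = nw := fun v hv => by
    obtain ⟨-, -, -, h, -⟩ := key _ Mo₁ nw hnw hwn v hv
    exact h
  obtain ⟨vc, Mv, hwv⟩ : ∃ vc, J.Model g₁ vc ∧ Rel z w (vc vFix) := by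
    have hd := duad_fix
    simp only [List.all_eq_true, List.mem_range, Bool.or_eq_true, Bool.not_eq_true', ← Bool.not_eq_true,
      Nat.beq_eq] at hd
    have hπ2 : ∀ n < 4096, Rel z (π * ((d₀ : G) * vec n * (d₀ : G)⁻¹) * π⁻¹)
        ((d₀ : G) * vec (ap gW0 n) * (d₀ : G)⁻¹) := Mo₁.om.2
    let p : ↥(CZ z π) := ⟨π, J.pi_mem_CZ⟩
    have hshift : ∀ (vc : ℕ → G), J.Model g₁ vc → J.Model g₁ (fun n => π * vc n * π⁻¹) := fun vc h => by
      have := h.conj p
      simpa [p, J.proj_pi] using this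
    have hstep : ∀ (vc : ℕ → G) (n : ℕ), J.Model g₁ vc → n < 4096 → Rel z (π * vc n * π⁻¹) (vc (ap gW0 n)) :=
      fun vc n h hn => h.om.2 n hn
    rcases hd nw hnw with (((h | h) | h) | h) | h
    · exact absurd (fun v hv => hfix v hv) h
    · exfalso
      rw [h] at hwn
      rcases J.rel_trans hwn (Mo₁.coords.rel_zero J) with e | e
      · exact hw1 e
      · exact hne (by rw [e, mul_one])
    · exact ⟨_, Mo₁, h ▸ hwn⟩
    · have hi : ∀ n < 4096, ap gW0 n = vFix → n = ap gW0 (ap gW0 vFix) := fun n hn e => by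
        rw [← e, gW0_cube hn]
      have hlt : ap gW0 nw < 4096 := okB_lt (by decide) _
      refine ⟨_, hshift _ (hshift _ Mo₁), ?_⟩
      rw [hi nw hnw h] at hwn
      refine J.rel_trans hwn (J.rel_symm ?_)
      exact J.rel_trans (J.rel_conj J.piz (hstep _ vFix Mo₁ (by decide)))
        (hstep _ _ Mo₁ (okB_lt (by decide) _))
    · have hi : nw = ap gW0 vFix := by rw [← h, gW0_cube hnw]
      refine ⟨_, hshift _ Mo₁, ?_⟩
      rw [hi] at hwn
      exact J.rel_trans hwn (J.rel_symm (hstep _ vFix Mo₁ (by decide)))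
  obtain ⟨w1, w2, w3, w4, w5, w6, w7, w8, w9, w10⟩ := witness_ok
  -- the element fixing `w`
  obtain ⟨cg, -, hcg⟩ := Mv.lift (w := gW) (by decide)
  obtain ⟨hcgz, -⟩ := mem_CZ.1 cg.2
  have hu₀z : u₀ * z = z * u₀ := J.s.z_comm hu₀
  obtain ⟨g', hg'z, hg'w, hg'⟩ : ∃ g' : G, g' * z = z * g' ∧ g' * w = w * g' ∧
      Acts z vc g' (wordB MS gW) := by
    have hrel : Rel z ((cg : G) * w * (cg : G)⁻¹) w :=
      J.rel_trans (J.rel_conj hcgz hwv) (J.rel_trans (hcg.2 vFix (by decide)) (w3.symm ▸ J.rel_symm hwv))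
    rcases hrel with e | e
    · exact ⟨cg, hcgz, mul_inv_eq_iff_eq_mul.1 e, hcg⟩
    · refine ⟨u₀ * cg, ((show Commute u₀ z from hu₀z).mul_left (show Commute (cg : G) z from hcgz)).eq,
        mul_inv_eq_iff_eq_mul.1 ?_, Mv.coords.acts_mul_E J hcg hu₀ hcgz⟩
      calc u₀ * cg * w * (u₀ * cg)⁻¹ = u₀ * ((cg : G) * w * (cg : G)⁻¹) * u₀⁻¹ := by group
        _ = (u₀ * z) * w * u₀⁻¹ := by rw [e]; group
        _ = z * (u₀ * w * u₀⁻¹) := by rw [hu₀z]; group
        _ = w := by rw [hu₀w, ← mul_assoc, J.zz, one_mul]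
  set x' := vc 1 with hx'
  have hx'E : x' ∈ E := Mv.coords.mem 1 (by norm_num)
  set e' := g' * x' * g'⁻¹ * x'⁻¹ with he'
  have he'E : e' ∈ E := mul_mem (J.conjE hg'z hx'E) (inv_mem hx'E)
  have hcomm : ∀ (n : ℕ) (y : G), n < 4096 → Rel z y (vc n) →
      Rel z (g' * y * g'⁻¹ * y⁻¹) (vc (Nat.xor (ap (wordB MS gW) n) n)) := by
    intro n y hn hy
    have hlt := okB_lt hg'.1 n
    have hyE : y ∈ E := J.rel_mem hy (Mv.coords.mem n hn)
    exact J.rel_trans
      (J.rel_mul (J.s.z_comm (Mv.coords.mem _ hlt)) (J.rel_trans (J.rel_conj hg'z hy) (hg'.2 n hn))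
        (J.rel_trans (J.rel_inv hyE) hy))
      (J.rel_symm (Mv.coords.add _ n hlt hn))
  have he'275 : Rel z e' (vc 275) := w4 ▸ hcomm 1 x' (by norm_num) (J.rel_refl _)
  set d := g' * e' * g'⁻¹ * e'⁻¹ with hd
  have hd33 : Rel z d (vc 33) := w5 ▸ hcomm 275 e' (by norm_num) he'275
  have hdE : d ∈ E := mul_mem (J.conjE hg'z he'E) (inv_mem he'E)
  have he'w : e' * w = w * e' := by
    obtain ⟨s, hs, hsz, hsg, hsx⟩ : ∃ s : G, x'⁻¹ * w * x' = s * w ∧ s * s = 1 ∧ g' * s = s * g' ∧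
        x' * s = s * x' := by
      rcases J.s.comm_cases (inv_mem hx'E) hwE with e | e
      · exact ⟨1, by simpa using e, one_mul 1, by simp, by simp⟩
      · exact ⟨z, by simpa using e, J.zz, hg'z, J.s.z_comm hx'E⟩
    have hxw : x' * w * x'⁻¹ = s * w := by
      calc x' * w * x'⁻¹ = (x' * s) * (s * w) * x'⁻¹ := by
            rw [mul_assoc x' s, ← mul_assoc s s w, hsz, one_mul]
        _ = s * (x' * (x'⁻¹ * w * x') * x'⁻¹) := by rw [hsx, ← hs]; group
        _ = s * w := by group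
    rw [← mul_inv_eq_iff_eq_mul, he']
    calc g' * x' * g'⁻¹ * x'⁻¹ * w * (g' * x' * g'⁻¹ * x'⁻¹)⁻¹
        = g' * (x' * (g'⁻¹ * (x'⁻¹ * w * x') * g') * x'⁻¹) * g'⁻¹ := by group
      _ = g' * (x' * (g'⁻¹ * ((s * w) * g')) * x'⁻¹) * g'⁻¹ := by rw [hs]; group
      _ = g' * (x' * (g'⁻¹ * (g' * (s * w))) * x'⁻¹) * g'⁻¹ := by
          rw [mul_assoc s, ← hg'w, ← mul_assoc s, ← hsg]; group
      _ = g' * (s * (x' * w * x'⁻¹)) * g'⁻¹ := by rw [inv_mul_cancel_left, ← mul_assoc x', hsx]; group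
      _ = w := by rw [hxw, ← mul_assoc s, hsz, one_mul, hg'w, mul_inv_cancel_right]
  have hdH : d ∈ H0 w (k * π * k⁻¹) E' := J'.comm_mem_H0 hg'w he'w
  have hdE' : d ∉ E' := fun h => by
    have h33 : vc 33 ∈ U := by
      rcases J.rel_symm hd33 with e | e <;> rw [e]
      exacts [⟨hdE, h⟩, mul_mem hzU ⟨hdE, h⟩]
    have hUS : inUS 33 = true := by
      simp only [inUS, List.all_eq_true, Bool.or_eq_true]
      intro v hv
      obtain ⟨-, -, -, -, h1⟩ := key vc Mv vFix (by decide) hwv v hv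
      rcases h1 33 (by norm_num) h33 with e | e
      · exact Or.inl (by rw [e]; decide)
      · exact Or.inr (by rw [e]; decide)
    rw [w7] at hUS
    exact Bool.false_ne_true hUS
  -- `d` is a conjugate of `z`
  obtain ⟨ch, -, hch⟩ := Mv.lift (w := hW) (by decide)
  obtain ⟨hchz, -⟩ := mem_CZ.1 ch.2
  obtain ⟨k', hk'⟩ : ∃ k' : G, d = k' * z * k'⁻¹ := by
    have hrel : Rel z d ((ch : G) * w * (ch : G)⁻¹) :=
      J.rel_trans hd33 (J.rel_symm
        (J.rel_trans (J.rel_conj hchz hwv) (w6 ▸ hch.2 vFix (by decide))))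
    rcases hrel with e | e
    · exact ⟨ch * k, by rw [e, hw]; group⟩
    · refine ⟨ch * u₀ * k, ?_⟩
      rw [e, show (ch : G) * u₀ * k * z * ((ch : G) * u₀ * k)⁻¹ =
        (ch : G) * (u₀ * (k * z * k⁻¹) * u₀⁻¹) * (ch : G)⁻¹ by group, ← hw, hu₀w]
      rw [← mul_assoc z, ← mul_assoc z, ← hchz]
      group
  have hd2 : d * d = 1 := by
    rw [hk']
    calc k' * z * k'⁻¹ * (k' * z * k'⁻¹) = k' * (z * z) * k'⁻¹ := by group
      _ = 1 := by rw [J.zz]; group
  -- the centralizer in `E'` is large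
  obtain ⟨a0, ha0, hA0, -, -⟩ := key vc Mv vFix (by decide) hwv (duadW.getD 0 []) (by decide)
  obtain ⟨a1, ha1, hA1, -, -⟩ := key vc Mv vFix (by decide) hwv (duadW.getD 1 []) (by decide)
  obtain ⟨a2, ha2, hA2, -, -⟩ := key vc Mv vFix (by decide) hwv (duadW.getD 2 []) (by decide)
  obtain ⟨a3, ha3, hA3, -, -⟩ := key vc Mv vFix (by decide) hwv (duadW.getD 3 []) (by decide)
  have hA02 : Acts z vc (((a0 * a2 : ↥A)) : G) (comp (wB (duadW.getD 0 [])) (wB (duadW.getD 2 []))) :=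
    Mv.coords.acts_mul J hA0 (hAz a0.2) hA2 (okB_comp hA0.1 hA2.1)
  have hfixd : ∀ (t : ↥A) (B : List ℕ), Acts z vc (t : G) B → ap B 33 = 33 →
      Rel z ((t : G) * d * (t : G)⁻¹) d := fun t B h e =>
    J.rel_trans (J.rel_conj (hAz t.2) hd33) (J.rel_trans (h.2 33 (by norm_num)) (e.symm ▸ J.rel_symm hd33))
  set gs : Set G := (U : Set G) ∪ {(a1 : G), ((a0 * a2 : ↥A) : G), (a3 : G)} with hgs
  set S := Subgroup.closure gs with hS
  have hgsA : gs ⊆ (A : Set G) := by
    rintro x (hx | hx | hx | hx)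
    · exact hUA hx
    · exact hx ▸ a1.2
    · exact hx ▸ (a0 * a2).2
    · exact (Set.mem_singleton_iff.1 hx) ▸ a3.2
  have hSA : S ≤ A := (Subgroup.closure_le _).2 hgsA
  have hSd : ∀ x ∈ S, Rel z (x * d * x⁻¹) d := by
    intro x hx
    induction hx using Subgroup.closure_induction with
    | mem y hy =>
      rcases hy with hy | hy | hy | hy
      · exact J.rel_conj_E hy.1 hdE
      · exact hy ▸ hfixd a1 _ hA1 w8
      · exact hy ▸ hfixd (a0 * a2) _ hA02 w9
      · exact (Set.mem_singleton_iff.1 hy) ▸ hfixd a3 _ hA3 w10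
    | one => simpa using J.rel_refl d
    | mul y y' hy hy' ih ih' =>
      have h1 := J.rel_trans (J.rel_conj (hAz (hSA hy)) ih') ih
      convert h1 using 1
      group
    | inv y hy ih =>
      have h1 := J.rel_conj (hAz (inv_mem (hSA hy))) ih
      convert J.rel_symm h1 using 1
      group
  have hS10 : 2 ^ 10 ≤ Nat.card S := by
    let fS : ↥S →* M := f.comp (Subgroup.inclusion hSA)
    set p0 := ((duadW.getD 0 []).map g₁).prod with hp0
    have hmem : ∀ v ∈ duadW, (v.map g₁).prod ∈ fS.range ∨ (v.map g₁).prod * p0 ∈ fS.range := by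
      have m1 : f a1 ∈ fS.range :=
        ⟨⟨a1, Subgroup.subset_closure (Or.inr (Or.inl rfl))⟩, rfl⟩
      have m02 : f (a0 * a2) ∈ fS.range :=
        ⟨⟨(a0 * a2 : ↥A), Subgroup.subset_closure (Or.inr (Or.inr (Or.inl rfl)))⟩, rfl⟩
      have m3 : f a3 ∈ fS.range :=
        ⟨⟨a3, Subgroup.subset_closure (Or.inr (Or.inr (Or.inr rfl)))⟩, rfl⟩
      intro v hv
      simp only [duadW, List.mem_cons, List.not_mem_nil, or_false] at hv
      rcases hv with rfl | rfl | rfl | rfl
      · refine Or.inr ?_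
        rw [show ([4].map g₁).prod = f a0 from ha0.symm, ← ha0, hf2 _ ⟨a0, rfl⟩]
        exact one_mem _
      · exact Or.inl (ha1 ▸ m1)
      · refine Or.inr ?_
        have e : ([2, 3, 4, 3, 2].map g₁).prod = f a2 := ha2.symm
        have hc : f a2 * f a0 = f a0 * f a2 := by
          calc f a2 * f a0 = (f a2 * f a0)⁻¹ :=
                (inv_eq_of_mul_eq_one_right (hf2 _ ⟨a2 * a0, map_mul _ _ _⟩)).symm
            _ = f a0 * f a2 := by
                rw [mul_inv_rev, inv_eq_of_mul_eq_one_right (hf2 _ ⟨a2, rfl⟩),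
                  inv_eq_of_mul_eq_one_right (hf2 _ ⟨a0, rfl⟩)]
        rw [e, ← ha0, hc, ← map_mul]
        exact m02
      · exact Or.inl (ha3 ▸ m3)
    have hp0r : p0 ∈ f.range := ⟨a0, ha0⟩
    have hp02 : p0 * p0 = 1 := hf2 _ hp0r
    have hfSle : fS.range ≤ f.range := by rintro _ ⟨x, rfl⟩; exact ⟨_, rfl⟩
    have hcomm' : ∀ x ∈ f.range, ∀ y ∈ f.range, x * y = y * x := fun x hx y hy => by
      calc x * y = (x * y)⁻¹ := (inv_eq_of_mul_eq_one_right (hf2 _ (mul_mem hx hy))).symm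
        _ = y * x := by
          rw [mul_inv_rev, inv_eq_of_mul_eq_one_right (hf2 _ hx), inv_eq_of_mul_eq_one_right (hf2 _ hy)]
    have hcov : ∀ x ∈ f.range, x ∈ fS.range ∨ x * p0 ∈ fS.range := by
      intro x hx
      rw [hrange₁] at hx
      induction hx using Subgroup.closure_induction with
      | mem y hy =>
        obtain ⟨v, hv, rfl⟩ := hy
        exact hmem v hv
      | one => exact Or.inl (one_mem _)
      | mul y y' hy hy' ih ih' =>
        rw [← hrange₁] at hy hy'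
        rcases ih with h | h <;> rcases ih' with h' | h'
        · exact Or.inl (mul_mem h h')
        · exact Or.inr (by rw [mul_assoc]; exact mul_mem h h')
        · refine Or.inr ?_
          rw [mul_assoc, hcomm' y' hy' p0 hp0r, ← mul_assoc]
          exact mul_mem h h'
        · refine Or.inl ?_
          have e : y * p0 * (y' * p0) = y * y' := by
            rw [hcomm' y' hy' p0 hp0r, mul_assoc y, ← mul_assoc p0, hp02, one_mul]
          exact e ▸ mul_mem h h'
      | inv y hy ih =>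
        rw [← hrange₁] at hy
        rwa [inv_eq_of_mul_eq_one_right (hf2 _ hy)]
    have h8 : 8 ≤ Nat.card fS.range := by
      have hle : Nat.card f.range ≤ Nat.card (Bool × fS.range) :=
        Nat.card_le_card_of_surjective
          (fun q : Bool × fS.range =>
            (⟨cond q.1 ((q.2 : M) * p0) q.2, by
              obtain ⟨b, q, hq⟩ := q
              cases b
              · exact hfSle hq
              · exact mul_mem (hfSle hq) hp0r⟩ : f.range))
          fun x => by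
            rcases hcov x x.2 with h | h
            · exact ⟨(false, ⟨x, h⟩), Subtype.ext rfl⟩
            · exact ⟨(true, ⟨_, h⟩), Subtype.ext (by simp [mul_assoc, hp02])⟩
      rw [hr16, Nat.card_prod, Nat.card_eq_fintype_card (α := Bool), Fintype.card_bool] at hle
      omega
    have h7 : 2 ^ 7 ≤ Nat.card fS.ker := by
      rw [← hU7, ← Subgroup.card_map_of_injective S.subtype_injective (K := fS.ker)]
      refine Subgroup.card_le_of_le fun u hu => ⟨⟨u, Subgroup.subset_closure (Or.inl hu)⟩, ?_, rfl⟩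
      show f ⟨u, _⟩ = 1
      rw [hfpart _ 1 (by simpa using hu.1), map_one]
    have h3 := fS.ker.card_mul_index
    rw [Subgroup.index_ker] at h3
    have := Nat.mul_le_mul h7 h8
    omega
  have hbig : 2 ^ 9 ≤ Nat.card ↥(E' ⊓ Subgroup.centralizer ({d} : Set G)) := by
    have h1 := card_le_two_mul_centralizer (S := S) (d := d) (d' := z * d) hSd
    have h2 : S ⊓ Subgroup.centralizer ({d} : Set G) ≤ E' ⊓ Subgroup.centralizer ({d} : Set G) :=
      inf_le_inf_right _ fun x hx => (hSA hx).1.1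
    have := Subgroup.card_le_of_le h2
    omega
  obtain ⟨u, hu, huC⟩ := J'.conj_to_CZ F hdim' hdH hd2 hdE' hbig
  refine ⟨k⁻¹ * u⁻¹ * k', fun h => hdE' ?_, ?_⟩
  · have e : d = u * w * u⁻¹ := by
      rw [hk', hw]
      calc k' * z * k'⁻¹ = u * (k * (k⁻¹ * u⁻¹ * k' * z * (k⁻¹ * u⁻¹ * k')⁻¹) * k⁻¹) * u⁻¹ := by group
        _ = _ := by rw [h]
    rw [e]
    exact mul_mem (mul_mem hu J'.s.z_mem) (inv_mem hu)
  · obtain ⟨h1, h2⟩ := mem_CZ.1 huC
    have e : k⁻¹ * u⁻¹ * k' * z * (k⁻¹ * u⁻¹ * k')⁻¹ = k⁻¹ * (u⁻¹ * d * u) * k := by rw [hk']; group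
    rw [hw] at h1
    rw [e, mem_CZ]
    constructor
    · calc k⁻¹ * (u⁻¹ * d * u) * k * z = k⁻¹ * ((u⁻¹ * d * u) * (k * z * k⁻¹)) * k := by group
        _ = _ := by rw [h1]; group
    · calc k⁻¹ * (u⁻¹ * d * u) * k * π = k⁻¹ * ((u⁻¹ * d * u) * (k * π * k⁻¹)) * k := by group
        _ = _ := by rw [h2]; group

end CfsgLib.JFour
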