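import Cfsg.Agent.Lib.JFour.Oper
import Cfsg.Agent.Lib.ZStar.Main

/-!
# A conjugate of `z` inside `H0`

A Glauberman core argument gives a conjugate `w ≠ z` in `C(z)`.  If `w` inverts `π` modulo `E` then
either `z` lies in the conjugate of `H0` at `w`, or a product `w r` with `r` a commutator of `E`
with `w` does; in both cases some conjugate of `z` other than `z` lies in `H0`.
-/

set_option autoImplicit false
set_option linter.style.haveILetI false
set_option linter.unusedSectionVars false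

open Cfsg

namespace CfsgLib.JFour

variable {G : Type*} [Group G]

/-- An involution either has another conjugate commuting with it or is central modulo an odd core. -/
theorem exists_fused_or_core [Finite G] {z : G} (hz : orderOf z = 2)
    (h : ∀ g : G, g * z * g⁻¹ * z = z * (g * z * g⁻¹) → g * z * g⁻¹ = z) :
    ∃ N : Subgroup G, N.Normal ∧ Odd (Nat.card N) ∧ ∀ g : G, z * g * z⁻¹ * g⁻¹ ∈ N := by
  haveI := Fact.mk Nat.prime_two
  obtain ⟨P, hP⟩ := (IsPGroup.of_card (G := ↥(Subgroup.zpowers z)) (n := 1)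
    (by rw [Nat.card_zpowers, hz, pow_one])).exists_le_sylow
  have hzP : z ∈ (P : Subgroup G) := hP (Subgroup.mem_zpowers z)
  set T : Subgroup G := (P : Subgroup G) ⊓ Subgroup.centralizer ({z} : Set G) with hT
  have hTP : T = (P : Subgroup G) := by
    by_contra hne
    have hlt : T.subgroupOf P < ⊤ := lt_of_le_of_ne le_top fun e =>
      hne (le_antisymm inf_le_left (Subgroup.subgroupOf_eq_top.1 e))
    haveI := P.isPGroup'.isNilpotent
    have hn := Group.normalizerCondition_of_isNilpotent (T.subgroupOf P) hlt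
    obtain ⟨t, ht, htT⟩ := SetLike.exists_of_lt hn
    apply htT
    rw [Subgroup.mem_subgroupOf, hT, Subgroup.mem_inf, Subgroup.mem_centralizer_singleton_iff]
    refine ⟨t.2, ?_⟩
    have hzT : (⟨z, hzP⟩ : ↥(P : Subgroup G)) ∈ T.subgroupOf P := by
      rw [Subgroup.mem_subgroupOf, hT, Subgroup.mem_inf, Subgroup.mem_centralizer_singleton_iff]
      exact ⟨hzP, rfl⟩
    have h1 := (Subgroup.mem_normalizer_iff.1 ht _).1 hzT
    rw [Subgroup.mem_subgroupOf, hT, Subgroup.mem_inf, Subgroup.mem_centralizer_singleton_iff] at h1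
    exact mul_inv_eq_iff_eq_mul.1 (h (t : G) h1.2)
  refine CfsgLib.ZStar.exists_normal_odd_commutator_mem P z hz hzP fun g hg => h g ?_
  exact Subgroup.mem_centralizer_singleton_iff.1 ((hTP.ge hg).2)

namespace Ctx

variable [Finite G] {M : Type*} [Group M] {z π : G} {E : Subgroup G} (J : Ctx M z π E)
include J

/-- In a simple group some other conjugate commutes with `z`. -/
theorem exists_commuting [IsSimpleGroup G] (hG : ¬ IsMulCommutative G) :
    ∃ g : G, g * z * g⁻¹ * z = z * (g * z * g⁻¹) ∧ g * z * g⁻¹ ≠ z := by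
  by_contra hno
  push Not at hno
  obtain ⟨N, hN, hodd, hcom⟩ := exists_fused_or_core J.s.ordz hno
  rcases hN.eq_bot_or_eq_top with rfl | rfl
  · have hzc : z ∈ Subgroup.center G := Subgroup.mem_center_iff.2 fun g => by
      have h1 := Subgroup.mem_bot.1 (hcom g)
      calc g * z = (z * g * z⁻¹ * g⁻¹) * (g * z) := by rw [h1, one_mul]
        _ = z * g := by group
    rcases (inferInstance : (Subgroup.center G).Normal).eq_bot_or_eq_top with hc | hc
    · rw [hc, Subgroup.mem_bot] at hzc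
      exact J.z_ne hzc
    · exact hG ⟨⟨fun a b => (Subgroup.mem_center_iff.1 (hc.ge (Subgroup.mem_top b)) a)⟩⟩
  · rw [Subgroup.card_top] at hodd
    have h2 := orderOf_dvd_natCard z
    rw [J.s.ordz] at h2
    exact (Nat.not_even_iff_odd.2 hodd) (even_iff_two_dvd.2 h2)

/-- An element inverting `π` modulo `E` fixes few elements modulo the centre. -/
theorem card_fx_outer {w : G} (hwz : w * z = z * w) (hw : w ∉ H0 z π E) :
    Nat.card (fx z E w) ≤ 2 ^ 7 := by
  obtain ⟨u, hu, hwp⟩ := (J.not_mem_H0_iff hwz).1 hw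
  set F := fx z E w
  set F' := F.map (MulAut.conj π).toMonoidHom with hF'
  have hFE : F ≤ E := J.fx_le hwz
  have hF'E : F' ≤ E := by
    rintro _ ⟨e, he, rfl⟩
    exact J.conjE J.piz (hFE he)
  have hcard : Nat.card F' = Nat.card F :=
    Subgroup.card_map_of_injective (MulAut.conj π).injective
  have hint : ∀ x ∈ F, x ∈ F' → x ∈ Subgroup.zpowers z := by
    rintro x hx ⟨e, he, rfl⟩
    change π * e * π⁻¹ ∈ F at hx
    change π * e * π⁻¹ ∈ Subgroup.zpowers z
    obtain ⟨heE, her⟩ := (J.mem_fx hwz).1 he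
    obtain ⟨hxE, hxr⟩ := (J.mem_fx hwz).1 hx
    -- `w` carries `π e π⁻¹` to a conjugate of `π⁻¹ e π`
    have h1 : Rel z (w * (π * e * π⁻¹) * w⁻¹) (π⁻¹ * e * π) := by
      have hwe : w * e * w⁻¹ ∈ E := J.conjE hwz heE
      have hin : u⁻¹ * (w * e * w⁻¹) * u ∈ E := mul_mem (mul_mem (inv_mem hu) hwe) hu
      rw [show w * (π * e * π⁻¹) * w⁻¹ = w * π * w⁻¹ * (w * e * w⁻¹) * (w * π * w⁻¹)⁻¹ by group,
        hwp, show u * π⁻¹ * u⁻¹ * (w * e * w⁻¹) * (u * π⁻¹ * u⁻¹)⁻¹ =
          u * (π⁻¹ * (u⁻¹ * (w * e * w⁻¹) * u) * π) * u⁻¹ by group]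
      refine J.rel_trans (J.rel_conj_E hu (J.conjE' J.piz hin)) ?_
      have h2 : Rel z (u⁻¹ * (w * e * w⁻¹) * u) e := by
        have h3 := J.rel_conj_E (inv_mem hu) hwe
        rw [inv_inv] at h3
        exact J.rel_trans h3 her
      have h4 := J.rel_conj (c := π⁻¹) (Commute.inv_left (show Commute π z from J.piz)).eq h2
      rwa [inv_inv] at h4
    have h2 : Rel z (π * e * π⁻¹) (π⁻¹ * e * π) := J.rel_trans (J.rel_symm hxr) h1
    have h3 := J.rel_conj J.piz h2
    rw [show π * (π * e * π⁻¹) * π⁻¹ = π * π * e * (π * π)⁻¹ by group, ← J.pi_inv, inv_inv,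
      show π * (π⁻¹ * e * π) * π⁻¹ = e by group] at h3
    have h4 : Rel z (π * e * π⁻¹) e := J.rel_trans h2 h3
    have hez : e ∈ Subgroup.zpowers z := by
      rcases h4 with h | h
      · rcases J.fpf e heE (mul_inv_eq_iff_eq_mul.1 h).symm with k | k <;> rw [k]
        · exact one_mem _
        · exact Subgroup.mem_zpowers z
      · exfalso
        have h5 := J.rel_conj J.piz (Or.inr h : Rel z (π * e * π⁻¹) e)
        have h6 : π * π * e * (π * π)⁻¹ = e := by
          calc π * π * e * (π * π)⁻¹ = π * (π * e * π⁻¹) * π⁻¹ := by group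
            _ = π * (z * e) * π⁻¹ := by rw [h]
            _ = π * z * π⁻¹ * (π * e * π⁻¹) := by group
            _ = z * (z * e) := by rw [J.piz, mul_inv_cancel_right, h]
            _ = e := by rw [← mul_assoc, J.zz, one_mul]
        have h7 : π * π * π * e * (π * π * π)⁻¹ = π * e * π⁻¹ := by
          calc π * π * π * e * (π * π * π)⁻¹ = π * (π * π * e * (π * π)⁻¹) * π⁻¹ := by group
            _ = _ := by rw [h6]
        rw [J.pi3, one_mul, inv_one, mul_one, h] at h7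
        exact J.z_ne (mul_eq_right.1 h7.symm)
    rcases J.s.mem_zpowers hez with k | k <;> rw [k]
    · simp
    · rw [J.piz, mul_inv_cancel_right]; exact Subgroup.mem_zpowers z
  -- count the products
  have hinj : Nat.card F * Nat.card F' ≤ Nat.card E * 2 := by
    have h1 := Subgroup.card_mul_index (F.subgroupOf E)
    rw [Nat.card_congr (Subgroup.subgroupOfEquivOfLe hFE).toEquiv] at h1
    have h2 := Subgroup.card_mul_index ((F ⊓ F').subgroupOf F')
    rw [Nat.card_congr (Subgroup.subgroupOfEquivOfLe inf_le_right).toEquiv] at h2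
    have h3 : ((F ⊓ F').subgroupOf F').index ≤ (F.subgroupOf E).index := by
      change (F ⊓ F').relIndex F' ≤ F.relIndex E
      rw [Subgroup.inf_relIndex_right]
      exact Subgroup.relIndex_le_of_le_right hF'E Subgroup.index_ne_zero_of_finite
    have h4 : Nat.card ↥(F ⊓ F') ≤ 2 := by
      rw [← J.card_zpowers_z]
      exact Subgroup.card_le_of_le fun x hx => hint x hx.1 hx.2
    rw [← h1, ← h2]
    calc Nat.card F * (Nat.card ↥(F ⊓ F') * ((F ⊓ F').subgroupOf F').index)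
        ≤ Nat.card F * (2 * (F.subgroupOf E).index) :=
          Nat.mul_le_mul_left _ (Nat.mul_le_mul h4 h3)
      _ = _ := by ring
  rw [hcard, J.cardE] at hinj
  nlinarith

/-- From a conjugate in `C(z)` to one in `H0`. -/
theorem exists_conj_mem_H0 {g : G} (hwz : g * z * g⁻¹ * z = z * (g * z * g⁻¹))
    (hne : g * z * g⁻¹ ≠ z) : ∃ k : G, k * z * k⁻¹ ∈ H0 z π E ∧ k * z * k⁻¹ ≠ z := by
  classical
  by_contra hgoal
  push Not at hgoal
  have J' := J.conj g
  obtain ⟨w, hwdef⟩ : ∃ w, w = g * z * g⁻¹ := ⟨_, rfl⟩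
  rw [← hwdef] at hwz hne J'
  have hwH : w ∉ H0 z π E := fun h => hne (hwdef ▸ hgoal g (hwdef ▸ h))
  set H' := H0 w (g * π * g⁻¹) (E.map (MulAut.conj g).toMonoidHom) with hH'
  have hww : w * w = 1 := J'.zz
  have hwinv : w⁻¹ = w := inv_eq_of_mul_eq_one_right hww
  -- conjugates of `z` in `H'` other than `w` come from conjugates in `H0` other than `z`
  have hback : ∀ k : G, k * z * k⁻¹ ∈ H' → k * z * k⁻¹ = w := by
    intro k hk
    have hk' : g⁻¹ * (k * z * k⁻¹) * g ∈ H0 z π E := by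
      obtain ⟨e, ⟨e0, he0, rfl⟩, c, hc, hkc⟩ := J'.mem_H0.1 hk
      refine J.mem_H0.2 ⟨e0, he0, g⁻¹ * c * g, mem_CZ.2 ⟨?_, ?_⟩, ?_⟩
      · calc g⁻¹ * c * g * z = g⁻¹ * (c * w) * g := by rw [hwdef]; group
          _ = g⁻¹ * (w * c) * g := by rw [(mem_CZ.1 hc).1]
          _ = _ := by rw [hwdef]; group
      · calc g⁻¹ * c * g * π = g⁻¹ * (c * (g * π * g⁻¹)) * g := by group
          _ = g⁻¹ * (g * π * g⁻¹ * c) * g := by rw [(mem_CZ.1 hc).2]
          _ = _ := by group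
      · rw [hkc]
        show g⁻¹ * (g * e0 * g⁻¹ * c) * g = _
        group
    have h := hgoal (g⁻¹ * k) (by rwa [show g⁻¹ * k * z * (g⁻¹ * k)⁻¹ = g⁻¹ * (k * z * k⁻¹) * g by group])
    calc k * z * k⁻¹ = g * (g⁻¹ * k * z * (g⁻¹ * k)⁻¹) * g⁻¹ := by group
      _ = w := by rw [h, hwdef]
  have hzH : z ∉ H' := fun h => hne (by simpa using (hback 1 (by simpa using h)).symm)
  have hwH' : w ∈ H' := J'.z_mem_H0
  -- commutators with `w` in `C(w)` are outside `H'`
  have hout : ∀ e ∈ E, w * (w * e * w⁻¹ * e⁻¹) = w * e * w⁻¹ * e⁻¹ * w →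
      w * e * w⁻¹ * e⁻¹ ≠ 1 → w * e * w⁻¹ * e⁻¹ ∉ H' := by
    intro e he hc h1 hr
    refine h1 ?_
    have hk := hback (e * g) (by
      have : e * g * z * (e * g)⁻¹ = w * (w * e * w⁻¹ * e⁻¹) := by
        calc e * g * z * (e * g)⁻¹ = (w * w) * (e * w * e⁻¹) := by rw [hww, one_mul, hwdef]; group
          _ = _ := by rw [hwinv]; group
      rw [this]
      exact mul_mem hwH' hr)
    rw [show e * g * z * (e * g)⁻¹ = e * w * e⁻¹ by rw [hwdef]; group] at hk
    rw [hwinv, show w * e * w * e⁻¹ = w * (e * w * e⁻¹) by group, hk, hww]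
  -- every commutator with another one nearby moves the centre
  have key : ∀ e ∈ E, ∀ f ∈ E, w * (w * e * w⁻¹ * e⁻¹) = w * e * w⁻¹ * e⁻¹ * w →
      w * (w * f * w⁻¹ * f⁻¹) = w * f * w⁻¹ * f⁻¹ * w →
      w * e * w⁻¹ * e⁻¹ ≠ 1 → w * f * w⁻¹ * f⁻¹ ≠ 1 →
      (w * e * w⁻¹ * e⁻¹) * (w * f * w⁻¹ * f⁻¹) ≠ 1 →
      e * (w * f * w⁻¹ * f⁻¹) * e⁻¹ = z * (w * f * w⁻¹ * f⁻¹) := by
    intro e he f hf hce hcf h1 h2 h12
    have hmE : w * f * w⁻¹ * f⁻¹ ∈ E := mul_mem (J.conjE hwz hf) (inv_mem hf)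
    refine (J.s.comm_cases he hmE).resolve_left fun hcomm => ?_
    have hprod : w * (e * f) * w⁻¹ * (e * f)⁻¹ = (w * e * w⁻¹ * e⁻¹) * (w * f * w⁻¹ * f⁻¹) := by
      calc w * (e * f) * w⁻¹ * (e * f)⁻¹ =
          (w * e * w⁻¹ * e⁻¹) * (e * (w * f * w⁻¹ * f⁻¹) * e⁻¹) := by group
        _ = _ := by rw [hcomm]
    have hcef : w * ((w * e * w⁻¹ * e⁻¹) * (w * f * w⁻¹ * f⁻¹)) =
        (w * e * w⁻¹ * e⁻¹) * (w * f * w⁻¹ * f⁻¹) * w := by
      rw [← mul_assoc, hce, mul_assoc, hcf]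
      group
    have hno := hout (e * f) (mul_mem he hf) (by rw [hprod]; exact hcef) (by rw [hprod]; exact h12)
    rw [hprod] at hno
    exact hno (J'.mul_mem_H0 hce.symm hcf.symm (hout e he hce h1) (hout f hf hcf h2))
  -- room for three independent commutators
  set T : Subgroup G := tc z E w ⊓ Subgroup.centralizer ({w} : Set G) with hT
  have hT16 : 16 ≤ Nat.card T := by
    have hfx := J.card_fx_outer hwz hwH
    have hmul := J.card_tc_mul_fx hwz
    have htfx : tc z E w ≤ fx z E w := J.tc_le_fx hwz fun e he => Or.inl (by rw [hww]; group)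
    have h2 : Nat.card (tc z E w) ≤ 2 * Nat.card T := by
      have hrel : T.relIndex (tc z E w) ≤ 2 := by
        by_cases hall : ∀ x ∈ tc z E w, x * w = w * x
        · rw [Subgroup.relIndex_eq_one.2 (show tc z E w ≤ T from fun x hx =>
            ⟨hx, Subgroup.mem_centralizer_singleton_iff.2 (hall x hx)⟩)]
          norm_num
        · push Not at hall
          obtain ⟨t, ht, htw⟩ := hall
          refine le_of_eq ?_
          rw [Subgroup.relIndex, Subgroup.index_eq_two_iff]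
          refine ⟨⟨t, ht⟩, fun b => ?_⟩
          have hmem : ∀ x : ↥(tc z E w), x ∈ T.subgroupOf (tc z E w) ↔ w * (x : G) * w⁻¹ = x := fun x => by
            rw [Subgroup.mem_subgroupOf, hT, Subgroup.mem_inf, Subgroup.mem_centralizer_singleton_iff,
              mul_inv_eq_iff_eq_mul]
            exact ⟨fun h => h.2.symm, fun h => ⟨x.2, h.symm⟩⟩
          rw [hmem, hmem]
          obtain ⟨htE, htr⟩ := (J.mem_fx hwz).1 (htfx ht)
          obtain ⟨hbE, hbr⟩ := (J.mem_fx hwz).1 (htfx b.2)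
          have ht' : w * t * w⁻¹ = z * t := htr.resolve_left fun h => htw (mul_inv_eq_iff_eq_mul.1 h).symm
          have e1 : w * ((b * ⟨t, ht⟩ : ↥(tc z E w)) : G) * w⁻¹ = (w * (b : G) * w⁻¹) * (z * t) := by
            rw [← ht', Subgroup.coe_mul]; group
          rcases hbr with hb | hb
          · refine Or.inr ⟨hb, fun h => ?_⟩
            rw [e1, hb, ← mul_assoc, J.s.z_comm hbE, mul_assoc] at h
            exact J.z_ne (mul_eq_right.1 h)
          · refine Or.inl ⟨?_, fun h => ?_⟩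
            · rw [e1, hb, Subgroup.coe_mul, mul_assoc, ← mul_assoc (b : G) z, J.s.z_comm hbE,
                mul_assoc z (b : G), ← mul_assoc z z, J.zz, one_mul]
            · rw [hb] at h
              exact J.z_ne (mul_eq_right.1 h)
      have h1 := Subgroup.card_mul_index (T.subgroupOf (tc z E w))
      rw [Nat.card_congr (Subgroup.subgroupOfEquivOfLe (inf_le_left : T ≤ tc z E w)).toEquiv] at h1
      rw [← h1, mul_comm 2]
      exact Nat.mul_le_mul_left _ hrel
    have h3 : 2 ^ 7 ≤ Nat.card (tc z E w) := by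
      by_contra hlt
      push Not at hlt
      have := Nat.mul_lt_mul_of_lt_of_le hlt hfx (by norm_num)
      omega
    omega
  have hzT : z ∈ T := ⟨J.z_mem_tc hwz, Subgroup.mem_centralizer_singleton_iff.2 hwz.symm⟩
  have hTE : ∀ {x : G}, x ∈ T → x ∈ E := fun hx => J.tc_le hwz hx.1
  have pick : ∀ S : Finset G, S.card < 16 → (∀ a ∈ S, z * a ∈ S) → 1 ∈ S →
      ∃ e ∈ E, w * e * w⁻¹ * e⁻¹ ∈ T ∧ w * e * w⁻¹ * e⁻¹ ∉ S := by
    intro S hS hSz hS1
    obtain ⟨x, hx, hxS⟩ : ∃ x ∈ T, x ∉ S := by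
      by_contra h
      push Not at h
      have h' := Set.ncard_le_ncard (s := (T : Set G)) (t := (S : Set G)) h S.finite_toSet
      rw [Set.ncard_coe_finset, ← Nat.card_coe_set_eq] at h'
      have h'' : 16 ≤ S.card := hT16.trans h'
      omega
    obtain ⟨e, he, hr⟩ := (J.mem_tc hwz).1 hx.1
    refine ⟨e, he, ?_, fun h => hxS ?_⟩
    · rcases J.rel_symm hr with h | h <;> rw [h]
      · exact hx
      · exact mul_mem hzT hx
    · rcases hr with h' | h' <;> rw [h']
      · exact h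
      · exact hSz _ h
  have hsq : ∀ {a : G}, a ∈ T → a * a ∈ Subgroup.zpowers z := fun ha => by
    rcases J.s.sq_cases (hTE ha) with h | h <;> rw [h]
    · exact one_mem _
    · exact Subgroup.mem_zpowers z
  obtain ⟨e1, he1, hr1, h1⟩ := pick {1, z}
    (Finset.card_le_two.trans_lt (by norm_num)) (by simp [J.zz]) (by simp)
  obtain ⟨r1, hr1d⟩ : ∃ r, r = w * e1 * w⁻¹ * e1⁻¹ := ⟨_, rfl⟩
  obtain ⟨e2, he2, hr2, h2⟩ := pick {1, z, r1⁻¹, z * r1⁻¹} (Finset.card_le_four.trans_lt (by norm_num))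
    (by simp [← mul_assoc, J.zz]) (by simp)
  obtain ⟨r2, hr2d⟩ : ∃ r, r = w * e2 * w⁻¹ * e2⁻¹ := ⟨_, rfl⟩
  obtain ⟨e3, he3, hr3, h3⟩ := pick {1, z, r1⁻¹, z * r1⁻¹, r2⁻¹, z * r2⁻¹, r2⁻¹ * r1⁻¹, z * (r2⁻¹ * r1⁻¹)}
    (by
      refine lt_of_le_of_lt (b := 8) ?_ (by norm_num)
      iterate 7 refine (Finset.card_insert_le _ _).trans (Nat.succ_le_succ ?_)
      exact (Finset.card_singleton _).le) (by simp [← mul_assoc, J.zz]) (by simp)
  obtain ⟨r3, hr3d⟩ : ∃ r, r = w * e3 * w⁻¹ * e3⁻¹ := ⟨_, rfl⟩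
  rw [← hr1d] at hr1 h1
  rw [← hr2d] at hr2 h2
  rw [← hr3d] at hr3 h3
  simp only [Finset.mem_insert, Finset.mem_singleton, not_or] at h1 h2 h3
  have hc : ∀ {a : G}, a ∈ T → w * a = a * w := fun ha =>
    (Subgroup.mem_centralizer_singleton_iff.1 ha.2).symm
  have hn12 : r1 * r2 ≠ 1 := fun h => h2.2.2.1 (eq_inv_of_mul_eq_one_right h)
  have hn13 : r1 * r3 ≠ 1 := fun h => h3.2.2.1 (eq_inv_of_mul_eq_one_right h)
  have hn23 : r2 * r3 ≠ 1 := fun h => h3.2.2.2.2.1 (eq_inv_of_mul_eq_one_right h)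
  have k12 := key e1 he1 e2 he2 (by rw [← hr1d]; exact hc hr1) (by rw [← hr2d]; exact hc hr2)
    (hr1d ▸ h1.1) (hr2d ▸ h2.1) (by rw [← hr1d, ← hr2d]; exact hn12)
  have k13 := key e1 he1 e3 he3 (by rw [← hr1d]; exact hc hr1) (by rw [← hr3d]; exact hc hr3)
    (hr1d ▸ h1.1) (hr3d ▸ h3.1) (by rw [← hr1d, ← hr3d]; exact hn13)
  have k23 := key e2 he2 e3 he3 (by rw [← hr2d]; exact hc hr2) (by rw [← hr3d]; exact hc hr3)
    (hr2d ▸ h2.1) (hr3d ▸ h3.1) (by rw [← hr2d, ← hr3d]; exact hn23)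
  rw [← hr2d] at k12
  rw [← hr3d] at k13 k23
  have hr23 : w * (e2 * e3) * w⁻¹ * (e2 * e3)⁻¹ = r2 * (z * r3) := by
    rw [← k23, hr2d, hr3d]; group
  have hmem23 : r2 * (z * r3) ∈ T := mul_mem hr2 (mul_mem hzT hr3)
  have hne23 : r2 * (z * r3) ≠ 1 := fun h => h3.2.2.2.2.2.1 (by
    rw [← eq_inv_of_mul_eq_one_right h, ← mul_assoc, J.zz, one_mul])
  have hne123 : r1 * (r2 * (z * r3)) ≠ 1 := fun h => h3.2.2.2.2.2.2.2 (by
    have h' : z * r3 = r2⁻¹ * r1⁻¹ := by
      rw [← mul_assoc] at h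
      rw [eq_inv_of_mul_eq_one_right h, mul_inv_rev]
    rw [← h', ← mul_assoc, J.zz, one_mul])
  have k := key e1 he1 (e2 * e3) (mul_mem he2 he3) (by rw [← hr1d]; exact hc hr1)
    (by rw [hr23]; exact hc hmem23) (hr1d ▸ h1.1) (by rw [hr23]; exact hne23)
    (by rw [← hr1d, hr23]; exact hne123)
  rw [hr23] at k
  have hez : e1 * z * e1⁻¹ = z := by rw [J.s.z_comm he1, mul_inv_cancel_right]
  have hzr2 : z * r2 = r2 * z := (J.s.z_comm (hTE hr2)).symm
  refine J.z_ne (mul_eq_right.1 (k.symm.trans ?_))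
  calc e1 * (r2 * (z * r3)) * e1⁻¹ = (e1 * r2 * e1⁻¹) * ((e1 * z * e1⁻¹) * (e1 * r3 * e1⁻¹)) := by group
    _ = z * r2 * (z * (z * r3)) := by rw [k12, hez, k13]
    _ = r2 * (z * r3) := by rw [← mul_assoc z z, J.zz, one_mul, hzr2, mul_assoc]

/-- Some conjugate of `z` other than `z` lies in `H0`. -/
theorem exists_inner [IsSimpleGroup G] (hG : ¬ IsMulCommutative G) :
    ∃ k : G, k * z * k⁻¹ ∈ H0 z π E ∧ k * z * k⁻¹ ≠ z := by
  obtain ⟨g, hg, hne⟩ := J.exists_commuting hG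
  exact J.exists_conj_mem_H0 hg hne

end Ctx

end CfsgLib.JFour
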