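import Cfsg.Agent.Lib.JFour.ECase
import Cfsg.Agent.Lib.JFour.Fuse

/-!
# Fusion of `π` with an element outside `E⟨π⟩`

For a conjugate `w ≠ z` of `z` in `C(z, π)` some element carries `z` to `w` and the lift `a` of an
element of order three of `M` to `π`.
-/

set_option autoImplicit false
set_option maxRecDepth 100000
set_option linter.style.haveILetI false
set_option linter.unusedSectionVars false

open Cfsg

namespace CfsgLib.JFour

theorem gA_ok : okB gA = true ∧ ap gA 1 = 1 ∧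
    ((List.range 4096).filter fun n => ap gA n == n).length = 16 ∧
    (List.range 4096).all (fun n => Nat.beq (Nat.xor (ap gA n) n % 16) 0) = true ∧
    (List.range 3).all (fun j => !(comp gA gB == sB j (comp gB gA)) || Nat.beq j 1) = true ∧
    MS.getD 0 idB = gA ∧ MS.getD 1 idB = gB ∧ comp gA (comp gA gA) = idB := by
  decide +kernel

variable {G : Type*} [Group G] [Finite G] {M : Type*} [Group M] [Finite M] {z π : G} {E : Subgroup G}

/-- The subgroup `E⟨π⟩`. -/
def KN (π : G) (E : Subgroup G) : Subgroup G := E ⊔ Subgroup.zpowers π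

/-- Lifts of the first two generators with commutator `π`. -/
structure Ctx.IsPair (J : Ctx M z π E) (a b : ↥(CZ z π)) : Prop where
  cube : a * a * a = 1
  comm : (a : G) * b * (a : G)⁻¹ * (b : G)⁻¹ = π
  a_ne : J.proj a ≠ 1
  b_ne : J.proj b ≠ 1
  b_cube : J.proj b * J.proj b * J.proj b = 1
  card_fx : Nat.card (fx z E (a : G)) = 2 ^ 5
  not_perp : ∃ x ∈ fx z E (a : G), x ∉ tc z E (a : G)

namespace Ctx

variable (J : Ctx M z π E)
include J

theorem pi_pow_three : π ^ 3 = 1 := by rw [pow_succ, pow_two, J.pi3]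

theorem pi_pow_mem_E {k : ℕ} (h : π ^ k ∈ E) : π ^ k = 1 := by
  rcases J.fpf _ h ((Commute.refl π).pow_left k).eq with e | e
  · exact e
  · exfalso
    have h3 : (π ^ k) ^ 3 = 1 := by rw [← pow_mul, mul_comm, pow_mul, J.pi_pow_three, one_pow]
    rw [e, pow_succ, pow_two, J.zz, one_mul] at h3
    exact J.z_ne h3

theorem mem_KN {h : G} : h ∈ KN π E ↔ ∃ e ∈ E, ∃ k, k < 3 ∧ h = e * π ^ k := by
  have hn : Subgroup.zpowers π ≤ Subgroup.normalizer (E : Set G) :=
    Subgroup.zpowers_le.2 (J.s.cz (Subgroup.mem_centralizer_singleton_iff.2 J.piz))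
  rw [KN, ← SetLike.mem_coe, Subgroup.coe_mul_of_right_le_normalizer_left E _ hn]
  constructor
  · rintro ⟨e, he, p, hp, rfl⟩
    obtain ⟨i, rfl⟩ := Subgroup.mem_zpowers_iff.1 hp
    refine ⟨e, he, (i % 3).toNat, by omega, ?_⟩
    show e * π ^ i = e * π ^ (i % 3).toNat
    rw [← zpow_natCast, Int.toNat_of_nonneg (Int.emod_nonneg _ (by norm_num))]
    conv_lhs => rw [← zpow_mod_orderOf, J.orderOf_pi]
    norm_num
  · rintro ⟨e, he, k, -, rfl⟩
    exact ⟨e, he, π ^ k, Subgroup.npow_mem_zpowers π k, rfl⟩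

theorem E_le_KN : E ≤ KN π E := le_sup_left

theorem pi_mem_KN : π ∈ KN π E := le_sup_right (a := E) (Subgroup.mem_zpowers π)

theorem KN_le : KN π E ≤ H0 z π E :=
  sup_le (E_le_H0 z π E) (Subgroup.zpowers_le.2 J.pi_mem_H0)

/-- `E⟨π⟩` is normal in `C(z)`. -/
theorem conj_mem_KN {h x : G} (hh : h * z = z * h) (hx : x ∈ KN π E) : h * x * h⁻¹ ∈ KN π E := by
  obtain ⟨e, he, k, -, rfl⟩ := J.mem_KN.1 hx
  obtain ⟨f, hf, hf'⟩ := J.normP h hh
  have hp : h * π * h⁻¹ ∈ KN π E := by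
    rcases hf' with e | e <;> rw [e]
    · exact mul_mem (mul_mem (J.E_le_KN hf) J.pi_mem_KN) (J.E_le_KN (inv_mem hf))
    · exact mul_mem (mul_mem (J.E_le_KN hf) (inv_mem J.pi_mem_KN)) (J.E_le_KN (inv_mem hf))
  rw [show h * (e * π ^ k) * h⁻¹ = h * e * h⁻¹ * (h * π * h⁻¹) ^ k by rw [conj_pow]; group]
  exact mul_mem (J.E_le_KN (J.conjE hh he)) (pow_mem hp k)

/-- An element of `E⟨π⟩` of two-power order lies in `E`. -/
theorem mem_E_of_KN {h : G} (h' : h ∈ KN π E) (h4 : h ^ 4 = 1) : h ∈ E := by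
  obtain ⟨e, he, k, -, rfl⟩ := J.mem_KN.1 h'
  have hz : Commute (π ^ k) z := (show Commute π z from J.piz).pow_left k
  have h2 : ∀ n, ∃ f ∈ E, (e * π ^ k) ^ n = f * π ^ (k * n) := by
    intro n
    induction n with
    | zero => exact ⟨1, one_mem E, by simp⟩
    | succ n ih =>
      obtain ⟨f, hf, hfe⟩ := ih
      refine ⟨f * (π ^ (k * n) * e * (π ^ (k * n))⁻¹),
        mul_mem hf (J.conjE ((show Commute π z from J.piz).pow_left _).eq he), ?_⟩
      rw [pow_succ, hfe, show k * (n + 1) = k * n + k by ring, pow_add]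
      group
  obtain ⟨f, hf, hfe⟩ := h2 3
  rw [show π ^ (k * 3) = 1 by rw [mul_comm, pow_mul, J.pi_pow_three, one_pow], mul_one] at hfe
  have : e * π ^ k = f⁻¹ := by
    rw [eq_inv_iff_mul_eq_one, ← hfe, ← pow_succ', h4]
  rw [this]
  exact inv_mem hf

/-- The kernel of the projection of `H0`. -/
theorem psi_eq_one {ψ : ↥(H0 z π E) →* M}
    (hψ : ∀ (h : ↥(H0 z π E)) (c : ↥(CZ z π)), (h : G) * (c : G)⁻¹ ∈ E → ψ h = J.proj c)
    {h : ↥(H0 z π E)} : ψ h = 1 ↔ (h : G) ∈ KN π E := by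
  constructor
  · intro h1
    obtain ⟨c, hc⟩ := J.exists_part h
    rw [hψ h c hc] at h1
    obtain ⟨u, hu, -, k, -, he⟩ := J.exists_pow' h1
    have hh : (h : G) = (h : G) * (c : G)⁻¹ * (u * π ^ k) := by rw [← he]; group
    rw [hh]
    exact mul_mem (J.E_le_KN hc) (mul_mem (J.E_le_KN hu) (pow_mem J.pi_mem_KN k))
  · intro h1
    obtain ⟨e, he, k, -, hh⟩ := J.mem_KN.1 h1
    have hp : (⟨π, J.pi_mem_CZ⟩ : ↥(CZ z π)) ^ k = ⟨π ^ k, pow_mem J.pi_mem_CZ k⟩ := rfl
    rw [hψ h ⟨π ^ k, pow_mem J.pi_mem_CZ k⟩ (by rw [hh]; simpa using he), ← hp, map_pow, J.proj_pi, one_pow]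

/-- Every element of `E` is a product of two commutators with `π` up to the centre. -/
theorem decomp {x : G} (hx : x ∈ E) :
    Rel z x ((π * x * π⁻¹ * x⁻¹) * (π⁻¹ * x * π * x⁻¹)) := by
  have hp : π * x * π⁻¹ ∈ E := J.conjE J.piz hx
  have hq : π⁻¹ * x * π ∈ E := J.conjE' J.piz hx
  let X : ↥E := ⟨x, hx⟩
  let P : ↥E := ⟨π * x * π⁻¹, hp⟩
  let Q : ↥E := ⟨π⁻¹ * x * π, hq⟩
  have h3 : Abelianization.of (X * P * Q) = Abelianization.of 1 :=
    (J.rel_iff_of (x := X * P * Q) (y := 1)).1 (J.prod_three hx)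
  have hgoal : Abelianization.of X = Abelianization.of (P * X⁻¹ * (Q * X⁻¹)) := by
    rw [map_one, map_mul, map_mul] at h3
    simp only [map_mul, map_inv]
    have hX := J.of_sq X
    generalize Abelianization.of X = a at h3 hX ⊢
    generalize Abelianization.of P = p at h3 ⊢
    generalize Abelianization.of Q = q at h3 ⊢
    rw [mul_mul_mul_comm, ← mul_inv_rev, hX, inv_one, mul_one]
    calc a = a⁻¹ := (inv_eq_of_mul_eq_one_right hX).symm
      _ = a⁻¹ * (a * p * q) := by rw [h3, mul_one]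
      _ = p * q := by group
  exact (J.rel_iff_of (x := X) (y := P * X⁻¹ * (Q * X⁻¹))).2 hgoal

/-- Elements of order three in one coset of `E` are conjugate under `E`. -/
theorem conj_of_coset {e t : G} (he : e ∈ E) (ht : t * z = z * t) (h3 : t * t * t = 1)
    (het : e * t * (e * t) * (e * t) = 1) : ∃ f ∈ E, f * t * f⁻¹ = e * t := by
  have hti : t⁻¹ = t * t := inv_eq_of_mul_eq_one_left h3
  have h1 : t * e * t⁻¹ ∈ E := J.conjE ht he
  have h2 : t⁻¹ * e * t ∈ E := J.conjE' ht he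
  have hprod : e * (t * e * t⁻¹) * (t⁻¹ * e * t) = 1 := by
    rw [← het, hti]
    calc e * (t * e * (t * t)) * (t * t * e * t) = e * (t * e) * (t * t * t) * (t * (e * t)) := by group
      _ = _ := by rw [h3]; group
  set f := e * (t⁻¹ * e * t) with hf
  have hfE : f ∈ E := mul_mem he h2
  have hft : t * f⁻¹ * t⁻¹ ∈ E := J.conjE ht (inv_mem hfE)
  let X : ↥E := ⟨e, he⟩
  let P : ↥E := ⟨t * e * t⁻¹, h1⟩
  let Q : ↥E := ⟨t⁻¹ * e * t, h2⟩
  have hval : f * (t * f⁻¹ * t⁻¹) = ((X * Q * (X⁻¹ * P⁻¹) : ↥E) : G) := by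
    simp only [Subgroup.coe_mul, InvMemClass.coe_inv, X, P, Q, hf]
    group
  have hrel : Rel z (f * (t * f⁻¹ * t⁻¹)) e := by
    rw [hval]
    refine (J.rel_iff_of (x := X * Q * (X⁻¹ * P⁻¹)) (y := X)).2 ?_
    have h3' : Abelianization.of (X * P * Q) = 1 := by
      rw [show X * P * Q = 1 from Subtype.ext hprod, map_one]
    rw [map_mul, map_mul] at h3'
    simp only [map_mul, map_inv]
    have hP := J.of_sq P
    have hX := J.of_sq X
    generalize Abelianization.of X = a at h3' hX ⊢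
    generalize Abelianization.of P = p at h3' hP ⊢
    generalize Abelianization.of Q = q at h3' ⊢
    calc a * q * (a⁻¹ * p⁻¹) = q * p⁻¹ := by rw [mul_comm a q, mul_assoc, mul_inv_cancel_left]
      _ = (a * p * q) * (a⁻¹ * (p⁻¹ * p⁻¹)) := by
          rw [mul_comm a p, mul_comm (p * a) q, mul_assoc q, mul_assoc p, mul_inv_cancel_left,
            ← mul_assoc, mul_assoc q, mul_inv_cancel_left]
      _ = a := by rw [h3', ← mul_inv_rev, hP, inv_one, mul_one, one_mul,
            inv_eq_of_mul_eq_one_right hX]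
  rcases hrel with k | k
  · exact ⟨f, hfE, by rw [← k]; group⟩
  · exfalso
    have hft' : f * t * f⁻¹ = z * (e * t) := by rw [← mul_assoc, ← k]; group
    have hc : f * t * f⁻¹ * (f * t * f⁻¹) * (f * t * f⁻¹) = 1 := by
      calc f * t * f⁻¹ * (f * t * f⁻¹) * (f * t * f⁻¹) = f * (t * t * t) * f⁻¹ := by group
        _ = 1 := by rw [h3]; group
    have hzc : Commute z (e * t) :=
      Commute.mul_right (J.s.z_comm he).symm (show z * t = t * z from ht.symm)
    rw [hft', show z * (e * t) * (z * (e * t)) * (z * (e * t)) = (z * (e * t)) ^ 3 by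
      rw [pow_succ, pow_two], hzc.mul_pow, pow_succ (e * t), pow_two, het, mul_one, pow_succ, pow_two,
      J.zz, one_mul] at hc
    exact J.z_ne hc

theorem exists_ab {g : ℕ → M} {vec : ℕ → G} (Mo : J.Model g vec) (T : Gens M g) :
    ∃ a b : ↥(CZ z π), J.proj a = g 0 ∧ J.proj b = g 1 ∧ J.IsPair a b ∧ Acts z vec (a : G) gA := by
  obtain ⟨g1, g2, g3, g4, g5, g6, g7, g8⟩ := gA_ok
  obtain ⟨c, hc, hcA⟩ := Mo.gens 0 (by norm_num)
  obtain ⟨b, hb, hbB⟩ := Mo.gens 1 (by norm_num)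
  rw [g6] at hcA
  rw [g7] at hbB
  obtain ⟨hi0, hi1, hi2, hi3⟩ := T.indep
  have e0 : g 0 * g 0 * g 0 = 1 := by
    have := T.rels [0, 0, 0] (by simp [relList])
    simpa [mul_assoc] using this
  have e1 : g 1 * g 1 * g 1 = 1 := by
    have := T.rels [1, 1, 1] (by simp [relList])
    simpa [mul_assoc] using this
  have hz : ∀ x : ↥(CZ z π), (x : G) * z = z * x := fun x => (mem_CZ.1 x.2).1
  -- adjust the first lift
  have hc3 : J.proj (c * c * c) = 1 := by rw [map_mul, map_mul, hc, e0]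
  obtain ⟨u, huE, hu, k, hk, hcu⟩ := J.exists_pow' hc3
  have huC : u ∈ CZ z π := by rcases hu with h | h <;> rw [h]; exacts [one_mem _, J.z_mem_CZ]
  have hk0 : k = 0 := by
    have h3 : Acts z vec ((c : G) * c * c) idB := by
      refine g8 ▸ Coords.acts_congr (Mo.coords.acts_mul J
        (Mo.coords.acts_mul J hcA (hz c) hcA (okB_comp g1 g1)) (hz (c * c)) hcA
        (okB_comp (okB_comp g1 g1) g1)) (okB_comp g1 (okB_comp g1 g1)) fun n _ => by
          simp only [ap_comp]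
    simp only [Subgroup.coe_mul] at hcu
    rw [hcu] at h3
    have h4 : Acts z vec (u * (π ^ k * 1)) (sB k idB) :=
      Mo.coords.acts_mul_E J (J.acts_pow Mo.coords Mo.om (Mo.coords.acts_one J) k) huE
        (by rw [mul_one]; exact ((show Commute π z from J.piz).pow_left k).eq)
    rw [mul_one] at h4
    have h5 := Mo.coords.acts_eq J h4 h3 1 (by norm_num)
    interval_cases k
    · rfl
    all_goals exact absurd h5 (by decide)
  subst hk0
  rw [pow_zero, mul_one] at hcu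
  simp only [Subgroup.coe_mul] at hcu
  obtain ⟨a, ha⟩ : ∃ a : ↥(CZ z π), a = ⟨u, huC⟩ * c := ⟨_, rfl⟩
  have hpa : J.proj a = g 0 := by
    rw [ha, map_mul, hc, J.proj_eq_one.2 ⟨u, hu, Or.inl rfl⟩, one_mul]
  have haA : Acts z vec (a : G) gA := by
    rw [ha]
    exact Mo.coords.acts_mul_E J hcA huE (hz c)
  have ha3 : a * a * a = 1 := by
    refine Subtype.ext ?_
    rw [ha]
    simp only [Subgroup.coe_mul, OneMemClass.coe_one]
    have huc : Commute u (c : G) := by
      rcases hu with h | h <;> rw [h]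
      exacts [Commute.one_left _, (hz c).symm]
    rw [show u * (c : G) * (u * c) * (u * c) = (u * (c : G)) ^ 3 by rw [pow_succ, pow_two],
      huc.mul_pow, pow_succ, pow_two, pow_succ, pow_two, hcu]
    rcases hu with h | h <;> rw [h]
    · simp
    · rw [J.zz, one_mul, J.zz]
  -- the commutator
  have hcomm : g 0 * g 1 = g 1 * g 0 := by
    have e5 := T.rels [0, 1, 0, 0, 1, 1] (by simp [relList])
    simp only [List.map_cons, List.map_nil, List.prod_cons, List.prod_nil, mul_one] at e5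
    calc g 0 * g 1 = g 0 * g 1 * (g 0 * g 0 * g 0) := by rw [e0, mul_one]
      _ = g 0 * g 1 * g 0 * g 0 * (g 1 * g 1 * g 1) * g 0 := by rw [e1, mul_one]; group
      _ = (g 0 * (g 1 * (g 0 * (g 0 * (g 1 * g 1))))) * (g 1 * g 0) := by group
      _ = g 1 * g 0 := by rw [e5, one_mul]
  obtain ⟨v, hv, j, hj, hab⟩ := J.exists_comm_factor (a := a) (b := b) (by rw [hpa, hb]; exact hcomm)
  have hvE : v ∈ E := by rcases hv with h | h <;> rw [h]; exacts [one_mem E, J.s.z_mem]
  have hj1 : j = 1 := by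
    have h1 := Mo.coords.acts_mul J haA (hz a) hbB (okB_comp g1 hbB.1)
    have h2 : Acts z vec (v * (π ^ j * ((b : G) * a))) (sB j (comp gB gA)) :=
      Mo.coords.acts_mul_E J
        (J.acts_pow Mo.coords Mo.om (Mo.coords.acts_mul J hbB (hz b) haA (okB_comp hbB.1 g1)) j) hvE
        (((show Commute π z from J.piz).pow_left j).mul_left (hz (b * a))).eq
    have he : v * (π ^ j * ((b : G) * a)) = (a : G) * b := by
      rw [← mul_assoc, ← hab]
    rw [he] at h2
    have he2 : comp gA gB = sB j (comp gB gA) := by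
      have hl1 : (comp gA gB).length = 12 := rfl
      have hl2 : (sB j (comp gB gA)).length = 12 := by
        have := h2.1
        simp only [okB, Bool.and_eq_true, beq_iff_eq] at this
        exact this.1
      refine List.ext_getElem (by rw [hl1, hl2]) fun i hi hi' => ?_
      rw [hl1] at hi
      have e := Mo.coords.acts_eq J h1 h2 (2 ^ i)
        (lt_of_lt_of_le (Nat.pow_lt_pow_right (by norm_num) hi) (by norm_num))
      rw [ap_pow, ap_pow, List.getD_eq_getElem _ _ (by omega), List.getD_eq_getElem _ _ hi'] at e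
      exact e
    simp only [List.all_eq_true, List.mem_range, Bool.or_eq_true, Bool.not_eq_true',
      ← Bool.not_eq_true, beq_iff_eq, Nat.beq_eq] at g5
    exact (g5 j hj).resolve_left fun e => e he2
  subst hj1
  rw [pow_one] at hab
  have hv1 : v = 1 := by
    refine hv.resolve_right fun hz' => ?_
    subst hz'
    have hbb : (b : G) * a * (b : G)⁻¹ = (v * π)⁻¹ * a := by
      calc (b : G) * a * (b : G)⁻¹ = (v * π)⁻¹ * (v * π * ((b : G) * a)) * (b : G)⁻¹ := by group
        _ = _ := by rw [← hab]; group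
    have h3 : ((b : G) * a * (b : G)⁻¹) ^ 3 = 1 := by
      rw [conj_pow, pow_succ, pow_two, show (a : G) * a * a = 1 from congrArg Subtype.val ha3]; group
    have hc1 : Commute (v * π)⁻¹ (a : G) := by
      refine Commute.inv_left (Commute.mul_left (hz a).symm ?_)
      exact (show Commute (a : G) π from (mem_CZ.1 a.2).2).symm
    rw [hbb, hc1.mul_pow, pow_succ (a : G), pow_two, show (a : G) * a * a = 1 from congrArg Subtype.val ha3,
      mul_one, inv_pow, inv_eq_one, (show Commute v π from J.piz.symm).mul_pow, J.pi_pow_three, mul_one,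
      pow_succ, pow_two, J.zz, one_mul] at h3
    exact J.z_ne h3
  rw [hv1, one_mul] at hab
  refine ⟨a, b, hpa, hb, ⟨ha3, by rw [hab]; group, by rw [hpa]; exact hi0, by rw [hb]; exact hi1, by rw [hb]; exact e1,
    ?_, ?_⟩, haA⟩
  · rw [Mo.coords.card_fx J haA (hz a), g3]; norm_num
  · refine ⟨vec 1, (Mo.coords.mem_fx_vec J haA (hz a) (by norm_num)).2 g2, fun h => ?_⟩
    obtain ⟨e, he, hxe⟩ := (J.mem_tc (hz a)).1 h
    obtain ⟨n, hn, hen⟩ := Mo.coords.surj e he
    have hr : Rel z ((a : G) * e * (a : G)⁻¹ * e⁻¹) (vec (Nat.xor (ap gA n) n)) := by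
      have hlt := okB_lt haA.1 n
      exact J.rel_trans
        (J.rel_mul (J.s.z_comm (Mo.coords.mem _ hlt))
          (J.rel_trans (J.rel_conj (hz a) hen) (haA.2 n hn)) (J.rel_trans (J.rel_inv he) hen))
        (J.rel_symm (Mo.coords.add _ n hlt hn))
    have e16 := (Mo.coords.rel_iff J (by norm_num)
      (Nat.xor_lt_two_pow (n := 12) (okB_lt haA.1 n) hn)).1 (J.rel_trans hxe hr)
    simp only [List.all_eq_true, List.mem_range, Nat.beq_eq] at g4
    have := g4 n hn
    simp only [show Nat.xor (ap gA n) n = 1 from e16.symm] at this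
    norm_num at this

/-- For a conjugate `w` of `z` in `C(z, π)` some element carries `z` to `w` and `a` to `π`. -/
theorem exists_h (F : Small M)
    (hdim : ∀ c ∈ CZ z π, c * c = 1 → c ≠ 1 → c ≠ z → Nat.card (fx z E c) = 2 ^ 9)
    {a b : ↥(CZ z π)} (P : J.IsPair a b) {k : G} (hw : k * z * k⁻¹ ∈ CZ z π)
    (hne : k * z * k⁻¹ ≠ z) :
    ∃ h : G, h * z * h⁻¹ = k * z * k⁻¹ ∧ h * (a : G) * h⁻¹ = π := by
  classical
  have J' := J.conj k
  obtain ⟨w, hwdef⟩ : ∃ w, w = k * z * k⁻¹ := ⟨_, rfl⟩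
  obtain ⟨p, hp⟩ : ∃ p, p = k * π * k⁻¹ := ⟨_, rfl⟩
  obtain ⟨E', hE'⟩ : ∃ E', E' = E.map (MulAut.conj k).toMonoidHom := ⟨_, rfl⟩
  rw [← hwdef] at hw hne J' ⊢
  rw [← hp, ← hE'] at J'
  obtain ⟨hwz, hwπ⟩ := mem_CZ.1 hw
  have hw2 : w * w = 1 := J'.zz
  -- `π` lies outside the normal subgroup at `w`
  have hπH : π ∈ H0 w p E' := by
    have := J'.sq_mem_H0 (a := π * π) (((show Commute π w from hwπ.symm).mul_left hwπ.symm)).eq
    rwa [show π * π * (π * π) = π * π * π * π by group, J.pi3, one_mul] at this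
  have hπK : π ∉ KN p E' := by
    intro hπ
    set S := fx z E w ⊓ KN p E' with hS
    have hSc : ∀ x ∈ fx z E w, x * w = w * x := fun x hx => (J.comm_of_fx hw hx).symm
    have hcov : ∀ x ∈ fx z E w, x ∈ KN p E' ∨ z * x ∈ KN p E' := by
      intro x hx
      have hxE := J.fx_le hwz hx
      have k1 : π * x * π⁻¹ * x⁻¹ ∈ KN p E' := by
        rw [show π * x * π⁻¹ * x⁻¹ = π * (x * π⁻¹ * x⁻¹) by group]
        exact mul_mem hπ (J'.conj_mem_KN (hSc x hx) (inv_mem hπ))
      have k2 : π⁻¹ * x * π * x⁻¹ ∈ KN p E' := by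
        rw [show π⁻¹ * x * π * x⁻¹ = π⁻¹ * (x * π * x⁻¹) by group]
        exact mul_mem (inv_mem hπ) (J'.conj_mem_KN (hSc x hx) hπ)
      rcases J.decomp hxE with e | e
      · exact Or.inl (e ▸ mul_mem k1 k2)
      · refine Or.inr ?_
        rw [e, ← mul_assoc, J.zz, one_mul]
        exact mul_mem k1 k2
    have hfw := hdim w hw hw2 J'.z_ne hne
    have hzfx := J.z_mem_fx hwz
    have hle : Nat.card (fx z E w) ≤ 2 * Nat.card S := by
      have hsurj : Function.Surjective (fun q : Bool × S =>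
          (⟨cond q.1 (z * (q.2 : G)) q.2, by
            obtain ⟨i, q, hq⟩ := q
            cases i
            · exact hq.1
            · exact mul_mem hzfx hq.1⟩ : fx z E w)) := by
        rintro ⟨x, hx⟩
        rcases hcov x hx with h | h
        · exact ⟨(false, ⟨x, hx, h⟩), rfl⟩
        · exact ⟨(true, ⟨z * x, mul_mem hzfx hx, h⟩), Subtype.ext (by simp [← mul_assoc, J.zz])⟩
      have := Nat.card_le_card_of_surjective _ hsurj
      rwa [Nat.card_prod, Nat.card_eq_fintype_card (α := Bool), Fintype.card_bool] at this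
    have hSE : S ≤ E ⊓ E' := fun x hx => by
      have hxE := J.fx_le hwz hx.1
      refine ⟨hxE, J'.mem_E_of_KN hx.2 ?_⟩
      rw [show x ^ 4 = (x * x) * (x * x) by rw [show (4 : ℕ) = 2 + 2 from rfl, pow_add, pow_two]]
      rcases J.s.sq_cases hxE with e | e <;> rw [e]
      exacts [one_mul 1, J.zz]
    have hab : ∀ x ∈ S, ∀ y ∈ S, x * y = y * x := by
      intro x hx y hy
      rcases J.s.comm_cases (hSE hx).1 (hSE hy).1 with h | h
      · exact mul_inv_eq_iff_eq_mul.1 h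
      rcases J'.s.comm_cases (hSE hx).2 (hSE hy).2 with h' | h'
      · exact mul_inv_eq_iff_eq_mul.1 h'
      · exact absurd (mul_right_cancel (h.symm.trans h')).symm hne
    have := J.card_abelian_le (hSE.trans inf_le_left) hab
    omega
  -- the image of `a` at `w`
  obtain ⟨ψ, hψ⟩ := J'.exists_projH
  obtain ⟨haz, hap⟩ := mem_CZ.1 a.2
  have ha' : k * (a : G) * k⁻¹ ∈ CZ w p := by
    rw [hwdef, hp, mem_CZ]
    constructor
    · calc k * (a : G) * k⁻¹ * (k * z * k⁻¹) = k * ((a : G) * z) * k⁻¹ := by group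
        _ = _ := by rw [haz]; group
    · calc k * (a : G) * k⁻¹ * (k * π * k⁻¹) = k * ((a : G) * π) * k⁻¹ := by group
        _ = _ := by rw [hap]; group
  have ha3 : (a : G) * a * a = 1 := congrArg Subtype.val P.cube
  set A' : ↥(CZ w p) := ⟨_, ha'⟩ with hA'
  have hA'3 : A' * A' * A' = 1 := Subtype.ext (by
    show k * (a : G) * k⁻¹ * (k * a * k⁻¹) * (k * a * k⁻¹) = 1
    calc _ = k * ((a : G) * a * a) * k⁻¹ := by group
      _ = 1 := by rw [ha3]; group)
  have hA'ne : J'.proj A' ≠ 1 := fun h => P.a_ne <| by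
    obtain ⟨u, huE, -, i, -, he⟩ := J'.exists_pow' h
    have hu : k⁻¹ * u * k ∈ E := by
      rw [hE'] at huE
      obtain ⟨y, hy, rfl⟩ := huE
      simpa [mul_assoc] using hy
    have hae : (a : G) = k⁻¹ * u * k * π ^ i := by
      calc (a : G) = k⁻¹ * (k * a * k⁻¹) * k := by group
        _ = k⁻¹ * (u * p ^ i) * k := by rw [show k * (a : G) * k⁻¹ = u * p ^ i from he]
        _ = _ := by rw [hp, conj_pow]; group
    have hp' : J.proj (⟨π, J.pi_mem_CZ⟩ ^ i) = 1 := by rw [map_pow, J.proj_pi, one_pow]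
    rw [← hp']
    refine J.proj_eq ?_
    rw [hae]
    simpa [mul_assoc] using hu
  have hπ3 : ψ ⟨π, hπH⟩ * ψ ⟨π, hπH⟩ * ψ ⟨π, hπH⟩ = 1 := by
    rw [← map_mul, ← map_mul, ← map_one ψ]
    exact congrArg ψ (Subtype.ext J.pi3)
  have hπne : ψ ⟨π, hπH⟩ ≠ 1 := fun h => hπK ((J'.psi_eq_one hψ).1 h)
  have hA'img : J'.proj A' * J'.proj A' * J'.proj A' = 1 := by rw [← map_mul, ← map_mul, hA'3, map_one]
  obtain ⟨m, hm⟩ := isConj_iff.1 (F.three_conj _ _
    (orderOf_eq_prime (by rw [pow_succ, pow_two, hA'img]) hA'ne)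
    (orderOf_eq_prime (by rw [pow_succ, pow_two, hπ3]) hπne))
  obtain ⟨d, rfl⟩ := J'.proj_surj m
  rw [← map_inv, ← map_mul, ← map_mul] at hm
  obtain ⟨c, hc⟩ := J'.exists_part ⟨π, hπH⟩
  rw [hψ _ c hc] at hm
  obtain ⟨u, huE, hu, i, -, hi⟩ := J'.exists_pow' (c := c * (d * A' * d⁻¹)⁻¹)
    (by rw [map_mul, map_inv, hm, mul_inv_cancel])
  simp only [Subgroup.coe_mul, InvMemClass.coe_inv] at hi
  -- powers of `π` times `a` are conjugates of `a`
  have hbconj : ∀ n : ℕ, (b : G) ^ n * a * ((b : G) ^ n)⁻¹ = (π⁻¹) ^ n * a := by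
    intro n
    induction n with
    | zero => simp
    | succ n ih =>
      have hb : (b : G) * a * (b : G)⁻¹ = π⁻¹ * a := by
        calc (b : G) * a * (b : G)⁻¹ = ((a : G) * b * (a : G)⁻¹ * (b : G)⁻¹)⁻¹ * a := by group
          _ = _ := by rw [P.comm]
      have hbp : Commute (b : G) π⁻¹ := (show Commute (b : G) π from (mem_CZ.1 b.2).2).inv_right
      calc (b : G) ^ (n + 1) * a * ((b : G) ^ (n + 1))⁻¹
          = (b : G) * ((b : G) ^ n * a * ((b : G) ^ n)⁻¹) * (b : G)⁻¹ := by rw [pow_succ']; group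
        _ = (b : G) * π⁻¹ ^ n * a * (b : G)⁻¹ := by rw [ih]; group
        _ = π⁻¹ ^ n * ((b : G) * a * (b : G)⁻¹) := by rw [(hbp.pow_right n).eq]; group
        _ = _ := by rw [hb, pow_succ, mul_assoc]
  have hBπ : (b : G) ^ (2 * i) * a * ((b : G) ^ (2 * i))⁻¹ = π ^ i * a := by
    rw [hbconj, pow_mul, show π⁻¹ ^ 2 = π by rw [J.pi_inv, pow_two, ← mul_assoc, J.pi3, one_mul]]
  set t := (d : G) * (k * (π ^ i * a) * k⁻¹) * (d : G)⁻¹ with ht
  have htz : t * w = w * t := by
    have h1 : Commute (k * (π ^ i * a) * k⁻¹) w := by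
      rw [show k * (π ^ i * (a : G)) * k⁻¹ = (k * π * k⁻¹) ^ i * (k * a * k⁻¹) by rw [conj_pow]; group, ← hp]
      exact ((show Commute p w from J'.piz).pow_left i).mul_left (mem_CZ.1 ha').1
    have h2 : Commute (d : G) w := (mem_CZ.1 d.2).1
    exact ((h2.mul_left h1).mul_left h2.inv_left).eq
  have ht3 : t * t * t = 1 := by
    have h1 : Commute (π ^ i) (a : G) := (show Commute π (a : G) from hap.symm).pow_left i
    calc t * t * t = (d : G) * (k * ((π ^ i * a) * (π ^ i * a) * (π ^ i * a)) * k⁻¹) * (d : G)⁻¹ := by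
          rw [ht]; group
      _ = (d : G) * (k * (π ^ i * a) ^ 3 * k⁻¹) * (d : G)⁻¹ := by rw [pow_succ, pow_two]
      _ = 1 := by
          rw [h1.mul_pow, ← pow_mul, mul_comm i, pow_mul, J.pi_pow_three, one_pow, one_mul, pow_succ,
            pow_two, ha3]
          group
  have hte : π * t⁻¹ ∈ E' := by
    have hdp : Commute (d : G) (p ^ i) := (show Commute (d : G) p from (mem_CZ.1 d.2).2).pow_right i
    have hte' : t = p ^ i * ((d : G) * (k * a * k⁻¹) * (d : G)⁻¹) := by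
      calc t = (d : G) * ((k * π * k⁻¹) ^ i * (k * a * k⁻¹)) * (d : G)⁻¹ := by rw [ht, conj_pow]; group
        _ = (d : G) * (p ^ i * (k * a * k⁻¹)) * (d : G)⁻¹ := by simp only [← hp]
        _ = _ := by rw [← mul_assoc (d : G), hdp.eq]; group
    have hcv : (c : G) = u * t := by
      have hi' : (c : G) * ((d : G) * (k * a * k⁻¹) * (d : G)⁻¹)⁻¹ = u * p ^ i := hi
      rw [hte', ← mul_assoc, ← hi']; group
    have : π * t⁻¹ = π * (c : G)⁻¹ * u := by rw [hcv]; group
    rw [this]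
    exact mul_mem hc huE
  obtain ⟨f, hf, hft⟩ := J'.conj_of_coset hte htz ht3 (by rw [inv_mul_cancel_right, J.pi3])
  rw [inv_mul_cancel_right] at hft
  refine ⟨f * d * k * (b : G) ^ (2 * i), ?_, ?_⟩
  · have hbz : Commute ((b : G) ^ (2 * i)) z := (show Commute (b : G) z from (mem_CZ.1 b.2).1).pow_left _
    calc f * d * k * (b : G) ^ (2 * i) * z * (f * d * k * (b : G) ^ (2 * i))⁻¹
        = f * ((d : G) * (k * ((b : G) ^ (2 * i) * z * ((b : G) ^ (2 * i))⁻¹) * k⁻¹) * (d : G)⁻¹) * f⁻¹ := by group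
      _ = w := by
        rw [hbz.eq, mul_inv_cancel_right, ← hwdef, (mem_CZ.1 d.2).1, mul_inv_cancel_right,
          J'.s.z_comm hf, mul_inv_cancel_right]
  · calc f * d * k * (b : G) ^ (2 * i) * a * (f * d * k * (b : G) ^ (2 * i))⁻¹
        = f * ((d : G) * (k * ((b : G) ^ (2 * i) * a * ((b : G) ^ (2 * i))⁻¹) * k⁻¹) * (d : G)⁻¹) * f⁻¹ := by group
      _ = π := by rw [hBπ, ← ht, hft]

end Ctx

end CfsgLib.JFour
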