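import Cfsg.Agent.Lib.JFour.ECase
import Cfsg.Agent.Lib.JFour.XCase

/-!
# Elementary abelian subgroups of order `2 ^ 11`

They lie in `H0`, meet `E` in the common fixed space of the hexad group and exist.
-/

set_option autoImplicit false
set_option maxRecDepth 100000
set_option linter.style.haveILetI false
set_option linter.unusedSectionVars false

open Cfsg

namespace CfsgLib.JFour

/-- The vectors fixed by the matrices of a list of words. -/
def fixP (W : List (List ℕ)) (n : ℕ) : Bool := W.all fun w => Nat.beq (ap (wB w) n) n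

theorem fix_counts : ((List.range 4096).filter (fixP hexW)).length = 64 ∧
    ((List.range 4096).filter (fixP duadW)).length ≤ 4 := by decide +kernel

theorem hex_comm_fix : hexW.all (fun w => (List.range 12).all fun i =>
    fixP hexW (Nat.xor (ap (wB w) (2 ^ i)) (2 ^ i))) = true := by decide +kernel

theorem fixP_xor {W : List (List ℕ)} {m n : ℕ} (hm : fixP W m = true) (hn : fixP W n = true) :
    fixP W (Nat.xor m n) = true := by
  simp only [fixP, List.all_eq_true, Nat.beq_eq] at hm hn ⊢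
  intro w hw
  show ap (wB w) (m ^^^ n) = m ^^^ n
  rw [ap_xor, hm w hw, hn w hw]

theorem fixP_zero (W : List (List ℕ)) : fixP W 0 = true := by
  simp [fixP, ap_zero]

/-- The image of every vector under the displacement of a hexad word is fixed. -/
theorem hex_disp {w : List ℕ} (hw : w ∈ hexW) : ∀ n < 4096, fixP hexW (Nat.xor (ap (wB w) n) n) = true := by
  have h := hex_comm_fix
  simp only [List.all_eq_true, List.mem_range] at h
  suffices H : ∀ k ≤ 12, ∀ n < 2 ^ k, fixP hexW (Nat.xor (ap (wB w) n) n) = true from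
    fun n hn => H 12 le_rfl n (by simpa using hn)
  intro k
  induction k with
  | zero =>
    intro _ n hn
    obtain rfl : n = 0 := by simpa using hn
    rw [ap_zero]
    exact fixP_zero _
  | succ k ih =>
    intro hk n hn
    by_cases hlt : n < 2 ^ k
    · exact ih (by omega) n hlt
    obtain ⟨r, hr⟩ : ∃ r, n = 2 ^ k + r := ⟨n - 2 ^ k, by omega⟩
    have hr' : r < 2 ^ k := by rw [pow_succ] at hn; omega
    have e : n = 2 ^ k ^^^ r := by
      refine Nat.eq_of_testBit_eq fun i => ?_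
      rw [hr, Nat.testBit_xor]
      rcases lt_trichotomy i k with h | h | h
      · rw [Nat.testBit_two_pow_add_gt h, Nat.testBit_two_pow]; simp [Nat.ne_of_gt h]
      · subst h; rw [Nat.testBit_two_pow_add_eq, Nat.testBit_two_pow_self, Nat.testBit_lt_two_pow hr']; rfl
      · have h1 : r.testBit i = false :=
          Nat.testBit_lt_two_pow (lt_trans hr' (Nat.pow_lt_pow_right (by norm_num) h))
        have h2 : (2 ^ k + r).testBit i = false :=
          Nat.testBit_lt_two_pow (lt_of_lt_of_le (show 2 ^ k + r < 2 ^ (k + 1) by rw [pow_succ]; omega)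
            (Nat.pow_le_pow_right (by norm_num) h))
        rw [h1, h2, Nat.testBit_two_pow]; simp [Nat.ne_of_lt h]
    rw [e, ap_xor]
    have h1 : fixP hexW (Nat.xor (ap (wB w) (2 ^ k)) (2 ^ k)) = true := h w hw k (by omega)
    have h2 := fixP_xor h1 (ih (by omega) r hr')
    convert h2 using 2
    show (ap (wB w) (2 ^ k) ^^^ ap (wB w) r) ^^^ (2 ^ k ^^^ r) =
      (ap (wB w) (2 ^ k) ^^^ 2 ^ k) ^^^ (ap (wB w) r ^^^ r)
    simp only [Nat.xor_assoc, Nat.xor_left_comm, Nat.xor_comm]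

variable {G : Type*} [Group G] [Finite G] {M : Type*} [Group M] [Finite M] {z π : G} {E : Subgroup G}

/-- Two subgroups of a finite subgroup. -/
theorem card_mul_card_le {H K F : Subgroup G} (hH : H ≤ F) (hK : K ≤ F) :
    Nat.card H * Nat.card K ≤ Nat.card ↥(H ⊓ K) * Nat.card F := by
  classical
  let φ : H × K → F := fun p => ⟨(p.1 : G) * p.2, mul_mem (hH p.1.2) (hK p.2.2)⟩
  let s := Function.invFun φ
  have hs : ∀ p, φ (s (φ p)) = φ p := fun p => Function.invFun_eq ⟨p, rfl⟩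
  have hmem : ∀ p, ((s (φ p)).1 : G)⁻¹ * p.1 ∈ H ⊓ K := fun p => by
    refine Subgroup.mem_inf.2 ⟨mul_mem (inv_mem (s (φ p)).1.2) p.1.2, ?_⟩
    have e : ((s (φ p)).1 : G) * (s (φ p)).2 = (p.1 : G) * p.2 := congrArg Subtype.val (hs p)
    rw [show ((s (φ p)).1 : G)⁻¹ * p.1 = ((s (φ p)).2 : G) * (p.2 : G)⁻¹ by
      rw [inv_mul_eq_iff_eq_mul, ← mul_assoc, e, mul_inv_cancel_right]]
    exact mul_mem (s (φ p)).2.2 (inv_mem p.2.2)
  rw [← Nat.card_prod, ← Nat.card_prod]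
  refine Nat.card_le_card_of_injective
    (fun p => ((⟨_, hmem p⟩, φ p) : ↥(H ⊓ K) × F)) fun p q h => ?_
  obtain ⟨h1, h2⟩ := Prod.ext_iff.1 h
  have h1' : ((s (φ p)).1 : G)⁻¹ * p.1 = ((s (φ q)).1 : G)⁻¹ * q.1 := congrArg Subtype.val h1
  simp only at h2
  rw [h2] at h1'
  have e1 : p.1 = q.1 := Subtype.ext (mul_left_cancel h1')
  have h2' : (p.1 : G) * p.2 = (q.1 : G) * q.2 := congrArg Subtype.val h2
  rw [e1] at h2'
  exact Prod.ext e1 (Subtype.ext (mul_left_cancel h2'))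

theorem comm_of_sq {A : Subgroup G} (h : ∀ a ∈ A, a * a = 1) : ∀ a ∈ A, ∀ b ∈ A, a * b = b * a := by
  intro a ha b hb
  calc a * b = (a * b)⁻¹ := (inv_eq_of_mul_eq_one_right (h _ (mul_mem ha hb))).symm
    _ = b * a := by
      rw [mul_inv_rev, inv_eq_of_mul_eq_one_right (h _ ha), inv_eq_of_mul_eq_one_right (h _ hb)]

theorem isPGroup_of_sq {A : Subgroup G} (h : ∀ a ∈ A, a * a = 1) : IsPGroup 2 A := fun a =>
  ⟨1, Subtype.ext (by simpa [pow_two] using h a a.2)⟩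

namespace Ctx

variable (J : Ctx M z π E)
include J

/-- A 2-element of `E⟨π⟩` lies in `E`. -/
theorem mem_E_of_KN_two {h : G} (h' : h ∈ KN π E) {n : ℕ} (hn : h ^ 2 ^ n = 1) : h ∈ E := by
  obtain ⟨e, he, k, -, rfl⟩ := J.mem_KN.1 h'
  refine J.mem_E_of_KN h' ?_
  have hk : ∀ j : ℕ, π ^ j * e * (π ^ j)⁻¹ ∈ E := fun j =>
    J.conjE ((show Commute π z from J.piz).pow_left j).eq he
  have h3 : (e * π ^ k) ^ 3 ∈ E := by
    have e3 : (e * π ^ k) ^ 3 = e * (π ^ k * e * (π ^ k)⁻¹) * (π ^ (k + k) * e * (π ^ (k + k))⁻¹) *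
        π ^ (k * 3) := by
      rw [show π ^ (k * 3) = π ^ k * π ^ k * π ^ k by rw [pow_mul, pow_succ, pow_two],
        pow_succ, pow_two, pow_add]
      group
    rw [e3, mul_comm k, pow_mul, J.pi_pow_three, one_pow, mul_one]
    exact mul_mem (mul_mem he (hk k)) (hk (k + k))
  have h12 : (e * π ^ k) ^ 12 = 1 := by
    rw [show (12 : ℕ) = 3 * 4 from rfl, pow_mul,
      show ((e * π ^ k) ^ 3) ^ 4 = ((e * π ^ k) ^ 3 * (e * π ^ k) ^ 3) ^ 2 by
        rw [← pow_two ((e * π ^ k) ^ 3), ← pow_mul ((e * π ^ k) ^ 3)]]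
    rcases J.s.sq_cases h3 with q | q <;> rw [q]
    exacts [one_pow 2, by rw [pow_two, J.zz]]
  have hd := Nat.dvd_gcd (orderOf_dvd_of_pow_eq_one h12) (orderOf_dvd_of_pow_eq_one hn)
  refine orderOf_dvd_iff_pow_eq_one.1 (hd.trans ?_)
  have h4 : Nat.gcd 12 (2 ^ n) = Nat.gcd 4 (2 ^ n) := by
    rw [show (12 : ℕ) = 3 * 4 from rfl]
    exact Nat.Coprime.gcd_mul_left_cancel 4 ((by norm_num : Nat.Coprime 3 2).pow_right n)
  rw [h4]
  exact Nat.gcd_dvd_left _ _

/-- The vectors of a subgroup of `E` containing `z` determine it. -/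
theorem vec_mem {vec : ℕ → G} (V : Coords z E vec) {A : Subgroup G} (hz : z ∈ A) {x : G} (hx : x ∈ E) :
    ∃ n, n < 4096 ∧ Rel z x (vec n) ∧ (x ∈ A ↔ vec n ∈ A) := by
  obtain ⟨n, hn, hr⟩ := V.surj x hx
  refine ⟨n, hn, hr, ?_⟩
  rcases hr with k | k <;> rw [k]
  exact (A.mul_mem_cancel_left hz)

/-- The subgroup of the vectors fixed by a list of words. -/
theorem exists_fixU {vec : ℕ → G} (V : Coords z E vec) (W : List (List ℕ)) :
    ∃ U : Subgroup G, U ≤ E ∧ z ∈ U ∧ (∀ n, n < 4096 → (vec n ∈ U ↔ fixP W n = true)) ∧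
      Nat.card U = 2 * ((List.range 4096).filter (fixP W)).length := by
  let U : Subgroup G :=
    { carrier := {x | x ∈ E ∧ ∃ n, n < 4096 ∧ Rel z x (vec n) ∧ fixP W n = true}
      one_mem' := ⟨one_mem E, 0, by norm_num, J.rel_symm (V.rel_zero J), fixP_zero W⟩
      mul_mem' := by
        rintro x y ⟨hx, m, hm, hxm, hpm⟩ ⟨hy, n, hn, hyn, hpn⟩
        refine ⟨mul_mem hx hy, Nat.xor m n, Nat.xor_lt_two_pow (n := 12) hm hn, ?_, fixP_xor hpm hpn⟩
        exact J.rel_trans (J.rel_mul (J.s.z_comm (V.mem m hm)) hxm hyn) (J.rel_symm (V.add m n hm hn))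
      inv_mem' := by
        rintro x ⟨hx, m, hm, hxm, hpm⟩
        exact ⟨inv_mem hx, m, hm, J.rel_trans (J.rel_inv hx) hxm, hpm⟩ }
  have hUE : U ≤ E := fun x hx => hx.1
  have hiff : ∀ n, n < 4096 → (vec n ∈ U ↔ fixP W n = true) := fun n hn =>
    ⟨fun ⟨_, m, hm, hr, hp⟩ => (V.rel_iff J hn hm).1 hr ▸ hp, fun hp => ⟨V.mem n hn, n, hn, J.rel_refl _, hp⟩⟩
  have hzU : z ∈ U := ⟨J.s.z_mem, 0, by norm_num,
    J.rel_trans (Or.inr (mul_one z).symm) (J.rel_symm (V.rel_zero J)), fixP_zero W⟩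
  exact ⟨U, hUE, hzU, hiff, V.card_eq J hUE hzU _ hiff⟩

/-- Outer elementary subgroups are small. -/
theorem card_outer_le (F : Small M)
    (hdim : ∀ c ∈ CZ z π, c * c = 1 → c ≠ 1 → c ≠ z → Nat.card (fx z E c) = 2 ^ 9)
    {A : Subgroup G} (hA : ∀ a ∈ A, a * z = z * a) (h1 : ∀ a ∈ A, a * a = 1)
    (hout : ¬ A ≤ H0 z π E) : Nat.card A ≤ 2 ^ 10 := by
  classical
  obtain ⟨w, hw, hwH⟩ := SetLike.not_le_iff_exists.1 hout
  have hcom := comm_of_sq h1
  have hle := J.card_le_H0 (S := A) hA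
  set A0 := A ⊓ H0 z π E with hA0
  have hA0b : Nat.card A0 ≤ 16 * Nat.card ↥(A0 ⊓ E) :=
    J.card_abelian_bound F inf_le_right (isPGroup_of_sq fun a ha => h1 a ha.1)
      fun a ha b hb => hcom a ha.1 b hb.1
  by_cases hAE : A0 ≤ E
  · have := J.card_abelian_le hAE fun a ha b hb => hcom a ha.1 b hb.1
    omega
  obtain ⟨x, hx, hxE⟩ := SetLike.not_le_iff_exists.1 hAE
  obtain ⟨e, he, c, hc, hxc, hc2, -⟩ := J.exists_split F hx.2 (h1 x hx.1)
  obtain ⟨hcz, hcp⟩ := mem_CZ.1 hc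
  have hc1 : c ≠ 1 := fun k => hxE (by rw [hxc, k, mul_one]; exact he)
  have hc1' : c ≠ z := fun k => hxE (by rw [hxc, k]; exact mul_mem he J.s.z_mem)
  have hF := hdim c hc hc2 hc1 hc1'
  set Y := A0 ⊓ E with hY
  set Y' := Y.map (MulAut.conj π).toMonoidHom with hY'
  have hYfx : Y ≤ fx z E c := by
    intro y hy
    refine (J.mem_fx hcz).2 ⟨hy.2, ?_⟩
    have h2 : x * y * x⁻¹ = y := by rw [hcom x hx.1 y hy.1.1, mul_inv_cancel_right]
    have h3 : Rel z (e * (c * y * c⁻¹) * e⁻¹) (c * y * c⁻¹) := J.rel_conj_E he (J.conjE hcz hy.2)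
    rw [show e * (c * y * c⁻¹) * e⁻¹ = x * y * x⁻¹ by rw [hxc]; group, h2] at h3
    exact J.rel_symm h3
  have hY'fx : Y' ≤ fx z E c := by
    rintro _ ⟨y, hy, rfl⟩
    have hf := (J.mem_fx hcz).1 (hYfx hy)
    refine (J.mem_fx hcz).2 ⟨J.conjE J.piz hy.2, ?_⟩
    have h2 := J.rel_conj J.piz hf.2
    show Rel z (c * (π * y * π⁻¹) * c⁻¹) (π * y * π⁻¹)
    rwa [show c * (π * y * π⁻¹) * c⁻¹ = c * π * y * (c * π)⁻¹ by group, hcp,
      show π * c * y * (π * c)⁻¹ = π * (c * y * c⁻¹) * π⁻¹ by group]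
  have hwz := hA w hw
  obtain ⟨f, hf, hfπ⟩ := (J.not_mem_H0_iff hwz).1 hwH
  have hint : Y ⊓ Y' ≤ Subgroup.zpowers z := by
    rintro u ⟨huY, v, hv, huv⟩
    have huv' : u = π * v * π⁻¹ := huv.symm
    have e1 : w * u * w⁻¹ = u := by rw [hcom w hw u huY.1.1, mul_inv_cancel_right]
    have e2 : w * v * w⁻¹ = v := by rw [hcom w hw v hv.1.1, mul_inv_cancel_right]
    have hvE : v ∈ E := hv.2
    have e3 : u = f * (π⁻¹ * (f⁻¹ * v * f) * π) * f⁻¹ := by
      rw [← e1, huv', show w * (π * v * π⁻¹) * w⁻¹ = (w * π * w⁻¹) * (w * v * w⁻¹) * (w * π * w⁻¹)⁻¹ by group,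
        e2, hfπ]
      group
    have hvf : f⁻¹ * v * f ∈ E := mul_mem (mul_mem (inv_mem hf) hvE) hf
    have hpz : π⁻¹ * z = z * π⁻¹ := (Commute.inv_left (show Commute π z from J.piz)).eq
    have r1 : Rel z u (π⁻¹ * (f⁻¹ * v * f) * π) := e3 ▸ J.rel_conj_E hf (J.conjE' J.piz hvf)
    have r2 : Rel z (f⁻¹ * v * f) v := by
      have := J.rel_conj_E (inv_mem hf) hvE
      rwa [inv_inv] at this
    have r3 : Rel z (π⁻¹ * (f⁻¹ * v * f) * π) (π⁻¹ * v * π) := by
      have := J.rel_conj hpz r2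
      rwa [inv_inv] at this
    have r4 := J.rel_symm (J.rel_trans r1 r3)
    have hfix : Rel z (π * u * π⁻¹) u := by
      convert r4 using 1
      rw [huv', show π * (π * v * π⁻¹) * π⁻¹ = (π * π) * v * (π * π)⁻¹ by group, ← J.pi_inv, inv_inv]
    rcases J.fpf_rel huY.2 hfix with k | k <;> rw [k]
    · exact one_mem _
    · rw [mul_one]; exact Subgroup.mem_zpowers z
  have hprod := card_mul_card_le hYfx hY'fx
  have hzc : Nat.card ↥(Y ⊓ Y') ≤ 2 := J.card_zpowers_z ▸ Subgroup.card_le_of_le hint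
  rw [hY', Subgroup.card_map_of_injective (MulAut.conj π).injective, ← hY', hF] at hprod
  have hYb : Nat.card Y ≤ 32 := by
    have h2 : Nat.card Y * Nat.card Y ≤ 2 * 2 ^ 9 := hprod.trans (Nat.mul_le_mul_right _ hzc)
    by_contra hgt
    have h3 : 33 * 33 ≤ Nat.card Y * Nat.card Y := Nat.mul_le_mul (by omega) (by omega)
    omega
  omega

/-- The order of an elementary subgroup of `H0` as intersection with `E` times image. -/
theorem split_card {ψ : ↥(H0 z π E) →* M}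
    (hψ : ∀ (h : ↥(H0 z π E)) (c : ↥(CZ z π)), (h : G) * (c : G)⁻¹ ∈ E → ψ h = J.proj c)
    {A : Subgroup G} (hA : A ≤ H0 z π E) (h1 : ∀ a ∈ A, a * a = 1) :
    Nat.card A = Nat.card ↥(A ⊓ E) * Nat.card ((A.subgroupOf (H0 z π E)).map ψ) := by
  let f : ↥A →* M := ψ.comp (Subgroup.inclusion hA)
  have hrange : f.range = (A.subgroupOf (H0 z π E)).map ψ := by
    ext m
    constructor
    · rintro ⟨a, rfl⟩; exact ⟨⟨a, hA a.2⟩, a.2, rfl⟩
    · rintro ⟨t, ht, rfl⟩; exact ⟨⟨t, ht⟩, rfl⟩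
  have hker : Nat.card f.ker = Nat.card ↥(A ⊓ E) := by
    refine Nat.card_congr ⟨fun a => ⟨((a : ↥A) : G), (a : ↥A).2,
        J.mem_E_of_KN_two ((J.psi_eq_one hψ).1 a.2) (n := 1) (by rw [pow_one, pow_two]; exact h1 _ (a : ↥A).2)⟩,
      fun t => ⟨⟨t, t.2.1⟩, (J.psi_eq_one hψ).2 (J.E_le_KN t.2.2)⟩, fun _ => rfl, fun _ => rfl⟩
  rw [← hrange, ← hker, ← f.ker.card_mul_index, Subgroup.index_ker]

/-- Elementary subgroups of `C(z)` have order at most `2 ^ 11`; those of that order lie in `H0`,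
meet `E` in order `2 ^ 7` and have image of order sixteen. -/
theorem card_elem_le (F : Small M)
    (hdim : ∀ c ∈ CZ z π, c * c = 1 → c ≠ 1 → c ≠ z → Nat.card (fx z E c) = 2 ^ 9)
    {ψ : ↥(H0 z π E) →* M}
    (hψ : ∀ (h : ↥(H0 z π E)) (c : ↥(CZ z π)), (h : G) * (c : G)⁻¹ ∈ E → ψ h = J.proj c)
    {A : Subgroup G} (hA : ∀ a ∈ A, a * z = z * a) (h1 : ∀ a ∈ A, a * a = 1) :
    Nat.card A ≤ 2 ^ 11 ∧ (2 ^ 11 ≤ Nat.card A → A ≤ H0 z π E ∧ Nat.card ↥(A ⊓ E) = 2 ^ 7 ∧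
      Nat.card ((A.subgroupOf (H0 z π E)).map ψ) = 16 ∧
      ∀ m ∈ (A.subgroupOf (H0 z π E)).map ψ, m * m = 1) := by
  have hcom := comm_of_sq h1
  by_cases hH : A ≤ H0 z π E
  swap
  · have h10 : Nat.card A ≤ 1024 := J.card_outer_le F hdim hA h1 hH
    exact ⟨h10.trans (by norm_num), fun h => by norm_num at h; omega⟩
  have he : Nat.card ↥(A ⊓ E) ≤ 2 ^ 7 :=
    J.card_abelian_le inf_le_right fun a ha b hb => hcom a ha.1 b hb.1
  have hsq : ∀ m ∈ (A.subgroupOf (H0 z π E)).map ψ, m * m = 1 := by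
    rintro _ ⟨t, ht, rfl⟩
    rw [← map_mul, show t * t = 1 from Subtype.ext (h1 _ ht), map_one]
  have hI : Nat.card ((A.subgroupOf (H0 z π E)).map ψ) ≤ 16 := by
    refine F.abelian _ (fun m => ⟨1, Subtype.ext (by simpa [pow_two] using hsq m m.2)⟩) ?_
    exact comm_of_sq hsq
  rw [J.split_card hψ hH h1]
  refine ⟨(Nat.mul_le_mul he hI).trans (by norm_num), fun h => ⟨hH, ?_, ?_, hsq⟩⟩
  · by_contra hne
    have : Nat.card ↥(A ⊓ E) * Nat.card ((A.subgroupOf (H0 z π E)).map ψ) ≤ (2 ^ 7 - 1) * 16 :=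
      Nat.mul_le_mul (by omega) hI
    norm_num at this h
    omega
  · by_contra hne
    have : Nat.card ↥(A ⊓ E) * Nat.card ((A.subgroupOf (H0 z π E)).map ψ) ≤ 2 ^ 7 * 15 :=
      Nat.mul_le_mul he (by omega)
    norm_num at this h
    omega

variable {g : ℕ → M} {vec : ℕ → G}

/-- An elementary subgroup mapping onto a conjugate of a listed group meets `E` in its fixed space. -/
theorem inf_E_le_fix (F : Small M) {ψ : ↥(H0 z π E) →* M}
    (hψ : ∀ (h : ↥(H0 z π E)) (c : ↥(CZ z π)), (h : G) * (c : G)⁻¹ ∈ E → ψ h = J.proj c)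
    (Mo : J.Model g vec) {W : List (List ℕ)} (hW : W ∈ [duadW, hexW])
    {A : Subgroup G} (_hA : A ≤ H0 z π E) (h1 : ∀ a ∈ A, a * a = 1) (hzA : z ∈ A)
    (him : ∀ w ∈ W, (w.map g).prod ∈ (A.subgroupOf (H0 z π E)).map ψ)
    {U : Subgroup G} (hzU : z ∈ U) (hU : ∀ n, n < 4096 → (vec n ∈ U ↔ fixP W n = true)) :
    A ⊓ E ≤ U := by
  have hcom := comm_of_sq h1
  intro x hx
  obtain ⟨n, hn, hxn, hiff⟩ := J.vec_mem Mo.coords (A := U) hzU hx.2
  refine hiff.2 ((hU n hn).2 ?_)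
  simp only [fixP, List.all_eq_true, Nat.beq_eq]
  intro w hw
  obtain ⟨a, ha, haw⟩ := him w hw
  have haA : (a : G) ∈ A := ha
  obtain ⟨c, hc⟩ := J.exists_part a
  have hw' : w ∈ [4] :: (duadW ++ hexW) := by
    simp only [List.mem_cons, List.mem_append]
    rcases List.mem_cons.1 hW with e | e
    · exact Or.inr (Or.inl (e ▸ hw))
    · rw [List.mem_singleton] at e
      exact Or.inr (Or.inr (e ▸ hw))
  have hB := Mo.acts_invol F hw' hc (by rw [h1 _ haA]; exact one_mem E) ((hψ a c hc).symm.trans haw)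
  have hconj : (a : G) * x * (a : G)⁻¹ = x := by rw [hcom _ haA x hx.1, mul_inv_cancel_right]
  have haz : (a : G) * z = z * a := hcom _ haA z hzA
  have h2 := J.rel_conj haz hxn
  rw [hconj] at h2
  have h3 := J.rel_trans (J.rel_symm hxn) (J.rel_trans h2 (hB.2 n hn))
  exact ((Mo.coords.rel_iff J hn (okB_lt hB.1 n)).1 h3).symm

end Ctx

end CfsgLib.JFour
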