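import Cfsg.Agent.Lib.JFour.Elem

/-!
# The elementary subgroup of order `2 ^ 11` of a Sylow 2-subgroup
-/

set_option autoImplicit false
set_option maxRecDepth 100000
set_option linter.style.haveILetI false
set_option linter.unusedSectionVars false

open Cfsg

namespace CfsgLib.JFour

variable {G : Type*} [Group G] [Finite G] {M : Type*} [Group M] [Finite M] {z π : G} {E : Subgroup G}

/-- The words of the sixteen products of the hexad generators. -/
def hexS : List (List ℕ) := hexW.sublists.map List.flatten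

/-- What is used on the two kinds of elementary subgroups of order sixteen. -/
structure Sixteen (M : Type*) [Group M] [Finite M] (g : ℕ → M) : Prop where
  two : ∀ Y A B : Subgroup M, IsPGroup 2 Y → A ≤ Y → B ≤ Y → Nat.card A = 16 → (∀ a ∈ A, a * a = 1) →
    Nat.card B = 16 → (∀ b ∈ B, b * b = 1) → A = B ∨ ∃ m : M,
      A = Subgroup.closure {x | ∃ w ∈ duadW, x = m * (w.map g).prod * m⁻¹} ∨
      B = Subgroup.closure {x | ∃ w ∈ duadW, x = m * (w.map g).prod * m⁻¹}
  sq : ∀ w ∈ hexW, (w.map g).prod * (w.map g).prod = 1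
  comm : ∀ v ∈ hexW, ∀ w ∈ hexW, (v.map g).prod * (w.map g).prod = (w.map g).prod * (v.map g).prod
  distinct : ∀ i j : Fin 16, ((hexS.getD (i : ℕ) []).map g).prod = ((hexS.getD (j : ℕ) []).map g).prod → i = j

theorem hex_mem_hw {w : List ℕ} (hw : w ∈ hexW) : w ∈ [4] :: (duadW ++ hexW) := by
  simp only [List.mem_cons, List.mem_append]
  exact Or.inr (Or.inr hw)

namespace Ctx

variable (J : Ctx M z π E) {g : ℕ → M} {vec : ℕ → G}
include J

/-- Membership only depends on the vector. -/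
theorem mem_vec_iff {A : Subgroup G} (hz : z ∈ A) {x y : G} (h : Rel z x y) : x ∈ A ↔ y ∈ A := by
  rcases h with e | e <;> rw [e]
  exact A.mul_mem_cancel_left hz

/-- There is an elementary abelian subgroup of order `2 ^ 11` in `C(z)`. -/
theorem exists_eleven (Mo : J.Model g vec) (T : Tables M g) (S16 : Sixteen M g)
    (hdim : ∀ c ∈ CZ z π, c * c = 1 → c ≠ 1 → c ≠ z → Nat.card (fx z E c) = 2 ^ 9) :
    ∃ V : Subgroup G, (∀ x ∈ V, x * z = z * x) ∧ z ∈ V ∧ IsElementaryAbelian 2 V ∧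
      Nat.card V = 2 ^ 11 := by
  classical
  have F := T.gens.small
  have hlift : ∀ w ∈ hexW, ∃ c : ↥(CZ z π), J.proj c = (w.map g).prod ∧ (c : G) * c = 1 := fun w hw => by
    obtain ⟨c, hc, hc2⟩ := J.exists_lift_sq (S16.sq w hw)
    exact ⟨c, hc, J.sq_eq_one F hc2⟩
  let c : List ℕ → ↥(CZ z π) := fun w => if h : w ∈ hexW then (hlift w h).choose else 1
  have hc1 : ∀ w ∈ hexW, J.proj (c w) = (w.map g).prod := fun w hw => by
    simp only [c, dif_pos hw]; exact (hlift w hw).choose_spec.1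
  have hc2 : ∀ w ∈ hexW, (c w : G) * c w = 1 := fun w hw => by
    simp only [c, dif_pos hw]; exact (hlift w hw).choose_spec.2
  have hcz : ∀ w, (c w : G) * z = z * c w := fun w => (mem_CZ.1 (c w).2).1
  have hB : ∀ w ∈ hexW, Acts z vec (c w : G) (wB w) := fun w hw =>
    Mo.acts_invol F (hex_mem_hw hw) (a := (c w : G)) (c := c w) (by rw [mul_inv_cancel]; exact one_mem E)
      (by rw [hc2 w hw]; exact one_mem E) (hc1 w hw)
  obtain ⟨U, hUE, hzU, hUv, hUcard⟩ := J.exists_fixU Mo.coords hexW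
  rw [fix_counts.1] at hUcard
  -- `U` is the common fixed space of the lifts
  have hUiff : ∀ x ∈ E, x ∈ U ↔ ∀ w ∈ hexW, x ∈ fx z E (c w : G) := by
    intro x hx
    obtain ⟨n, hn, hr⟩ := Mo.coords.surj x hx
    rw [J.mem_vec_iff hzU hr, hUv n hn]
    simp only [fixP, List.all_eq_true, Nat.beq_eq]
    refine forall₂_congr fun w hw => ?_
    rw [J.mem_vec_iff (J.z_mem_fx (hcz w)) hr, Mo.coords.mem_fx_vec J (hB w hw) (hcz w) hn]
  have hUfx : ∀ w ∈ hexW, U ≤ fx z E (c w : G) := fun w hw x hx => (hUiff x (hUE hx)).1 hx w hw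
  -- the displacements lie in `U`
  have htcU : ∀ w ∈ hexW, tc z E (c w : G) ≤ U := by
    intro w hw x hx
    obtain ⟨e, he, hxe⟩ := (J.mem_tc (hcz w)).1 hx
    obtain ⟨n, hn, hen⟩ := Mo.coords.surj e he
    have hBn := okB_lt (hB w hw).1 n
    refine (J.mem_vec_iff hzU (J.rel_trans hxe ?_)).2 ((hUv (Nat.xor (ap (wB w) n) n)
      (Nat.xor_lt_two_pow (n := 12) hBn hn)).2 (hex_disp hw n hn))
    refine J.rel_trans ?_ (J.rel_symm (Mo.coords.add _ n hBn hn))
    refine J.rel_mul (J.s.z_comm (Mo.coords.mem _ hBn)) ?_ ?_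
    · exact J.rel_trans (J.rel_conj (hcz w) hen) ((hB w hw).2 n hn)
    · exact J.rel_trans (J.rel_inv he) hen
  obtain ⟨T', hT'⟩ : ∃ T' : Subgroup G,
      T' = Subgroup.closure {x | ∃ w ∈ hexW, x ∈ tc z E (c w : G)} := ⟨_, rfl⟩
  have hT'U : T' ≤ U := hT' ▸ (Subgroup.closure_le _).2 (by rintro x ⟨w, hw, hx⟩; exact htcU w hw hx)
  have hpT : perp E T' = U := by
    refine le_antisymm (fun x hx => ?_) fun x hx => ?_
    · obtain ⟨hxE, hxc⟩ := mem_perp.1 hx
      refine (hUiff x hxE).2 fun w hw => ?_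
      rw [← J.perp_tc (hcz w)]
      exact mem_perp.2 ⟨hxE, fun a ha => hxc a (hT' ▸ Subgroup.subset_closure ⟨w, hw, ha⟩)⟩
    · refine mem_perp.2 ⟨hUE hx, fun a ha => ?_⟩
      have hle : T' ≤ Subgroup.centralizer ({x} : Set G) := hT' ▸ (Subgroup.closure_le _).2 (by
        rintro y ⟨w, hw, hy⟩
        have h := J.fx_le_perp (hcz w) (hUfx w hw hx)
        exact Subgroup.mem_centralizer_singleton_iff.2 ((mem_perp.1 h).2 y hy))
      exact Subgroup.mem_centralizer_singleton_iff.1 (hle ha)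
  have hzT : z ∈ T' :=
    hT' ▸ Subgroup.subset_closure ⟨hexW.headI, by decide, J.z_mem_tc (hcz _)⟩
  have hT'eq : T' = U := by
    refine Subgroup.eq_of_le_of_card_ge hT'U ?_
    have h := J.card_mul_perp hzT (hT'U.trans hUE)
    rw [hpT, hUcard] at h
    rw [hUcard]
    omega
  have hUab : ∀ a ∈ U, ∀ b ∈ U, a * b = b * a := fun a ha b hb =>
    ((mem_perp.1 (hpT.ge ha)).2 b (hT'eq.ge hb)).symm
  have hUπ : ∀ a ∈ U, π * a * π⁻¹ ∈ U := fun a ha => by
    refine (hUiff _ (J.conjE J.piz (hUE ha))).2 fun w hw => (J.mem_fx (hcz w)).2 ⟨J.conjE J.piz (hUE ha), ?_⟩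
    have hf := ((J.mem_fx (hcz w)).1 (hUfx w hw ha)).2
    have h2 := J.rel_conj J.piz hf
    rwa [show (c w : G) * (π * a * π⁻¹) * (c w : G)⁻¹ = (c w : G) * π * a * ((c w : G) * π)⁻¹ by group,
      (mem_CZ.1 (c w).2).2,
      show π * (c w : G) * a * (π * (c w : G))⁻¹ = π * ((c w : G) * a * (c w : G)⁻¹) * π⁻¹ by group]
  have hUsq : ∀ a ∈ U, a * a = 1 := fun a ha => J.sq_of_invariant hUE hUab hUπ ha
  -- the lifts commute
  have hcc : ∀ v ∈ hexW, ∀ w ∈ hexW, (c v : G) * c w = c w * c v := by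
    intro v hv w hw
    have iv : (c v : G)⁻¹ = c v := inv_eq_of_mul_eq_one_right (hc2 v hv)
    have iw : (c w : G)⁻¹ = c w := inv_eq_of_mul_eq_one_right (hc2 w hw)
    set x : ↥(CZ z π) := c v * c w with hx
    have hp : J.proj (x * x) = 1 := by
      rw [hx, map_mul, map_mul, hc1 v hv, hc1 w hw, mul_assoc, ← mul_assoc (w.map g).prod,
        S16.comm w hw v hv, mul_assoc (v.map g).prod, S16.sq w hw, mul_one, S16.sq v hv]
    obtain ⟨u, -, hu, k, -, hk⟩ := J.exists_pow' hp
    have hcen : Commute ((x * x : ↥(CZ z π)) : G) (c v : G) := by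
      rw [hk]
      refine Commute.mul_left ?_ ((show Commute π (c v : G) from (mem_CZ.1 (c v).2).2.symm).pow_left k)
      rcases hu with e | e <;> rw [e]
      exacts [Commute.one_left _, (hcz v).symm]
    have hr2 : ((x * x : ↥(CZ z π)) : G) * (x * x : ↥(CZ z π)) = 1 := by
      have e1 : (c v : G) * (x * x : ↥(CZ z π)) * (c v : G)⁻¹ = ((x * x : ↥(CZ z π)) : G)⁻¹ := by
        simp only [hx, Subgroup.coe_mul, mul_inv_rev, iv, iw]
        calc (c v : G) * ((c v : G) * c w * ((c v : G) * c w)) * c v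
            = ((c v : G) * c v) * (c w * ((c v : G) * (c w * c v))) := by group
          _ = _ := by rw [hc2 v hv, one_mul]; group
      rw [← hcen.eq, mul_inv_cancel_right] at e1
      conv_lhs => arg 1; rw [e1]
      exact inv_mul_cancel _
    have hsm := J.sq_eq_one F (c := x) (J.small_of_proj_one hp (Or.inl hr2))
    simp only [hx, Subgroup.coe_mul] at hsm
    calc (c v : G) * c w = ((c v : G) * c w)⁻¹ := (inv_eq_of_mul_eq_one_right hsm).symm
      _ = c w * c v := by rw [mul_inv_rev, iv, iw]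
  obtain ⟨V, hV⟩ : ∃ V : Subgroup G,
      V = Subgroup.closure ((U : Set G) ∪ {x | ∃ w ∈ hexW, x = c w}) := ⟨_, rfl⟩
  have hUV : U ≤ V := fun x hx => hV ▸ Subgroup.subset_closure (Or.inl hx)
  have hcV : ∀ w ∈ hexW, (c w : G) ∈ V := fun w hw => hV ▸ Subgroup.subset_closure (Or.inr ⟨w, hw, rfl⟩)
  haveI hVc : IsMulCommutative ↥V := by
    rw [hV]
    refine Subgroup.isMulCommutative_closure fun a ha b hb => ?_
    rcases ha with ha | ⟨v, hv, rfl⟩ <;> rcases hb with hb | ⟨w, hw, rfl⟩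
    · exact hUab a ha b hb
    · exact (J.comm_of_fx (c w).2 (hUfx w hw ha)).symm
    · exact J.comm_of_fx (c v).2 (hUfx v hv hb)
    · exact hcc v hv w hw
  have hVsq : ∀ a ∈ V, a * a = 1 := by
    intro a ha
    have key : a * a = 1 ∧ a ∈ V := by
      rw [hV] at ha
      induction ha using Subgroup.closure_induction with
      | mem x hx =>
        rcases hx with hx | ⟨w, hw, rfl⟩
        exacts [⟨hUsq x hx, hUV hx⟩, ⟨hc2 w hw, hcV w hw⟩]
      | one => exact ⟨mul_one 1, one_mem V⟩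
      | mul x y _ _ hx hy =>
        refine ⟨?_, mul_mem hx.2 hy.2⟩
        have hxy : y * x = x * y := congrArg Subtype.val (mul_comm' (⟨y, hy.2⟩ : ↥V) ⟨x, hx.2⟩)
        calc x * y * (x * y) = x * (y * x) * y := by group
          _ = x * x * (y * y) := by rw [hxy]; group
          _ = 1 := by rw [hx.1, hy.1, one_mul]
      | inv x _ hx => exact ⟨by rw [← mul_inv_rev, hx.1, inv_one], inv_mem hx.2⟩
    exact key.1
  have hVz : ∀ x ∈ V, x * z = z * x := fun x hx =>
    congrArg Subtype.val (mul_comm' (⟨x, hx⟩ : ↥V) ⟨z, hUV hzU⟩)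
  obtain ⟨ψ, hψ⟩ := J.exists_projH
  have hle := (J.card_elem_le F hdim hψ hVz hVsq).1
  -- the products
  let P : Fin 16 → ↥(CZ z π) := fun i => ((hexW.sublists.getD (i : ℕ) []).map c).prod
  have hsub : ∀ i : Fin 16, ∀ w ∈ hexW.sublists.getD (i : ℕ) [], w ∈ hexW := by
    intro i w hw
    have hi : (i : ℕ) < hexW.sublists.length := by rw [List.length_sublists]; exact i.2
    rw [List.getD_eq_getElem _ _ hi] at hw
    exact (List.mem_sublists.1 (List.getElem_mem hi)).subset hw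
  have hPV : ∀ i, (P i : G) ∈ V := fun i => by
    refine Subgroup.mem_subgroupOf.1 (list_prod_mem (S := V.subgroupOf (CZ z π)) ?_)
    intro x hx
    obtain ⟨w, hw, rfl⟩ := List.mem_map.1 hx
    exact hcV w (hsub i w hw)
  have hPp : ∀ i : Fin 16, J.proj (P i) = ((hexS.getD (i : ℕ) []).map g).prod := fun i => by
    rw [map_list_prod, List.map_map, hexS, show ([] : List ℕ) = List.flatten [] from rfl,
      List.getD_map, List.map_flatten, List.prod_flatten, List.map_map]
    exact congrArg List.prod (List.map_congr_left fun w hw => hc1 w (hsub i w hw))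
  have hge : 2 ^ 11 ≤ Nat.card V := by
    have hinj : Function.Injective
        (fun q : ↥U × Fin 16 => (⟨(q.1 : G) * P q.2, mul_mem (hUV q.1.2) (hPV q.2)⟩ : ↥V)) := by
      rintro ⟨u, i⟩ ⟨u', j⟩ h
      have h' : (u : G) * P i = (u' : G) * P j := congrArg Subtype.val h
      have hij : i = j := by
        refine S16.distinct i j ?_
        rw [← hPp, ← hPp]
        refine J.proj_eq ?_
        have e : (P i : G) * (P j : G)⁻¹ = (u : G)⁻¹ * u' := by
          rw [eq_inv_mul_iff_mul_eq, ← mul_assoc, h', mul_inv_cancel_right]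
        rw [e]
        exact mul_mem (inv_mem (hUE u.2)) (hUE u'.2)
      subst hij
      exact Prod.ext (Subtype.ext (mul_right_cancel h')) rfl
    have h := Nat.card_le_card_of_injective _ hinj
    rw [Nat.card_prod, Nat.card_fin, hUcard] at h
    exact h
  exact ⟨V, hVz, hUV hzU, ⟨hVc, fun a ha => by rw [pow_two]; exact hVsq a ha⟩, le_antisymm hle hge⟩

/-- An elementary subgroup of order at least `2 ^ 11` in a 2-subgroup of `C(z)` containing `z`
contains `z`. -/
theorem z_mem_elem (F : Small M)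
    (hdim : ∀ c ∈ CZ z π, c * c = 1 → c ≠ 1 → c ≠ z → Nat.card (fx z E c) = 2 ^ 9)
    {A : Subgroup G} (hA : ∀ a ∈ A, a * z = z * a) (h1 : ∀ a ∈ A, a * a = 1) (hge : 2 ^ 11 ≤ Nat.card A) :
    z ∈ A := by
  obtain ⟨ψ, hψ⟩ := J.exists_projH
  set A' := Subgroup.closure ((A : Set G) ∪ {z}) with hA'
  have hz' : ∀ a ∈ A', a * z = z * a ∧ a * a = 1 ∧ ∀ b ∈ A, a * b = b * a := by
    intro a ha
    induction ha using Subgroup.closure_induction with
    | mem x hx =>
      rcases hx with hx | hx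
      · exact ⟨hA x hx, h1 x hx, comm_of_sq h1 x hx⟩
      · rw [Set.mem_singleton_iff] at hx
        exact ⟨by rw [hx], by rw [hx, J.zz], fun b hb => by rw [hx, hA b hb]⟩
    | one => simp
    | mul x y hx' hy' hx hy =>
      have hxy : y * x = x * y := by
        have hle : A' ≤ Subgroup.centralizer ({x} : Set G) := (Subgroup.closure_le _).2 fun t ht => by
          rcases ht with ht | ht
          · exact Subgroup.mem_centralizer_singleton_iff.2 (hx.2.2 t ht).symm
          · rw [Set.mem_singleton_iff] at ht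
            exact Subgroup.mem_centralizer_singleton_iff.2 (by rw [ht, hx.1])
        exact Subgroup.mem_centralizer_singleton_iff.1 (hle hy')
      refine ⟨((show Commute x z from hx.1).mul_left (show Commute y z from hy.1)).eq, ?_, fun b hb =>
        ((show Commute x b from hx.2.2 b hb).mul_left (show Commute y b from hy.2.2 b hb)).eq⟩
      calc x * y * (x * y) = x * (y * x) * y := by group
        _ = x * x * (y * y) := by rw [hxy]; group
        _ = 1 := by rw [hx.2.1, hy.2.1, one_mul]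
    | inv x _ hx =>
      rw [inv_eq_of_mul_eq_one_right hx.2.1]
      exact hx
  have hle : A ≤ A' := fun a ha => Subgroup.subset_closure (Or.inl ha)
  have hb := (J.card_elem_le F hdim hψ (fun a ha => (hz' a ha).1) fun a ha => (hz' a ha).2.1).1
  have heq : A = A' := Subgroup.eq_of_le_of_card_ge hle (hb.trans hge)
  rw [heq]
  exact Subgroup.subset_closure (Or.inr rfl)

/-- A 2-subgroup of `C(z)` has at most one elementary subgroup of order `2 ^ 11`. -/
theorem eleven_unique (Mo : J.Model g vec) (T : Tables M g) (S16 : Sixteen M g)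
    (hdim : ∀ c ∈ CZ z π, c * c = 1 → c ≠ 1 → c ≠ z → Nat.card (fx z E c) = 2 ^ 9)
    {S A B : Subgroup G} (hS : IsPGroup 2 S) (hSz : ∀ x ∈ S, x * z = z * x) (hAS : A ≤ S) (hBS : B ≤ S)
    (hA1 : ∀ a ∈ A, a * a = 1) (hB1 : ∀ b ∈ B, b * b = 1)
    (hAc : Nat.card A = 2 ^ 11) (hBc : Nat.card B = 2 ^ 11) : A = B := by
  classical
  have F := T.gens.small
  obtain ⟨ψ, hψ⟩ := J.exists_projH
  obtain ⟨hAH, hAE, hAI, hAsq⟩ := (J.card_elem_le F hdim hψ (fun a ha => hSz a (hAS ha)) hA1).2 hAc.ge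
  obtain ⟨hBH, hBE, hBI, hBsq⟩ := (J.card_elem_le F hdim hψ (fun a ha => hSz a (hBS ha)) hB1).2 hBc.ge
  have hzA := J.z_mem_elem F hdim (fun a ha => hSz a (hAS ha)) hA1 hAc.ge
  have hzB := J.z_mem_elem F hdim (fun a ha => hSz a (hBS ha)) hB1 hBc.ge
  set IA := (A.subgroupOf (H0 z π E)).map ψ with hIA
  set IB := (B.subgroupOf (H0 z π E)).map ψ with hIB
  set Y := (S.subgroupOf (H0 z π E)).map ψ with hY
  have hY2 : IsPGroup 2 Y :=
    (hS.comap_of_injective (H0 z π E).subtype (H0 z π E).subtype_injective).map ψ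
  have hIAY : IA ≤ Y := Subgroup.map_mono fun a ha => hAS ha
  have hIBY : IB ≤ Y := Subgroup.map_mono fun a ha => hBS ha
  -- an image is of the second kind, and determines the part in `E`
  have hkind : ∀ {C : Subgroup G}, C ≤ H0 z π E → (∀ c ∈ C, c * c = 1) → z ∈ C →
      Nat.card ↥(C ⊓ E) = 2 ^ 7 → ∀ m : M, ∀ W ∈ [duadW, hexW],
      (C.subgroupOf (H0 z π E)).map ψ = Subgroup.closure {x | ∃ w ∈ W, x = m * (w.map g).prod * m⁻¹} →
      ∀ U : Subgroup G, ∀ d : ↥(CZ z π), J.proj d = m → U ≤ E → z ∈ U →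
      (∀ n, n < 4096 → ((d : G) * vec n * (d : G)⁻¹ ∈ U ↔ fixP W n = true)) →
      Nat.card U = 2 * ((List.range 4096).filter (fixP W)).length → W = hexW ∧ C ⊓ E = U := by
    intro C hC hC1 hzC hCE m W hW hIC U d hd hUE hzU hUv hUc
    subst hd
    have Mo' := Mo.conj d
    have hle : C ⊓ E ≤ U := J.inf_E_le_fix F hψ Mo' hW hC hC1 hzC (fun w hw => by
      rw [prod_conj, hIC]
      exact Subgroup.subset_closure ⟨w, hw, rfl⟩) hzU hUv
    have hWh : W = hexW := by
      rcases List.mem_cons.1 hW with e | e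
      · exfalso
        have h := Subgroup.card_le_of_le hle
        rw [hCE, hUc, e] at h
        have := fix_counts.2
        omega
      · exact List.mem_singleton.1 e
    refine ⟨hWh, Subgroup.eq_of_le_of_card_ge hle ?_⟩
    rw [hUc, hWh, fix_counts.1, hCE]
    norm_num
  have hU : ∀ m : M, ∀ W, ∃ U : Subgroup G, ∃ d : ↥(CZ z π), J.proj d = m ∧ U ≤ E ∧ z ∈ U ∧
      (∀ n, n < 4096 → ((d : G) * vec n * (d : G)⁻¹ ∈ U ↔ fixP W n = true)) ∧
      Nat.card U = 2 * ((List.range 4096).filter (fixP W)).length := by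
    intro m W
    obtain ⟨d, hd⟩ := J.proj_surj m
    obtain ⟨U, h1, h2, h3, h4⟩ := J.exists_fixU (Mo.conj d).coords W
    exact ⟨U, d, hd, h1, h2, h3, h4⟩
  have hI : IA = IB := by
    rcases S16.two Y IA IB hY2 hIAY hIBY hAI hAsq hBI hBsq with e | ⟨m, e | e⟩
    · exact e
    all_goals
      exfalso
      obtain ⟨U, d, hd, h1, h2, h3, h4⟩ := hU m duadW
    · exact absurd (hkind hAH hA1 hzA hAE m duadW (by simp) e U d hd h1 h2 h3 h4).1 (by decide)
    · exact absurd (hkind hBH hB1 hzB hBE m duadW (by simp) e U d hd h1 h2 h3 h4).1 (by decide)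
  obtain ⟨m, W, hW, he⟩ := T.e16 IA hAI hAsq
  obtain ⟨U, d, hd, h1, h2, h3, h4⟩ := hU m W
  have eA := (hkind hAH hA1 hzA hAE m W hW he U d hd h1 h2 h3 h4).2
  have eB := (hkind hBH hB1 hzB hBE m W hW (hI.symm.trans he) U d hd h1 h2 h3 h4).2
  -- the perpendicular of the part in `E`
  have hperp : perp E (A ⊓ E) = A ⊓ E := by
    refine (Subgroup.eq_of_le_of_card_ge (fun x hx => mem_perp.2 ⟨(Subgroup.mem_inf.1 hx).2, fun a ha =>
      (comm_of_sq hA1 x (Subgroup.mem_inf.1 hx).1 a (Subgroup.mem_inf.1 ha).1).symm⟩) ?_).symm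
    have h := J.card_mul_perp (A := A ⊓ E) ⟨hzA, J.s.z_mem⟩ inf_le_right
    rw [hAE] at h
    rw [hAE]
    omega
  refine (Subgroup.eq_of_le_of_card_ge (fun b hb => ?_) (by rw [hAc, hBc])).symm
  have hb' : ψ ⟨b, hBH hb⟩ ∈ IA := hI.ge ⟨⟨b, hBH hb⟩, hb, rfl⟩
  obtain ⟨a, ha, hab⟩ := hb'
  have haA : (a : G) ∈ A := ha
  set t := (a : G)⁻¹ * b with ht
  have htK : t ∈ KN π E := by
    refine (J.psi_eq_one hψ (h := a⁻¹ * ⟨b, hBH hb⟩)).1 ?_
    rw [map_mul, map_inv, hab, inv_mul_cancel]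
  obtain ⟨k, hk⟩ := hS ⟨t, mul_mem (inv_mem (hAS haA)) (hBS hb)⟩
  have htE : t ∈ E := J.mem_E_of_KN_two htK (congrArg Subtype.val hk)
  have htA : t ∈ A ⊓ E := by
    rw [← hperp]
    refine mem_perp.2 ⟨htE, fun x hx => ?_⟩
    have hxB : x ∈ B := ((eA.trans eB.symm).le hx).1
    exact (((show Commute (a : G)⁻¹ x from comm_of_sq hA1 _ (inv_mem haA) x hx.1).mul_left
      (show Commute b x from comm_of_sq hB1 b hb x hxB)).eq).symm
  have := mul_mem haA htA.1
  rwa [ht, mul_inv_cancel_left] at this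

end Ctx

end CfsgLib.JFour
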