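import Cfsg.Agent.Lib.JFour.M22Data
import Cfsg.Agent.Lib.JFour.Data

/-!
# Checks for the group on 22 points
-/

set_option autoImplicit false
set_option maxRecDepth 100000
set_option Elab.async false

namespace CfsgLib.JFour.M22Cert

open CfsgLib.Golay CfsgLib.Golay.SylowTwo

/-- Membership in the group fixing the two points. -/
def inG (P : ℕ) : Bool := inM24 P && ap P (0 : ℕ) == 0 && ap P 23 == 23

/-- The product of the generators along a word. -/
def wordP : List ℕ → ℕ
  | [] => idP
  | k :: w => mulP (gensP.getD k idP) (wordP w)

/-- The packed element with a given index. -/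
def el (k : ℕ) : ℕ := (els pcP).getD k idP

/-- The commutation test of the table. -/
def com (i j : ℕ) : Bool := (comT.getD i 0).testBit j

/-- Search through the pairwise commuting sets of at least `th` indices. -/
def srch (th : ℕ) (ok : List ℕ → Bool) : ℕ → List ℕ → List ℕ → Bool
  | 0, _, _ => false
  | n + 1, K, R => Nat.blt (K.length + R.length) th ||
      match R with
      | [] => ok K
      | c :: R' => srch th ok n (c :: K) (R'.filter (com c)) && srch th ok n K R'

theorem gens_ok : gensP.all inG = true ∧ pcP.all inG = true ∧ inG tP.1 = true ∧ inG tP.2 = true ∧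
    inG zP = true ∧ pcP.length = 7 ∧ gensP.length = 5 ∧ pcOK pcP pcC = true := by
  decide +kernel

theorem rels_ok : relList.all (fun w => eqP (wordP w) idP) = true ∧
    eqP (gensP.getD 0 idP) idP = false ∧ eqP (gensP.getD 1 idP) idP = false ∧
    eqP (gensP.getD 1 idP) (gensP.getD 0 idP) = false ∧
    eqP (gensP.getD 1 idP) (mulP (gensP.getD 0 idP) (gensP.getD 0 idP)) = false := by
  decide +kernel

theorem central_ok : eqP zP idP = false ∧ eqP (mulP zP zP) idP = true ∧
    pcP.all (fun P => eqP (mulP P P) idP && eqP (mulP P zP) (mulP zP P)) = true ∧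
    eqP (mulP tP.1 tP.1) idP = true ∧ eqP (mulP tP.2 tP.2) idP = true ∧
    eqP (mulP tP.1 zP) (mulP zP tP.1) = true ∧ eqP (mulP tP.2 zP) (mulP zP tP.2) = true ∧
    eqP (mulP tP.1 tP.2) idP = false ∧
    eqP (mulP (mulP tP.1 tP.2) (mulP (mulP tP.1 tP.2) (mulP tP.1 tP.2))) idP = true := by
  decide +kernel

theorem com_ok : (List.range 128).all (fun i => (List.range 128).all fun j =>
    com i j || !eqP (mulP (el i) (el j)) (mulP (el j) (el i))) = true := by
  decide +kernel

theorem inv_ok : (List.range 128).all (fun i => invI.contains i || !eqP (mulP (el i) (el i)) idP) = true ∧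
    invI.all (fun i => decide (i < 128)) = true ∧ invI.Nodup := by
  decide +kernel

theorem six_ok :
    (List.zip sixT [duadW, hexW]).all (fun t => t.1.2.length == t.2.length &&
      (t.1.2.zip t.2).all (fun q => eqP (el q.1) (wordP q.2)) &&
      t.1.1.all fun i => (els (t.1.2.map el)).any (eqP (el i))) = true ∧
    sixT.length = 2 := by
  decide +kernel

theorem srch_ab : srch 32 (fun _ => false) 200 [] (List.range 128) = true := by decide +kernel

theorem srch_six : srch 16 (fun K => sixT.any fun t => K.all t.1.contains && t.1.all K.contains) 200 []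
    invI = true := by
  decide +kernel

end CfsgLib.JFour.M22Cert
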