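import Cfsg.Agent.Lib.JFour.Cons
import Cfsg.Agent.Lib.JFour.M22Checks
import Cfsg.Agent.Lib.M22Order.CharFacts
import Cfsg.Agent.Lib.M22Order.Counts
import Cfsg.Agent.Lib.Golay.SylowList
import Cfsg.Agent.Lib.Golay.Systems.M22Centralizer

/-!
# The facts used on the group on 22 points
-/

set_option autoImplicit false
set_option maxRecDepth 100000
set_option linter.style.haveILetI false
set_option linter.unusedSectionVars false

open Cfsg

namespace CfsgLib.JFour.M22Cert

open CfsgLib.Golay CfsgLib.Golay.SylowTwo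

theorem inG_mem {P : ℕ} (h : inG P = true) : validP P = true ∧ toPerm P ∈ Cfsg.Spor.M22 := by
  simp only [inG, Bool.and_eq_true, beq_iff_eq] at h
  obtain ⟨⟨h24, h0⟩, h23⟩ := h
  have hv : validP P = true := by
    simp only [inM24, Bool.and_eq_true] at h24
    exact h24.1
  have e23 : pt 23 = (none : GolayPt) := by decide +kernel
  have e0 : pt 0 = (some 0 : GolayPt) := by decide +kernel
  refine ⟨hv, mem_M22_iff.2 ⟨toPerm_mem_M24 h24, ?_, ?_⟩⟩
  · rw [toPerm_apply hv, show idx (none : GolayPt) = 23 by decide +kernel, h23, e23]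
  · rw [toPerm_apply hv, show idx (some 0 : GolayPt) = 0 by decide +kernel, h0, e0]

theorem pc_mem : ∀ P ∈ pcP, validP P = true ∧ toPerm P ∈ Cfsg.Spor.M22 := fun P hP =>
  inG_mem (List.all_eq_true.1 gens_ok.2.1 P hP)

theorem el_mem (i : ℕ) : validP (el i) = true ∧ toPerm (el i) ∈ HS pcP := by
  rcases getD_els_mem (gs := pcP) i with h | h
  · exact els_mem (fun P hP => (pc_mem P hP).1) _ h
  · rw [el, h]; exact ⟨validP_idP, toPerm_idP ▸ one_mem _⟩

theorem HS_le : HS pcP ≤ Cfsg.Spor.M22 :=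
  (Subgroup.closure_le _).2 (by rintro _ ⟨P, hP, rfl⟩; exact (pc_mem P hP).2)

/-- The element of the group with a given index. -/
noncomputable def elM (i : ℕ) : ↥Cfsg.Spor.M22 := ⟨toPerm (el i), HS_le (el_mem i).2⟩

theorem pcP_len : pcP.length = 7 := gens_ok.2.2.2.2.2.1

theorem pcP_ok : pcOK pcP pcC = true := gens_ok.2.2.2.2.2.2.2

theorem elM_inj {i j : ℕ} (hi : i < 128) (hj : j < 128) (h : elM i = elM j) : i = j := by
  have hlen : (els pcP).length = 128 := by rw [els_length, pcP_len]; norm_num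
  have h' : toPerm (el i) = toPerm (el j) := congrArg Subtype.val h
  have hn := nodup_els pcP_ok
  refine (hn.getElem_inj_iff (i := i) (j := j) (hi := by rw [List.length_map]; omega)
    (hj := by rw [List.length_map]; omega)).1 ?_
  simpa [el, List.getD_eq_getElem?_getD, List.getElem?_eq_getElem (show i < (els pcP).length by omega),
    List.getElem?_eq_getElem (show j < (els pcP).length by omega)] using h'

/-- A two-subgroup is conjugate to a set of listed elements. -/
theorem exists_list {A : Subgroup ↥Cfsg.Spor.M22} (h2 : IsPGroup 2 A) :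
    ∃ c : ↥Cfsg.Spor.M22, ∀ a ∈ A, ∃ i < 128, c * a * c⁻¹ = elM i := by
  haveI := Fact.mk Nat.prime_two
  set B := (HS pcP).subgroupOf Cfsg.Spor.M22
  have hB : Nat.card B = 2 ^ (Nat.card ↥Cfsg.Spor.M22).factorization 2 := by
    rw [Nat.card_congr (Subgroup.subgroupOfEquivOfLe HS_le).toEquiv, card_HS pcP_ok, pcP_len,
      CfsgLib.M22Order.Counts.natCard_M22, show (443520 : ℕ) = 2 ^ 7 * 3465 by norm_num,
      Nat.factorization_mul (by norm_num) (by norm_num), Finsupp.add_apply, Nat.factorization_pow,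
      Nat.factorization_eq_zero_of_not_dvd (show ¬ 2 ∣ 3465 by norm_num)]
    simp [Nat.prime_two.factorization_self]
  obtain ⟨Q, hQ⟩ := h2.exists_le_sylow
  obtain ⟨c, hc⟩ := MulAction.exists_smul_eq ↥Cfsg.Spor.M22 Q (Sylow.ofCard B hB)
  refine ⟨c, fun a ha => ?_⟩
  have hmem : c * a * c⁻¹ ∈ B := by
    have : c * a * c⁻¹ ∈ ((c • Q : Sylow 2 ↥Cfsg.Spor.M22) : Subgroup ↥Cfsg.Spor.M22) := by
      rw [Sylow.coe_subgroup_smul]
      exact ⟨a, hQ ha, rfl⟩
    rwa [hc] at this
  obtain ⟨P, hP, he⟩ := exists_els pcP_ok _ (Subgroup.mem_subgroupOf.1 hmem)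
  obtain ⟨i, hi, rfl⟩ := List.getElem_of_mem hP
  rw [els_length, pcP_len] at hi
  refine ⟨i, by omega, Subtype.ext ?_⟩
  show _ = toPerm (el i)
  rw [el, List.getD_eq_getElem _ _ (by rw [els_length, pcP_len]; omega)]
  exact he

theorem com_of_eq {i j : ℕ} (hi : i < 128) (hj : j < 128) (h : elM i * elM j = elM j * elM i) :
    com i j = true := by
  have hc := com_ok
  simp only [List.all_eq_true, List.mem_range, Bool.or_eq_true, Bool.not_eq_true'] at hc
  refine (hc i hi j hj).resolve_right fun hne => ?_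
  have h1 : toPerm (el i) * toPerm (el j) = toPerm (el j) * toPerm (el i) := congrArg Subtype.val h
  rw [← toPerm_mulP (el_mem i).1 (el_mem j).1, ← toPerm_mulP (el_mem j).1 (el_mem i).1] at h1
  rw [eqP_of_toPerm_eq (validP_mulP (el_mem i).1 (el_mem j).1) (validP_mulP (el_mem j).1 (el_mem i).1) h1] at hne
  exact Bool.noConfusion hne

/-- Soundness of the search. -/
theorem srch_sound {th : ℕ} {ok : List ℕ → Bool} {A : Finset ℕ}
    (hA : ∀ i ∈ A, ∀ j ∈ A, com i j = true) (hth : th ≤ A.card) :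
    ∀ {n : ℕ} {K R : List ℕ}, srch th ok n K R = true → (∀ i ∈ K, i ∈ A) →
      (∀ i ∈ A, i ∈ K ∨ i ∈ R) → ∃ K', ok K' = true ∧ ∀ i, i ∈ A ↔ i ∈ K' := by
  intro n
  induction n with
  | zero => intro K R h; simp [srch] at h
  | succ n ih =>
    intro K R h hK hR
    have hcard : A.card ≤ K.length + R.length := by
      calc A.card ≤ (K ++ R).toFinset.card := Finset.card_le_card fun i hi => by simpa using hR i hi
        _ ≤ (K ++ R).length := List.toFinset_card_le _
        _ = _ := List.length_append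
    unfold srch at h
    rw [Bool.or_eq_true] at h
    rcases h with h | h
    · rw [Nat.blt_eq] at h; omega
    · cases R with
      | nil => exact ⟨K, h, fun i => ⟨fun hi => (hR i hi).resolve_right List.not_mem_nil, hK i⟩⟩
      | cons c R' =>
        simp only [Bool.and_eq_true] at h
        by_cases hc : c ∈ A
        · refine ih h.1 (fun i hi => ?_) fun i hi => ?_
          · rcases List.mem_cons.1 hi with e | e
            exacts [e ▸ hc, hK i e]
          · rcases hR i hi with e | e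
            · exact Or.inl (List.mem_cons_of_mem _ e)
            rcases List.mem_cons.1 e with e | e
            · exact Or.inl (e ▸ List.mem_cons_self)
            · exact Or.inr (List.mem_filter.2 ⟨e, hA c hc i hi⟩)
        · refine ih h.2 hK fun i hi => ?_
          rcases hR i hi with e | e
          · exact Or.inl e
          · rcases List.mem_cons.1 e with e | e
            exacts [absurd (e ▸ hi) hc, Or.inr e]

/-- A commutative subgroup inside a conjugate of the listed group gives a set of commuting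
indices. -/
theorem finset_of_conj {A : Subgroup ↥Cfsg.Spor.M22} {c : ↥Cfsg.Spor.M22}
    (hcA : ∀ a ∈ A, ∃ i < 128, c * a * c⁻¹ = elM i) (hc : ∀ a ∈ A, ∀ b ∈ A, a * b = b * a) :
    ∃ S : Finset ℕ, (∀ i ∈ S, i < 128 ∧ c⁻¹ * elM i * c ∈ A) ∧
      (∀ a ∈ A, ∃ i ∈ S, a = c⁻¹ * elM i * c) ∧ S.card = Nat.card A ∧
      ∀ i ∈ S, ∀ j ∈ S, com i j = true := by
  classical
  choose f hf1 hf2 using fun a : A => hcA a a.2
  have hval : ∀ a : A, c⁻¹ * elM (f a) * c = (a : ↥Cfsg.Spor.M22) := fun a => by rw [← hf2 a]; group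
  letI := Fintype.ofFinite A
  refine ⟨Finset.univ.image f, ?_, fun a ha => ?_, ?_, ?_⟩
  · intro i hi
    obtain ⟨a, -, rfl⟩ := Finset.mem_image.1 hi
    exact ⟨hf1 a, (hval a).symm ▸ a.2⟩
  · exact ⟨f ⟨a, ha⟩, Finset.mem_image_of_mem _ (Finset.mem_univ _), (hval ⟨a, ha⟩).symm⟩
  · rw [Finset.card_image_of_injective _ (fun a b e => Subtype.ext (by rw [← hval a, ← hval b, e])),
      Finset.card_univ, Nat.card_eq_fintype_card]
  · intro i hi j hj
    obtain ⟨a, -, rfl⟩ := Finset.mem_image.1 hi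
    obtain ⟨b, -, rfl⟩ := Finset.mem_image.1 hj
    refine com_of_eq (hf1 a) (hf1 b) ?_
    rw [← hf2 a, ← hf2 b]
    calc c * a * c⁻¹ * (c * b * c⁻¹) = c * (a * b : ↥Cfsg.Spor.M22) * c⁻¹ := by group
      _ = _ := by rw [hc a a.2 b b.2]; group

/-- A commutative two-subgroup gives a set of commuting indices. -/
theorem exists_finset {A : Subgroup ↥Cfsg.Spor.M22} (h2 : IsPGroup 2 A)
    (hc : ∀ a ∈ A, ∀ b ∈ A, a * b = b * a) :
    ∃ (c : ↥Cfsg.Spor.M22) (S : Finset ℕ), (∀ i ∈ S, i < 128 ∧ c⁻¹ * elM i * c ∈ A) ∧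
      (∀ a ∈ A, ∃ i ∈ S, a = c⁻¹ * elM i * c) ∧ S.card = Nat.card A ∧
      ∀ i ∈ S, ∀ j ∈ S, com i j = true := by
  obtain ⟨c, hcA⟩ := exists_list h2
  exact ⟨c, finset_of_conj hcA hc⟩

/-- Commutative two-subgroups have order at most sixteen. -/
theorem abelian_le (A : Subgroup ↥Cfsg.Spor.M22) (h2 : IsPGroup 2 A)
    (hc : ∀ a ∈ A, ∀ b ∈ A, a * b = b * a) : Nat.card A ≤ 16 := by
  haveI := Fact.mk Nat.prime_two
  obtain ⟨n, hn⟩ := IsPGroup.iff_card.1 h2
  by_contra hlt
  have h32 : 32 ≤ Nat.card A := by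
    rw [hn] at hlt ⊢
    have : 5 ≤ n := by
      by_contra h5
      exact hlt (Nat.pow_le_pow_right (by norm_num) (show n ≤ 4 by omega))
    exact (Nat.pow_le_pow_right (show 2 > 0 by norm_num) this).trans_eq' (by norm_num)
  obtain ⟨c, S, h1, -, h3, h4⟩ := exists_finset h2 hc
  obtain ⟨K, hK, -⟩ := srch_sound h4 (h3 ▸ h32) srch_ab (fun i hi => absurd hi List.not_mem_nil)
    fun i hi => Or.inr (List.mem_range.2 (h1 i hi).1)
  exact Bool.noConfusion hK

/-- The five generators. -/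
noncomputable def gM (k : ℕ) : ↥Cfsg.Spor.M22 :=
  if h : k < 5 then ⟨toPerm (gensP.getD k idP), (inG_mem (List.all_eq_true.1 gens_ok.1 _ (by
    rw [List.getD_eq_getElem _ _ (by rw [gens_ok.2.2.2.2.2.2.1]; exact h)]
    exact List.getElem_mem _))).2⟩
  else 1

theorem gM_val (k : ℕ) : validP (gensP.getD k idP) = true ∧
    (gM k : Equiv.Perm GolayPt) = toPerm (gensP.getD k idP) := by
  by_cases h : k < 5
  · refine ⟨(inG_mem (List.all_eq_true.1 gens_ok.1 _ ?_)).1, by rw [gM, dif_pos h]⟩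
    rw [List.getD_eq_getElem _ _ (by rw [gens_ok.2.2.2.2.2.2.1]; exact h)]
    exact List.getElem_mem _
  · rw [gM, dif_neg h, List.getD_eq_default _ _ (by rw [gens_ok.2.2.2.2.2.2.1]; omega)]
    exact ⟨validP_idP, toPerm_idP.symm⟩

theorem wordP_val : ∀ w : List ℕ, validP (wordP w) = true ∧
    (((w.map gM).prod : ↥Cfsg.Spor.M22) : Equiv.Perm GolayPt) = toPerm (wordP w)
  | [] => ⟨validP_idP, toPerm_idP.symm⟩
  | k :: w => by
    obtain ⟨h1, h2⟩ := gM_val k
    obtain ⟨h3, h4⟩ := wordP_val w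
    refine ⟨validP_mulP h1 h3, ?_⟩
    rw [List.map_cons, List.prod_cons, Subgroup.coe_mul, h2, h4, wordP, toPerm_mulP h1 h3]

theorem gM_ne {i j : List ℕ} (h : eqP (wordP i) (wordP j) = false) : (i.map gM).prod ≠ (j.map gM).prod := by
  intro e
  have h' := congrArg Subtype.val e
  rw [(wordP_val i).2, (wordP_val j).2] at h'
  rw [eqP_of_toPerm_eq (wordP_val i).1 (wordP_val j).1 h'] at h
  exact Bool.noConfusion h

theorem prod_eq {i j : List ℕ} (h : eqP (wordP i) (wordP j) = true) : (i.map gM).prod = (j.map gM).prod :=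
  Subtype.ext (by rw [(wordP_val i).2, (wordP_val j).2, toPerm_eq_of_eqP (wordP_val i).1 (wordP_val j).1 h])

theorem eq_elM {w : List ℕ} {i : ℕ} (h : eqP (el i) (wordP w) = true) : (w.map gM).prod = elM i :=
  Subtype.ext (by
    rw [(wordP_val w).2]
    exact (toPerm_eq_of_eqP (el_mem i).1 (wordP_val w).1 h).symm)

/-- An elementary subgroup of order sixteen inside a conjugate of the listed group is one of the two
listed ones. -/
theorem six_of_conj {A : Subgroup ↥Cfsg.Spor.M22} {c : ↥Cfsg.Spor.M22}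
    (hcA : ∀ a ∈ A, ∃ i < 128, c * a * c⁻¹ = elM i) (hA : Nat.card A = 16) (h1 : ∀ a ∈ A, a * a = 1) :
    ∃ n < 2, (∀ a, a ∈ A ↔ ∃ i ∈ (sixT.getD n ([], [])).1, a = c⁻¹ * elM i * c) ∧
      A = Subgroup.closure {x | ∃ w ∈ [duadW, hexW].getD n [], x = c⁻¹ * (w.map gM).prod * c⁻¹⁻¹} := by
  classical
  have hc : ∀ a ∈ A, ∀ b ∈ A, a * b = b * a := fun a ha b hb => by
    calc a * b = (a * b)⁻¹ := (inv_eq_of_mul_eq_one_right (h1 _ (mul_mem ha hb))).symm
      _ = b * a := by
        rw [mul_inv_rev, inv_eq_of_mul_eq_one_right (h1 _ ha), inv_eq_of_mul_eq_one_right (h1 _ hb)]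
  obtain ⟨S, hS1, hS2, hS3, hS4⟩ := finset_of_conj hcA hc
  have hinv : ∀ i ∈ S, i ∈ invI := by
    intro i hi
    obtain ⟨hi128, hmem⟩ := hS1 i hi
    have hc' := inv_ok.1
    simp only [List.all_eq_true, List.mem_range, Bool.or_eq_true, Bool.not_eq_true'] at hc'
    rcases hc' i hi128 with h | h
    · exact List.contains_iff_mem.1 h
    · exfalso
      have e : elM i * elM i = 1 := by
        have := h1 _ hmem
        calc elM i * elM i = c * (c⁻¹ * elM i * c * (c⁻¹ * elM i * c)) * c⁻¹ := by group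
          _ = 1 := by rw [this]; group
      have e' : toPerm (el i) * toPerm (el i) = 1 := congrArg Subtype.val e
      rw [← toPerm_mulP (el_mem i).1 (el_mem i).1, ← toPerm_idP] at e'
      rw [eqP_of_toPerm_eq (validP_mulP (el_mem i).1 (el_mem i).1) validP_idP e'] at h
      exact Bool.noConfusion h
  obtain ⟨K, hK, hKS⟩ := srch_sound hS4 (hS3.trans hA).ge srch_six (fun i hi => absurd hi List.not_mem_nil)
    fun i hi => Or.inr (hinv i hi)
  simp only [List.any_eq_true, Bool.and_eq_true, List.all_eq_true, List.contains_iff_mem] at hK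
  obtain ⟨t, ht, ht1, ht2⟩ := hK
  obtain ⟨hlen, hlen2⟩ : sixT.length = 2 ∧ [duadW, hexW].length = 2 := ⟨six_ok.2, rfl⟩
  obtain ⟨n, hn, hnt⟩ := List.getElem_of_mem ht
  have hz : (t, [duadW, hexW][n]'(by omega)) ∈ List.zip sixT [duadW, hexW] := by
    rw [← hnt]
    exact List.mem_iff_getElem.2 ⟨n, by rw [List.length_zip]; omega, List.getElem_zip⟩
  set W := [duadW, hexW][n]'(by omega) with hW
  have hok := six_ok.1
  simp only [List.all_eq_true, Bool.and_eq_true, List.any_eq_true, beq_iff_eq] at hok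
  obtain ⟨⟨hWlen, hgen⟩, hspan⟩ := hok _ hz
  simp only at hWlen hgen hspan
  refine ⟨n, by omega, ?_, ?_⟩
  · intro a
    rw [List.getD_eq_getElem _ _ hn, hnt]
    constructor
    · intro ha
      obtain ⟨i, hi, rfl⟩ := hS2 a ha
      exact ⟨i, ht1 i ((hKS i).1 hi), rfl⟩
    · rintro ⟨i, hi, rfl⟩
      exact (hS1 i ((hKS i).2 (ht2 i hi))).2
  rw [List.getD_eq_getElem _ _ (show n < [duadW, hexW].length by omega), ← hW]
  refine le_antisymm ?_ ((Subgroup.closure_le _).2 ?_)
  · intro a ha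
    obtain ⟨i, hi, rfl⟩ := hS2 a ha
    obtain ⟨P, hP, hPe⟩ := hspan i (ht1 i ((hKS i).1 hi))
    have hv : ∀ Q ∈ t.2.map el, validP Q = true := by
      intro Q hQ
      obtain ⟨j, -, rfl⟩ := List.mem_map.1 hQ
      exact (el_mem j).1
    obtain ⟨hPv, hPm⟩ := els_mem hv P hP
    set T := Subgroup.closure {x | ∃ w ∈ W, x = c⁻¹ * (w.map gM).prod * c⁻¹⁻¹}
    let φ : ↥Cfsg.Spor.M22 →* ↥Cfsg.Spor.M22 := (MulAut.conj c⁻¹).toMonoidHom
    have hHS : HS (t.2.map el) ≤ (T.comap φ).map Cfsg.Spor.M22.subtype := by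
      refine (Subgroup.closure_le _).2 ?_
      rintro _ ⟨Q, hQ, rfl⟩
      obtain ⟨j, hj, rfl⟩ := List.mem_map.1 hQ
      obtain ⟨p, hp, hpj⟩ := List.getElem_of_mem hj
      have hpW : p < W.length := by omega
      refine ⟨elM j, Subgroup.subset_closure ⟨W[p], List.getElem_mem hpW, ?_⟩, rfl⟩
      show c⁻¹ * elM j * c⁻¹⁻¹ = _
      rw [eq_elM (w := W[p]) (i := j) (hgen (j, W[p]) (by
        rw [← hpj]
        exact List.mem_iff_getElem.2 ⟨p, by rw [List.length_zip]; omega, List.getElem_zip⟩))]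
    obtain ⟨x, hx, hxe⟩ := hHS hPm
    have : x = elM i := Subtype.ext (hxe.trans (toPerm_eq_of_eqP (el_mem i).1 hPv hPe).symm)
    subst this
    have hx' : c⁻¹ * elM i * c⁻¹⁻¹ ∈ T := hx
    rwa [inv_inv] at hx'
  · rintro _ ⟨w, hw, rfl⟩
    obtain ⟨p, hp, rfl⟩ := List.getElem_of_mem hw
    have hpt : p < t.2.length := by omega
    have hgp := hgen (t.2[p], W[p]) (List.mem_iff_getElem.2 ⟨p, by rw [List.length_zip]; omega, List.getElem_zip⟩)
    rw [eq_elM hgp, inv_inv]
    -- the generator lies among the listed elements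
    have hmem : toPerm (el t.2[p]) ∈ HS (t.2.map el) :=
      Subgroup.subset_closure ⟨_, List.mem_map_of_mem (List.getElem_mem hpt), rfl⟩
    have h16 : ∀ i ∈ t.1, c⁻¹ * elM i * c ∈ A := fun i hi => (hS1 i ((hKS i).2 (ht2 i hi))).2
    have hidx : t.2.all (fun j => t.1.contains j) = true := by
      have : sixT.all (fun t => t.2.all fun j => t.1.contains j) = true := by decide +kernel
      exact List.all_eq_true.1 this t ht
    exact h16 _ (List.contains_iff_mem.1 (List.all_eq_true.1 hidx _ (List.getElem_mem hpt)))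

/-- The elementary subgroups of order sixteen. -/
theorem e16 (A : Subgroup ↥Cfsg.Spor.M22) (hA : Nat.card A = 16) (h1 : ∀ a ∈ A, a * a = 1) :
    ∃ m : ↥Cfsg.Spor.M22, ∃ W ∈ [duadW, hexW],
      A = Subgroup.closure {x | ∃ w ∈ W, x = m * (w.map gM).prod * m⁻¹} := by
  obtain ⟨c, hcA⟩ := exists_list (IsPGroup.of_card (n := 4) (by rw [hA]; norm_num) : IsPGroup 2 A)
  obtain ⟨n, hn, -, he⟩ := six_of_conj hcA hA h1
  refine ⟨c⁻¹, _, ?_, he⟩
  interval_cases n <;> simp

/-- Two distinct elementary subgroups of order sixteen in a two-subgroup: one is of the first kind. -/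
theorem two_sixteen (Y A B : Subgroup ↥Cfsg.Spor.M22) (hY : IsPGroup 2 Y) (hAY : A ≤ Y) (hBY : B ≤ Y)
    (hA : Nat.card A = 16) (hA1 : ∀ a ∈ A, a * a = 1) (hB : Nat.card B = 16) (hB1 : ∀ b ∈ B, b * b = 1) :
    A = B ∨ ∃ m : ↥Cfsg.Spor.M22,
      A = Subgroup.closure {x | ∃ w ∈ duadW, x = m * (w.map gM).prod * m⁻¹} ∨
      B = Subgroup.closure {x | ∃ w ∈ duadW, x = m * (w.map gM).prod * m⁻¹} := by
  obtain ⟨c, hc⟩ := exists_list hY
  obtain ⟨i, hi, hA', hAe⟩ := six_of_conj (fun a ha => hc a (hAY ha)) hA hA1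
  obtain ⟨j, hj, hB', hBe⟩ := six_of_conj (fun b hb => hc b (hBY hb)) hB hB1
  by_cases h : i = j
  · subst h
    exact Or.inl (Subgroup.ext fun x => (hA' x).trans (hB' x).symm)
  refine Or.inr ⟨c⁻¹, ?_⟩
  interval_cases i <;> interval_cases j
  · exact absurd rfl h
  · exact Or.inl hAe
  · exact Or.inr hBe
  · exact absurd rfl h

/-- Centralizers of involutions are generated by involutions. -/
theorem invol_gen (F : CfsgLib.M22Order.Facts ↥Cfsg.Spor.M22) (x : ↥Cfsg.Spor.M22) (hx : orderOf x = 2)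
    (y : ↥Cfsg.Spor.M22) (hy : y * x = x * y) :
    y ∈ Subgroup.closure {t : ↥Cfsg.Spor.M22 | t * t = 1 ∧ t * x = x * t} := by
  haveI := Fact.mk Nat.prime_two
  haveI := Fact.mk Nat.prime_three
  obtain ⟨hz1, hz2, hpc, ht1, ht2, ht1z, ht2z, ht12, ht3⟩ := central_ok
  obtain ⟨hzv, hzm⟩ := inG_mem gens_ok.2.2.2.2.1
  obtain ⟨htv1, htm1⟩ := inG_mem gens_ok.2.2.1
  obtain ⟨htv2, htm2⟩ := inG_mem gens_ok.2.2.2.1
  set Z : ↥Cfsg.Spor.M22 := ⟨toPerm zP, hzm⟩
  set T1 : ↥Cfsg.Spor.M22 := ⟨toPerm tP.1, htm1⟩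
  set T2 : ↥Cfsg.Spor.M22 := ⟨toPerm tP.2, htm2⟩
  have emul : ∀ {P Q R S : ℕ}, validP P = true → validP Q = true → validP R = true → validP S = true →
      eqP (mulP P Q) (mulP R S) = true → toPerm P * toPerm Q = toPerm R * toPerm S := by
    intro P Q R S h1 h2 h3 h4 h
    rw [← toPerm_mulP h1 h2, ← toPerm_mulP h3 h4]
    exact toPerm_eq_of_eqP (validP_mulP h1 h2) (validP_mulP h3 h4) h
  have esq : ∀ {P : ℕ}, validP P = true → eqP (mulP P P) idP = true → toPerm P * toPerm P = 1 := by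
    intro P h1 h
    rw [← toPerm_mulP h1 h1, ← toPerm_idP]
    exact toPerm_eq_of_eqP (validP_mulP h1 h1) validP_idP h
  have hZ : orderOf Z = 2 := by
    refine orderOf_eq_prime (by rw [pow_two]; exact Subtype.ext (esq hzv hz2)) fun h => ?_
    have h' : toPerm zP = toPerm idP := (congrArg Subtype.val h).trans toPerm_idP.symm
    rw [eqP_of_toPerm_eq hzv validP_idP h'] at hz1
    exact Bool.noConfusion hz1
  set V := Subgroup.closure {t : ↥Cfsg.Spor.M22 | t * t = 1 ∧ t * Z = Z * t} with hV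
  have hVle : V ≤ Subgroup.centralizer ({Z} : Set ↥Cfsg.Spor.M22) :=
    (Subgroup.closure_le _).2 fun t ht => Subgroup.mem_centralizer_singleton_iff.2 ht.2
  have hBV : (HS pcP).subgroupOf Cfsg.Spor.M22 ≤ V := by
    have h1 : HS pcP ≤ V.map Cfsg.Spor.M22.subtype := by
      refine (Subgroup.closure_le _).2 ?_
      rintro _ ⟨P, hP, rfl⟩
      obtain ⟨hv, hm⟩ := pc_mem P hP
      have hh := List.all_eq_true.1 hpc P hP
      rw [Bool.and_eq_true] at hh
      exact ⟨⟨_, hm⟩, Subgroup.subset_closure ⟨Subtype.ext (esq hv hh.1), Subtype.ext (emul hv hzv hzv hv hh.2)⟩, rfl⟩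
    intro t ht
    obtain ⟨u, hu, hue⟩ := h1 (Subgroup.mem_subgroupOf.1 ht)
    rwa [← Subtype.ext (show (u : Equiv.Perm GolayPt) = t from hue)]
  have hT : ∀ T ∈ [T1, T2], T ∈ V := by
    intro T hT
    simp only [List.mem_cons, List.not_mem_nil, or_false] at hT
    rcases hT with rfl | rfl
    · exact Subgroup.subset_closure ⟨Subtype.ext (esq htv1 ht1), Subtype.ext (emul htv1 hzv hzv htv1 ht1z)⟩
    · exact Subgroup.subset_closure ⟨Subtype.ext (esq htv2 ht2), Subtype.ext (emul htv2 hzv hzv htv2 ht2z)⟩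
  have ho3 : orderOf (T1 * T2) = 3 := by
    refine orderOf_eq_prime (Subtype.ext ?_) fun h => ?_
    · show (((T1 * T2) ^ 3 : ↥Cfsg.Spor.M22) : Equiv.Perm GolayPt) = 1
      rw [pow_succ, pow_two, mul_assoc]
      show toPerm tP.1 * toPerm tP.2 * (toPerm tP.1 * toPerm tP.2 * (toPerm tP.1 * toPerm tP.2)) = 1
      have hv := validP_mulP htv1 htv2
      rw [← toPerm_mulP htv1 htv2, ← toPerm_mulP hv hv, ← toPerm_mulP hv (validP_mulP hv hv), ← toPerm_idP]
      exact toPerm_eq_of_eqP (validP_mulP hv (validP_mulP hv hv)) validP_idP ht3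
    · have h' : toPerm (mulP tP.1 tP.2) = toPerm idP := by
        rw [toPerm_mulP htv1 htv2, toPerm_idP]; exact congrArg Subtype.val h
      rw [eqP_of_toPerm_eq (validP_mulP htv1 htv2) validP_idP h'] at ht12
      exact Bool.noConfusion ht12
  have hVeq : V = Subgroup.centralizer ({Z} : Set ↥Cfsg.Spor.M22) := by
    refine Subgroup.eq_of_le_of_card_ge hVle ?_
    rw [F.card_invol Z hZ]
    refine Nat.le_of_dvd Nat.card_pos ?_
    rw [show (384 : ℕ) = 128 * 3 from rfl]
    refine Nat.Coprime.mul_dvd_of_dvd_of_dvd (by norm_num) ?_ ?_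
    · have := Subgroup.card_dvd_of_le hBV
      rwa [Nat.card_congr (Subgroup.subgroupOfEquivOfLe HS_le).toEquiv, card_HS pcP_ok, pcP_len] at this
    · have h3 := orderOf_dvd_natCard (G := ↥V) ⟨T1 * T2, mul_mem (hT T1 (by simp)) (hT T2 (by simp))⟩
      rwa [Subgroup.orderOf_mk, ho3] at h3
  obtain ⟨k, hk⟩ := isConj_iff.1 (F.invol_conj x Z hx hZ)
  have hy' : k * y * k⁻¹ ∈ V := by
    rw [hVeq, Subgroup.mem_centralizer_singleton_iff, ← hk]
    calc k * y * k⁻¹ * (k * x * k⁻¹) = k * (y * x) * k⁻¹ := by group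
      _ = _ := by rw [hy]; group
  have hle : V ≤ (Subgroup.closure {t : ↥Cfsg.Spor.M22 | t * t = 1 ∧ t * x = x * t}).map
      (MulAut.conj k).toMonoidHom := by
    refine (Subgroup.closure_le _).2 fun t ht => ⟨k⁻¹ * t * k, Subgroup.subset_closure ⟨?_, ?_⟩, ?_⟩
    · calc k⁻¹ * t * k * (k⁻¹ * t * k) = k⁻¹ * (t * t) * k := by group
        _ = 1 := by rw [ht.1]; group
    · have e : x = k⁻¹ * Z * k := by rw [← hk]; group
      rw [e]
      calc k⁻¹ * t * k * (k⁻¹ * Z * k) = k⁻¹ * (t * Z) * k := by group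
        _ = _ := by rw [ht.2]; group
    · show k * (k⁻¹ * t * k) * k⁻¹ = t
      group
  obtain ⟨u, hu, hue⟩ := hle hy'
  change k * u * k⁻¹ = k * y * k⁻¹ at hue
  rwa [← mul_left_cancel (mul_right_cancel hue)]

theorem small : Small ↥Cfsg.Spor.M22 where
  card := CfsgLib.M22Order.Counts.natCard_M22
  simple := CfsgLib.M22Order.Counts.isSimple_M22
  invol_conj := by
    haveI := CfsgLib.M22Order.Counts.isSimple_M22
    exact (CfsgLib.M22Order.facts_of_card CfsgLib.M22Order.Counts.natCard_M22).invol_conj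
  card_invol := by
    haveI := CfsgLib.M22Order.Counts.isSimple_M22
    exact (CfsgLib.M22Order.facts_of_card CfsgLib.M22Order.Counts.natCard_M22).card_invol
  three_conj := by
    haveI := CfsgLib.M22Order.Counts.isSimple_M22
    exact (CfsgLib.M22Order.facts_of_card CfsgLib.M22Order.Counts.natCard_M22).three_conj
  card_three := by
    haveI := CfsgLib.M22Order.Counts.isSimple_M22
    exact (CfsgLib.M22Order.facts_of_card CfsgLib.M22Order.Counts.natCard_M22).card_three
  cube := by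
    have h0 : elM 0 = 1 := Subtype.ext (by
      show toPerm (el 0) = 1
      rw [← toPerm_idP]
      exact toPerm_eq_of_eqP (el_mem 0).1 validP_idP (by decide +kernel))
    have hsq : ∀ i ∈ [2, 4, 8], eqP (mulP (el i) (el i)) idP = true := by decide +kernel
    have hmm : ∀ i ∈ [2, 4, 8], ∀ j ∈ [2, 4, 8], eqP (mulP (el i) (el j)) (mulP (el j) (el i)) = true := by
      decide +kernel
    have hne : eqP (mulP (el 2) (el 4)) idP = false ∧ eqP (mulP (el 8) (el 2)) idP = false ∧
        eqP (mulP (el 8) (el 4)) idP = false ∧ eqP (el 8) (mulP (el 2) (el 4)) = false := by decide +kernel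
    have sq : ∀ i ∈ [2, 4, 8], elM i * elM i = 1 := fun i hi => Subtype.ext (by
      show toPerm (el i) * toPerm (el i) = 1
      rw [← toPerm_mulP (el_mem i).1 (el_mem i).1, ← toPerm_idP]
      exact toPerm_eq_of_eqP (validP_mulP (el_mem i).1 (el_mem i).1) validP_idP (hsq i hi))
    have mm : ∀ i ∈ [2, 4, 8], ∀ j ∈ [2, 4, 8], elM i * elM j = elM j * elM i := fun i hi j hj =>
      Subtype.ext (by
        show toPerm (el i) * toPerm (el j) = toPerm (el j) * toPerm (el i)
        rw [← toPerm_mulP (el_mem i).1 (el_mem j).1, ← toPerm_mulP (el_mem j).1 (el_mem i).1]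
        exact toPerm_eq_of_eqP (validP_mulP (el_mem i).1 (el_mem j).1) (validP_mulP (el_mem j).1 (el_mem i).1)
          (hmm i hi j hj))
    have n1 : ∀ i ∈ [2, 4, 8], elM i ≠ 1 := fun i hi e => by
      have := elM_inj (i := i) (j := 0) (by
        simp only [List.mem_cons, List.not_mem_nil, or_false] at hi; omega) (by norm_num) (e.trans h0.symm)
      subst this; simp at hi
    have n2 : ∀ i j, eqP (mulP (el i) (el j)) idP = false → elM i * elM j ≠ 1 := fun i j h e => by
      have e' : toPerm (el i) * toPerm (el j) = toPerm idP := (congrArg Subtype.val e).trans toPerm_idP.symm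
      rw [← toPerm_mulP (el_mem i).1 (el_mem j).1] at e'
      rw [eqP_of_toPerm_eq (validP_mulP (el_mem i).1 (el_mem j).1) validP_idP e'] at h
      exact Bool.noConfusion h
    refine ⟨elM 2, elM 4, elM 8, sq 2 (by simp), sq 4 (by simp), sq 8 (by simp), mm 2 (by simp) 4 (by simp),
      mm 2 (by simp) 8 (by simp), mm 4 (by simp) 8 (by simp), n1 2 (by simp), n1 4 (by simp), n1 8 (by simp),
      n2 2 4 hne.1, n2 8 2 hne.2.1, n2 8 4 hne.2.2.1, fun e => ?_⟩
    have e' : toPerm (el 8) = toPerm (el 2) * toPerm (el 4) := congrArg Subtype.val e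
    rw [← toPerm_mulP (el_mem 2).1 (el_mem 4).1] at e'
    have hh := hne.2.2.2
    rw [eqP_of_toPerm_eq (el_mem 8).1 (validP_mulP (el_mem 2).1 (el_mem 4).1) e'] at hh
    exact Bool.noConfusion hh
  abelian := abelian_le

theorem tables : Tables ↥Cfsg.Spor.M22 gM where
  gens :=
    { small := small
      rels := fun w hw => by
        have h := List.all_eq_true.1 rels_ok.1 w hw
        exact prod_eq (j := []) h
      indep := by
        obtain ⟨-, h0, h1, h10, h100⟩ := rels_ok
        have e : ∀ {k : ℕ}, eqP (gensP.getD k idP) idP = false → gM k ≠ 1 := fun {k} h hk => by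
          have h' : toPerm (gensP.getD k idP) = toPerm idP := by
            rw [← (gM_val k).2, hk, toPerm_idP]; rfl
          rw [eqP_of_toPerm_eq (gM_val k).1 validP_idP h'] at h
          exact Bool.noConfusion h
        refine ⟨e h0, e h1, fun hk => ?_, fun hk => ?_⟩
        · have h' : toPerm (gensP.getD 1 idP) = toPerm (gensP.getD 0 idP) := by
            rw [← (gM_val 1).2, hk, (gM_val 0).2]
          rw [eqP_of_toPerm_eq (gM_val 1).1 (gM_val 0).1 h'] at h10
          exact Bool.noConfusion h10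
        · have hv := validP_mulP (gM_val 0).1 (gM_val 0).1
          have h' : toPerm (gensP.getD 1 idP) = toPerm (mulP (gensP.getD 0 idP) (gensP.getD 0 idP)) := by
            rw [← (gM_val 1).2, hk, Subgroup.coe_mul, (gM_val 0).2, toPerm_mulP (gM_val 0).1 (gM_val 0).1]
          rw [eqP_of_toPerm_eq (gM_val 1).1 hv h'] at h100
          exact Bool.noConfusion h100 }
  e16 := e16
  invol_gen := by
    haveI := CfsgLib.M22Order.Counts.isSimple_M22
    exact invol_gen (CfsgLib.M22Order.facts_of_card CfsgLib.M22Order.Counts.natCard_M22)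

end CfsgLib.JFour.M22Cert
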