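import Cfsg.Agent.Lib.JFour.Core
import Cfsg.Agent.Lib.JFour.M22Small
import Cfsg.Agent.Lib.Golay.AutTwo
import Cfsg.Agent.S2062

/-!
# The working hypothesis from the definition
-/

set_option autoImplicit false
set_option maxRecDepth 100000
set_option linter.style.haveILetI false
set_option linter.unusedSectionVars false

open Cfsg
open scoped commutatorElement

namespace CfsgLib.JFour

variable {G : Type*} [Group G] [Finite G]

/-- The conjugations of the group on 22 points have index two among its automorphisms. -/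
theorem range_of_index_two {H : Subgroup (MulAut ↥Cfsg.Spor.M22)} (hH : H.index = 2) :
    H = (MulAut.conj : ↥Cfsg.Spor.M22 →* MulAut ↥Cfsg.Spor.M22).range := by
  haveI := M22Cert.small.simple
  haveI : H.Normal := Subgroup.normal_of_index_eq_two hH
  haveI : (H.comap (MulAut.conj : ↥Cfsg.Spor.M22 →* MulAut ↥Cfsg.Spor.M22)).Normal := inferInstance
  have hI : (MulAut.conj : ↥Cfsg.Spor.M22 →* MulAut ↥Cfsg.Spor.M22).range.index = 2 := by
    rw [Subgroup.index_eq_card]
    exact Cfsg.Agent.S2062.result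
  rcases (inferInstance : (H.comap (MulAut.conj : ↥Cfsg.Spor.M22 →* MulAut ↥Cfsg.Spor.M22)).Normal).eq_bot_or_eq_top with h | h
  · exfalso
    have h1 := congrArg Subgroup.index h
    rw [Subgroup.index_comap, Subgroup.index_bot, M22Cert.small.card] at h1
    have h2 : H.relIndex (MulAut.conj : ↥Cfsg.Spor.M22 →* MulAut ↥Cfsg.Spor.M22).range ∣ 2 :=
      hH ▸ Subgroup.relIndex_dvd_index_of_normal H _
    rw [h1] at h2
    norm_num at h2
  · have hle : (MulAut.conj : ↥Cfsg.Spor.M22 →* MulAut ↥Cfsg.Spor.M22).range ≤ H := by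
      rintro _ ⟨m, rfl⟩
      exact Subgroup.mem_comap.1 (h.ge (Subgroup.mem_top m))
    refine (Subgroup.eq_of_le_of_card_ge hle (le_of_eq ?_)).symm
    have e1 := H.card_mul_index
    have e2 := (MulAut.conj : ↥Cfsg.Spor.M22 →* MulAut ↥Cfsg.Spor.M22).range.card_mul_index
    rw [hH] at e1
    rw [hI] at e2
    omega

/-- The hypothesis of the definition, in working form, for a generator of `P`. -/
theorem exists_ctx {z : G} {P : Subgroup G} (hJ : IsOfJankoFourTypeWith z P) :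
    ∃ π : G, P = Subgroup.zpowers π ∧
      Ctx ↥Cfsg.Spor.M22 z π (twoCoreOfCentralizer z) := by
  classical
  haveI := Fact.mk Nat.prime_two
  haveI := Fact.mk Nat.prime_three
  obtain ⟨hz, hex, hE, hcE, ⟨N, hEN, hNH, hnN, hNcard, ⟨hnor, ⟨e⟩⟩, hPN⟩, hP3, hfix, hswap, hder⟩ := hJ
  set E := twoCoreOfCentralizer z with hEdef
  set H := Subgroup.centralizer ({z} : Set G) with hHdef
  have hzE : z ∈ E := (hfix.ge (Subgroup.mem_zpowers z)).1
  have hEH : E ≤ H := Subgroup.map_subtype_le _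
  have hHn : H ≤ Subgroup.normalizer (E : Set G) := by
    intro h hh
    rw [Subgroup.mem_normalizer_iff]
    have key : ∀ h ∈ H, ∀ x ∈ E, h * x * h⁻¹ ∈ E := by
      rintro h hh _ ⟨x, hx, rfl⟩
      exact ⟨_, (inferInstance : (pCore 2 ↥H).Normal).conj_mem x hx ⟨h, hh⟩, rfl⟩
    intro x
    refine ⟨key h hh x, fun hx => ?_⟩
    have := key h⁻¹ (inv_mem hh) _ hx
    rwa [show h⁻¹ * (h * x * h⁻¹) * h⁻¹⁻¹ = x by group] at this
  have hzpow : ∀ x : G, x ∈ Subgroup.zpowers z ↔ x = 1 ∨ x = z := by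
    intro x
    constructor
    · intro hx
      obtain ⟨i, hi, rfl⟩ : ∃ i < 2, z ^ i = x := by
        obtain ⟨j, hj⟩ := (isOfFinOrder_of_finite z).mem_powers_iff_mem_zpowers.2 hx
        exact ⟨j % 2, Nat.mod_lt _ (by norm_num), by rw [← hj, ← hz, pow_mod_orderOf]⟩
      interval_cases i <;> simp
    · rintro (rfl | rfl)
      exacts [one_mem _, Subgroup.mem_zpowers _]
  have hcQ : Subgroup.centralizer (E : Set G) = Subgroup.zpowers z := by
    refine le_antisymm (fun x hx => ?_) (Subgroup.zpowers_le.2 (Subgroup.mem_centralizer_iff.2 fun y hy =>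
      Subgroup.mem_centralizer_singleton_iff.1 (hEH hy)))
    have hxH : x ∈ H := Subgroup.mem_centralizer_singleton_iff.2 (Subgroup.mem_centralizer_iff.1 hx z hzE).symm
    have hxE : x ∈ E := hcE ⟨hxH, hx⟩
    have hc : (⟨x, hxE⟩ : ↥E) ∈ Subgroup.center ↥E :=
      Subgroup.mem_center_iff.2 fun y => Subtype.ext (Subgroup.mem_centralizer_iff.1 hx y y.2)
    have hzc : (⟨z, hzE⟩ : ↥E) ∈ Subgroup.center ↥E :=
      Subgroup.mem_center_iff.2 fun y => Subtype.ext (Subgroup.mem_centralizer_singleton_iff.1 (hEH y.2))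
    have heq : Subgroup.zpowers (⟨z, hzE⟩ : ↥E) = Subgroup.center ↥E :=
      Subgroup.eq_of_le_of_card_ge (Subgroup.zpowers_le.2 hzc)
        (by rw [hex.2, Nat.card_zpowers, Subgroup.orderOf_mk, hz])
    obtain ⟨i, hi⟩ := Subgroup.mem_zpowers_iff.1 (heq.ge hc)
    exact Subgroup.mem_zpowers_iff.2 ⟨i, by simpa using congrArg Subtype.val hi⟩
  have hcenter : (Subgroup.center ↥E).map E.subtype = Subgroup.zpowers z := by
    refine le_antisymm ?_ (Subgroup.zpowers_le.2 ⟨⟨z, hzE⟩, Subgroup.mem_center_iff.2 fun y =>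
      Subtype.ext (Subgroup.mem_centralizer_singleton_iff.1 (hEH y.2)), rfl⟩)
    rintro _ ⟨x, hx, rfl⟩
    rw [← hcQ]
    exact Subgroup.mem_centralizer_iff.2 fun y hy =>
      congrArg Subtype.val (Subgroup.mem_center_iff.1 hx ⟨y, hy⟩)
  have hs : Extraspecial.Setting E z := ⟨hex, hcenter, hz, hcQ, hHn⟩
  -- the element of order three
  haveI : IsCyclic ↥P := isCyclic_of_prime_card hP3
  obtain ⟨π, hπ⟩ := (Subgroup.isCyclic_iff_exists_zpowers_eq_top P).1 (inferInstance : IsCyclic ↥P)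
  refine ⟨π, hπ.symm, ?_⟩
  have hπP : π ∈ P := hπ.le (Subgroup.mem_zpowers π)
  have hoπ : orderOf π = 3 := by rw [← Nat.card_zpowers, hπ, hP3]
  have hπH : π ∈ H := hNH (hPN hπP)
  have hπz : π * z = z * π := Subgroup.mem_centralizer_singleton_iff.1 hπH
  have hcP : Subgroup.centralizer (P : Set G) = Subgroup.centralizer ({π} : Set G) := by
    rw [← hπ, Subgroup.zpowers_eq_closure, Subgroup.centralizer_closure]
  rw [hcP] at hfix hswap hder
  have hCZ : H ⊓ Subgroup.centralizer ({π} : Set G) = CZ z π := rfl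
  rw [hCZ] at hswap hder
  have hπ3 : π * π * π = 1 := by
    rw [← pow_two, ← pow_succ, show (2 : ℕ) + 1 = orderOf π by rw [hoπ], pow_orderOf_eq_one]
  have hπ1 : π ≠ 1 := fun h => by rw [h, orderOf_one] at hoπ; norm_num at hoπ
  have hfpf : ∀ x ∈ E, x * π = π * x → x = 1 ∨ x = z := fun x hx h =>
    (hzpow x).1 (hfix.le ⟨hx, Subgroup.mem_centralizer_singleton_iff.2 h⟩)
  have hπi : π⁻¹ = π * π := inv_eq_of_mul_eq_one_left hπ3
  have hπE : π ∉ E := fun h => by
    rcases hfpf π h rfl with k | k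
    · exact hπ1 k
    · rw [k, hz] at hoπ; norm_num at hoπ
  have hπ2E : π * π ∉ E := fun h => hπE (by
    have := inv_mem h; rwa [← hπi, inv_inv] at this)
  -- the structure of `N`
  have hπnE : Subgroup.zpowers π ≤ Subgroup.normalizer (E : Set G) := (Subgroup.zpowers_le.2 hπH).trans hHn
  have hNeq : ∀ n, n ∈ N ↔ ∃ f ∈ E, ∃ p ∈ Subgroup.zpowers π, n = f * p := by
    have hdisj : Disjoint E (Subgroup.zpowers π) := Subgroup.disjoint_of_coprime_natCard (by
      rw [hE, Nat.card_zpowers, hoπ]; norm_num)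
    have hle : E ⊔ Subgroup.zpowers π ≤ N := sup_le hEN (hπ ▸ hPN)
    have hcard : Nat.card ↥N ≤ Nat.card ↥(E ⊔ Subgroup.zpowers π) := by
      rw [hNcard, hE]
      refine Nat.le_of_dvd Nat.card_pos (Nat.Coprime.mul_dvd_of_dvd_of_dvd (by norm_num) ?_ ?_)
      · have := Subgroup.card_dvd_of_le (le_sup_right : Subgroup.zpowers π ≤ E ⊔ Subgroup.zpowers π)
        rwa [Nat.card_zpowers, hoπ] at this
      · exact hE ▸ Subgroup.card_dvd_of_le (le_sup_left : E ≤ E ⊔ Subgroup.zpowers π)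
    have heq := Subgroup.eq_of_le_of_card_ge hle hcard
    intro n
    rw [← heq, ← SetLike.mem_coe, Subgroup.coe_mul_of_right_le_normalizer_left E _ hπnE]
    exact ⟨fun ⟨f, hf, p, hp, h⟩ => ⟨f, hf, p, hp, h.symm⟩, fun ⟨f, hf, p, hp, h⟩ => ⟨f, hf, p, hp, h.symm⟩⟩
  have hpow : ∀ p ∈ Subgroup.zpowers π, p = 1 ∨ p = π ∨ p = π⁻¹ := by
    intro p hp
    obtain ⟨j, hj⟩ := (isOfFinOrder_of_finite π).mem_powers_iff_mem_zpowers.2 hp
    have hj' : π ^ (j % 3) = p := by rw [← hj, ← hoπ, pow_mod_orderOf]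
    have : j % 3 < 3 := Nat.mod_lt _ (by norm_num)
    interval_cases hc : j % 3
    · exact Or.inl (by rw [← hj', pow_zero])
    · exact Or.inr (Or.inl (by rw [← hj', pow_one]))
    · exact Or.inr (Or.inr (by rw [← hj', pow_two, hπi]))
  have hnormP : ∀ h : G, h * z = z * h →
      ∃ f ∈ E, h * π * h⁻¹ = f * π * f⁻¹ ∨ h * π * h⁻¹ = f * π⁻¹ * f⁻¹ := by
    intro h hh
    have hmem : h * π * h⁻¹ ∈ N :=
      (Subgroup.mem_normalizer_iff.1 (hnN (Subgroup.mem_centralizer_singleton_iff.2 hh)) π).1 (hPN hπP)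
    let x : ↥N := ⟨h * π * h⁻¹, hmem⟩
    let p : ↥N := ⟨π, hPN hπP⟩
    have hox : orderOf x = 3 := by
      rw [Subgroup.orderOf_mk, ← hoπ]
      exact (MulAut.conj h).orderOf_eq π
    have hop : orderOf p = 3 := by rw [Subgroup.orderOf_mk, hoπ]
    have hfac : (Nat.card ↥N).factorization 3 = 1 := by
      rw [hNcard, hE, Nat.factorization_mul (by norm_num) (by norm_num), Finsupp.add_apply,
        Nat.factorization_pow]
      simp [Nat.prime_three.factorization_self, Nat.factorization_eq_zero_of_not_dvd (show ¬ 3 ∣ 2 by norm_num)]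
    let S1 : Sylow 3 ↥N := Sylow.ofCard (Subgroup.zpowers x) (by rw [Nat.card_zpowers, hox, hfac, pow_one])
    let S2 : Sylow 3 ↥N := Sylow.ofCard (Subgroup.zpowers p) (by rw [Nat.card_zpowers, hop, hfac, pow_one])
    obtain ⟨n, hn⟩ := MulAction.exists_smul_eq ↥N S2 S1
    have hmem' : x ∈ ((n • S2 : Sylow 3 ↥N) : Subgroup ↥N) := by
      rw [hn]
      show x ∈ Subgroup.zpowers x
      exact Subgroup.mem_zpowers x
    rw [Sylow.coe_subgroup_smul] at hmem'
    obtain ⟨q, hq, hqx⟩ := hmem'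
    obtain ⟨j, hj⟩ := Subgroup.mem_zpowers_iff.1 hq
    have hv : h * π * h⁻¹ = (n : G) * π ^ j * (n : G)⁻¹ := by
      rw [← hj] at hqx
      have := congrArg Subtype.val hqx
      exact this.symm
    obtain ⟨f, hf, r, hr, hnr⟩ := (hNeq n).1 n.2
    refine ⟨f, hf, ?_⟩
    obtain ⟨i, rfl⟩ := Subgroup.mem_zpowers_iff.1 hr
    have hv' : h * π * h⁻¹ = f * π ^ j * f⁻¹ := by rw [hv, hnr]; group
    rcases hpow (π ^ j) (Subgroup.zpow_mem_zpowers π j) with k | k | k
    · exfalso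
      rw [k, mul_one, mul_inv_cancel, mul_inv_eq_one, mul_eq_left] at hv'
      exact hπ1 hv'
    · exact Or.inl (by rw [hv', k])
    · exact Or.inr (by rw [hv', k])
  have hsw : ∃ h : G, h * z = z * h ∧ h * π * h⁻¹ = π⁻¹ := by
    by_contra hno
    push Not at hno
    refine hswap (le_antisymm (fun h hh => ?_) ?_)
    · obtain ⟨h1, h2⟩ := hh
      have hhz : h * z = z * h := Subgroup.mem_centralizer_singleton_iff.1 h1
      have h3 : h * π * h⁻¹ ∈ Subgroup.zpowers π :=
        hπ.symm ▸ (Subgroup.mem_normalizer_iff.1 h2 π).1 hπP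
      rcases hpow _ h3 with k | k | k
      · rw [mul_inv_eq_one, mul_eq_left] at k
        exact absurd k hπ1
      · exact mem_CZ.2 ⟨hhz, mul_inv_eq_iff_eq_mul.1 k⟩
      · exact absurd k (hno h hhz)
    · intro c hc
      refine Subgroup.mem_inf.2 ⟨hc.1, Subgroup.centralizer_le_normalizer _ ?_⟩
      rw [hcP]
      exact hc.2
  -- the quotient
  obtain ⟨σ, hσz, hσ⟩ := hsw
  let q : ↥H →* MulAut ↥Cfsg.Spor.M22 := e.toMonoidHom.comp (QuotientGroup.mk' (N.subgroupOf H))
  have hqsurj : Function.Surjective q := fun t => by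
    obtain ⟨h, hh⟩ := QuotientGroup.mk'_surjective (N.subgroupOf H) (e.symm t)
    exact ⟨h, (congrArg e hh).trans (e.apply_symm_apply t)⟩
  have hqker : ∀ h : ↥H, q h = 1 ↔ (h : G) ∈ N := fun h => by
    simp only [q, MonoidHom.comp_apply, MulEquiv.coe_toMonoidHom, EmbeddingLike.map_eq_one_iff]
    exact (QuotientGroup.eq_one_iff h).trans Subgroup.mem_subgroupOf
  have hCH : CZ z π ≤ H := inf_le_left
  let qc : ↥(CZ z π) →* MulAut ↥Cfsg.Spor.M22 := q.comp (Subgroup.inclusion hCH)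
  let σH : ↥H := ⟨σ, Subgroup.mem_centralizer_singleton_iff.2 hσz⟩
  have hcov : ∀ h : ↥H, ∃ c : ↥(CZ z π), q h = qc c ∨ q h = q σH * qc c := by
    intro h
    have hhz : (h : G) * z = z * h := Subgroup.mem_centralizer_singleton_iff.1 h.2
    obtain ⟨f, hf, hk | hk⟩ := hnormP h hhz
    · have hc : f⁻¹ * (h : G) ∈ CZ z π := by
        refine mem_CZ.2 ⟨?_, ?_⟩
        · rw [mul_assoc, hhz, ← mul_assoc, hs.z_comm (inv_mem hf), mul_assoc]
        · calc f⁻¹ * (h : G) * π = f⁻¹ * ((h : G) * π * (h : G)⁻¹) * h := by group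
            _ = _ := by rw [hk]; group
      refine ⟨⟨_, hc⟩, Or.inl ?_⟩
      have : q ⟨f, hEH hf⟩ = 1 := (hqker _).2 (hEN hf)
      have e : q h = q (⟨f, hEH hf⟩ * Subgroup.inclusion hCH ⟨_, hc⟩) := congrArg q (Subtype.ext (by simp))
      rw [e, map_mul, this, one_mul]
      rfl
    · have hc : σ⁻¹ * f⁻¹ * (h : G) ∈ CZ z π := by
        refine mem_CZ.2 ⟨?_, ?_⟩
        · exact ((((show Commute σ z from hσz).inv_left).mul_left
            (show Commute f⁻¹ z from hs.z_comm (inv_mem hf))).mul_left (show Commute (h : G) z from hhz)).eq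
        · calc σ⁻¹ * f⁻¹ * (h : G) * π = σ⁻¹ * (f⁻¹ * ((h : G) * π * (h : G)⁻¹) * f) * f⁻¹ * h := by group
            _ = σ⁻¹ * π⁻¹ * f⁻¹ * h := by rw [hk]; group
            _ = σ⁻¹ * (σ * π * σ⁻¹) * f⁻¹ * h := by rw [hσ]
            _ = _ := by group
      refine ⟨⟨_, hc⟩, Or.inr ?_⟩
      have : q ⟨f, hEH hf⟩ = 1 := (hqker _).2 (hEN hf)
      have e : q h = q (⟨f, hEH hf⟩ * (σH * Subgroup.inclusion hCH ⟨_, hc⟩)) :=
        congrArg q (Subtype.ext (by simp [σH, mul_assoc]))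
      rw [e, map_mul, map_mul, this, one_mul]
      rfl
  have hidx : qc.range.index = 2 := by
    have hσn : q σH ∉ qc.range := by
      rintro ⟨c, hc⟩
      have h1 : ((σH * (Subgroup.inclusion hCH c)⁻¹ : ↥H) : G) ∈ N :=
        (hqker _).1 (by rw [map_mul, map_inv, ← hc]; exact mul_inv_cancel (qc c))
      obtain ⟨f, hf, p, hp, hfp⟩ := (hNeq _).1 h1
      change σ * (c : G)⁻¹ = f * p at hfp
      have hcp := (mem_CZ.1 c.2).2
      obtain ⟨i, rfl⟩ := Subgroup.mem_zpowers_iff.1 hp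
      have hcon : f * π * f⁻¹ = π⁻¹ := by
        calc f * π * f⁻¹ = (f * π ^ i) * π * (f * π ^ i)⁻¹ := by group
          _ = σ * ((c : G)⁻¹ * π * (c : G)) * σ⁻¹ := by rw [← hfp]; group
          _ = σ * π * σ⁻¹ := by rw [mul_assoc (c : G)⁻¹, ← hcp, inv_mul_cancel_left]
          _ = π⁻¹ := hσ
      refine hπ2E ?_
      have e1 : π * π = (π * f * π⁻¹) * f⁻¹ := by
        calc π * π = π * (π⁻¹)⁻¹ := by group
          _ = π * (f * π * f⁻¹)⁻¹ := by rw [hcon]
          _ = _ := by group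
      rw [e1]
      exact mul_mem ((Subgroup.mem_normalizer_iff.1 (hHn hπH) f).1 hf) (inv_mem hf)
    rw [Subgroup.index_eq_two_iff]
    refine ⟨q σH, fun t => ?_⟩
    have hboth : ¬ (t * q σH ∈ qc.range ∧ t ∈ qc.range) := fun ⟨h1, h2⟩ =>
      hσn (((qc.range).mul_mem_cancel_left h2).1 h1)
    have hone : t * q σH ∈ qc.range ∨ t ∈ qc.range := by
      by_contra hnone
      push Not at hnone
      obtain ⟨h, rfl⟩ := hqsurj t
      obtain ⟨c, hc | hc⟩ := hcov h
      · exact hnone.2 ⟨c, hc.symm⟩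
      · obtain ⟨c', hc' | hc'⟩ := hcov (h * σH)
        · exact hnone.1 ⟨c', by rw [← map_mul]; exact hc'.symm⟩
        · -- both would be in the other coset
          apply hσn
          rw [map_mul, hc, mul_assoc, mul_left_cancel_iff] at hc'
          exact ⟨c⁻¹ * c', by rw [map_mul, map_inv, ← hc', inv_mul_cancel_left]⟩
    rcases hone with h | h
    · exact Or.inl ⟨h, fun h' => hboth ⟨h, h'⟩⟩
    · exact Or.inr ⟨h, fun h' => hboth ⟨h', h⟩⟩
  have hrange := range_of_index_two hidx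
  have hinj : Function.Injective (MulAut.conj : ↥Cfsg.Spor.M22 →* MulAut ↥Cfsg.Spor.M22) := by
    rw [injective_iff_map_eq_one]
    intro m hm
    refine M22Cert.small.center_eq_one fun x => ?_
    have h' := DFunLike.congr_fun hm x
    rw [MulAut.conj_apply, MulAut.one_apply, mul_inv_eq_iff_eq_mul] at h'
    exact h'.symm
  let ι := MonoidHom.ofInjective hinj
  let φ : ↥(CZ z π) →* ↥Cfsg.Spor.M22 :=
    ι.symm.toMonoidHom.comp (qc.codRestrict _ fun c => hrange.le ⟨c, rfl⟩)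
  refine
    { s := hs, cardE := hE, pi3 := hπ3, pi1 := hπ1, piz := hπz, fpf := hfpf, normP := hnormP
      swap := ⟨σ, hσz, hσ⟩, derived := hder hπP, quot := ⟨φ, fun m => ?_, fun c => ?_⟩ }
  · obtain ⟨c, hc⟩ := hrange.ge (⟨m, rfl⟩ : MulAut.conj m ∈ MulAut.conj.range)
    refine ⟨c, ι.injective (Subtype.ext ?_)⟩
    simp only [φ, MonoidHom.comp_apply, MulEquiv.coe_toMonoidHom, MulEquiv.apply_symm_apply]
    show qc c = MulAut.conj m
    exact hc
  · have hc1 : φ c = 1 ↔ (c : G) ∈ N := by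
      simp only [φ, MonoidHom.comp_apply, MulEquiv.coe_toMonoidHom, EmbeddingLike.map_eq_one_iff]
      rw [← Subtype.coe_inj]
      exact hqker _
    rw [hc1]
    constructor
    · intro hcN
      obtain ⟨f, hf, p, hp, hfp⟩ := (hNeq _).1 hcN
      have hpc : Commute p π := by
        obtain ⟨i, rfl⟩ := Subgroup.mem_zpowers_iff.1 hp
        exact (Commute.refl π).zpow_left i
      have hfc : f * π = π * f := by
        have e : f = (c : G) * p⁻¹ := by rw [hfp, mul_inv_cancel_right]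
        rw [e]
        exact ((show Commute (c : G) π from (mem_CZ.1 c.2).2).mul_left hpc.inv_left).eq
      refine ⟨f, hfpf f hf hfc, ?_⟩
      rcases hpow p hp with k | k | k <;> rw [hfp, k]
      · exact Or.inl (mul_one f)
      · exact Or.inr (Or.inl rfl)
      · exact Or.inr (Or.inr rfl)
    · rintro ⟨u, hu, hcu⟩
      have huN : u ∈ N := by
        rcases hu with k | k <;> rw [k]
        exacts [one_mem _, hEN hzE]
      rcases hcu with k | k | k <;> rw [k]
      exacts [huN, mul_mem huN (hPN hπP), mul_mem huN (inv_mem (hPN hπP))]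

/-- The working data of a group of this type. -/
theorem exists_setup [IsSimpleGroup G] (hG : ¬ IsMulCommutative G) {z : G} {P : Subgroup G}
    (hJ : IsOfJankoFourTypeWith z P) :
    ∃ π : G, P = Subgroup.zpowers π ∧ ∃ (J : Ctx ↥Cfsg.Spor.M22 z π (twoCoreOfCentralizer z))
      (g : ℕ → ↥Cfsg.Spor.M22) (vec : ℕ → G), J.Model g vec ∧ Tables ↥Cfsg.Spor.M22 g ∧
      (∀ c ∈ CZ z π, c * c = 1 → c ≠ 1 → c ≠ z → Nat.card (fx z (twoCoreOfCentralizer z) c) = 2 ^ 9) ∧
      (∃ a b : ↥(CZ z π), J.IsPair a b ∧ J.proj a = g 0 ∧ J.proj b = g 1 ∧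
        ∃ w h : G, w ∈ CZ z π ∧ w ≠ z ∧ h * z * h⁻¹ = w ∧ h * (a : G) * h⁻¹ = π) ∧
      z ∈ ⁅CZ z π, CZ z π⁆ ∧ Subgroup.centralizer ({π} : Set G) = CZ z π := by
  obtain ⟨π₀, hP, J₀⟩ := exists_ctx hJ
  have T₀ := M22Cert.tables
  obtain ⟨π, hπ, J, θ, vec, Mo⟩ := J₀.exists_model T₀.gens
  have T := T₀.map θ
  have F := T.gens.small
  have hP' : P = Subgroup.zpowers π := by
    rw [hP]
    rcases hπ with rfl | rfl
    · rfl
    · exact Subgroup.zpowers_inv.symm
  have h44 : θ (M22Cert.gM 4) * θ (M22Cert.gM 4) = 1 := by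
    simpa using T.gens.rels [4, 4] (by simp [relList])
  have h4 : θ (M22Cert.gM 4) ≠ 1 := by
    intro h
    have hne : M22Cert.gM 4 ≠ 1 := fun e => by
      have h' : Golay.toPerm (M22Cert.gensP.getD 4 Golay.SylowTwo.idP) = Golay.toPerm Golay.SylowTwo.idP := by
        rw [← (M22Cert.gM_val 4).2, e, Golay.SylowTwo.toPerm_idP]; rfl
      have := Golay.SylowTwo.eqP_of_toPerm_eq (M22Cert.gM_val 4).1 Golay.SylowTwo.validP_idP h'
      revert this
      decide +kernel
    exact hne (θ.injective (h.trans (map_one θ).symm))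
  have hdim := Mo.card_fx F h4 h44
  obtain ⟨a, b, ha, hb, PR, -⟩ := J.exists_ab Mo T.gens
  obtain ⟨k, hk, hne⟩ := J.exists_conj_CZ hG F Mo T hdim
  obtain ⟨h, hh, hha⟩ := J.exists_h F hdim PR hk hne
  obtain ⟨hzD, hC⟩ := J.cent_pi_le F T hdim PR hk hne hh hha
  exact ⟨π, hP', J, _, vec, Mo, T, hdim, ⟨a, b, PR, ha, hb, _, h, hk, hne, hh, hha⟩, hzD, hC⟩

end CfsgLib.JFour
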