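import Cfsg.Agent.Lib.JFour.Eleven
import Cfsg.Agent.Lib.JFour.FromDef

/-!
# Uniqueness in a Sylow 2-subgroup
-/

set_option autoImplicit false
set_option maxRecDepth 100000
set_option linter.style.haveILetI false
set_option linter.unusedSectionVars false

open Cfsg

namespace CfsgLib.JFour

theorem hexS_ok : (List.range 16).all (fun i => (List.range 16).all fun j =>
    i == j || !Golay.SylowTwo.eqP (M22Cert.wordP (hexS.getD i [])) (M22Cert.wordP (hexS.getD j []))) = true ∧
    hexW.all (fun w => Golay.SylowTwo.eqP (M22Cert.wordP (w ++ w)) Golay.SylowTwo.idP) = true ∧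
    hexW.all (fun v => hexW.all fun w =>
      Golay.SylowTwo.eqP (M22Cert.wordP (v ++ w)) (M22Cert.wordP (w ++ v))) = true := by
  decide +kernel

/-- The facts for the generators of the group on 22 points, in any automorphic position. -/
theorem sixteen_gM (θ : ↥Cfsg.Spor.M22 ≃* ↥Cfsg.Spor.M22) :
    Sixteen ↥Cfsg.Spor.M22 (fun k => θ (M22Cert.gM k)) := by
  have e : ∀ w : List ℕ, (w.map fun k => θ (M22Cert.gM k)).prod = θ ((w.map M22Cert.gM).prod) := fun w => by
    rw [map_list_prod, List.map_map]; rfl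
  obtain ⟨h16, hsq, hcm⟩ := hexS_ok
  constructor
  · intro Y A B hY hAY hBY hA hA1 hB hB1
    have hc : ∀ C : Subgroup ↥Cfsg.Spor.M22, Nat.card ↥(C.comap θ.toMonoidHom) = Nat.card ↥C := fun C =>
      Nat.card_congr ⟨fun a => ⟨θ a, a.2⟩, fun a => ⟨θ.symm a, by
        rw [Subgroup.mem_comap, MulEquiv.coe_toMonoidHom, MulEquiv.apply_symm_apply]; exact a.2⟩,
        fun a => Subtype.ext (θ.symm_apply_apply _), fun a => Subtype.ext (θ.apply_symm_apply _)⟩
    have hq : ∀ C : Subgroup ↥Cfsg.Spor.M22, (∀ a ∈ C, a * a = 1) →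
        ∀ a ∈ C.comap θ.toMonoidHom, a * a = 1 := fun C h a ha =>
      θ.injective (by rw [map_mul, map_one]; exact h _ ha)
    rcases M22Cert.two_sixteen _ _ _ (hY.comap_of_injective θ.toMonoidHom θ.injective)
      (Subgroup.comap_mono hAY) (Subgroup.comap_mono hBY) ((hc A).trans hA) (hq A hA1) ((hc B).trans hB) (hq B hB1)
      with h | ⟨m, h⟩
    · exact Or.inl (Subgroup.comap_injective θ.surjective h)
    · refine Or.inr ⟨θ m, ?_⟩
      have key : ∀ C : Subgroup ↥Cfsg.Spor.M22, C.comap θ.toMonoidHom =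
          Subgroup.closure {x | ∃ w ∈ duadW, x = m * (w.map M22Cert.gM).prod * m⁻¹} →
          C = Subgroup.closure {x | ∃ w ∈ duadW, x = θ m * (w.map fun k => θ (M22Cert.gM k)).prod * (θ m)⁻¹} := by
        intro C hC
        have h2 := congrArg (Subgroup.map θ.toMonoidHom) hC
        rw [Subgroup.map_comap_eq_self_of_surjective θ.surjective, MonoidHom.map_closure] at h2
        rw [h2]
        congr 1
        ext x
        simp only [Set.mem_image, Set.mem_ofPred_eq, e]
        constructor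
        · rintro ⟨_, ⟨w, hw, rfl⟩, rfl⟩
          exact ⟨w, hw, by simp⟩
        · rintro ⟨w, hw, rfl⟩
          exact ⟨_, ⟨w, hw, rfl⟩, by simp⟩
      exact h.imp (key A) (key B)
  · intro w hw
    rw [e, ← map_mul, ← List.prod_append, ← List.map_append, M22Cert.prod_eq (j := []) ?_]
    · simp
    exact List.all_eq_true.1 hsq w hw
  · intro v hv w hw
    rw [e, e, ← map_mul, ← map_mul, ← List.prod_append, ← List.prod_append, ← List.map_append,
      ← List.map_append, M22Cert.prod_eq]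
    exact List.all_eq_true.1 (List.all_eq_true.1 hcm v hv) w hw
  · intro i j h
    rw [e, e] at h
    have h' := List.all_eq_true.1 (List.all_eq_true.1 h16 i (List.mem_range.2 i.2)) j (List.mem_range.2 j.2)
    rw [Bool.or_eq_true, beq_iff_eq, Bool.not_eq_true'] at h'
    rcases h' with h' | h'
    · exact Fin.ext h'
    · exact absurd (θ.injective h) (M22Cert.gM_ne h')

variable {G : Type*} [Group G] [Finite G]

/-- The data used for the subgroups of order `2 ^ 11`. -/
theorem exists_setup_eleven {z : G} {P : Subgroup G} (hJ : IsOfJankoFourTypeWith z P) :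
    ∃ (π : G) (J : Ctx ↥Cfsg.Spor.M22 z π (twoCoreOfCentralizer z)) (g : ℕ → ↥Cfsg.Spor.M22) (vec : ℕ → G),
      J.Model g vec ∧ Tables ↥Cfsg.Spor.M22 g ∧ Sixteen ↥Cfsg.Spor.M22 g ∧
      (∀ c ∈ CZ z π, c * c = 1 → c ≠ 1 → c ≠ z → Nat.card (fx z (twoCoreOfCentralizer z) c) = 2 ^ 9) := by
  obtain ⟨π₀, -, J₀⟩ := exists_ctx hJ
  obtain ⟨π, -, J, θ, vec, Mo⟩ := J₀.exists_model M22Cert.tables.gens
  have T := M22Cert.tables.map θ
  have h44 : θ (M22Cert.gM 4) * θ (M22Cert.gM 4) = 1 := by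
    simpa using T.gens.rels [4, 4] (by simp [relList])
  have h4 : θ (M22Cert.gM 4) ≠ 1 := by
    intro h
    have hne : M22Cert.gM 4 ≠ 1 := fun e => by
      have h' : Golay.toPerm (M22Cert.gensP.getD 4 Golay.SylowTwo.idP) = Golay.toPerm Golay.SylowTwo.idP := by
        rw [← (M22Cert.gM_val 4).2, e, Golay.SylowTwo.toPerm_idP]; rfl
      have := Golay.SylowTwo.eqP_of_toPerm_eq (M22Cert.gM_val 4).1 Golay.SylowTwo.validP_idP h'
      revert this
      decide +kernel
    exact hne (θ.injective (h.trans (map_one θ).symm))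
  exact ⟨π, J, _, vec, Mo, T, sixteen_gM θ, Mo.card_fx T.gens.small h4 h44⟩

/-- A Sylow 2-subgroup has exactly one elementary abelian subgroup of order `2 ^ 11`. -/
theorem unique_eleven (hJ : IsOfJankoFourType G) (T : Sylow 2 G) :
    ∃! V : Subgroup G, V ≤ (T : Subgroup G) ∧ IsElementaryAbelian 2 V ∧ Nat.card ↥V = 2 ^ 11 := by
  haveI := Fact.mk Nat.prime_two
  obtain ⟨z, P, hP⟩ := hJ
  obtain ⟨π, J, g, vec, Mo, Tb, S16, hdim⟩ := exists_setup_eleven hP
  obtain ⟨V, hVz, hzV, hVel, hVc⟩ := J.exists_eleven Mo Tb S16 hdim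
  set H := Subgroup.centralizer ({z} : Set G) with hH
  set E := twoCoreOfCentralizer z with hE
  have hVH : V ≤ H := fun x hx => Subgroup.mem_centralizer_singleton_iff.2 (hVz x hx)
  have hV2 : IsPGroup 2 V := IsPGroup.of_card hVc
  have hEH : E ≤ H := J.s.le_centralizer_z
  have hE2 : IsPGroup 2 E := IsPGroup.of_card J.cardE
  haveI hEn : (E.subgroupOf H).Normal := ⟨fun x hx h => Subgroup.mem_subgroupOf.2
    (J.conjE (Subgroup.mem_centralizer_singleton_iff.1 h.2) (Subgroup.mem_subgroupOf.1 hx))⟩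
  obtain ⟨S, hS⟩ := (hV2.of_equiv (Subgroup.subgroupOfEquivOfLe hVH).symm).exists_le_sylow
  have hES : E.subgroupOf H ≤ (S : Subgroup ↥H) := by
    have hE' : IsPGroup 2 ↥(E.subgroupOf H) := hE2.of_equiv (Subgroup.subgroupOfEquivOfLe hEH).symm
    have h := S.3 (hE'.to_sup_of_normal_left S.2) le_sup_right
    exact le_sup_left.trans h.le
  set P2 := (S : Subgroup ↥H).map H.subtype with hP2
  have hP2p : IsPGroup 2 P2 := S.2.map H.subtype
  have hP2z : ∀ x ∈ P2, x * z = z * x := by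
    rintro _ ⟨x, -, rfl⟩
    exact Subgroup.mem_centralizer_singleton_iff.1 x.2
  have hmemP : ∀ {x : G}, x ∈ E ∨ x ∈ V → x ∈ P2 := by
    rintro x (hx | hx)
    · exact ⟨⟨x, hEH hx⟩, hES (Subgroup.mem_subgroupOf.2 hx), rfl⟩
    · exact ⟨⟨x, hVH hx⟩, hS (Subgroup.mem_subgroupOf.2 hx), rfl⟩
  -- the normalizer fixes `z`
  obtain ⟨Q, hQ⟩ := hP2p.exists_le_sylow
  have hQP : (Q : Subgroup G) = P2 := by
    by_contra hne
    have hlt : P2 < (Q : Subgroup G) := lt_of_le_of_ne hQ (Ne.symm hne)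
    haveI := (Q.2 : IsPGroup 2 ↥(Q : Subgroup G)).isNilpotent
    have hlt' : P2.subgroupOf (Q : Subgroup G) < ⊤ := lt_top_iff_ne_top.2 fun e =>
      hlt.ne (le_antisymm hQ (Subgroup.subgroupOf_eq_top.1 e))
    obtain ⟨t, ht, htn⟩ := SetLike.exists_of_lt (Group.normalizerCondition_of_isNilpotent _ hlt')
    have hconj : ∀ r ∈ P2, (t : G) * r * (t : G)⁻¹ ∈ P2 := fun r hr =>
      ((Subgroup.mem_normalizer_iff.1 ht ⟨r, hQ hr⟩).1 hr : _)
    have hback : ∀ r ∈ P2, (t : G)⁻¹ * r * t ∈ P2 := fun r hr => by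
      have := ((Subgroup.mem_normalizer_iff.1 (inv_mem ht) ⟨r, hQ hr⟩).1 hr : _)
      simpa [Subgroup.mem_subgroupOf] using this
    have htz : (t : G) * z * (t : G)⁻¹ = z := by
      set v := (t : G) * z * (t : G)⁻¹ with hv
      have hvc : ∀ r ∈ P2, r * v = v * r := fun r hr => by
        have h1 := hP2z _ (hback r hr)
        calc r * v = (t : G) * ((t : G)⁻¹ * r * t * z) * (t : G)⁻¹ := by rw [hv]; group
          _ = _ := by rw [h1, hv]; group
      have hvZ : v ∈ Subgroup.zpowers z := J.s.cQ ▸ Subgroup.mem_centralizer_iff.2 fun e he =>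
        hvc e (hmemP (Or.inl he))
      rcases J.s.mem_zpowers hvZ with e | e
      · exact absurd (by rwa [hv, mul_inv_eq_one, mul_eq_left] at e) J.z_ne
      · exact e
    have htH : (t : G) ∈ H :=
      Subgroup.mem_centralizer_singleton_iff.2 (mul_inv_eq_iff_eq_mul.1 htz)
    set K := (Q : Subgroup G) ⊓ H with hK
    have hSK : (S : Subgroup ↥H) ≤ K.subgroupOf H := fun x hx =>
      Subgroup.mem_subgroupOf.2 ⟨hQ ⟨x, hx, rfl⟩, x.2⟩
    have hK2 : IsPGroup 2 ↥(K.subgroupOf H) :=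
      (Q.2.to_le inf_le_left).of_equiv (Subgroup.subgroupOfEquivOfLe inf_le_right).symm
    have heq := S.3 hK2 hSK
    have htS : (⟨(t : G), htH⟩ : ↥H) ∈ (S : Subgroup ↥H) :=
      heq.le (Subgroup.mem_subgroupOf.2 ⟨t.2, htH⟩)
    exact htn (Subgroup.mem_subgroupOf.2 ⟨_, htS, rfl⟩)
  obtain ⟨c, hc⟩ := MulAction.exists_smul_eq G Q T
  have hT : (T : Subgroup G) = P2.map (MulAut.conj c).toMonoidHom := by
    rw [← hc, Sylow.coe_subgroup_smul, hQP]; rfl
  refine ⟨V.map (MulAut.conj c).toMonoidHom, ⟨?_, ⟨?_, ?_⟩, ?_⟩, ?_⟩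
  · rw [hT]; exact Subgroup.map_mono fun x hx => hmemP (Or.inr hx)
  · haveI := hVel.1
    exact Subgroup.map_isMulCommutative V _
  · rintro _ ⟨x, hx, rfl⟩
    rw [← map_pow, hVel.2 x hx, map_one]
  · rw [Subgroup.card_map_of_injective (MulAut.conj c).injective, hVc]
  · rintro W ⟨hWT, hWel, hWc⟩
    set f := (MulAut.conj c).toMonoidHom with hf
    have hfb : Function.Bijective f := (MulAut.conj c).bijective
    have hA : W.comap f = V := by
      refine J.eleven_unique Mo Tb S16 hdim hP2p hP2z ?_ (fun x hx => hmemP (Or.inr hx)) ?_ ?_ ?_ hVc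
      · intro x hx
        obtain ⟨y, hy, hyx⟩ := hT.le (hWT hx)
        rwa [← hfb.1 hyx]
      · intro x hx
        refine hfb.1 ?_
        rw [map_mul, map_one, ← pow_two]
        exact hWel.2 _ hx
      · intro x hx; rw [← pow_two]; exact hVel.2 x hx
      · rw [← Subgroup.card_map_of_injective hfb.1, Subgroup.map_comap_eq_self_of_surjective hfb.2, hWc]
    rw [← hA, Subgroup.map_comap_eq_self_of_surjective hfb.2]

end CfsgLib.JFour
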