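import Cfsg.Agent.Lib.JFour.Basic

/-!
# Orthogonality inside the extraspecial group

For `z ∈ A ≤ E` the orders of `A` and of its centralizer in `E` multiply to `2 ^ 14`.  For an
element `c` of `C(z)` the set `Fx c` of elements of `E` fixed by `c` modulo `⟨z⟩` is the
centralizer of the set `Tc c` of commutators with `c`.
-/

set_option autoImplicit false
set_option linter.style.haveILetI false
set_option linter.unusedSectionVars false

open Cfsg

namespace CfsgLib.JFour

variable {G : Type*} [Group G]

/-- The centralizer in `E` of a subgroup. -/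
def perp (E A : Subgroup G) : Subgroup G := E ⊓ Subgroup.centralizer (A : Set G)

theorem mem_perp {E A : Subgroup G} {x : G} :
    x ∈ perp E A ↔ x ∈ E ∧ ∀ a ∈ A, a * x = x * a := by
  rw [perp, Subgroup.mem_inf, Subgroup.mem_centralizer_iff]
  rfl

theorem perp_le (E A : Subgroup G) : perp E A ≤ E := inf_le_left

theorem perp_anti {E A B : Subgroup G} (h : A ≤ B) : perp E B ≤ perp E A := fun _ hx =>
  mem_perp.2 ⟨(mem_perp.1 hx).1, fun a ha => (mem_perp.1 hx).2 a (h ha)⟩

namespace Ctx

variable [Finite G] {M : Type*} [Group M] {z π : G} {E : Subgroup G} (J : Ctx M z π E)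
include J

theorem comm_val {a b : G} (ha : a ∈ E) (hb : b ∈ E) : a * b = b * a ∨ a * b = z * (b * a) := by
  rcases J.s.comm_cases ha hb with h | h <;> [left; right] <;>
    · rw [mul_inv_eq_iff_eq_mul.1 h]
      try group

/-- Adjoining one element at most halves the centralizer. -/
theorem card_perp_step {A : Subgroup G} (hA : A ≤ E) {a : G} (ha : a ∈ E) :
    Nat.card (perp E A) ≤ 2 * Nat.card (perp E (A ⊔ Subgroup.zpowers a)) := by
  classical
  set B := perp E (A ⊔ Subgroup.zpowers a) with hB
  have hBC : B ≤ perp E A := perp_anti le_sup_left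
  have hmem : ∀ x ∈ perp E A, x * a = a * x → x ∈ B := by
    intro x hx hxa
    refine mem_perp.2 ⟨(mem_perp.1 hx).1, fun y hy => ?_⟩
    have hle : A ⊔ Subgroup.zpowers a ≤ Subgroup.centralizer ({x} : Set G) := by
      refine sup_le (fun b hb => Subgroup.mem_centralizer_singleton_iff.2 ((mem_perp.1 hx).2 b hb)) ?_
      exact Subgroup.zpowers_le.2 (Subgroup.mem_centralizer_singleton_iff.2 hxa.symm)
    exact Subgroup.mem_centralizer_singleton_iff.1 (hle hy)
  have hrel : B.relIndex (perp E A) ≤ 2 := by
    by_cases h : ∀ x ∈ perp E A, x * a = a * x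
    · have : perp E A ≤ B := fun x hx => hmem x hx (h x hx)
      rw [Subgroup.relIndex_eq_one.2 this]; norm_num
    · push Not at h
      obtain ⟨t, ht, hta⟩ := h
      have htE := (mem_perp.1 ht).1
      have htz : t * a = z * (a * t) := (J.comm_val htE ha).resolve_left hta
      refine le_of_eq ?_
      rw [Subgroup.relIndex, Subgroup.index_eq_two_iff]
      refine ⟨⟨t, ht⟩, fun b => ?_⟩
      have hbE := (mem_perp.1 b.2).1
      have e1 : ∀ x : ↥(perp E A), x ∈ B.subgroupOf (perp E A) ↔ (x : G) * a = a * x := fun x => by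
        rw [Subgroup.mem_subgroupOf]
        exact ⟨fun hx => ((mem_perp.1 hx).2 a (le_sup_right (a := A) (Subgroup.mem_zpowers a))).symm,
          hmem _ x.2⟩
      rw [e1, e1]
      simp only [Subgroup.coe_mul]
      rcases J.comm_val hbE ha with hb | hb
      · refine Or.inr ⟨hb, fun h' => hta ?_⟩
        apply mul_left_cancel (a := (b : G))
        rw [← mul_assoc, h', ← mul_assoc, ← mul_assoc, hb]
      · refine Or.inl ⟨?_, fun h' => ?_⟩
        · calc (b : G) * t * a = (b : G) * (z * (a * t)) := by rw [mul_assoc, htz]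
            _ = z * ((b : G) * a) * t := by
              rw [← mul_assoc, J.s.z_comm hbE]; simp only [mul_assoc]
            _ = _ := by rw [hb, ← mul_assoc, J.zz, one_mul]; simp only [mul_assoc]
        · rw [h'] at hb
          exact J.z_ne (mul_eq_right.mp hb.symm)
  have h1 := Subgroup.card_mul_index (B.subgroupOf (perp E A))
  rw [Nat.card_congr (Subgroup.subgroupOfEquivOfLe hBC).toEquiv] at h1
  rw [← h1]
  have h2 : (B.subgroupOf (perp E A)).index ≤ 2 := hrel
  calc Nat.card B * _ ≤ Nat.card B * 2 := Nat.mul_le_mul_left _ h2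
    _ = _ := by ring

/-- The product of orders does not decrease when the subgroup grows. -/
theorem card_mul_perp_mono {A B : Subgroup G} (hA : z ∈ A) (hAB : A ≤ B) (hB : B ≤ E) :
    Nat.card A * Nat.card (perp E A) ≤ Nat.card B * Nat.card (perp E B) := by
  suffices H : ∀ n (A : Subgroup G), z ∈ A → A ≤ B → Nat.card B - Nat.card A = n →
      Nat.card A * Nat.card (perp E A) ≤ Nat.card B * Nat.card (perp E B) from
    H _ A hA hAB rfl
  intro n
  induction n using Nat.strong_induction_on with
  | _ n ih =>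
    intro A hA hAB hn
    by_cases hAe : B ≤ A
    · rw [le_antisymm hAB hAe]
    · obtain ⟨b, hb, hbA⟩ := SetLike.not_le_iff_exists.1 hAe
      set A' := A ⊔ Subgroup.zpowers b with hA'
      have hA'B : A' ≤ B := sup_le hAB (Subgroup.zpowers_le.2 hb)
      have hlt : A < A' := lt_of_le_of_ne le_sup_left fun e =>
        hbA (e.ge (le_sup_right (a := A) (Subgroup.mem_zpowers b)))
      have hcard : 2 * Nat.card A ≤ Nat.card A' := by
        have h1 := Subgroup.card_mul_index (A.subgroupOf A')
        rw [Nat.card_congr (Subgroup.subgroupOfEquivOfLe hlt.le).toEquiv] at h1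
        have h2 : 2 ≤ (A.subgroupOf A').index := by
          have h3 := Subgroup.index_ne_zero_of_finite (H := A.subgroupOf A')
          have h4 : (A.subgroupOf A').index ≠ 1 := fun e =>
            hlt.not_ge (Subgroup.relIndex_eq_one.1 e)
          omega
        rw [← h1, mul_comm 2]
        exact Nat.mul_le_mul_left _ h2
      have hle' : Nat.card A' ≤ Nat.card B := Subgroup.card_le_of_le hA'B
      have hpos : 0 < Nat.card A := Nat.card_pos
      refine le_trans ?_ (ih _ (by omega) A' (hlt.le hA) hA'B rfl)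
      calc Nat.card A * Nat.card (perp E A)
          ≤ Nat.card A * (2 * Nat.card (perp E A')) :=
            Nat.mul_le_mul_left _ (J.card_perp_step (hAB.trans hB) (hB hb))
        _ = 2 * Nat.card A * Nat.card (perp E A') := by ring
        _ ≤ _ := Nat.mul_le_mul_right _ hcard

theorem card_zpowers_z : Nat.card (Subgroup.zpowers z) = 2 := by
  rw [Nat.card_zpowers, J.s.ordz]

theorem perp_self : perp E E = Subgroup.zpowers z := by
  refine le_antisymm (fun x hx => ?_) (Subgroup.zpowers_le.2 (mem_perp.2 ⟨J.s.z_mem, fun a ha => J.s.z_comm ha⟩))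
  obtain ⟨h1, h2⟩ := mem_perp.1 hx
  rcases J.s.eq_of_forall h1 h2 with e | e <;> rw [e]
  · exact one_mem _
  · exact Subgroup.mem_zpowers z

theorem perp_bot : perp E (Subgroup.zpowers z) = E :=
  le_antisymm (perp_le _ _) fun x hx => mem_perp.2 ⟨hx, fun a ha => by
    rcases J.s.mem_zpowers ha with e | e <;> rw [e]
    · simp
    · exact (J.s.z_comm hx).symm⟩

/-- The orders of a subgroup and of its centralizer multiply to `2 ^ 14`. -/
theorem card_mul_perp {A : Subgroup G} (hz : z ∈ A) (hA : A ≤ E) :
    Nat.card A * Nat.card (perp E A) = 2 ^ 14 := by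
  refine le_antisymm ?_ ?_
  · refine (J.card_mul_perp_mono hz hA le_rfl).trans_eq ?_
    rw [J.perp_self, J.cardE, J.card_zpowers_z]; norm_num
  · have h := J.card_mul_perp_mono (Subgroup.mem_zpowers z) (Subgroup.zpowers_le.2 hz) hA
    rw [J.perp_bot, J.cardE, J.card_zpowers_z] at h
    exact h

theorem z_mem_perp (A : Subgroup G) (hA : A ≤ E) : z ∈ perp E A :=
  mem_perp.2 ⟨J.s.z_mem, fun _ ha => J.s.z_comm (hA ha)⟩

theorem perp_perp {A : Subgroup G} (hz : z ∈ A) (hA : A ≤ E) : perp E (perp E A) = A := by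
  have h1 := J.card_mul_perp hz hA
  have h2 := J.card_mul_perp (J.z_mem_perp A hA) (perp_le E A)
  refine (Subgroup.eq_of_le_of_card_ge ?_ ?_).symm
  · exact fun a ha => mem_perp.2 ⟨hA ha, fun x hx => ((mem_perp.1 hx).2 a ha).symm⟩
  · refine le_of_eq (Nat.eq_of_mul_eq_mul_left (Nat.card_pos (α := perp E A)) ?_)
    rw [h2, mul_comm, h1]

/-- An abelian subgroup of `E` has order at most `2 ^ 7`. -/
theorem card_abelian_le {A : Subgroup G} (hA : A ≤ E) (hc : ∀ a ∈ A, ∀ b ∈ A, a * b = b * a) :
    Nat.card A ≤ 2 ^ 7 := by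
  set B := A ⊔ Subgroup.zpowers z with hB
  have hBE : B ≤ E := sup_le hA (Subgroup.zpowers_le.2 J.s.z_mem)
  have hBP : B ≤ perp E B := fun x hx => mem_perp.2 ⟨hBE hx, fun y hy => by
    haveI : IsMulCommutative B := by
      rw [hB, Subgroup.zpowers_eq_closure, ← Subgroup.closure_eq A, ← Subgroup.closure_union]
      refine Subgroup.isMulCommutative_closure fun a ha b hb => ?_
      rcases ha with ha | ha <;> rcases hb with hb | hb
      · exact hc a ha b hb
      · rw [Set.mem_singleton_iff.1 hb]; exact J.s.z_comm (hA ha)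
      · rw [Set.mem_singleton_iff.1 ha]; exact (J.s.z_comm (hA hb)).symm
      · rw [Set.mem_singleton_iff.1 ha, Set.mem_singleton_iff.1 hb]
    exact congrArg Subtype.val (mul_comm' (⟨y, hy⟩ : B) ⟨x, hx⟩)⟩
  have h := J.card_mul_perp (le_sup_right (a := A) (Subgroup.mem_zpowers z)) hBE
  have h2 := Subgroup.card_le_of_le hBP
  have h3 : Nat.card A ≤ Nat.card B := Subgroup.card_le_of_le le_sup_left
  nlinarith

end Ctx

end CfsgLib.JFour
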