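import Cfsg.Agent.Lib.JFour.Coord

/-!
# Coordinates adapted to an extraspecial three-group

Given `a, b` in `C(z, π)` of order three with `a b a⁻¹ b⁻¹ = π`, coordinates are built in which `π`,
`a` and `b` act by fixed column lists.
-/

set_option autoImplicit false
set_option linter.style.haveILetI false
set_option linter.unusedSectionVars false

open Cfsg
open scoped commutatorElement

namespace CfsgLib.JFour

variable {G : Type*} [Group G]

/-- Columns of multiplication by the scalar of order three. -/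
def omB : List ℕ := [2, 3, 8, 12, 32, 48, 128, 192, 512, 768, 2048, 3072]

/-- Columns of the first generator. -/
def aB : List ℕ := [1, 2, 4, 8, 32, 48, 128, 192, 768, 256, 3072, 1024]

/-- Columns of the second generator. -/
def bB : List ℕ := [16, 32, 64, 128, 256, 512, 1024, 2048, 1, 2, 4, 8]

/-- The twelve generators built from two fixed vectors. -/
def genList (π b e1 e2 : G) : List G :=
  [e1, π * e1 * π⁻¹, e2, π * e2 * π⁻¹] ++ ([e1, π * e1 * π⁻¹, e2, π * e2 * π⁻¹].map (MulAut.conj b) ++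
    [e1, π * e1 * π⁻¹, e2, π * e2 * π⁻¹].map (MulAut.conj (b * b)))

theorem vlist_append : ∀ (l l' : List G) (n : ℕ),
    vlist (l ++ l') n = vlist l (n % 2 ^ l.length) * vlist l' (n / 2 ^ l.length)
  | [], l', n => by simp [vlist]
  | g :: l, l', n => by
    have ih := vlist_append l l' (n / 2)
    have h1 : n % 2 ^ (g :: l).length % 2 = n % 2 := by
      rw [List.length_cons, pow_succ, mul_comm]
      exact Nat.mod_mod_of_dvd _ ⟨_, rfl⟩
    have h2 : n % 2 ^ (g :: l).length / 2 = n / 2 % 2 ^ l.length := by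
      rw [List.length_cons, pow_succ, mul_comm, Nat.mod_mul, Nat.add_mul_div_left _ _ (by norm_num),
        Nat.div_eq_of_lt (Nat.mod_lt _ (by norm_num)), zero_add]
    have h3 : n / 2 ^ (g :: l).length = n / 2 / 2 ^ l.length := by
      rw [List.length_cons, pow_succ, mul_comm, Nat.div_div_eq_div_mul]
    simp only [List.cons_append, vlist, h1, h2, h3, ih]
    cases (n % 2 == 1) <;> simp [mul_assoc]

theorem vlist_map (f : G ≃* G) : ∀ (l : List G) (n : ℕ), vlist (l.map f) n = f (vlist l n)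
  | [], n => by simp [vlist]
  | g :: l, n => by
    simp only [List.map_cons, vlist, vlist_map f l]
    cases (n % 2 == 1) <;> simp

theorem alg7 {Q : Type*} [CommGroup Q] (u v pv ppv t pt ppt : Q) :
    u * (u * u) * (v * pv * ppv) * (t * pt * ppt) =
      (u * (v * t)) * (u * (pv * ppt)) * (u * (ppv * pt)) := by
  simp only [mul_comm, mul_assoc, mul_left_comm]

theorem alg9 {Q : Type*} [CommGroup Q] (a b pb ppb c pc ppc : Q) :
    a * (b * pb * ppb) * (c * pc * ppc) * (a * a) =
      a * b * c * (a * ppb * pc) * (a * pb * ppc) := by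
  simp only [mul_comm, mul_assoc, mul_left_comm]

theorem alg4 {Q : Type*} [CommGroup Q] (x y u v : Q) (a b c d : ℕ) :
    y ^ a * (x * y) ^ b * (v ^ c * (u * v) ^ d) = x ^ b * y ^ (a + b) * (u ^ d * v ^ (c + d)) := by
  simp only [mul_pow, pow_add, mul_comm, mul_assoc, mul_left_comm]

namespace Ctx

variable [Finite G] {M : Type*} [Group M] {z π : G} {E : Subgroup G} (J : Ctx M z π E)
include J

theorem fpf_rel {e : G} (he : e ∈ E) (h : Rel z (π * e * π⁻¹) e) : Rel z e 1 := by
  rcases h with h | h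
  · rcases J.fpf e he (mul_inv_eq_iff_eq_mul.1 h).symm with k | k
    · exact Or.inl k
    · exact Or.inr (by rw [k, mul_one])
  · exfalso
    have h6 : π * π * e * (π * π)⁻¹ = e := by
      calc π * π * e * (π * π)⁻¹ = π * (π * e * π⁻¹) * π⁻¹ := by group
        _ = π * z * π⁻¹ * (π * e * π⁻¹) := by rw [h]; nth_rewrite 2 [← h]; group
        _ = z * (z * e) := by rw [J.piz, mul_inv_cancel_right, h]
        _ = e := by rw [← mul_assoc, J.zz, one_mul]
    have h7 : π * π * π * e * (π * π * π)⁻¹ = π * e * π⁻¹ := by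
      calc π * π * π * e * (π * π * π)⁻¹ = π * (π * π * e * (π * π)⁻¹) * π⁻¹ := by group
        _ = _ := by rw [h6]
    rw [J.pi3, one_mul, inv_one, mul_one, h] at h7
    exact J.z_ne (mul_eq_right.1 h7.symm)

/-- Equality up to the centre is equality in the abelianization. -/
theorem rel_iff_of {x y : ↥E} : Rel z (x : G) y ↔ Abelianization.of x = Abelianization.of y := by
  have hc : commutator ↥E = Subgroup.center ↥E := J.s.ex.1.2.2
  constructor
  · rintro (h | h)
    · rw [Subtype.ext h]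
    · have e : x = ⟨z, J.s.z_mem⟩ * y := Subtype.ext h
      have hz : Abelianization.of (⟨z, J.s.z_mem⟩ : ↥E) = 1 := by
        rw [← MonoidHom.mem_ker, Abelianization.ker_of, hc, Subgroup.mem_center_iff]
        exact fun g => Subtype.ext (J.s.z_comm g.2)
      rw [e, map_mul, hz, one_mul]
  · intro h
    have h1 : x * y⁻¹ ∈ Subgroup.center ↥E := by
      rw [← hc, ← Abelianization.ker_of, MonoidHom.mem_ker, map_mul, map_inv, h, mul_inv_cancel]
    rcases J.s.center_mem (x * y⁻¹).2 h1 with k | k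
    · exact Or.inl (mul_inv_eq_one.1 k)
    · exact Or.inr (mul_inv_eq_iff_eq_mul.1 k)

theorem of_sq (x : ↥E) : Abelianization.of x * Abelianization.of x = 1 := by
  rw [← map_mul, ← map_one Abelianization.of, ← J.rel_iff_of]
  exact J.rel_sq x.2

theorem acts_of_gens {c : G} (hc : c * z = z * c) {gs : List G} (V : Coords z E (vlist gs))
    {C : List ℕ} (hC : okB C = true)
    (h : ∀ i < 12, Rel z (c * vlist gs (2 ^ i) * c⁻¹) (vlist gs (ap C (2 ^ i)))) :
    Acts z (vlist gs) c C := by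
  obtain ⟨B, hB⟩ := V.exists_acts J hc
  refine ⟨hC, fun n hn => ?_⟩
  have e : ap B n = ap C n := by
    refine ap_ext (f := ap B) (fun m k _ _ => ap_xor B m k) (fun i hi => ?_) rfl n hn
    have hi' : 2 ^ i < 4096 := Nat.pow_lt_pow_right (by norm_num) (show i < 12 by omega)
    exact (V.rel_iff J (okB_lt hB.1 _) (okB_lt hC _)).1
      (J.rel_trans (J.rel_symm (hB.2 _ hi')) (h i hi))
  rw [← e]
  exact hB.2 n hn

set_option maxHeartbeats 1600000 in
/-- The adapted coordinates. -/
theorem exists_frame {a b : G} (ha : a ∈ CZ z π) (hb : b ∈ CZ z π) (ha3 : a * a * a = 1)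
    (hb3 : b * b * b = 1) (hab : a * b * a⁻¹ * b⁻¹ = π) :
    ∃ vec : ℕ → G, Coords z E vec ∧ Acts z vec π omB ∧ Acts z vec a aB ∧ Acts z vec b bB := by
  classical
  obtain ⟨haz, hap⟩ := mem_CZ.1 ha
  obtain ⟨hbz, hbp⟩ := mem_CZ.1 hb
  have hab' : a * b = π * b * a := by rw [← hab]; group
  -- conjugations as maps of the elementary quotient
  let Q := Abelianization ↥E
  let cj : ∀ c : G, c * z = z * c → (↥E →* ↥E) := fun c hc =>
    { toFun := fun x => ⟨c * x * c⁻¹, J.conjE hc x.2⟩
      map_one' := Subtype.ext (by simp)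
      map_mul' := fun x y => Subtype.ext (by simp [mul_assoc]) }
  let q : ↥E →* Q := Abelianization.of
  have hq : ∀ x y : ↥E, Rel z (x : G) y ↔ q x = q y := fun x y => J.rel_iff_of
  have sq : ∀ x : ↥E, q x * q x = 1 := J.of_sq
  let A := cj a haz
  let B := cj b hbz
  let P := cj π J.piz
  have hAA : ∀ x, A (A (A x)) = x := fun x => Subtype.ext (by
    show a * (a * (a * x * a⁻¹) * a⁻¹) * a⁻¹ = x
    calc a * (a * (a * (x : G) * a⁻¹) * a⁻¹) * a⁻¹ = a * a * a * x * (a * a * a)⁻¹ := by group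
      _ = x := by rw [ha3]; group)
  have hBB : ∀ x, B (B (B x)) = x := fun x => Subtype.ext (by
    show b * (b * (b * x * b⁻¹) * b⁻¹) * b⁻¹ = x
    calc b * (b * (b * (x : G) * b⁻¹) * b⁻¹) * b⁻¹ = b * b * b * x * (b * b * b)⁻¹ := by group
      _ = x := by rw [hb3]; group)
  have hPPP : ∀ x, P (P (P x)) = x := fun x => Subtype.ext (by
    show π * (π * (π * x * π⁻¹) * π⁻¹) * π⁻¹ = x
    calc π * (π * (π * (x : G) * π⁻¹) * π⁻¹) * π⁻¹ = π * π * π * x * (π * π * π)⁻¹ := by group
      _ = x := by rw [J.pi3]; group)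
  have hAP : ∀ x, A (P x) = P (A x) := fun x => Subtype.ext (by
    show a * (π * x * π⁻¹) * a⁻¹ = π * (a * x * a⁻¹) * π⁻¹
    rw [show a * (π * (x : G) * π⁻¹) * a⁻¹ = a * π * x * (a * π)⁻¹ by group, hap]; group)
  have hBP : ∀ x, B (P x) = P (B x) := fun x => Subtype.ext (by
    show b * (π * x * π⁻¹) * b⁻¹ = π * (b * x * b⁻¹) * π⁻¹
    rw [show b * (π * (x : G) * π⁻¹) * b⁻¹ = b * π * x * (b * π)⁻¹ by group, hbp]; group)
  have hAB : ∀ x, A (B x) = P (B (A x)) := fun x => Subtype.ext (by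
    show a * (b * x * b⁻¹) * a⁻¹ = π * (b * (a * x * a⁻¹) * b⁻¹) * π⁻¹
    rw [show a * (b * (x : G) * b⁻¹) * a⁻¹ = a * b * x * (a * b)⁻¹ by group, hab']; group)
  have hsum : ∀ x, q x * q (P x) * q (P (P x)) = 1 := fun x => by
    rw [← map_mul, ← map_mul, ← map_one q, ← hq]
    have h := J.prod_three x.2
    have e : π⁻¹ * (x : G) * π = π * (π * x * π⁻¹) * π⁻¹ := by
      calc π⁻¹ * (x : G) * π = π * π * x * (π * π)⁻¹ := by rw [← J.pi_inv, inv_inv]
        _ = _ := by group
    rw [e] at h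
    exact h
  have hfpf : ∀ x, q (P x) = q x → q x = 1 := fun x h => by
    rw [← map_one q, ← hq]
    exact J.fpf_rel x.2 ((hq _ _).2 h)
  have hcongr : ∀ (c : G) (hc : c * z = z * c) (x y : ↥E), q x = q y → q (cj c hc x) = q (cj c hc y) :=
    fun c hc x y h => (hq _ _).1 (J.rel_conj hc ((hq _ _).2 h))
  -- the fixed vectors of `a`
  have hfix : ∀ x : ↥E, (x : G) ∈ fx z E a ↔ q (A x) = q x := fun x => by
    rw [J.mem_fx haz, ← hq]
    exact ⟨fun h => h.2, fun h => ⟨x.2, h⟩⟩
  have cA : ∀ x y : ↥E, q x = q y → q (A x) = q (A y) := hcongr a haz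
  have cB : ∀ x y : ↥E, q x = q y → q (B x) = q (B y) := hcongr b hbz
  have cP : ∀ x y : ↥E, q x = q y → q (P x) = q (P y) := hcongr π J.piz
  have hAval : ∀ x : ↥E, (A x : G) = a * x * a⁻¹ := fun _ => rfl
  have hBval : ∀ x : ↥E, (B x : G) = b * x * b⁻¹ := fun _ => rfl
  have hPval : ∀ x : ↥E, (P x : G) = π * x * π⁻¹ := fun _ => rfl
  clear_value q A B P
  -- every vector decomposes
  have r3 : ∀ a b c : Q, a * b * c = c * a * b := fun a b c => by
    rw [mul_comm (a * b) c, mul_assoc]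
  have r9 : ∀ a b pb ppb c pc ppc : Q,
      a * (b * pb * ppb) * (c * pc * ppc) * (a * a) =
        a * b * c * (a * ppb * pc) * (a * pb * ppc) := alg9
  have hdec : ∀ x : ↥E, ∃ u v w : ↥E, q (A u) = q u ∧ q (A v) = q v ∧ q (A w) = q w ∧
      q x = q u * q (B v) * q (B (B w)) := by
    intro x
    have eq1 := hsum (A x)
    have eq2 := hsum (A (A x))
    let X1 := x * P (P (A x)) * P (A (A x))
    let X2 := x * P (A x) * P (P (A (A x)))
    have hX1 : q (A X1) = q (P X1) := by
      simp only [X1, map_mul, hAP, hPPP, hAA]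
      first | exact r3 _ _ _ | exact (r3 _ _ _).symm
    have hX2 : q (A X2) = q (P (P X2)) := by
      simp only [X2, map_mul, hAP, hPPP, hAA]
      first | exact r3 _ _ _ | exact (r3 _ _ _).symm
    refine ⟨x * A x * A (A x), B (B X1), B X2, ?_, ?_, ?_, ?_⟩
    · simp only [map_mul, hAA]
      first | exact r3 _ _ _ | exact (r3 _ _ _).symm
    · -- `A B² = P² B² A`
      rw [hAB, hAB, hBP]
      have h' := cB _ _ (cB _ _ hX1)
      rw [hBP, hBP] at h'
      rw [cP _ _ (cP _ _ h')]
      exact congrArg q (hPPP _)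
    · rw [hAB]
      have h' := cB _ _ hX2
      rw [hBP, hBP] at h'
      rw [cP _ _ h']
      exact congrArg q (hPPP _)
    · rw [hBB, hBB]
      simp only [X1, X2, map_mul]
      calc q x = q x * (q (A x) * q (P (A x)) * q (P (P (A x)))) *
            (q (A (A x)) * q (P (A (A x))) * q (P (P (A (A x))))) * (q x * q x) := by
            rw [eq1, eq2, sq, mul_one, mul_one, mul_one]
        _ = _ := r9 _ _ _ _ _ _ _
  set F := fx z E a with hF
  have hFE : F ≤ E := J.fx_le haz
  have hF9 : 9 ≤ Nat.card F := by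
    by_contra hlt
    push Not at hlt
    let f : (↥F × ↥F) × (↥F × Fin 2) → ↥E := fun t =>
      ⟨z, J.s.z_mem⟩ ^ (t.2.2 : ℕ) * (Subgroup.inclusion hFE t.1.1 * B (Subgroup.inclusion hFE t.1.2) *
        B (B (Subgroup.inclusion hFE t.2.1)))
    have hsurj : Function.Surjective f := by
      intro x
      obtain ⟨u, v, w, hu, hv, hw, hx⟩ := hdec x
      rw [← map_mul, ← map_mul, ← hq] at hx
      rcases hx with k | k
      · refine ⟨((⟨u, (hfix u).2 hu⟩, ⟨v, (hfix v).2 hv⟩), (⟨w, (hfix w).2 hw⟩, 0)), Subtype.ext ?_⟩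
        rw [k]
        simp [f]
        rfl
      · refine ⟨((⟨u, (hfix u).2 hu⟩, ⟨v, (hfix v).2 hv⟩), (⟨w, (hfix w).2 hw⟩, 1)), Subtype.ext ?_⟩
        rw [k]
        simp [f, mul_assoc]
        rfl
    have h := Nat.card_le_card_of_surjective f hsurj
    rw [Nat.card_prod, Nat.card_prod, Nat.card_prod, Nat.card_eq_fintype_card (α := Fin 2),
      Fintype.card_fin, J.cardE] at h
    have h8 : Nat.card F ≤ 8 := by omega
    have h1 := Nat.mul_le_mul (Nat.mul_le_mul h8 h8) (Nat.mul_le_mul_right 2 h8)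
    omega
  have hzF : z ∈ F := J.z_mem_fx haz
  have pick : ∀ S : Finset G, S.card ≤ 8 → ∃ e ∈ F, e ∉ S := by
    intro S hS
    by_contra h
    push Not at h
    have h' := Set.ncard_le_ncard (s := (F : Set G)) (t := (S : Set G)) h S.finite_toSet
    rw [Set.ncard_coe_finset, ← Nat.card_coe_set_eq] at h'
    have h'' : Nat.card ↥F ≤ 8 := h'.trans hS
    omega
  obtain ⟨e1, he1, he1n⟩ := pick {1, z} (Finset.card_le_two.trans (by norm_num))
  obtain ⟨e2, he2, he2n⟩ := pick {1, z, e1, z * e1, π * e1 * π⁻¹, z * (π * e1 * π⁻¹),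
      e1 * (π * e1 * π⁻¹), z * (e1 * (π * e1 * π⁻¹))} (by
    iterate 7 refine (Finset.card_insert_le _ _).trans (Nat.succ_le_succ ?_)
    exact (Finset.card_singleton _).le)
  simp only [Finset.mem_insert, Finset.mem_singleton, not_or] at he1n he2n
  let x1 : ↥E := ⟨e1, hFE he1⟩
  let x2 : ↥E := ⟨e2, hFE he2⟩
  have hA1 : q (A x1) = q x1 := (hfix x1).1 he1
  have hA2 : q (A x2) = q x2 := (hfix x2).1 he2
  have hn1 : q x1 ≠ 1 := fun h => by
    rw [← map_one q, ← hq] at h
    rcases h with k | k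
    · exact he1n.1 k
    · exact he1n.2 (k.trans (mul_one z))
  have hn2 : ∀ y : ↥E, q x2 = q y → (y = 1 ∨ y = x1 ∨ y = P x1 ∨ y = x1 * P x1) → False := by
    intro y h hy
    rw [← hq] at h
    rcases hy with rfl | rfl | rfl | rfl <;> rcases h with k | k
    all_goals try simp only [hPval, Subgroup.coe_mul, Subgroup.coe_one] at k
    · exact he2n.1 k
    · exact he2n.2.1 (k.trans (mul_one z))
    · exact he2n.2.2.1 k
    · exact he2n.2.2.2.1 k
    · exact he2n.2.2.2.2.1 k
    · exact he2n.2.2.2.2.2.1 k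
    · exact he2n.2.2.2.2.2.2.1 k
    · exact he2n.2.2.2.2.2.2.2 k
  let g0 : List G := [e1, π * e1 * π⁻¹, e2, π * e2 * π⁻¹]
  have hg0 : ∀ g ∈ g0, g ∈ E := by
    intro g hg
    simp only [g0, List.mem_cons, List.not_mem_nil, or_false] at hg
    rcases hg with rfl | rfl | rfl | rfl
    exacts [x1.2, J.conjE J.piz x1.2, x2.2, J.conjE J.piz x2.2]
  have hg : ∀ g ∈ genList π b e1 e2, g ∈ E := by
    intro g hg
    simp only [genList, List.mem_append, List.mem_map] at hg
    rcases hg with hg | ⟨x, hx, rfl⟩ | ⟨x, hx, rfl⟩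
    · exact hg0 g hg
    · exact J.conjE hbz (hg0 x hx)
    · exact J.conjE (by rw [mul_assoc, hbz, ← mul_assoc, hbz, mul_assoc]) (hg0 x hx)
  let W : ℕ → ↥E := fun r => ⟨vlist g0 r, vlist_mem hg0 r⟩
  have hWval : ∀ r, r < 16 → q (W r) = (q x1 ^ (r % 2) * q (P x1) ^ (r / 2 % 2)) *
      (q x2 ^ (r / 4 % 2) * q (P x2) ^ (r / 8 % 2)) := by
    intro r hr
    simp only [← map_pow, ← map_mul]
    congr 1
    apply Subtype.ext
    interval_cases r <;> simp [W, g0, vlist, x1, x2, hPval, mul_assoc]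
  have hWA : ∀ r, r < 16 → q (A (W r)) = q (W r) := by
    intro r hr
    have h1 : q (A (P x1)) = q (P x1) := by rw [hAP]; exact cP _ _ hA1
    have h2 : q (A (P x2)) = q (P x2) := by rw [hAP]; exact cP _ _ hA2
    have hv := hWval r hr
    simp only [← map_pow, ← map_mul] at hv
    rw [cA _ _ hv]
    simp only [map_mul, map_pow, hA1, hA2, h1, h2]
    exact (hWval r hr).symm
  have hWind : ∀ r, r < 16 → q (W r) = 1 → r = 0 := by
    intro r hr h
    rw [hWval r hr] at h
    have hP1 := hsum x1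
    have hP2 := hsum x2
    -- the part at the second vector vanishes
    have inv1 : ∀ x : Q, x * x = 1 → ∀ y, x * y = 1 → y = x := fun x hx y hxy => by
      rw [← one_mul y, ← hx, mul_assoc, hxy, mul_one]
    have hz4 : r / 4 % 2 = 0 ∧ r / 8 % 2 = 0 := by
      by_contra hne
      have hy : ∃ y : ↥E, (y = 1 ∨ y = x1 ∨ y = P x1 ∨ y = x1 * P x1) ∧
          q x2 ^ (r / 4 % 2) * q (P x2) ^ (r / 8 % 2) = q y := by
        refine ⟨x1 ^ (r % 2) * P x1 ^ (r / 2 % 2), ?_, ?_⟩
        · rcases Nat.mod_two_eq_zero_or_one r with m | m <;>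
            rcases Nat.mod_two_eq_zero_or_one (r / 2) with k | k <;> rw [m, k] <;> simp
        · rw [map_mul, map_pow, map_pow]
          refine inv1 _ ?_ _ h
          calc _ = (q x1 * q x1) ^ (r % 2) * (q (P x1) * q (P x1)) ^ (r / 2 % 2) := by
                rw [mul_pow, mul_pow]; simp only [mul_comm, mul_assoc, mul_left_comm]
            _ = 1 := by rw [sq, sq, one_pow, one_pow, one_mul]
      obtain ⟨y, hy, hyv⟩ := hy
      -- the images of `y` under powers of `P` stay in the same set modulo the centre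
      have hP : ∀ y : ↥E, (y = 1 ∨ y = x1 ∨ y = P x1 ∨ y = x1 * P x1) →
          ∃ y', (y' = 1 ∨ y' = x1 ∨ y' = P x1 ∨ y' = x1 * P x1) ∧ q (P y) = q y' := by
        rintro y (rfl | rfl | rfl | rfl)
        · exact ⟨1, Or.inl rfl, by rw [map_one]⟩
        · exact ⟨_, Or.inr (Or.inr (Or.inl rfl)), rfl⟩
        · refine ⟨_, Or.inr (Or.inr (Or.inr rfl)), ?_⟩
          rw [map_mul]
          refine inv1 _ ?_ _ hP1
          calc _ = (q x1 * q x1) * (q (P x1) * q (P x1)) := by simp only [mul_comm, mul_assoc, mul_left_comm]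
            _ = 1 := by rw [sq, sq, one_mul]
        · refine ⟨x1, Or.inr (Or.inl rfl), ?_⟩
          rw [map_mul, map_mul]
          calc q (P x1) * q (P (P x1)) = q x1 * q x1 * (q (P x1) * q (P (P x1))) := by rw [sq, one_mul]
            _ = q x1 * (q x1 * q (P x1) * q (P (P x1))) := by simp only [mul_assoc]
            _ = q x1 := by rw [hP1, mul_one]
      rcases Nat.mod_two_eq_zero_or_one (r / 4) with m | m <;>
        rcases Nat.mod_two_eq_zero_or_one (r / 8) with k | k <;> rw [m, k] at hyv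
      · exact hne ⟨m, k⟩
      · simp only [pow_zero, pow_one, one_mul] at hyv
        obtain ⟨y', hy', e⟩ := hP y hy
        obtain ⟨y'', hy'', e'⟩ := hP y' hy'
        refine hn2 y'' ?_ hy''
        calc q x2 = q (P (P (P x2))) := by rw [hPPP]
          _ = q (P (P y)) := cP _ _ (cP _ _ hyv)
          _ = q (P y') := cP _ _ e
          _ = q y'' := e'
      · simp only [pow_zero, pow_one, mul_one] at hyv
        exact hn2 y hyv hy
      · simp only [pow_one] at hyv
        obtain ⟨y', hy', e⟩ := hP y hy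
        refine hn2 y' ?_ hy'
        have h' : q (P (x2 * P x2)) = q (P y) := cP _ _ (by rw [map_mul]; exact hyv)
        rw [map_mul, map_mul] at h'
        rw [← e, ← h']
        calc q x2 = q x2 * (q x2 * q (P x2) * q (P (P x2))) := by rw [hP2, mul_one]
          _ = (q x2 * q x2) * (q (P x2) * q (P (P x2))) := by simp only [mul_assoc]
          _ = _ := by rw [sq, one_mul]
    obtain ⟨m4, m8⟩ := hz4
    rw [m4, m8, pow_zero, pow_zero, one_mul, mul_one] at h
    rcases Nat.mod_two_eq_zero_or_one r with m | m <;>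
      rcases Nat.mod_two_eq_zero_or_one (r / 2) with k | k <;> rw [m, k] at h
    · omega
    · simp only [pow_zero, pow_one, one_mul] at h
      exfalso
      apply hn1
      calc q x1 = q (P (P (P x1))) := by rw [hPPP]
        _ = q (P (P 1)) := cP _ _ (cP _ _ (by rw [h, map_one]))
        _ = 1 := by simp
    · simp only [pow_zero, pow_one, mul_one] at h
      exact absurd h hn1
    · simp only [pow_one] at h
      exact absurd (hfpf x1 (inv1 _ (sq x1) _ h)) hn1
  have hsplit : ∀ n, vlist (genList π b e1 e2) n =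
      ((W (n % 16) * (B (W (n / 16 % 16)) * B (B (W (n / 256))))) : ↥E) := by
    intro n
    rw [Subgroup.coe_mul, Subgroup.coe_mul, hBval, hBval, hBval]
    show vlist (genList π b e1 e2) n =
      vlist g0 (n % 16) * (b * vlist g0 (n / 16 % 16) * b⁻¹ * (b * (b * vlist g0 (n / 256) * b⁻¹) * b⁻¹))
    rw [genList, vlist_append, vlist_append, vlist_map, vlist_map, MulAut.conj_apply, MulAut.conj_apply]
    simp only [List.length_cons, List.length_nil, List.length_map, zero_add, Nat.reduceAdd,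
      Nat.reducePow, Nat.div_div_eq_div_mul, Nat.reduceMul, g0]
    group
  have hind : ∀ n, n < 4096 → Rel z (vlist (genList π b e1 e2) n) 1 → n = 0 := by
    intro n hn h
    rw [hsplit n] at h
    have h0 : q (W (n % 16) * (B (W (n / 16 % 16)) * B (B (W (n / 256))))) = q 1 := (hq _ 1).1 h
    set U := W (n % 16)
    set V := W (n / 16 % 16)
    set T := W (n / 256)
    have hUA := hWA _ (Nat.mod_lt n (by norm_num : 16 > 0))
    have hVA := hWA _ (Nat.mod_lt (n / 16) (by norm_num : 16 > 0))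
    have hTA := hWA (n / 256) (by omega)
    have hBV : q (A (B V)) = q (P (B V)) := by
      rw [hAB]; exact cP _ _ (cB _ _ hVA)
    have hBT : q (A (B (B T))) = q (P (P (B (B T)))) := by
      rw [hAB, hAB, hBP]
      exact cP _ _ (cP _ _ (cB _ _ (cB _ _ hTA)))
    have h1 := cA _ _ h0
    simp only [map_mul, map_one] at h0 h1
    rw [hUA, hBV, hBT] at h1
    have h2 := cA (U * (P (B V) * P (P (B (B T))))) 1 (by simpa only [map_mul, map_one] using h1)
    simp only [map_mul, map_one, hAP] at h2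
    rw [hUA, cP _ _ hBV, cP _ _ (cP _ _ hBT)] at h2
    change q U * (q (P (P (B V))) * q (P (P (P (P (B (B T))))))) = 1 at h2
    rw [hPPP] at h2
    have hU : q U = 1 := by
      calc q U = q U * (q U * q U) * (q (B V) * q (P (B V)) * q (P (P (B V)))) *
            (q (B (B T)) * q (P (B (B T))) * q (P (P (B (B T))))) := by
            rw [sq, hsum, hsum, mul_one, mul_one, mul_one]
        _ = (q U * (q (B V) * q (B (B T)))) * (q U * (q (P (B V)) * q (P (P (B (B T)))))) *
            (q U * (q (P (P (B V))) * q (P (B (B T))))) := alg7 _ _ _ _ _ _ _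
        _ = 1 := by rw [h0, h1, h2, one_mul, one_mul]
    rw [hU, one_mul] at h0 h1
    have inv1 : ∀ x : Q, x * x = 1 → ∀ y, x * y = 1 → y = x := fun x hx y hxy => by
      rw [← one_mul y, ← hx, mul_assoc, hxy, mul_one]
    have hTV : q (B (B T)) = q (B V) := inv1 _ (sq _) _ h0
    have hBV0 : q (B V) = 1 := by
      have h3 : q (P (P (B (B T)))) = q (P (P (B V))) := cP _ _ (cP _ _ hTV)
      rw [h3] at h1
      calc q (B V) = q (B V) * (q (P (B V)) * q (P (P (B V)))) := by rw [h1, mul_one]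
        _ = 1 := by rw [← mul_assoc]; exact hsum _
    have hV0 : q V = 1 := by
      calc q V = q (B (B (B V))) := by rw [hBB]
        _ = q (B (B 1)) := cB _ _ (cB _ _ (by rw [hBV0, map_one]))
        _ = 1 := by simp
    have hT0 : q T = 1 := by
      calc q T = q (B (B (B T))) := by rw [hBB]
        _ = q (B 1) := cB _ _ (by rw [hTV, hBV0, map_one])
        _ = 1 := by simp
    have k1 := hWind _ (Nat.mod_lt n (by norm_num : 16 > 0)) hU
    have k2 := hWind _ (Nat.mod_lt (n / 16) (by norm_num : 16 > 0)) hV0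
    have k3 := hWind (n / 256) (by omega) hT0
    omega
  have C := J.coords_of_list hg hind
  have hap4 : ∀ r < 16, ap [2, 3, 8, 12] r % 2 = r / 2 % 2 ∧
      ap [2, 3, 8, 12] r / 2 % 2 = (r % 2 + r / 2 % 2) % 2 ∧
      ap [2, 3, 8, 12] r / 4 % 2 = r / 8 % 2 ∧
      ap [2, 3, 8, 12] r / 8 % 2 = (r / 4 % 2 + r / 8 % 2) % 2 := by decide
  have hpm : ∀ (x : ↥E) (n : ℕ), q x ^ (n % 2) = q x ^ n := fun x n => by
    conv_rhs => rw [← Nat.mod_add_div n 2, pow_add, pow_mul, pow_two, sq, one_pow, mul_one]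
  have hb16 : ∀ r < 16, ap [2, 3, 8, 12] r < 16 := by decide
  have hr : ∀ r, r < 16 → q (P (W r)) = q (W (ap [2, 3, 8, 12] r)) := by
    intro r hr
    have hv := hWval r hr
    simp only [← map_pow, ← map_mul] at hv
    rw [cP _ _ hv]
    have hb' : ap [2, 3, 8, 12] r < 16 := by interval_cases r <;> decide
    rw [hWval _ hb']
    simp only [map_mul, map_pow]
    have hA : q (P (P x1)) = q x1 * q (P x1) :=
      (mul_eq_one_iff_eq_inv.1 ((mul_comm _ _).trans (hsum x1))).trans
        (inv_eq_of_mul_eq_one_right (by rw [mul_mul_mul_comm, sq, sq, one_mul]))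
    have hB : q (P (P x2)) = q x2 * q (P x2) :=
      (mul_eq_one_iff_eq_inv.1 ((mul_comm _ _).trans (hsum x2))).trans
        (inv_eq_of_mul_eq_one_right (by rw [mul_mul_mul_comm, sq, sq, one_mul]))
    rw [hA, hB]
    obtain ⟨b0, b1, b2, b3⟩ := hap4 r hr
    rw [b0, b1, b2, b3, hpm (P x1) (r % 2 + r / 2 % 2), hpm (P x2) (r / 4 % 2 + r / 8 % 2)]
    exact alg4 (q x1) (q (P x1)) (q x2) (q (P x2)) _ _ _ _
  refine ⟨_, C, J.acts_of_gens J.piz C (by decide) ?_, J.acts_of_gens haz C (by decide) ?_,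
    J.acts_of_gens hbz C (by decide) ?_⟩
  all_goals
    intro i hi
    have hT : 2 ^ i / 256 < 16 :=
      Nat.div_lt_of_lt_mul (Nat.pow_lt_pow_right (by norm_num) (show i < 12 by omega))
    rw [hsplit, hsplit]
  · rw [← hPval]; refine (hq (P (W (2 ^ i % 16) * (B (W (2 ^ i / 16 % 16)) * B (B (W (2 ^ i / 256)))))) _).2 ?_
    simp only [map_mul]
    rw [← hBP, ← hBP, ← hBP, cB _ _ (hr _ (Nat.mod_lt _ (by norm_num))),
      cB _ _ (cB _ _ (hr _ hT)), hr _ (Nat.mod_lt _ (by norm_num))]
    interval_cases i <;> rfl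
  · rw [← hAval]; refine (hq (A (W (2 ^ i % 16) * (B (W (2 ^ i / 16 % 16)) * B (B (W (2 ^ i / 256)))))) _).2 ?_
    simp only [map_mul]
    have e2 : ∀ r, r < 16 → q (A (B (W r))) = q (B (W (ap [2, 3, 8, 12] r))) := fun r hr' => by
      rw [hAB, cP _ _ (cB _ _ (hWA r hr')), ← hBP, cB _ _ (hr r hr')]
    have e3 : ∀ r, r < 16 → q (A (B (B (W r)))) =
        q (B (B (W (ap [2, 3, 8, 12] (ap [2, 3, 8, 12] r))))) := fun r hr' => by
      rw [hAB, hAB, hBP, cP _ _ (cP _ _ (cB _ _ (cB _ _ (hWA r hr')))), ← hBP, ← hBP, ← hBP, ← hBP,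
        cB _ _ (cB _ _ (cP _ _ (hr r hr'))), cB _ _ (cB _ _ (hr _ (hb16 r hr')))]
    rw [hWA _ (Nat.mod_lt _ (by norm_num)), e2 _ (Nat.mod_lt _ (by norm_num)), e3 _ hT]
    interval_cases i <;> rfl
  · rw [← hBval]; refine (hq (B (W (2 ^ i % 16) * (B (W (2 ^ i / 16 % 16)) * B (B (W (2 ^ i / 256)))))) _).2 ?_
    simp only [map_mul, hBB]
    rw [← mul_assoc, mul_comm (q (B (W _)) * q (B (B (W _))))]
    interval_cases i <;> rfl

end Ctx

end CfsgLib.JFour
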