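import Cfsg.Agent.Lib.JFour.Eleven
import Cfsg.Agent.Lib.JFour.M22Small

/-!
# The subgroup of the hexad in the group on 22 points

It contains a central involution of a Sylow 2-subgroup whose centralizer normalizes it, a few words
act on it by known permutations, and a 2-subgroup of order 128 is not abelian modulo an elementary
subgroup of order sixteen.
-/

set_option autoImplicit false
set_option maxRecDepth 100000
set_option linter.style.haveILetI false
set_option linter.unusedSectionVars false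

open Cfsg

namespace CfsgLib.JFour

/-- Words normalizing the hexad subgroup: two moving the two classes of fixed vectors transitively and
one fixing a vector. -/
def normW : List (List ℕ) := [[3, 4, 3, 0], [4, 2, 4, 1, 2, 0], [4, 3, 4, 3, 0]]

/-- Their permutations of the sixteen listed products. -/
def normPerm : List (List ℕ) := [
  [0, 2, 1, 3, 10, 8, 11, 9, 5, 7, 4, 6, 15, 13, 14, 12],
  [0, 2, 12, 14, 1, 3, 13, 15, 10, 8, 6, 4, 11, 9, 7, 5]]

/-- The permutation of the third word on the five products whose displacements contain its vector. -/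
def fivePerm : List (ℕ × ℕ) := [(6, 12), (11, 6), (12, 14), (14, 15), (15, 11)]

/-- Triples of a word, a product and its conjugate. -/
def conjL : List (List ℕ × ℕ × ℕ) :=
  ((List.range 2).flatMap fun s => (List.range 16).map fun i =>
    (normW.getD s [], i, (normPerm.getD s []).getD i 0)) ++
  fivePerm.map fun p => (normW.getD 2 [], p.1, p.2)

variable {M : Type*} [Group M]

/-- The subgroup generated by the hexad words. -/
def hexK (g : ℕ → M) : Subgroup M := Subgroup.closure {x | ∃ w ∈ hexW, x = (w.map g).prod}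

/-- The facts used on the hexad subgroup. -/
structure HexFacts (M : Type*) [Group M] (g : ℕ → M) : Prop where
  conjW : ∀ q ∈ conjL, ((q.1 ++ hexS.getD q.2.1 []).map g).prod = ((hexS.getD q.2.2 [] ++ q.1).map g).prod
  cent : ∃ Z ∈ hexK g, orderOf Z = 2 ∧ ∀ y, y * Z = Z * y → y ∈ Subgroup.normalizer (hexK g : Set M)
  comm : ∀ S : Subgroup M, IsPGroup 2 S → Nat.card S = 128 → ∀ A ≤ S, Nat.card A = 16 →
    (∀ a ∈ A, a * a = 1) → ∃ s ∈ S, ∃ t ∈ S, s * t * (s * t) ∉ A ∧ s * s = 1 ∧ t * t = 1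

theorem hexK_map {N : Type*} [Group N] (θ : M →* N) (g : ℕ → M) :
    hexK (fun k => θ (g k)) = (hexK g).map θ := by
  rw [hexK, hexK, MonoidHom.map_closure]
  congr 1
  ext x
  simp only [Set.mem_image, Set.mem_ofPred_eq]
  constructor
  · rintro ⟨w, hw, rfl⟩
    exact ⟨_, ⟨w, hw, rfl⟩, by rw [map_list_prod, List.map_map]; rfl⟩
  · rintro ⟨_, ⟨w, hw, rfl⟩, rfl⟩
    exact ⟨w, hw, by rw [map_list_prod, List.map_map]; rfl⟩

/-- The facts do not depend on the automorphic position. -/
theorem HexFacts.map {g : ℕ → M} (H : HexFacts M g) (θ : M ≃* M) : HexFacts M (fun k => θ (g k)) where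
  conjW q hq := by
    have h := congrArg θ (H.conjW q hq)
    simpa only [map_list_prod, List.map_map, Function.comp_def] using h
  cent := by
    obtain ⟨Z, hZ, hZ2, hC⟩ := H.cent
    have e : hexK (fun k => θ (g k)) = (hexK g).map θ.toMonoidHom := hexK_map θ.toMonoidHom g
    refine ⟨θ Z, e ▸ ⟨Z, hZ, rfl⟩, by rw [θ.orderOf_eq, hZ2], fun y hy => ?_⟩
    obtain ⟨y, rfl⟩ := θ.surjective y
    rw [← map_mul, ← map_mul, θ.injective.eq_iff] at hy
    have hn := hC y hy
    rw [Subgroup.mem_normalizer_iff] at hn ⊢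
    intro x
    obtain ⟨x, rfl⟩ := θ.surjective x
    rw [e, ← map_inv, ← map_mul, ← map_mul]
    simpa only [Subgroup.mem_map_equiv, MulEquiv.symm_apply_apply] using hn x
  comm := H.comm

namespace M22Cert

open CfsgLib.Golay CfsgLib.Golay.SylowTwo

theorem hex_ok : conjL.all (fun q => eqP (wordP (q.1 ++ hexS.getD q.2.1 [])) (wordP (hexS.getD q.2.2 [] ++ q.1))) = true ∧
    (els (hexW.map wordP)).any (eqP zP) = true ∧
    (pcP ++ [tP.1, tP.2]).all (fun P => hexW.all fun w =>
      (els (hexW.map wordP)).any (eqP (mulP (mulP P (wordP w)) P))) = true ∧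
    sixT.all (fun t => pcP.any fun P => pcP.any fun Q =>
      !(t.1.any fun i => eqP (el i) (mulP (mulP P Q) (mulP P Q)))) = true := by
  decide +kernel

theorem hexK_els {P : ℕ} (hP : validP P = true) (h : (els (hexW.map wordP)).any (eqP P) = true) :
    toPerm P ∈ (hexK gM).map Cfsg.Spor.M22.subtype := by
  obtain ⟨Q, hQ, hPQ⟩ := List.any_eq_true.1 h
  have hv : ∀ R ∈ hexW.map wordP, validP R = true := by
    intro R hR
    obtain ⟨w, -, rfl⟩ := List.mem_map.1 hR
    exact (wordP_val w).1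
  obtain ⟨hQv, hQm⟩ := els_mem hv Q hQ
  rw [toPerm_eq_of_eqP hP hQv hPQ]
  refine (Subgroup.closure_le _).2 ?_ hQm
  rintro _ ⟨R, hR, rfl⟩
  obtain ⟨w, hw, rfl⟩ := List.mem_map.1 hR
  exact ⟨(w.map gM).prod, Subgroup.subset_closure ⟨w, hw, rfl⟩, (wordP_val w).2⟩

theorem hex_facts : HexFacts ↥Cfsg.Spor.M22 gM where
  conjW q hq := prod_eq (List.all_eq_true.1 hex_ok.1 q hq)
  cent := by
    haveI := Fact.mk Nat.prime_two
    haveI := Fact.mk Nat.prime_three
    obtain ⟨hz1, hz2, hpc, ht1, ht2, ht1z, ht2z, ht12, ht3⟩ := central_ok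
    obtain ⟨hzv, hzm⟩ := inG_mem gens_ok.2.2.2.2.1
    obtain ⟨htv1, htm1⟩ := inG_mem gens_ok.2.2.1
    obtain ⟨htv2, htm2⟩ := inG_mem gens_ok.2.2.2.1
    set Z : ↥Cfsg.Spor.M22 := ⟨toPerm zP, hzm⟩ with hZdef
    have hZK : Z ∈ hexK gM := by
      obtain ⟨x, hx, hxe⟩ := hexK_els hzv hex_ok.2.1
      rwa [← show x = Z from Subtype.ext hxe]
    have emul : ∀ {P Q R S : ℕ}, validP P = true → validP Q = true → validP R = true → validP S = true →
        eqP (mulP P Q) (mulP R S) = true → toPerm P * toPerm Q = toPerm R * toPerm S := by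
      intro P Q R S h1 h2 h3 h4 h
      rw [← toPerm_mulP h1 h2, ← toPerm_mulP h3 h4]
      exact toPerm_eq_of_eqP (validP_mulP h1 h2) (validP_mulP h3 h4) h
    have esq : ∀ {P : ℕ}, validP P = true → eqP (mulP P P) idP = true → toPerm P * toPerm P = 1 := by
      intro P h1 h
      rw [← toPerm_mulP h1 h1, ← toPerm_idP]
      exact toPerm_eq_of_eqP (validP_mulP h1 h1) validP_idP h
    have hZ : orderOf Z = 2 := by
      refine orderOf_eq_prime (by rw [pow_two]; exact Subtype.ext (esq hzv hz2)) fun h => ?_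
      have h' : toPerm zP = toPerm idP := (congrArg Subtype.val h).trans toPerm_idP.symm
      rw [eqP_of_toPerm_eq hzv validP_idP h'] at hz1
      exact Bool.noConfusion hz1
    set V := Subgroup.normalizer (hexK gM : Set ↥Cfsg.Spor.M22) ⊓
      Subgroup.centralizer ({Z} : Set ↥Cfsg.Spor.M22) with hV
    have hgen : ∀ P ∈ pcP ++ [tP.1, tP.2], ∀ hm : toPerm P ∈ Cfsg.Spor.M22, validP P = true →
        eqP (mulP P P) idP = true → eqP (mulP P zP) (mulP zP P) = true → (⟨toPerm P, hm⟩ : ↥Cfsg.Spor.M22) ∈ V := by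
      intro P hP hm hv hs hc
      refine Subgroup.mem_inf.2 ⟨?_, Subgroup.mem_centralizer_singleton_iff.2 (Subtype.ext (emul hv hzv hzv hv hc))⟩
      set T : ↥Cfsg.Spor.M22 := ⟨toPerm P, hm⟩ with hT
      have hTi : T⁻¹ = T := inv_eq_of_mul_eq_one_right (Subtype.ext (esq hv hs))
      have hle : ∀ x ∈ hexK gM, T * x * T⁻¹ ∈ hexK gM := by
        intro x hx
        have hsub : hexK gM ≤ (hexK gM).comap (MulAut.conj T).toMonoidHom := by
          refine (Subgroup.closure_le _).2 ?_
          rintro _ ⟨w, hw, rfl⟩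
          show T * (w.map gM).prod * T⁻¹ ∈ hexK gM
          have hh := List.all_eq_true.1 (List.all_eq_true.1 hex_ok.2.2.1 P hP) w hw
          obtain ⟨hwv, hwe⟩ := wordP_val w
          obtain ⟨y, hy, hye⟩ := hexK_els (validP_mulP (validP_mulP hv hwv) hv) hh
          rw [hTi, ← show y = T * (w.map gM).prod * T from Subtype.ext (hye.trans (by
            rw [toPerm_mulP (validP_mulP hv hwv) hv, toPerm_mulP hv hwv, Subgroup.coe_mul, Subgroup.coe_mul, hwe]))]
          exact hy
        exact hsub hx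
      rw [Subgroup.mem_normalizer_iff]
      refine fun x => ⟨hle x, fun hx => ?_⟩
      have := hle _ hx
      rw [hTi] at this hx
      have hTT : T * T = 1 := Subtype.ext (esq hv hs)
      rwa [show T * (T * x * T) * T = T * T * x * (T * T) by group, hTT, one_mul, mul_one] at this
    have hBV : (HS pcP).subgroupOf Cfsg.Spor.M22 ≤ V := by
      have h1 : HS pcP ≤ V.map Cfsg.Spor.M22.subtype := by
        refine (Subgroup.closure_le _).2 ?_
        rintro _ ⟨P, hP, rfl⟩
        obtain ⟨hv, hm⟩ := pc_mem P hP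
        have hh := List.all_eq_true.1 hpc P hP
        rw [Bool.and_eq_true] at hh
        exact ⟨⟨_, hm⟩, hgen P (List.mem_append_left _ hP) hm hv hh.1 hh.2, rfl⟩
      intro t ht
      obtain ⟨u, hu, hue⟩ := h1 (Subgroup.mem_subgroupOf.1 ht)
      rwa [← Subtype.ext (show (u : Equiv.Perm GolayPt) = t from hue)]
    have hT1 := hgen tP.1 (List.mem_append_right _ (by simp)) htm1 htv1 ht1 ht1z
    have hT2 := hgen tP.2 (List.mem_append_right _ (by simp)) htm2 htv2 ht2 ht2z
    have ho3 : orderOf ((⟨toPerm tP.1, htm1⟩ : ↥Cfsg.Spor.M22) * ⟨toPerm tP.2, htm2⟩) = 3 := by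
      refine orderOf_eq_prime (Subtype.ext ?_) fun h => ?_
      · show ((((⟨toPerm tP.1, htm1⟩ : ↥Cfsg.Spor.M22) * ⟨toPerm tP.2, htm2⟩) ^ 3 : ↥Cfsg.Spor.M22) : Equiv.Perm GolayPt) = 1
        rw [pow_succ, pow_two, mul_assoc]
        show toPerm tP.1 * toPerm tP.2 * (toPerm tP.1 * toPerm tP.2 * (toPerm tP.1 * toPerm tP.2)) = 1
        have hv := validP_mulP htv1 htv2
        rw [← toPerm_mulP htv1 htv2, ← toPerm_mulP hv hv, ← toPerm_mulP hv (validP_mulP hv hv), ← toPerm_idP]
        exact toPerm_eq_of_eqP (validP_mulP hv (validP_mulP hv hv)) validP_idP ht3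
      · have h' : toPerm (mulP tP.1 tP.2) = toPerm idP := by
          rw [toPerm_mulP htv1 htv2, toPerm_idP]; exact congrArg Subtype.val h
        rw [eqP_of_toPerm_eq (validP_mulP htv1 htv2) validP_idP h'] at ht12
        exact Bool.noConfusion ht12
    have hVeq : V = Subgroup.centralizer ({Z} : Set ↥Cfsg.Spor.M22) := by
      refine Subgroup.eq_of_le_of_card_ge inf_le_right ?_
      rw [small.card_invol Z hZ]
      refine Nat.le_of_dvd Nat.card_pos ?_
      rw [show (384 : ℕ) = 128 * 3 from rfl]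
      refine Nat.Coprime.mul_dvd_of_dvd_of_dvd (by norm_num) ?_ ?_
      · have := Subgroup.card_dvd_of_le hBV
        rwa [Nat.card_congr (Subgroup.subgroupOfEquivOfLe HS_le).toEquiv, card_HS pcP_ok, pcP_len] at this
      · have h3 := orderOf_dvd_natCard (G := ↥V) ⟨_, mul_mem hT1 hT2⟩
        rwa [Subgroup.orderOf_mk, ho3] at h3
    refine ⟨Z, hZK, hZ, fun y hy => ?_⟩
    exact (hVeq.ge (Subgroup.mem_centralizer_singleton_iff.2 hy)).1
  comm := by
    classical
    intro S hS hcard A hAS hA hA1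
    obtain ⟨c, hc⟩ := exists_list hS
    obtain ⟨n, hn, hA', -⟩ := six_of_conj (fun a ha => hc a (hAS ha)) hA hA1
    have hall : ∀ i < 128, c⁻¹ * elM i * c ∈ S := by
      choose f hf1 hf2 using fun a : S => hc a a.2
      have hinj : Function.Injective (fun a : S => (⟨f a, hf1 a⟩ : Fin 128)) := fun a b e =>
        Subtype.ext (mul_left_cancel (mul_right_cancel ((hf2 a).trans
          ((congrArg (fun i : Fin 128 => elM i) e).trans (hf2 b).symm))))
      letI := Fintype.ofFinite S
      have hsurj := ((Fintype.bijective_iff_injective_and_card _).2 ⟨hinj, by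
        rw [← Nat.card_eq_fintype_card, hcard, Fintype.card_fin]⟩).2
      intro i hi
      obtain ⟨a, ha⟩ := hsurj ⟨i, hi⟩
      have e : f a = i := congrArg Fin.val ha
      have h2 := hf2 a
      rw [e] at h2
      rw [← h2, show c⁻¹ * (c * (a : ↥Cfsg.Spor.M22) * c⁻¹) * c = (a : ↥Cfsg.Spor.M22) by group]
      exact a.2
    have hlen : sixT.length = 2 := six_ok.2
    obtain ⟨P, hP, hQ'⟩ := List.any_eq_true.1 (List.all_eq_true.1 hex_ok.2.2.2 (sixT.getD n ([], [])) (by
      rw [List.getD_eq_getElem _ _ (by omega)]; exact List.getElem_mem _))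
    obtain ⟨Q, hQ, hne⟩ := List.any_eq_true.1 hQ'
    have key : ∀ R ∈ pcP, ∃ hm : toPerm R ∈ Cfsg.Spor.M22, validP R = true ∧
        c⁻¹ * ⟨toPerm R, hm⟩ * c ∈ S ∧
        (c⁻¹ * (⟨toPerm R, hm⟩ : ↥Cfsg.Spor.M22) * c) * (c⁻¹ * ⟨toPerm R, hm⟩ * c) = 1 := by
      intro R hR
      obtain ⟨hv, hm⟩ := pc_mem R hR
      refine ⟨hm, hv, ?_, ?_⟩
      · obtain ⟨R', hR', he⟩ := exists_els pcP_ok _ (show toPerm R ∈ HS pcP from
          Subgroup.subset_closure ⟨R, hR, rfl⟩)
        obtain ⟨i, hi, rfl⟩ := List.getElem_of_mem hR'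
        rw [els_length, pcP_len] at hi
        have hei : (⟨toPerm R, hm⟩ : ↥Cfsg.Spor.M22) = elM i := Subtype.ext (by
          show toPerm R = toPerm (el i)
          rw [he, el, List.getD_eq_getElem _ _ (by rw [els_length, pcP_len]; omega)])
        rw [hei]
        exact hall i (by omega)
      · have hh := List.all_eq_true.1 central_ok.2.2.1 R hR
        rw [Bool.and_eq_true] at hh
        have e : (⟨toPerm R, hm⟩ : ↥Cfsg.Spor.M22) * ⟨toPerm R, hm⟩ = 1 := Subtype.ext (by
          show toPerm R * toPerm R = 1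
          rw [← toPerm_mulP hv hv, ← toPerm_idP]
          exact toPerm_eq_of_eqP (validP_mulP hv hv) validP_idP hh.1)
        rw [show ∀ r : ↥Cfsg.Spor.M22, c⁻¹ * r * c * (c⁻¹ * r * c) = c⁻¹ * (r * r) * c from
          fun r => by group, e]
        group
    obtain ⟨hPm, hPv, hPS, hP2⟩ := key P hP
    obtain ⟨hQm, hQv, hQS, hQ2⟩ := key Q hQ
    refine ⟨_, hPS, _, hQS, fun hmem => ?_, hP2, hQ2⟩
    obtain ⟨i, hi, he⟩ := (hA' _).1 hmem
    have e2 : (⟨toPerm P, hPm⟩ : ↥Cfsg.Spor.M22) * ⟨toPerm Q, hQm⟩ * (⟨toPerm P, hPm⟩ * ⟨toPerm Q, hQm⟩) = elM i := by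
      have := congrArg (fun r => c * r * c⁻¹) he
      simpa only [mul_assoc, mul_inv_cancel_left, inv_mul_cancel_left, mul_inv_cancel, mul_one] using this
    have hPQ := validP_mulP hPv hQv
    have e3 : toPerm (el i) = toPerm (mulP (mulP P Q) (mulP P Q)) := by
      rw [toPerm_mulP hPQ hPQ, toPerm_mulP hPv hQv]
      exact (congrArg Subtype.val e2).symm
    rw [Bool.not_eq_true', List.any_eq_false] at hne
    exact hne i hi (eqP_of_toPerm_eq (el_mem i).1 (validP_mulP hPQ hPQ) e3)

end M22Cert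

end CfsgLib.JFour
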