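import Cfsg.Agent.Lib.JFour.InvolChecks
import Cfsg.Agent.S5394

/-!
# The two classes of involutions

Every involution is conjugate to `z` or to a member of the small class of `V`: it lies in a conjugate of
the normalizer of `V`, acts there as one of two representatives, and a conjugation by one of two further
elements moves it into `E`.
-/

set_option autoImplicit false
set_option maxRecDepth 100000
set_option linter.style.haveILetI false
set_option linter.unusedSectionVars false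

open Cfsg

namespace CfsgLib.JFour

namespace Ctx.Std

variable {G : Type*} [Group G] [Finite G] {M : Type*} [Group M] [Finite M] {z π : G} {E : Subgroup G}
variable {J : Ctx M z π E} {g : ℕ → M} {vec : ℕ → G} {V : Subgroup G} (D : J.Std g vec V)
include D

theorem actW_eq {i : ℕ} (hi : i < 64) : VActs J g vec (hat z π vec (wC i)) (actW i) :=
  D.vacts_hat (wC_facts hi).1

theorem hat_wC_sq {i : ℕ} (hi : i < 64) : hat z π vec (wC i) * hat z π vec (wC i) = 1 := by
  rw [D.hat_sq (wC_facts hi).1, (wC_facts hi).2]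
  rfl

theorem vacts_not_mem {y : G} {L : List ℕ} (h : VActs J g vec y L) (hL : L ≠ id11) : y ∉ V := fun hy => hL <| by
  have hl : L.length = 11 := by
    have := h.1; simp only [okL, Bool.and_eq_true, beq_iff_eq] at this; exact this.1
  refine List.ext_getElem (by rw [hl]; rfl) fun j hj hj' => ?_
  have := D.vacts_inj h (D.vacts_V hy) (n := 2 ^ j) (Nat.pow_lt_pow_right (n := 11) (by norm_num) (by omega))
  rwa [ap_pow, ap_pow, List.getD_eq_getElem _ _ hj, List.getD_eq_getElem _ _ hj'] at this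

theorem ncard_fixed {y : G} {L : List ℕ} (h : VActs J g vec y L) :
    Set.ncard {v : G | v ∈ V ∧ y * v * y⁻¹ = v} = ((List.range 2048).filter fun n => Nat.beq (ap L n) n).length := by
  classical
  set Ls := (List.range 2048).filter fun n => Nat.beq (ap L n) n with hLs
  have hset : {v : G | v ∈ V ∧ y * v * y⁻¹ = v} = ↑(Ls.toFinset.image (ev J g vec)) := by
    ext v
    simp only [Finset.coe_image, Set.mem_image, Finset.mem_coe, List.mem_toFinset, hLs, List.mem_filter,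
      List.mem_range, Nat.beq_eq, Set.mem_ofPred_eq]
    constructor
    · rintro ⟨hv, e⟩
      obtain ⟨n, hn, rfl⟩ := D.ev_surj hv
      rw [h.2 n hn] at e
      exact ⟨n, ⟨hn, D.ev_inj (okL_lt h.1 n) hn e⟩, rfl⟩
    · rintro ⟨n, ⟨hn, e⟩, rfl⟩
      exact ⟨D.ev_mem n, by rw [h.2 n hn, e]⟩
  rw [hset, Set.ncard_coe_finset, Finset.card_image_of_injOn, List.toFinset_card_of_nodup]
  · exact List.Nodup.filter _ List.nodup_range
  · intro a ha b hb e
    simp only [Finset.mem_coe, List.mem_toFinset, hLs, List.mem_filter, List.mem_range] at ha hb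
    exact D.ev_inj ha.1 hb.1 e

/-- An involution of the normalizer outside `V` acts like one of two representatives. -/
theorem exists_rep {w : G} (hw : w ∈ Subgroup.normalizer (V : Set G)) (hw2 : w * w = 1) (hwV : w ∉ V) :
    ∃ m ∈ Subgroup.normalizer (V : Set G), ∃ i, (i = 1 ∨ i = 17) ∧
      ∃ n < 2048, m * w * m⁻¹ = hat z π vec (wC i) * ev J g vec n := by
  obtain ⟨φ, hker, hsurj, -⟩ := D.exists_hom
  obtain ⟨r1, r17, c128, c64, -, n1, n17, -, -⟩ := rep_ok
  have h1 := D.actW_eq (i := 1) (by norm_num)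
  have h17 := D.actW_eq (i := 17) (by norm_num)
  let N : Subgroup G := Subgroup.normalizer (V : Set G)
  let a : N := ⟨_, D.vacts_mem h1⟩
  let b : N := ⟨_, D.vacts_mem h17⟩
  have hord : ∀ x : N, (x : G) * x = 1 → (x : G) ∉ V → orderOf ((φ x : Equiv.Perm GolayPt)) = 2 := fun x h2 hx => by
    rw [Subgroup.orderOf_coe]
    refine orderOf_eq_prime (by rw [pow_two, ← map_mul, show x * x = 1 from Subtype.ext h2, map_one]) fun e => hx ?_
    have : x ∈ φ.ker := e
    rwa [hker] at this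
  have ha := hord a (D.hat_wC_sq (by norm_num)) (D.vacts_not_mem h1 n1)
  have hb := hord b (D.hat_wC_sq (by norm_num)) (D.vacts_not_mem h17 n17)
  have hw' := hord ⟨w, hw⟩ hw2 hwV
  have hcls := Cfsg.Agent.S5394.result.2.2.2
  have hconj : ∀ k : N, φ (k * a * k⁻¹) ≠ φ b := by
    intro k hk
    have hmem : (k * a * k⁻¹)⁻¹ * b ∈ φ.ker := by
      rw [MonoidHom.mem_ker, map_mul, map_inv, hk, inv_mul_cancel]
    rw [hker] at hmem
    set v : G := (((k * a * k⁻¹)⁻¹ * b : N) : G) with hv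
    have hvV : v ∈ V := hmem
    have hb' : (b : G) = (k : G) * a * (k : G)⁻¹ * v := by
      rw [hv]; simp only [Subgroup.coe_mul, InvMemClass.coe_inv]; group
    have hset : {x : G | x ∈ V ∧ (b : G) * x * (b : G)⁻¹ = x} =
        (fun x => (k : G) * x * (k : G)⁻¹) '' {x : G | x ∈ V ∧ (a : G) * x * (a : G)⁻¹ = x} := by
      ext x
      constructor
      · rintro ⟨hx, e⟩
        refine ⟨(k : G)⁻¹ * x * k, ⟨by simpa using D.conj_mem (inv_mem k.2) hx, ?_⟩, by group⟩
        have hvx : v * x * v⁻¹ = x := by rw [D.isV.comm v hvV _ hx, mul_inv_cancel_right]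
        rw [hb', show (k : G) * a * (k : G)⁻¹ * v * x * ((k : G) * a * (k : G)⁻¹ * v)⁻¹ =
          (k : G) * a * (k : G)⁻¹ * (v * x * v⁻¹) * ((k : G) * a * (k : G)⁻¹)⁻¹ by group, hvx] at e
        calc (a : G) * ((k : G)⁻¹ * x * k) * (a : G)⁻¹
            = (k : G)⁻¹ * ((k : G) * a * (k : G)⁻¹ * x * ((k : G) * a * (k : G)⁻¹)⁻¹) * k := by group
          _ = _ := by rw [e]
      · rintro ⟨y, ⟨hy, e⟩, rfl⟩
        have hx := D.conj_mem k.2 hy
        refine ⟨hx, ?_⟩
        show (b : G) * ((k : G) * y * (k : G)⁻¹) * (b : G)⁻¹ = (k : G) * y * (k : G)⁻¹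
        have hvx : v * ((k : G) * y * (k : G)⁻¹) * v⁻¹ = (k : G) * y * (k : G)⁻¹ := by
          rw [D.isV.comm v hvV _ hx, mul_inv_cancel_right]
        rw [hb', show (k : G) * a * (k : G)⁻¹ * v * ((k : G) * y * (k : G)⁻¹) *
          ((k : G) * a * (k : G)⁻¹ * v)⁻¹ = (k : G) * a * (k : G)⁻¹ * (v * ((k : G) * y * (k : G)⁻¹) * v⁻¹) *
            ((k : G) * a * (k : G)⁻¹)⁻¹ by group, hvx]
        conv_rhs => rw [← e]
        group
    have h := congrArg Set.ncard hset
    rw [Set.ncard_image_of_injective _ (show Function.Injective (fun x : G => (k : G) * x * (k : G)⁻¹) from (MulAut.conj (k : G)).injective), D.ncard_fixed h17,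
      D.ncard_fixed h1, c128, c64] at h
    norm_num at h
  have hne : ¬ ((∀ p, (φ a : Equiv.Perm GolayPt) p ≠ p) ↔ ∀ p, (φ b : Equiv.Perm GolayPt) p ≠ p) := fun h => by
    obtain ⟨k, hk, e⟩ := hcls _ (φ a).2 _ (φ b).2 ha hb h
    obtain ⟨k', hk'⟩ := hsurj ⟨k, hk⟩
    refine hconj k' (Subtype.ext ?_)
    rw [map_mul, map_mul, map_inv, hk', ← e]
    rfl
  have hfin : ∀ (i : ℕ) (c : N), (c : G) = hat z π vec (wC i) → (c : G) * c = 1 → (c : G) ∉ V →
      ((∀ p, (φ ⟨w, hw⟩ : Equiv.Perm GolayPt) p ≠ p) ↔ ∀ p, (φ c : Equiv.Perm GolayPt) p ≠ p) →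
      ∃ m ∈ N, ∃ n < 2048, m * w * m⁻¹ = hat z π vec (wC i) * ev J g vec n := by
    intro i c hc hc2 hcV h
    obtain ⟨k, hk, e⟩ := hcls _ (φ ⟨w, hw⟩).2 _ (φ c).2 hw' (hord c hc2 hcV) h
    obtain ⟨k', hk'⟩ := hsurj ⟨k, hk⟩
    have hmem : c⁻¹ * (k' * ⟨w, hw⟩ * k'⁻¹) ∈ φ.ker := by
      rw [MonoidHom.mem_ker, map_mul, map_mul, map_mul, map_inv, map_inv, hk', inv_mul_eq_one]
      exact Subtype.ext e.symm
    rw [hker] at hmem
    obtain ⟨n, hn, hne⟩ := D.ev_surj hmem
    refine ⟨k', k'.2, n, hn, ?_⟩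
    rw [hne, ← hc]
    show (k' : G) * w * (k' : G)⁻¹ = (c : G) * ((c : G)⁻¹ * ((k' : G) * w * (k' : G)⁻¹))
    group
  by_cases hA : (∀ p, (φ ⟨w, hw⟩ : Equiv.Perm GolayPt) p ≠ p) ↔ ∀ p, (φ a : Equiv.Perm GolayPt) p ≠ p
  · obtain ⟨m, hm, n, hn, e⟩ := hfin 1 a rfl (D.hat_wC_sq (by norm_num)) (D.vacts_not_mem h1 n1) hA
    exact ⟨m, hm, 1, Or.inl rfl, n, hn, e⟩
  · obtain ⟨m, hm, n, hn, e⟩ := hfin 17 b rfl (D.hat_wC_sq (by norm_num)) (D.vacts_not_mem h17 n17) (by tauto)
    exact ⟨m, hm, 17, Or.inr rfl, n, hn, e⟩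

theorem ev_H0 (n : ℕ) : ev J g vec n ∈ H0 z π E := D.isV.le_H0 (D.ev_mem n)

/-- A product with a representative is an involution exactly for a fixed vector. -/
theorem hat_ev_sq {i : ℕ} (hi : i < 64) {n : ℕ} (hn : n < 2048) :
    hat z π vec (wC i) * ev J g vec n * (hat z π vec (wC i) * ev J g vec n) = 1 ↔ ap (actW i) n = n := by
  have h := (D.actW_eq hi).2 n hn
  have hx : (hat z π vec (wC i))⁻¹ = hat z π vec (wC i) := inv_eq_of_mul_eq_one_right (D.hat_wC_sq hi)
  rw [hx] at h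
  rw [show hat z π vec (wC i) * ev J g vec n * (hat z π vec (wC i) * ev J g vec n) =
    hat z π vec (wC i) * ev J g vec n * hat z π vec (wC i) * ev J g vec n by group, h, ← D.ev_xor]
  constructor
  · intro e
    exact Nat.xor_eq_zero_iff.1
      (D.ev_inj (Nat.xor_lt_two_pow (n := 11) (okL_lt (D.actW_eq hi).1 n) hn) (by norm_num)
        (e.trans D.ev_zero.symm))
  · intro e
    rw [e, Nat.xor_self, D.ev_zero]

/-- An involution of the normalizer is conjugate to one in `V` or in `E`. -/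
theorem conj_into {w : G} (hw : w ∈ Subgroup.normalizer (V : Set G)) (hw2 : w * w = 1) :
    ∃ e : G, (e ∈ V ∨ e ∈ E) ∧ IsConj w e := by
  by_cases hwV : w ∈ V
  · exact ⟨w, Or.inl hwV, IsConj.refl w⟩
  obtain ⟨m, -, i, hi, n, hn, e⟩ := D.exists_rep hw hw2 hwV
  have hi64 : i < 64 := by rcases hi with rfl | rfl <;> norm_num
  set w' := hat z π vec (wC i) * ev J g vec n with hw'
  have hc : IsConj w w' := isConj_iff.2 ⟨m, e⟩
  have hfix : ap (actW i) n = n := (D.hat_ev_sq hi64 hn).1 (by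
    rw [← hw', ← e, show m * w * m⁻¹ * (m * w * m⁻¹) = m * (w * w) * m⁻¹ by group, hw2]; group)
  have hxE := D.hat_mem (wC_facts hi64).1
  by_cases hlow : n < 128
  · exact ⟨w', Or.inr (E.mul_mem hxE ((D.ev_mem_E hn).2 hlow)), hc⟩
  rcases hi with rfl | rfl
  swap
  · have h := List.all_eq_true.1 cover_two n (List.mem_range.2 hn)
    rw [hfix, Nat.beq_refl, Bool.not_true, Bool.false_or, Nat.blt_eq] at h
    exact absurd h hlow
  have h := List.all_eq_true.1 cover_one n (List.mem_range.2 hn)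
  rw [hfix, Nat.beq_refl, Bool.not_true, Bool.false_or, Bool.or_eq_true, Nat.blt_eq, List.any_eq_true] at h
  obtain ⟨p, hp, hlowp⟩ := h.resolve_left hlow
  rw [Nat.blt_eq] at hlowp
  have hok := List.all_eq_true.1 fuseT_ok p hp
  simp only [Bool.and_eq_true, beq_iff_eq, Nat.blt_eq, Bool.not_eq_true', nat_beq_decide, decide_eq_false_iff_not,
    decide_eq_true_eq] at hok
  obtain ⟨⟨⟨⟨⟨⟨⟨hL, hK⟩, hR⟩, hR'⟩, hj⟩, hj0⟩, hcomm⟩, hLj⟩ := hok
  obtain ⟨M', hM⟩ := D.realize hL hK (R := p.2.1) (List.all_eq_true.2 fun k hk => by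
    rw [nat_beq_decide, decide_eq_true_eq, ← ap_comp, hR, ap_id11 (List.mem_range.1 hk)])
  obtain ⟨hfix2, hlay⟩ := seed_ok
  set x := wC 1
  set e0 := hat z π vec x * ev J g vec 2 with he0
  have he02 : e0 * e0 = 1 := (D.hat_ev_sq (by norm_num) (by norm_num)).2 hfix2
  have he0z : IsConj z e0 := by
    have hu := (uC_facts (j := 2) (by norm_num)).1
    refine D.conj_of_layA (Nat.xor_lt_two_pow (n := 12) (wC_facts (i := 1) (by norm_num)).1 hu) hlay ?_
    rw [he0, D.ev_low (by norm_num), D.hat_mul (wC_facts (i := 1) (by norm_num)).1 hu]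
    refine J.rel_trans ?_ (D.hat_rel _)
    cases beta x (uC 2)
    · exact Or.inl (one_mul _)
    · exact Or.inr rfl
  have he0A : VActs J g vec e0 (actW 1) := by
    have := D.vacts_mul (D.actW_eq (i := 1) (by norm_num)) (D.vacts_V (D.ev_mem 2))
    rwa [rep_ok.2.2.2.2.1] at this
  set y := M' * e0 * M'⁻¹ with hy
  have hyA : VActs J g vec y (actW p.2.2) := D.vacts_model hM he0A hLj hR hR' hcomm
  obtain ⟨v, hv, hve⟩ := D.ev_surj (D.vacts_unique (D.actW_eq hj) hyA)
  have hy' : y = hat z π vec (wC p.2.2) * ev J g vec v := by rw [hve]; group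
  have hxjE := D.hat_mem (wC_facts hj).1
  have hyz : IsConj z y := he0z.trans (isConj_iff.2 ⟨M', rfl⟩)
  have hy2 : y * y = 1 := by rw [hy, show M' * e0 * M'⁻¹ * (M' * e0 * M'⁻¹) = M' * (e0 * e0) * M'⁻¹ by group, he02]; group
  have hvlow : v < 128 := by
    by_contra hv128
    have hS : v / 128 < 16 := by omega
    obtain ⟨c, hcc, hc2, hcp⟩ := D.cp_proj hS
    have hcE : y * (c : G)⁻¹ ∈ E := by
      rw [hy', D.ev_parts hv, hcc, mul_assoc, mul_inv_cancel_right]
      exact E.mul_mem hxjE (E.mul_mem (D.hat_mem (uC_facts (Nat.mod_lt _ (by norm_num))).1) (J.zb_mem _))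
    have hyV := D.inner_mem (hy' ▸ mul_mem (Ctx.E_le_H0 z π E hxjE) (D.ev_H0 v)) hy2 hyz hcE (hcp ▸ D.hexS_mem)
      (hcp ▸ D.hexS_ne (by omega) hS)
    rw [hy', V.mul_mem_cancel_right (D.ev_mem v)] at hyV
    obtain ⟨hlt, -⟩ := wC_facts hj
    have hvec : vec (wC p.2.2) ∈ V := by
      rcases J.rel_symm (D.hat_rel (wC p.2.2)) with k | k <;> rw [k]
      exacts [hyV, V.mul_mem D.isV.z_mem hyV]
    have hfixV : wC p.2.2 ∈ fixV :=
      List.mem_filter.2 ⟨List.mem_range.2 hlt, (D.full.vec_mem_V D.isV hlt).1 hvec⟩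
    have h := List.all_eq_true.1 w_ok.2.2 p.2.2 (List.mem_range.2 hj)
    simp only [Bool.and_eq_true, Bool.or_eq_true, Bool.not_eq_true', nat_beq_decide, decide_eq_true_eq,
      List.contains_iff_mem, ← Bool.not_eq_true] at h
    exact (h.1.2.resolve_left hj0) hfixV
  have hnn : Nat.xor 2 n < 2048 := Nat.xor_lt_two_pow (n := 11) (by norm_num) hn
  have hwy : M' * w' * M'⁻¹ = y * ev J g vec (ap p.1 (Nat.xor 2 n)) := by
    rw [← hM.2 _ hnn, hy, he0, show Nat.xor 2 n = 2 ^^^ n from rfl, D.ev_xor, hw']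
    calc M' * (hat z π vec x * ev J g vec n) * M'⁻¹
        = M' * (hat z π vec x * (ev J g vec 2 * ev J g vec 2) * ev J g vec n) * M'⁻¹ := by
          rw [D.ev_sq, mul_one]
      _ = _ := by group
  refine ⟨M' * w' * M'⁻¹, Or.inr ?_, hc.trans (isConj_iff.2 ⟨M', rfl⟩)⟩
  rw [hwy, hy', mul_assoc]
  exact E.mul_mem hxjE (E.mul_mem ((D.ev_mem_E hv).2 hvlow) ((D.ev_mem_E (okL_lt hM.1 _)).2 hlowp))

/-- Every involution is conjugate to `z` or to a member of the small class. -/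
theorem invol_cases {t : G} (ht2 : t * t = 1) (ht1 : t ≠ 1) :
    IsConj z t ∨ ∃ d, IsD z V d ∧ IsConj t d := by
  haveI := Fact.mk Nat.prime_two
  obtain ⟨T, hT⟩ := (IsPGroup.of_card (p := 2) (n := 11) D.isV.card).exists_le_sylow
  have hTN : (T : Subgroup G) ≤ Subgroup.normalizer (V : Set G) := by
    intro k hk
    refine D.mem_normalizer_of_conj fun v hv => ?_
    have heq : V.map (MulAut.conj k).toMonoidHom = V := by
      refine D.uniq T _ V T.2 ?_ hT ?_ D.isV.sq ?_ D.isV.card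
      · rintro _ ⟨u, hu, rfl⟩
        exact mul_mem (mul_mem hk (hT hu)) (inv_mem hk)
      · rintro _ ⟨u, hu, rfl⟩
        rw [← map_mul, D.isV.sq u hu, map_one]
      · rw [Subgroup.card_map_of_injective (MulAut.conj k).injective, D.isV.card]
    exact heq.le ⟨v, hv, rfl⟩
  have hp : IsPGroup 2 ↥(Subgroup.zpowers t) :=
    IsPGroup.of_card (n := 1) (by rw [Nat.card_zpowers, pow_one]; exact orderOf_eq_prime (by rw [pow_two, ht2]) ht1)
  obtain ⟨T', hT'⟩ := hp.exists_le_sylow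
  obtain ⟨c, hc⟩ := MulAction.exists_smul_eq G T' T
  have hct : c * t * c⁻¹ ∈ (T : Subgroup G) := by
    rw [← hc, Sylow.coe_subgroup_smul]
    exact Subgroup.smul_mem_pointwise_smul t (MulAut.conj c) _ (hT' (Subgroup.mem_zpowers t))
  have hc2 : c * t * c⁻¹ * (c * t * c⁻¹) = 1 := by
    rw [show c * t * c⁻¹ * (c * t * c⁻¹) = c * (t * t) * c⁻¹ by group, ht2]; group
  obtain ⟨e, he, hte⟩ := D.conj_into (hTN hct) hc2
  have hte' : IsConj t e := (isConj_iff.2 ⟨c, rfl⟩ : IsConj t (c * t * c⁻¹)).trans hte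
  obtain ⟨k, hk⟩ := isConj_iff.1 hte'
  have he1 : e ≠ 1 := by
    rw [← hk, Ne, mul_inv_eq_one, mul_eq_left]
    exact ht1
  have he2 : e * e = 1 := by
    rw [← hk, show k * t * k⁻¹ * (k * t * k⁻¹) = k * (t * t) * k⁻¹ by group, ht2]; group
  by_cases hz : IsConj z e
  · exact Or.inl (hz.trans hte'.symm)
  refine Or.inr ?_
  rcases he with he | he
  · exact ⟨e, ⟨he, he1, hz⟩, hte'⟩
  · have hez : e ≠ z := fun k => hz (k ▸ IsConj.refl z)
    obtain ⟨n, hn, hr, hB⟩ := D.E_cases he he2 he1 hez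
    rcases hB with ⟨-, hA⟩ | ⟨hB, -⟩
    · exact absurd hA hz
    · obtain ⟨d, -, hd⟩ := D.conj_seed (by norm_num) (by norm_num) layB_ok hn hB hr
      exact ⟨vec 260, D.seed_IsD, hte'.trans (isConj_iff.2 ⟨d, hd⟩ : IsConj (vec 260) e).symm⟩

end Ctx.Std

end CfsgLib.JFour
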