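import Cfsg.Agent.Lib.JFour.InvolDefs

/-!
# Kernel checks for the classes of involutions
-/

set_option autoImplicit false
set_option Elab.async false
set_option maxRecDepth 100000

namespace CfsgLib.JFour

theorem fuseT_ok : fuseT.all (fun p => okL p.1 && keepsPairs p.1 && comp p.2.1 p.1 == id11 &&
    comp p.1 p.2.1 == id11 && Nat.blt p.2.2 64 && !Nat.beq p.2.2 0 &&
    comp p.1 (actW 1) == comp (actW p.2.2) p.1 && okL (actW p.2.2)) = true := by
  decide +kernel

theorem rep_ok : okL (actW 1) = true ∧ okL (actW 17) = true ∧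
    ((List.range 2048).filter fun n => Nat.beq (ap (actW 1) n) n).length = 128 ∧
    ((List.range 2048).filter fun n => Nat.beq (ap (actW 17) n) n).length = 64 ∧
    comp (actW 1) id11 = actW 1 ∧ actW 1 ≠ id11 ∧ actW 17 ≠ id11 ∧
    comp (actW 1) (actW 1) = id11 ∧ comp (actW 17) (actW 17) = id11 := by
  decide +kernel

theorem seed_ok : ap (actW 1) 2 = 2 ∧ inLay layA (wC 1 ^^^ uC 2) = true := by
  decide +kernel

theorem cover_one : (List.range 2048).all (fun n => !Nat.beq (ap (actW 1) n) n || Nat.blt n 128 ||
    fuseT.any fun p => Nat.blt (ap p.1 (Nat.xor 2 n)) 128) = true := by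
  decide +kernel

theorem cover_two : (List.range 2048).all (fun n => !Nat.beq (ap (actW 17) n) n || Nat.blt n 128) = true := by
  decide +kernel

end CfsgLib.JFour
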