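import Cfsg.Agent.Lib.JFour.TSplit

/-!
# Tables for the classes of involutions
-/

set_option autoImplicit false
set_option maxRecDepth 100000

namespace CfsgLib.JFour

/-- Two elements of the normalizer by their columns, with inverses and the images of the first representative. -/
def fuseT : List (List ℕ × List ℕ × ℕ) := [
  ([487, 57, 6, 779, 70, 780, 78, 1895, 179, 1924, 18],
    [44, 1940, 1936, 80, 916, 1002, 20, 1734, 1297, 753, 1206], 38),
  ([163, 66, 70, 1336, 87, 1306, 81, 779, 1936, 1064, 1472],
    [917, 86, 6, 1055, 897, 126, 84, 956, 393, 1749, 1633], 40)]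

/-- The action of the representative with index `i`. -/
def actW (i : ℕ) : List ℕ := actH (wC i)

end CfsgLib.JFour
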