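import Cfsg.Agent.Lib.JFour.Inner

/-!
# Lifts of elements of order three

Elements of order three of `M` lift to elements of order three, and two commuting independent ones
to a pair with commutator `π` or its inverse, because `π` lies in the derived group.
-/

set_option autoImplicit false
set_option linter.style.haveILetI false
set_option linter.unusedSectionVars false

open Cfsg
open scoped commutatorElement

namespace CfsgLib.JFour

/-- The cube of a product of two elements commuting up to a central factor. -/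
theorem cube_mul {G : Type*} [Group G] {x y r : G} (h : x * y = r * y * x) (hx : Commute r x)
    (hy : Commute r y) : (x * y) * (x * y) * (x * y) = (r * r * r)⁻¹ * (x * x * x) * (y * y * y) := by
  have hyx : y * x = r⁻¹ * (x * y) := by rw [h]; group
  have hcx : r⁻¹ * x = x * r⁻¹ := hx.inv_left.eq
  have hcy : r⁻¹ * y = y * r⁻¹ := hy.inv_left.eq
  calc (x * y) * (x * y) * (x * y) = x * (y * x) * (y * x) * y := by group
    _ = x * (r⁻¹ * (x * y)) * (r⁻¹ * (x * y)) * y := by rw [hyx]
    _ = (x * r⁻¹) * x * (y * r⁻¹) * x * y * y := by group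
    _ = r⁻¹ * x * x * (r⁻¹ * y) * x * y * y := by rw [← hcx, ← hcy]
    _ = r⁻¹ * x * (x * r⁻¹) * (y * x) * y * y := by group
    _ = r⁻¹ * x * (r⁻¹ * x) * (r⁻¹ * (x * y)) * y * y := by rw [← hcx, hyx]
    _ = r⁻¹ * (x * r⁻¹) * (x * r⁻¹) * (x * y) * y * y := by group
    _ = r⁻¹ * (r⁻¹ * x) * (r⁻¹ * x) * (x * y) * y * y := by rw [← hcx]
    _ = r⁻¹ * r⁻¹ * (x * r⁻¹) * x * x * y * y * y := by group
    _ = r⁻¹ * r⁻¹ * (r⁻¹ * x) * x * x * y * y * y := by rw [← hcx]
    _ = _ := by group

variable {G : Type*} [Group G] [Finite G] {M : Type*} [Group M] {z π : G} {E : Subgroup G}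

theorem CZ_inv (z π : G) : CZ z π⁻¹ = CZ z π := by
  ext c
  simp only [mem_CZ]
  refine and_congr_right fun _ => ⟨fun h => ?_, fun h => (Commute.inv_right h).eq⟩
  have := (Commute.inv_right h).eq
  rwa [inv_inv] at this

namespace Ctx

variable (J : Ctx M z π E)
include J

/-- Replacing `π` by its inverse. -/
theorem flip : Ctx M z π⁻¹ E where
  s := J.s
  cardE := J.cardE
  pi3 := by rw [← mul_inv_rev, ← mul_inv_rev, ← mul_assoc, J.pi3, inv_one]
  pi1 := inv_ne_one.2 J.pi1
  piz := (Commute.inv_left (show Commute π z from J.piz)).eq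
  fpf e he h := J.fpf e he (by
    have := (Commute.inv_right (show Commute e π⁻¹ from h)).eq
    rwa [inv_inv] at this)
  normP h hh := by
    obtain ⟨e, he, k⟩ := J.normP h hh
    refine ⟨e, he, ?_⟩
    rcases k with k | k
    · refine Or.inl ?_
      calc h * π⁻¹ * h⁻¹ = (h * π * h⁻¹)⁻¹ := by group
        _ = _ := by rw [k]; group
    · refine Or.inr ?_
      calc h * π⁻¹ * h⁻¹ = (h * π * h⁻¹)⁻¹ := by group
        _ = _ := by rw [k]; group
  swap := by
    obtain ⟨h, hh, k⟩ := J.swap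
    refine ⟨h, hh, ?_⟩
    rw [inv_inv, show h * π⁻¹ * h⁻¹ = (h * π * h⁻¹)⁻¹ by group, k, inv_inv]
  derived := by
    rw [CZ_inv]
    exact inv_mem J.derived
  quot := by
    obtain ⟨φ, hs, hk⟩ := J.quot
    let e : ↥(CZ z π⁻¹) →* ↥(CZ z π) := Subgroup.inclusion (CZ_inv z π).le
    refine ⟨φ.comp e, fun m => ?_, fun c => ?_⟩
    · obtain ⟨c, hc⟩ := hs m
      exact ⟨⟨c, (CZ_inv z π).ge c.2⟩, hc⟩
    · rw [MonoidHom.comp_apply, hk]
      simp only [inv_inv]
      refine exists_congr fun u => and_congr_right fun _ => ?_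
      show ((c : G) = u ∨ (c : G) = u * π ∨ (c : G) = u * π⁻¹) ↔ _
      tauto

/-- A kernel element is a central element times a power of `π`. -/
theorem exists_pow' {c : ↥(CZ z π)} (h : J.proj c = 1) :
    ∃ u, u ∈ E ∧ (u = 1 ∨ u = z) ∧ ∃ k, k < 3 ∧ (c : G) = u * π ^ k := by
  obtain ⟨u, hu, hc⟩ := J.proj_eq_one.1 h
  have huE : u ∈ E := by rcases hu with h' | h' <;> rw [h']; exacts [one_mem E, J.s.z_mem]
  refine ⟨u, huE, hu, ?_⟩
  rcases hc with hc | hc | hc
  · exact ⟨0, by norm_num, by rw [hc, pow_zero, mul_one]⟩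
  · exact ⟨1, by norm_num, by rw [hc, pow_one]⟩
  · exact ⟨2, by norm_num, by rw [hc, pow_two, J.pi_inv]⟩

variable [Finite M]

/-- The order of `C(z, π)`. -/
theorem card_CZ (hM : Nat.card M = 443520) : Nat.card (CZ z π) = 6 * 443520 := by
  classical
  have hk : Nat.card J.proj.ker = 6 := by
    let zk : ↥J.proj.ker := ⟨⟨z, J.z_mem_CZ⟩, J.proj_z⟩
    let pk : ↥J.proj.ker := ⟨⟨π, J.pi_mem_CZ⟩, J.proj_pi⟩
    let f : Fin 2 × Fin 3 → ↥J.proj.ker := fun t => zk ^ (t.1 : ℕ) * pk ^ (t.2 : ℕ)
    have hval : ∀ t, (((f t : ↥J.proj.ker) : ↥(CZ z π)) : G) = z ^ (t.1 : ℕ) * π ^ (t.2 : ℕ) := fun t => by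
      simp [f, zk, pk]
    have hbij : Function.Bijective f := by
      constructor
      · rintro ⟨i, j⟩ ⟨i', j'⟩ h
        have h' := congrArg (fun x : ↥J.proj.ker => ((x : ↥(CZ z π)) : G)) h
        simp only [hval] at h'
        have hE : π ^ (j : ℕ) * (π ^ (j' : ℕ))⁻¹ ∈ E := by
          rw [show π ^ (j : ℕ) * (π ^ (j' : ℕ))⁻¹ = (z ^ (i : ℕ))⁻¹ * z ^ (i' : ℕ) by
            rw [eq_inv_mul_iff_mul_eq, ← mul_assoc, h', mul_inv_cancel_right]]
          exact mul_mem (inv_mem (pow_mem J.s.z_mem _)) (pow_mem J.s.z_mem _)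
        have hne : π⁻¹ ∉ E := fun hh => J.pi_not_mem (inv_mem_iff.1 hh)
        have hne2 : π ^ 2 ∉ E := by rw [pow_two, ← J.pi_inv]; exact hne
        have hne2' : (π ^ 2)⁻¹ ∉ E := by rw [pow_two, ← J.pi_inv, inv_inv]; exact J.pi_not_mem
        have ej : j = j' := by
          fin_cases j <;> fin_cases j' <;> simp at hE ⊢ <;>
            first
            | exact J.pi_not_mem hE
            | exact hne hE
            | exact hne2 hE
            | exact hne2' hE
            | exact J.pi_not_mem (by simpa [pow_two] using hE)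
            | exact hne (by simpa [pow_two, mul_assoc] using hE)
        subst ej
        have h2 := mul_right_cancel h'
        refine Prod.ext ?_ rfl
        fin_cases i <;> fin_cases i' <;> simp at h2 ⊢
        · exact J.z_ne h2.symm
        · exact J.z_ne h2
      · rintro ⟨c, hc⟩
        obtain ⟨u, -, hu, k, hk, e⟩ := J.exists_pow' hc
        rcases hu with hu | hu
        · exact ⟨(0, ⟨k, hk⟩), Subtype.ext (Subtype.ext ((hval _).trans (by rw [e, hu]; simp)))⟩
        · exact ⟨(1, ⟨k, hk⟩), Subtype.ext (Subtype.ext ((hval _).trans (by rw [e, hu]; simp)))⟩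
    rw [← Nat.card_congr (Equiv.ofBijective f hbij), Nat.card_prod, Nat.card_fin, Nat.card_fin]
  have h := J.proj.ker.card_mul_index
  rw [Subgroup.index_ker, MonoidHom.range_eq_top.2 J.proj_surj, Subgroup.card_top, hk, hM] at h
  exact h.symm

/-- A power of the kernel generator with a given image. -/
theorem exists_cube_pow {m : M} (hm : m * m * m = 1) :
    ∃ c : ↥(CZ z π), J.proj c = m ∧ ∃ k, k < 3 ∧ (c : G) * c * c = π ^ k := by
  obtain ⟨c, rfl⟩ := J.proj_surj m
  rw [← map_mul, ← map_mul] at hm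
  obtain ⟨u, hu, hc⟩ := J.proj_eq_one.1 hm
  have hm' : J.proj c * J.proj c * J.proj c = 1 := by rw [← map_mul, ← map_mul]; exact hm
  have hu2 : u * u = 1 := by rcases hu with h | h <;> rw [h]; exacts [one_mul 1, J.zz]
  have huc : ∀ t : G, t * z = z * t → u * t = t * u := fun t ht => by
    rcases hu with h | h <;> rw [h]
    exacts [by simp, ht.symm]
  refine ⟨c * (c * c * c), by rw [map_mul, map_mul, map_mul, hm', mul_one], ?_⟩
  have hz3 : ∀ t : G, (c : G) * c * c = u * t → t * z = z * t →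
      (c : G) * (c * c * c) * ((c : G) * (c * c * c)) * ((c : G) * (c * c * c)) = (t * t) * (t * t) := by
    intro t ht htz
    calc (c : G) * (c * c * c) * ((c : G) * (c * c * c)) * ((c : G) * (c * c * c))
        = ((c : G) * c * c) * ((c : G) * c * c) * (((c : G) * c * c) * ((c : G) * c * c)) := by group
      _ = (u * t) * (u * t) * ((u * t) * (u * t)) := by rw [ht]
      _ = u * (t * u) * t * (u * (t * u) * t) := by group
      _ = u * u * (t * t) * (u * u * (t * t)) := by rw [← huc t htz]; group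
      _ = _ := by rw [hu2, one_mul]
  simp only [Subgroup.coe_mul] at hc ⊢
  rcases hc with h | h | h
  · exact ⟨0, by norm_num, by rw [hz3 1 (by rw [h, mul_one]) (by simp)]; simp⟩
  · refine ⟨1, by norm_num, ?_⟩
    rw [hz3 π h J.piz, pow_one, show π * π * (π * π) = π * π * π * π by group, J.pi3, one_mul]
  · refine ⟨2, by norm_num, ?_⟩
    rw [hz3 π⁻¹ h (Commute.inv_left (show Commute π z from J.piz)).eq, pow_two,
      show π⁻¹ * π⁻¹ * (π⁻¹ * π⁻¹) = (π * π * π)⁻¹ * π⁻¹ by group, J.pi3, inv_one, one_mul, J.pi_inv]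

/-- The commutator of two lifts of commuting elements. -/
theorem exists_comm_factor {a b : ↥(CZ z π)} (h : J.proj a * J.proj b = J.proj b * J.proj a) :
    ∃ u, (u = 1 ∨ u = z) ∧ ∃ k, k < 3 ∧ (a : G) * b = u * π ^ k * ((b : G) * a) := by
  obtain ⟨u, -, hu, k, hk, e⟩ := J.exists_pow' (c := a * b * a⁻¹ * b⁻¹) (by
    simp only [map_mul, map_inv]; rw [h]; group)
  refine ⟨u, hu, k, hk, ?_⟩
  simp only [Subgroup.coe_mul, InvMemClass.coe_inv] at e
  rw [← e]; group

end Ctx

end CfsgLib.JFour
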