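import Cfsg.Agent.Lib.JFour.Form

/-!
# Operators induced on `E` modulo its centre

`fx z E c`: the elements of `E` fixed by `c` modulo `⟨z⟩`; `tc z E c`: the commutators of `E` with
`c`, together with `z`.  The consequences of `π` acting fixed point freely modulo the centre.
-/

set_option autoImplicit false
set_option linter.style.haveILetI false
set_option linter.unusedSectionVars false

open Cfsg

namespace CfsgLib.JFour

variable {G : Type*} [Group G]

/-- Equality up to the central involution. -/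
def Rel (z a b : G) : Prop := a = b ∨ a = z * b

/-- The elements fixed by `c` modulo the centre. -/
def fx (z : G) (E : Subgroup G) (c : G) : Subgroup G :=
  Subgroup.closure {e | e ∈ E ∧ Rel z (c * e * c⁻¹) e}

/-- The commutators with `c`, together with `z`. -/
def tc (z : G) (E : Subgroup G) (c : G) : Subgroup G :=
  Subgroup.closure {x | ∃ e ∈ E, Rel z x (c * e * c⁻¹ * e⁻¹)}

namespace Ctx

variable [Finite G] {M : Type*} [Group M] {z π : G} {E : Subgroup G} (J : Ctx M z π E)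
include J

theorem rel_refl (a : G) : Rel z a a := Or.inl rfl

theorem rel_symm {a b : G} (h : Rel z a b) : Rel z b a := by
  rcases h with h | h
  · exact Or.inl h.symm
  · exact Or.inr (by rw [h, ← mul_assoc, J.zz, one_mul])

theorem rel_trans {a b c : G} (h : Rel z a b) (h' : Rel z b c) : Rel z a c := by
  rcases h with rfl | rfl <;> rcases h' with rfl | rfl
  · exact Or.inl rfl
  · exact Or.inr rfl
  · exact Or.inr rfl
  · exact Or.inl (by rw [← mul_assoc, J.zz, one_mul])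

theorem rel_mul {a b a' b' : G} (hb : b * z = z * b) (h : Rel z a b) (h' : Rel z a' b') :
    Rel z (a * a') (b * b') := by
  rcases h with rfl | rfl <;> rcases h' with rfl | rfl
  · exact Or.inl rfl
  · exact Or.inr (by rw [← mul_assoc, hb, mul_assoc])
  · exact Or.inr (mul_assoc _ _ _)
  · exact Or.inl (by rw [mul_assoc, ← mul_assoc b, hb, mul_assoc, ← mul_assoc z, J.zz, one_mul])

theorem rel_conj {a b c : G} (hc : c * z = z * c) (h : Rel z a b) :
    Rel z (c * a * c⁻¹) (c * b * c⁻¹) := by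
  rcases h with rfl | rfl
  · exact Or.inl rfl
  · exact Or.inr (by rw [← mul_assoc c, hc]; group)

theorem rel_mem {a b : G} (h : Rel z a b) (hb : b ∈ E) : a ∈ E := by
  rcases h with rfl | rfl
  · exact hb
  · exact mul_mem J.s.z_mem hb

/-- Elements of `E` commute up to the centre. -/
theorem rel_conj_E {a e : G} (ha : a ∈ E) (he : e ∈ E) : Rel z (a * e * a⁻¹) e :=
  J.s.comm_cases ha he

theorem rel_inv {a : G} (ha : a ∈ E) : Rel z a⁻¹ a := by
  rcases J.s.sq_cases ha with h | h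
  · exact Or.inl (inv_eq_of_mul_eq_one_left h)
  · refine Or.inr (inv_eq_of_mul_eq_one_left ?_)
    rw [mul_assoc, h, J.zz]

theorem conj_mul_rel {c e e' : G} (hc : c * z = z * c) (he : e ∈ E) (he' : e' ∈ E) :
    Rel z (c * (e * e') * c⁻¹ * (e * e')⁻¹) (c * e * c⁻¹ * e⁻¹ * (c * e' * c⁻¹ * e'⁻¹)) := by
  have h1 : c * e' * c⁻¹ * e'⁻¹ ∈ E := mul_mem (J.conjE hc he') (inv_mem he')
  have h2 : c * e * c⁻¹ ∈ E := J.conjE hc he
  have h3 := J.rel_mul (J.s.z_comm h2) (J.rel_refl (c * e * c⁻¹))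
    (J.rel_mul (J.s.z_comm h1) (J.rel_refl (c * e' * c⁻¹ * e'⁻¹)) (J.rel_refl e⁻¹))
  have h4 : Rel z (e⁻¹ * (c * e' * c⁻¹ * e'⁻¹) * (e⁻¹)⁻¹) (c * e' * c⁻¹ * e'⁻¹) :=
    J.rel_conj_E (inv_mem he) h1
  have h5 := J.rel_mul (J.s.z_comm h2) (J.rel_refl (c * e * c⁻¹))
    (J.rel_symm (J.rel_mul (J.s.z_comm h1) h4 (J.rel_refl e⁻¹)))
  rw [show c * (e * e') * c⁻¹ * (e * e')⁻¹ = c * e * c⁻¹ * (c * e' * c⁻¹ * e'⁻¹ * e⁻¹) by group,
    show c * e * c⁻¹ * e⁻¹ * (c * e' * c⁻¹ * e'⁻¹) =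
      c * e * c⁻¹ * (e⁻¹ * (c * e' * c⁻¹ * e'⁻¹) * (e⁻¹)⁻¹ * e⁻¹) by group]
  exact h5

theorem mem_fx {c e : G} (hc : c * z = z * c) :
    e ∈ fx z E c ↔ e ∈ E ∧ Rel z (c * e * c⁻¹) e := by
  refine ⟨fun h => ?_, fun h => Subgroup.subset_closure h⟩
  induction h using Subgroup.closure_induction with
  | mem x hx => exact hx
  | one => exact ⟨one_mem E, Or.inl (by group)⟩
  | mul x y _ _ hx hy =>
    refine ⟨mul_mem hx.1 hy.1, ?_⟩
    rw [show c * (x * y) * c⁻¹ = c * x * c⁻¹ * (c * y * c⁻¹) by group]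
    exact J.rel_mul (J.s.z_comm hx.1) hx.2 hy.2
  | inv x _ hx =>
    refine ⟨inv_mem hx.1, J.rel_trans (J.rel_conj hc (J.rel_inv hx.1)) ?_⟩
    exact J.rel_trans hx.2 (J.rel_symm (J.rel_inv hx.1))

theorem mem_tc {c x : G} (hc : c * z = z * c) :
    x ∈ tc z E c ↔ ∃ e ∈ E, Rel z x (c * e * c⁻¹ * e⁻¹) := by
  refine ⟨fun h => ?_, fun h => Subgroup.subset_closure h⟩
  induction h using Subgroup.closure_induction with
  | mem x hx => exact hx
  | one => exact ⟨1, one_mem E, Or.inl (by group)⟩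
  | mul x y _ _ hx hy =>
    obtain ⟨e, he, hxe⟩ := hx
    obtain ⟨f, hf, hyf⟩ := hy
    refine ⟨e * f, mul_mem he hf, J.rel_trans ?_ (J.rel_symm (J.conj_mul_rel hc he hf))⟩
    exact J.rel_mul (J.s.z_comm (mul_mem (J.conjE hc he) (inv_mem he))) hxe hyf
  | inv x _ hx =>
    obtain ⟨e, he, hxe⟩ := hx
    have hE : c * e * c⁻¹ * e⁻¹ ∈ E := mul_mem (J.conjE hc he) (inv_mem he)
    exact ⟨e, he, J.rel_trans (J.rel_inv (J.rel_mem hxe hE)) hxe⟩

theorem fx_le {c : G} (hc : c * z = z * c) : fx z E c ≤ E := fun _ h => ((J.mem_fx hc).1 h).1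

theorem tc_le {c : G} (hc : c * z = z * c) : tc z E c ≤ E := fun _ h => by
  obtain ⟨e, he, hx⟩ := (J.mem_tc hc).1 h
  exact J.rel_mem hx (mul_mem (J.conjE hc he) (inv_mem he))

theorem z_mem_tc {c : G} (hc : c * z = z * c) : z ∈ tc z E c :=
  (J.mem_tc hc).2 ⟨1, one_mem E, Or.inr (by group)⟩

theorem z_mem_fx {c : G} (hc : c * z = z * c) : z ∈ fx z E c :=
  (J.mem_fx hc).2 ⟨J.s.z_mem, Or.inl (by rw [hc, mul_inv_cancel_right])⟩

/-- Commuting is preserved and reflected by equality up to the centre. -/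
theorem comm_of_rel {a a' b : G} (hb : b * z = z * b) (h : Rel z a a') (hc : a' * b = b * a') :
    a * b = b * a := by
  rcases h with rfl | rfl
  · exact hc
  · rw [mul_assoc, hc, ← mul_assoc, ← mul_assoc, ← hb]

/-- The centralizer of the commutators with `c` contains the fixed elements. -/
theorem fx_le_perp {c : G} (hc : c * z = z * c) : fx z E c ≤ perp E (tc z E c) := by
  intro b hb
  obtain ⟨hbE, hbr⟩ := (J.mem_fx hc).1 hb
  refine mem_perp.2 ⟨hbE, fun x hx => ?_⟩
  obtain ⟨e, he, hxe⟩ := (J.mem_tc hc).1 hx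
  refine J.comm_of_rel (J.s.z_comm hbE) hxe ?_
  have hce : c * e * c⁻¹ ∈ E := J.conjE hc he
  -- conjugating a commutator by `c`
  have key : ∀ u, u = 1 ∨ u = z → b * e * b⁻¹ = u * e →
      b * (c * e * c⁻¹) * b⁻¹ = u * (c * e * c⁻¹) := by
    intro u hu h
    have hbc : Rel z (c⁻¹ * b * c) b := by
      have h' := J.rel_conj (c := c⁻¹) (by
        rw [← mul_inv_eq_iff_eq_mul, inv_inv, mul_assoc, ← hc, inv_mul_cancel_left]) hbr
      rw [inv_inv, show c⁻¹ * (c * b * c⁻¹) * c = b by group] at h'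
      exact J.rel_symm h'
    have h1 : c⁻¹ * b * c * e * (c⁻¹ * b * c)⁻¹ = u * e := by
      rcases hbc with e1 | e1
      · rw [e1, h]
      · rw [e1, show z * b * e * (z * b)⁻¹ = z * (b * e * b⁻¹) * z⁻¹ by group, h, ← mul_assoc,
          show z * u = u * z by rcases hu with rfl | rfl <;> simp, mul_assoc u, ← J.s.z_comm he]
        group
    calc b * (c * e * c⁻¹) * b⁻¹ = c * (c⁻¹ * b * c * e * (c⁻¹ * b * c)⁻¹) * c⁻¹ := by group
      _ = c * (u * e) * c⁻¹ := by rw [h1]
      _ = _ := by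
        rcases hu with rfl | rfl
        · group
        · rw [← mul_assoc c, hc]; group
  have hu : ∃ u, (u = 1 ∨ u = z) ∧ b * e * b⁻¹ = u * e := by
    rcases J.s.comm_cases hbE he with h | h
    · exact ⟨1, Or.inl rfl, by rw [h, one_mul]⟩
    · exact ⟨z, Or.inr rfl, h⟩
  obtain ⟨u, hu, hbe⟩ := hu
  have h2 := key u hu hbe
  have h3 : b * (c * e * c⁻¹ * e⁻¹) * b⁻¹ = c * e * c⁻¹ * e⁻¹ := by
    calc b * (c * e * c⁻¹ * e⁻¹) * b⁻¹ = b * (c * e * c⁻¹) * b⁻¹ * (b * e * b⁻¹)⁻¹ := by group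
      _ = u * (c * e * c⁻¹) * (u * e)⁻¹ := by rw [h2, hbe]
      _ = u * (c * e * c⁻¹ * e⁻¹) * u⁻¹ := by group
      _ = _ := by
        rcases hu with rfl | rfl
        · group
        · rw [← J.s.z_comm (mul_mem hce (inv_mem he)), mul_inv_cancel_right]
  exact (mul_inv_eq_iff_eq_mul.1 h3).symm

/-- The two orders multiply to `2 ^ 14`. -/
theorem card_tc_mul_fx {c : G} (hc : c * z = z * c) :
    Nat.card (tc z E c) * Nat.card (fx z E c) = 2 ^ 14 := by
  classical
  -- the map `e ↦ [c, e]` from the cosets of `fx` to the cosets of the centre in `tc`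
  refine le_antisymm ?_ ?_
  · rw [← J.card_mul_perp (J.z_mem_tc hc) (J.tc_le hc)]
    exact Nat.mul_le_mul_left _ (Subgroup.card_le_of_le (J.fx_le_perp hc))
  · let T := tc z E c
    let Z : Subgroup T := (Subgroup.zpowers z).subgroupOf T
    let f : ↥E → T ⧸ Z := fun e => QuotientGroup.mk
      ⟨c * e * c⁻¹ * (e : G)⁻¹, (J.mem_tc hc).2 ⟨e, e.2, Or.inl rfl⟩⟩
    let F := (fx z E c).subgroupOf E
    have hrel : ∀ e e' : ↥E, f e = f e' ↔ (e⁻¹ * e' : ↥E) ∈ F := by
      intro e e'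
      have hE : c * e * c⁻¹ * (e : G)⁻¹ ∈ E := mul_mem (J.conjE hc e.2) (inv_mem e.2)
      have hE' : c * e' * c⁻¹ * (e' : G)⁻¹ ∈ E := mul_mem (J.conjE hc e'.2) (inv_mem e'.2)
      have hd : (e : G)⁻¹ * e' ∈ E := mul_mem (inv_mem e.2) e'.2
      have h1 := J.conj_mul_rel hc e.2 hd
      rw [mul_inv_cancel_left] at h1
      simp only [f, QuotientGroup.eq, Z, F, Subgroup.mem_subgroupOf, Subgroup.coe_mul,
        InvMemClass.coe_inv]
      rw [J.mem_fx hc]
      constructor
      · intro h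
        refine ⟨hd, ?_⟩
        have h3 : Rel z (c * e' * c⁻¹ * (e' : G)⁻¹) (c * e * c⁻¹ * (e : G)⁻¹) := by
          rcases J.s.mem_zpowers h with k | k
          · exact Or.inl (inv_mul_eq_one.1 k).symm
          · right
            rw [inv_mul_eq_iff_eq_mul] at k
            rw [k, J.s.z_comm hE]
        have h4 : Rel z (c * ((e : G)⁻¹ * e') * c⁻¹ * ((e : G)⁻¹ * e')⁻¹) 1 := by
          have h5 := J.rel_trans (J.rel_symm h3) h1
          rcases h5 with k | k
          · exact Or.inl (mul_eq_left.1 k.symm)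
          · refine Or.inr ?_
            have k' := congrArg (z * ·) k
            simp only [← mul_assoc, J.zz, one_mul] at k'
            rw [mul_one]
            refine mul_left_cancel (a := c * e * c⁻¹ * (e : G)⁻¹) ?_
            rw [J.s.z_comm hE, ← mul_assoc (c * ↑e * c⁻¹ * (↑e)⁻¹)]
            simpa [mul_assoc] using k'.symm
        have h6 := J.rel_mul (by simp) h4 (J.rel_refl ((e : G)⁻¹ * e'))
        rw [one_mul, inv_mul_cancel_right] at h6
        exact h6
      · rintro ⟨-, h⟩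
        have h6 := J.rel_mul (J.s.z_comm hd) h (J.rel_refl ((e : G)⁻¹ * e')⁻¹)
        rw [mul_inv_cancel] at h6
        have h7 := J.rel_trans h1 (J.rel_mul (J.s.z_comm hE) (J.rel_refl _) h6)
        rw [mul_one] at h7
        rcases h7 with k | k
        · rw [k, inv_mul_cancel]; exact one_mem _
        · rw [k, ← J.s.z_comm hE, inv_mul_cancel_left]; exact Subgroup.mem_zpowers z
    let fbar : ↥E ⧸ F → T ⧸ Z := fun q => Quotient.liftOn' q f fun e e' h => by
      rw [QuotientGroup.leftRel_apply] at h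
      exact (hrel e e').2 h
    have hinj : Function.Injective fbar := by
      rintro ⟨e⟩ ⟨e'⟩ h
      exact QuotientGroup.eq.2 ((hrel e e').1 h)
    have hle := Nat.card_le_card_of_injective fbar hinj
    have h1 := Subgroup.card_eq_card_quotient_mul_card_subgroup F
    have h2 := Subgroup.card_eq_card_quotient_mul_card_subgroup Z
    rw [Nat.card_congr (Subgroup.subgroupOfEquivOfLe (J.fx_le hc)).toEquiv, J.cardE] at h1
    rw [Nat.card_congr (Subgroup.subgroupOfEquivOfLe
      (Subgroup.zpowers_le.2 (J.z_mem_tc hc))).toEquiv, J.card_zpowers_z] at h2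
    calc 2 ^ 14 = Nat.card (↥E ⧸ F) * Nat.card (fx z E c) * 2 := by rw [← h1]; norm_num
      _ ≤ Nat.card (T ⧸ Z) * Nat.card (fx z E c) * 2 := by
        exact Nat.mul_le_mul_right _ (Nat.mul_le_mul_right _ hle)
      _ = Nat.card T * Nat.card (fx z E c) := by rw [h2]; ring

theorem perp_tc {c : G} (hc : c * z = z * c) : perp E (tc z E c) = fx z E c := by
  refine (Subgroup.eq_of_le_of_card_ge (J.fx_le_perp hc) (le_of_eq ?_)).symm
  exact Nat.eq_of_mul_eq_mul_left Nat.card_pos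
    ((J.card_mul_perp (J.z_mem_tc hc) (J.tc_le hc)).trans (J.card_tc_mul_fx hc).symm)

theorem perp_fx {c : G} (hc : c * z = z * c) : perp E (fx z E c) = tc z E c := by
  rw [← J.perp_tc hc, J.perp_perp (J.z_mem_tc hc) (J.tc_le hc)]

/-- For an operator of order two modulo the centre the commutators are fixed. -/
theorem tc_le_fx {c : G} (hc : c * z = z * c) (h2 : ∀ e ∈ E, Rel z (c * c * e * (c * c)⁻¹) e) :
    tc z E c ≤ fx z E c := by
  intro x hx
  obtain ⟨e, he, hxe⟩ := (J.mem_tc hc).1 hx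
  have hE : c * e * c⁻¹ * e⁻¹ ∈ E := mul_mem (J.conjE hc he) (inv_mem he)
  refine (J.mem_fx hc).2 ⟨J.rel_mem hxe hE, J.rel_trans (J.rel_conj hc hxe) ?_⟩
  refine J.rel_trans ?_ (J.rel_symm hxe)
  have h := J.rel_mul (J.s.z_comm he) (h2 e he) (J.rel_refl (c * e * c⁻¹)⁻¹)
  rw [show c * c * e * (c * c)⁻¹ * (c * e * c⁻¹)⁻¹ = c * (c * e * c⁻¹ * e⁻¹) * c⁻¹ by group,
    show e * (c * e * c⁻¹)⁻¹ = (c * e * c⁻¹ * e⁻¹)⁻¹ by group] at h
  exact J.rel_trans h (J.rel_inv hE)

/-- The product over an orbit of `π` is central. -/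
theorem prod_three {e : G} (he : e ∈ E) : Rel z (e * (π * e * π⁻¹) * (π⁻¹ * e * π)) 1 := by
  have h1 : π * e * π⁻¹ ∈ E := J.conjE J.piz he
  have h2 : π⁻¹ * e * π ∈ E := J.conjE' J.piz he
  set p := e * (π * e * π⁻¹) * (π⁻¹ * e * π) with hp
  have hpE : p ∈ E := mul_mem (mul_mem he h1) h2
  have hcy : π * p * π⁻¹ = e⁻¹ * p * e := by
    have hk : π * (π * e * π⁻¹) * π⁻¹ = π⁻¹ * e * π := by
      rw [show π * (π * e * π⁻¹) * π⁻¹ = π * π * e * (π * π)⁻¹ by group, ← J.pi_inv, inv_inv]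
    calc π * p * π⁻¹ = π * e * π⁻¹ * (π * (π * e * π⁻¹) * π⁻¹) * e := by rw [hp]; group
      _ = _ := by rw [hk, hp]; group
  have hrel : Rel z (π * p * π⁻¹) p := by
    rw [hcy]
    have := J.rel_conj_E (inv_mem he) hpE
    rwa [inv_inv] at this
  rcases hrel with h | h
  · rcases J.fpf p hpE (mul_inv_eq_iff_eq_mul.1 h).symm with e1 | e1
    · exact Or.inl e1
    · exact Or.inr (by rw [e1, mul_one])
  · exfalso
    have h3 : π * π * π * p * (π * π * π)⁻¹ = z * p := by
      calc π * π * π * p * (π * π * π)⁻¹ = π * (π * (π * p * π⁻¹) * π⁻¹) * π⁻¹ := by group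
        _ = π * (π * (z * p) * π⁻¹) * π⁻¹ := by rw [h]
        _ = π * (π * z * π⁻¹ * (π * p * π⁻¹)) * π⁻¹ := by group
        _ = π * (z * (z * p)) * π⁻¹ := by rw [J.piz, mul_inv_cancel_right, h]
        _ = π * p * π⁻¹ := by rw [← mul_assoc z z, J.zz, one_mul]
        _ = z * p := h
    rw [J.pi3, one_mul, inv_one, mul_one] at h3
    exact J.z_ne (mul_eq_right.1 h3.symm)

/-- An element commuting with `π` fixes exactly what it fixes modulo the centre. -/
theorem comm_of_fx {c : G} (hc : c ∈ CZ z π) {e : G} (he : e ∈ fx z E c) : c * e = e * c := by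
  obtain ⟨hcz, hcp⟩ := mem_CZ.1 hc
  obtain ⟨heE, h⟩ := (J.mem_fx hcz).1 he
  rcases h with h | h
  · exact mul_inv_eq_iff_eq_mul.1 h
  · exfalso
    have hconj : c * (π * e * π⁻¹) * c⁻¹ = z * (π * e * π⁻¹) := by
      calc c * (π * e * π⁻¹) * c⁻¹ = c * π * e * (c * π)⁻¹ := by group
        _ = π * (c * e * c⁻¹) * π⁻¹ := by rw [hcp]; group
        _ = π * (z * e) * π⁻¹ := by rw [h]
        _ = _ := by rw [← mul_assoc π, J.piz]; group
    have hcp' : c * π⁻¹ = π⁻¹ * c := (Commute.inv_right (show Commute c π from hcp)).eq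
    have hpz' : π⁻¹ * z = z * π⁻¹ := (Commute.inv_left (show Commute π z from J.piz)).eq
    have hconj' : c * (π⁻¹ * e * π) * c⁻¹ = z * (π⁻¹ * e * π) := by
      calc c * (π⁻¹ * e * π) * c⁻¹ = c * π⁻¹ * e * (c * π⁻¹)⁻¹ := by group
        _ = π⁻¹ * (c * e * c⁻¹) * π := by rw [hcp']; group
        _ = π⁻¹ * (z * e) * π := by rw [h]
        _ = _ := by rw [← mul_assoc π⁻¹, hpz']; group
    have hz1 : ∀ x ∈ E, z * x = x * z := fun x hx => (J.s.z_comm hx).symm
    have hp : c * (e * (π * e * π⁻¹) * (π⁻¹ * e * π)) * c⁻¹ =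
        z * (e * (π * e * π⁻¹) * (π⁻¹ * e * π)) := by
      calc c * (e * (π * e * π⁻¹) * (π⁻¹ * e * π)) * c⁻¹
          = (c * e * c⁻¹) * (c * (π * e * π⁻¹) * c⁻¹) * (c * (π⁻¹ * e * π) * c⁻¹) := by group
        _ = z * e * (z * (π * e * π⁻¹)) * (z * (π⁻¹ * e * π)) := by rw [h, hconj, hconj']
        _ = z * (z * z) * (e * (π * e * π⁻¹) * (π⁻¹ * e * π)) := by
          have c1 : Commute z e := hz1 e heE
          have c2 : Commute z (π * e * π⁻¹) := hz1 _ (J.conjE J.piz heE)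
          generalize π * e * π⁻¹ = b at c2 ⊢
          generalize π⁻¹ * e * π = b'
          calc z * e * (z * b) * (z * b') = z * (e * z) * b * (z * b') := by group
            _ = z * (z * e) * b * (z * b') := by rw [c1.eq]
            _ = z * z * (e * (b * z)) * b' := by group
            _ = z * z * (e * (z * b)) * b' := by rw [c2.eq]
            _ = z * z * (e * z) * b * b' := by group
            _ = z * z * (z * e) * b * b' := by rw [c1.eq]
            _ = _ := by group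
        _ = _ := by rw [J.zz, mul_one]
    rcases J.prod_three heE with k | k <;> rw [k] at hp
    · rw [mul_one, mul_inv_cancel, mul_one] at hp
      exact J.z_ne hp.symm
    · rw [mul_one, hcz, mul_inv_cancel_right] at hp
      exact J.z_ne (mul_eq_left.1 hp.symm)

/-- An abelian subgroup of `E` normalized by `π` is elementary. -/
theorem sq_of_invariant {A : Subgroup G} (hA : A ≤ E) (hc : ∀ a ∈ A, ∀ b ∈ A, a * b = b * a)
    (hp : ∀ a ∈ A, π * a * π⁻¹ ∈ A) {a : G} (ha : a ∈ A) : a * a = 1 := by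
  have hb : π * a * π⁻¹ ∈ A := hp a ha
  have hb' : π⁻¹ * a * π ∈ A := by
    have := hp _ hb
    rwa [show π * (π * a * π⁻¹) * π⁻¹ = π * π * a * (π * π)⁻¹ by group, ← J.pi_inv, inv_inv] at this
  rcases J.s.sq_cases (hA ha) with h | h
  · exact h
  exfalso
  have hsq : ∀ g : G, g * z = z * g → g * a * g⁻¹ * (g * a * g⁻¹) = z := fun g hg => by
    rw [show g * a * g⁻¹ * (g * a * g⁻¹) = g * (a * a) * g⁻¹ by group, h, hg, mul_inv_cancel_right]
  have s1 := hsq π J.piz
  have s2 : π⁻¹ * a * π * (π⁻¹ * a * π) = z := by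
    have := hsq π⁻¹ (Commute.inv_left (show Commute π z from J.piz)).eq
    rwa [inv_inv] at this
  set b := π * a * π⁻¹
  set b' := π⁻¹ * a * π
  have hp3 := J.prod_three (hA ha)
  have e : a * b * b' * (a * b * b') = z * z * z := by
    calc a * b * b' * (a * b * b') = a * b * (b' * a) * b * b' := by group
      _ = a * b * a * (b' * b) * b' := by rw [hc b' hb' a ha]; group
      _ = a * (b * a) * b * (b' * b') := by rw [hc b' hb' b hb]; group
      _ = a * a * (b * b) * (b' * b') := by rw [hc b hb a ha]; group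
      _ = _ := by rw [h, s1, s2]
  rw [J.zz, one_mul] at e
  rcases hp3 with k | k
  · rw [k, one_mul] at e; exact J.z_ne e.symm
  · rw [k, mul_one, J.zz] at e; exact J.z_ne e.symm

end Ctx

end CfsgLib.JFour
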