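import Cfsg.Agent.Lib.JFour.Lifts

/-!
# A nonabelian pair of lifts of order three

Two commuting independent elements of order three of `M` lift to elements `a`, `b` of order three
with commutator `π` or `π⁻¹`: otherwise the Sylow three-subgroup of `C(z, π)` would be abelian and
the transfer would keep the central element `π` out of the derived group.
-/

set_option autoImplicit false
set_option linter.style.haveILetI false
set_option linter.unusedSectionVars false

open Cfsg
open scoped commutatorElement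

namespace CfsgLib.JFour

variable {G : Type*} [Group G] [Finite G] {M : Type*} [Group M] {z π : G} {E : Subgroup G}

namespace Ctx

variable (J : Ctx M z π E) [Finite M]
include J

/-- A central element of order three in the derived group excludes an abelian Sylow subgroup. -/
theorem not_abelian (hM : Nat.card M = 443520) {a b : ↥(CZ z π)} (ha : a * a * a = 1)
    (hb : b * b * b = 1) (hpa : J.proj a ≠ 1) (hpb : J.proj b ≠ 1) (hne : J.proj b ≠ J.proj a)
    (hne2 : J.proj b ≠ J.proj a * J.proj a) : (a : G) * b ≠ (b : G) * a := by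
  classical
  intro hab
  haveI := Fact.mk Nat.prime_three
  let p : ↥(CZ z π) := ⟨π, J.pi_mem_CZ⟩
  have hpc : ∀ x : ↥(CZ z π), p * x = x * p := fun x => Subtype.ext (mem_CZ.1 x.2).2.symm
  have hp3 : p * p * p = 1 := Subtype.ext J.pi3
  let R : Subgroup ↥(CZ z π) := Subgroup.closure {a, b, p}
  haveI hR : IsMulCommutative R := by
    refine Subgroup.isMulCommutative_closure fun x hx y hy => ?_
    simp only [Set.mem_insert_iff, Set.mem_singleton_iff] at hx hy
    have hab' : a * b = b * a := Subtype.ext hab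
    rcases hx with rfl | rfl | rfl <;> rcases hy with rfl | rfl | rfl <;>
      first
      | rfl
      | exact hab'
      | exact hab'.symm
      | exact hpc _
      | exact (hpc _).symm
  letI : CommGroup R := { (inferInstance : Group R) with mul_comm := mul_comm' }
  have hexp : ∀ x ∈ R, x ^ 3 = 1 := by
    intro x hx
    induction hx using Subgroup.closure_induction with
    | mem x hx =>
      simp only [Set.mem_insert_iff, Set.mem_singleton_iff] at hx
      rw [pow_succ, pow_two]
      rcases hx with rfl | rfl | rfl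
      exacts [ha, hb, hp3]
    | one => exact one_pow 3
    | mul x y hx' hy' ih ih' =>
      have hc : Commute x y := congrArg Subtype.val (mul_comm' (⟨x, hx'⟩ : R) ⟨y, hy'⟩)
      rw [hc.mul_pow, ih, ih', one_mul]
    | inv x _ ih => rw [inv_pow, ih, inv_one]
  have hRp : IsPGroup 3 R := fun x => ⟨1, Subtype.ext (by rw [pow_one]; exact hexp x x.2)⟩
  obtain ⟨n, hn⟩ := IsPGroup.iff_card.1 hRp
  -- the image has order at least nine, the kernel contains `p`
  have h27 : 27 ≤ Nat.card R := by
    let f := J.proj.comp R.subtype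
    have hker : 3 ≤ Nat.card f.ker := by
      have hle : Subgroup.zpowers (⟨p, Subgroup.subset_closure (by simp)⟩ : R) ≤ f.ker :=
        Subgroup.zpowers_le.2 J.proj_pi
      refine le_trans (le_of_eq ?_) (Subgroup.card_le_of_le hle)
      rw [Nat.card_zpowers, eq_comm]
      refine orderOf_eq_prime (Subtype.ext (hexp p (Subgroup.subset_closure (by simp)))) fun h => ?_
      exact J.pi1 (congrArg (fun x : R => ((x : ↥(CZ z π)) : G)) h)
    have hran : 4 ≤ Nat.card f.range := by
      have hA : J.proj a ∈ f.range := ⟨⟨a, Subgroup.subset_closure (by simp)⟩, rfl⟩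
      have hB : J.proj b ∈ f.range := ⟨⟨b, Subgroup.subset_closure (by simp)⟩, rfl⟩
      have hAA : J.proj a * J.proj a ≠ J.proj a := fun h => hpa (mul_eq_left.1 h)
      have hAA1 : J.proj a * J.proj a ≠ 1 := fun h => by
        apply hpa
        have h3 : J.proj a * J.proj a * J.proj a = 1 := by rw [← map_mul, ← map_mul, ha, map_one]
        rwa [h, one_mul] at h3
      let S : Finset M := {1, J.proj a, J.proj a * J.proj a, J.proj b}
      have hS : S.card = 4 := by
        simp only [S]
        rw [Finset.card_insert_of_notMem, Finset.card_insert_of_notMem, Finset.card_insert_of_notMem,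
          Finset.card_singleton] <;> simp [hpa.symm, hpb.symm, hAA1.symm, hAA.symm, hne.symm, hne2.symm]
      rw [← hS, ← Set.ncard_coe_finset S, ← SetLike.coe_sort_coe, Nat.card_coe_set_eq]
      refine Set.ncard_le_ncard (fun x hx => ?_) (Set.toFinite _)
      simp only [S, Finset.coe_insert, Finset.coe_singleton, Set.mem_insert_iff,
        Set.mem_singleton_iff] at hx
      rcases hx with rfl | rfl | rfl | rfl
      exacts [one_mem _, hA, mul_mem hA hA, hB]
    have h := f.ker.card_mul_index
    rw [Subgroup.index_ker] at h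
    have h12 : 12 ≤ Nat.card R := by rw [← h]; exact Nat.mul_le_mul hker hran
    rw [hn] at h12 ⊢
    have : 3 ≤ n := by
      by_contra hlt
      push Not at hlt
      interval_cases n <;> omega
    calc 27 = 3 ^ 3 := by norm_num
      _ ≤ _ := Nat.pow_le_pow_right (by norm_num) this
  have hidx : ¬ (3 ∣ R.index) := by
    intro hd
    have h := R.card_mul_index
    rw [J.card_CZ hM, hn] at h
    rw [hn] at h27
    have hn3 : 3 ≤ n := by
      by_contra hlt
      push Not at hlt
      interval_cases n <;> omega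
    have hdvd : 3 ^ 4 ∣ 6 * 443520 := by
      rw [← h]
      calc 3 ^ 4 = 3 ^ 3 * 3 := by norm_num
        _ ∣ 3 ^ n * R.index := Nat.mul_dvd_mul (Nat.pow_dvd_pow 3 hn3) hd
    norm_num at hdvd
  -- the transfer sends `p` to a nontrivial power
  let T : ↥(CZ z π) →* R := MonoidHom.transfer (MonoidHom.id R)
  have hTp : T p = ⟨p, Subgroup.subset_closure (by simp)⟩ ^ R.index := by
    have := MonoidHom.transfer_eq_pow (ϕ := MonoidHom.id R) p fun k g₀ _ => by
      have e : Commute g₀ (p ^ k) := Commute.pow_right ((hpc g₀).symm : Commute g₀ p) k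
      rw [mul_assoc, ← e.eq, inv_mul_cancel_left]
    simp only [T, this, MonoidHom.id_apply]
    exact Subtype.ext (by simp)
  have hTd : T p = 1 := by
    have hd : p ∈ commutator ↥(CZ z π) := by
      have h := J.derived
      have hmap : (commutator ↥(CZ z π)).map (CZ z π).subtype = ⁅CZ z π, CZ z π⁆ := by
        rw [commutator_def, Subgroup.map_commutator, ← MonoidHom.range_eq_map, Subgroup.range_subtype]
      rw [← hmap] at h
      obtain ⟨x, hx, hxp⟩ := h
      have hxe : x = p := Subtype.ext hxp
      rwa [← hxe]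
    exact Abelianization.commutator_subset_ker T hd
  rw [hTp] at hTd
  have hord : orderOf (⟨p, Subgroup.subset_closure (by simp)⟩ : R) = 3 :=
    orderOf_eq_prime (Subtype.ext (hexp p (Subgroup.subset_closure (by simp)))) fun h =>
      J.pi1 (congrArg (fun x : R => ((x : ↥(CZ z π)) : G)) h)
  exact hidx (hord ▸ orderOf_dvd_of_pow_eq_one hTd)

/-- Every element of order three of `M` has a lift of order three. -/
theorem lift_three (F : Small M) {s t : M} (hs : s * s * s = 1) (hs1 : s ≠ 1) (ht : t * t * t = 1)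
    (ht1 : t ≠ 1) (hst : s * t = t * s) (hts : t ≠ s) (hts2 : t ≠ s * s) {m : M}
    (hm : m * m * m = 1) : ∃ c : ↥(CZ z π), J.proj c = m ∧ c * c * c = 1 := by
  have hord : ∀ m : M, m * m * m = 1 → m ≠ 1 → orderOf m = 3 := fun m h h1 =>
    orderOf_eq_prime (by rw [pow_succ, pow_two, h]) h1
  suffices H : ∃ m₀ : M, m₀ * m₀ * m₀ = 1 ∧ m₀ ≠ 1 ∧ ∃ c : ↥(CZ z π), J.proj c = m₀ ∧ c * c * c = 1 by
    obtain ⟨m₀, h0, h01, c, hc, hc3⟩ := H
    by_cases hm1 : m = 1
    · exact ⟨1, by rw [map_one, hm1], by simp⟩
    obtain ⟨x, hx⟩ := isConj_iff.1 (F.three_conj m₀ m (hord _ h0 h01) (hord _ hm hm1))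
    obtain ⟨d, rfl⟩ := J.proj_surj x
    refine ⟨d * c * d⁻¹, by rw [map_mul, map_mul, map_inv, hc, hx], ?_⟩
    calc d * c * d⁻¹ * (d * c * d⁻¹) * (d * c * d⁻¹) = d * (c * c * c) * d⁻¹ := by group
      _ = 1 := by rw [hc3]; group
  obtain ⟨A, hA, i, hi, hA3⟩ := J.exists_cube_pow hs
  obtain ⟨B, hB, j, hj, hB3⟩ := J.exists_cube_pow ht
  by_cases hi0 : i = 0
  · exact ⟨s, hs, hs1, A, hA, Subtype.ext (by simpa [hi0] using hA3)⟩
  by_cases hj0 : j = 0
  · exact ⟨t, ht, ht1, B, hB, Subtype.ext (by simpa [hj0] using hB3)⟩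
  -- a product with trivial cubes
  have key : ∀ A B : ↥(CZ z π), J.proj A * J.proj B = J.proj B * J.proj A →
      (A : G) * A * A * ((B : G) * B * B) = 1 →
      ∃ c : ↥(CZ z π), J.proj c = J.proj A * J.proj B ∧ c * c * c = 1 := by
    intro A B hc h1
    obtain ⟨u, hu, k, -, he⟩ := J.exists_comm_factor hc
    have huE : Commute u (A : G) ∧ Commute u (B : G) ∧ u * u = 1 := by
      rcases hu with h | h <;> rw [h]
      · exact ⟨Commute.one_left _, Commute.one_left _, one_mul 1⟩
      · exact ⟨(mem_CZ.1 A.2).1.symm, (mem_CZ.1 B.2).1.symm, J.zz⟩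
    have hpA : Commute π (A : G) := (mem_CZ.1 A.2).2.symm
    have hpB : Commute π (B : G) := (mem_CZ.1 B.2).2.symm
    have h3 := cube_mul (x := (A : G)) (y := B) (r := u * π ^ k) (by rw [he]; group)
      (huE.1.mul_left (hpA.pow_left k)) (huE.2.1.mul_left (hpB.pow_left k))
    rw [mul_assoc _ ((A : G) * A * A), h1, mul_one] at h3
    have hupi : Commute u (π ^ k) := by
      rcases hu with h | h <;> rw [h]
      exacts [Commute.one_left _, ((show Commute π z from J.piz).pow_left k).symm]
    have hr3 : (u * π ^ k * (u * π ^ k) * (u * π ^ k))⁻¹ = u := by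
      rw [show u * π ^ k * (u * π ^ k) * (u * π ^ k) = (u * π ^ k) ^ 3 by rw [pow_succ, pow_two],
        hupi.mul_pow, ← pow_mul, mul_comm k, pow_mul, show π ^ 3 = 1 by rw [pow_succ, pow_two, J.pi3],
        one_pow, mul_one, pow_succ, pow_two, huE.2.2, one_mul]
      exact inv_eq_of_mul_eq_one_right huE.2.2
    rw [hr3] at h3
    have hu' : u = 1 ∨ u = z := hu
    have hv : (⟨u, by rcases hu' with h | h <;> rw [h]; exacts [one_mem _, J.z_mem_CZ]⟩ : ↥(CZ z π)) =
        (A * B) * (A * B) * (A * B) := Subtype.ext (by simpa [mul_assoc] using h3.symm)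
    refine ⟨(A * B) * ((A * B) * (A * B) * (A * B)), ?_, Subtype.ext ?_⟩
    · rw [map_mul, ← hv]
      have : J.proj ⟨u, by rcases hu' with h | h <;> rw [h]; exacts [one_mem _, J.z_mem_CZ]⟩ = 1 :=
        J.proj_eq_one.2 ⟨u, hu', Or.inl rfl⟩
      rw [this, mul_one, map_mul]
    · rw [← hv]
      simp only [Subgroup.coe_mul, OneMemClass.coe_one]
      have hc' : Commute ((A : G) * B) u := (huE.1.mul_right huE.2.1).symm
      calc (A : G) * B * u * ((A : G) * B * u) * ((A : G) * B * u) = ((A : G) * B * u) ^ 3 := by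
            rw [pow_succ, pow_two]
        _ = ((A : G) * B) ^ 3 * u ^ 3 := hc'.mul_pow 3
        _ = u * (u * u * u) := by rw [pow_succ, pow_two, pow_succ, pow_two, h3]
        _ = 1 := by rw [huE.2.2, one_mul, huE.2.2]
  have hst' : J.proj A * J.proj B = J.proj B * J.proj A := by rw [hA, hB]; exact hst
  have inv1 : ∀ x y : M, x * x * x = 1 → x * y = 1 → y = x * x := fun x y hx hxy => by
    rw [← one_mul y, ← hx, mul_assoc, hxy, mul_one]
  by_cases hij : i = j
  · obtain ⟨c, hc, hc3⟩ := key A (B * B) (by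
      rw [map_mul, ← mul_assoc, hst', mul_assoc, hst', mul_assoc]) (by
      simp only [Subgroup.coe_mul]
      rw [hA3, show (B : G) * B * ((B : G) * B) * ((B : G) * B) =
          ((B : G) * B * B) * ((B : G) * B * B) by group, hB3, hij, ← pow_add, ← pow_add,
        show j + (j + j) = 3 * j by ring, pow_mul, pow_succ, pow_two, J.pi3, one_pow])
    rw [map_mul, hA, hB] at hc
    refine ⟨_, ?_, fun h => hts ?_, c, hc, hc3⟩
    · rw [← hc, ← map_mul, ← map_mul, hc3, map_one]
    · have h' := inv1 s (t * t) hs h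
      calc t = t * t * (t * t) := by rw [← mul_assoc, ht, one_mul]
        _ = s * s * (s * s) := by rw [h']
        _ = s := by rw [← mul_assoc, hs, one_mul]
  · obtain ⟨c, hc, hc3⟩ := key A B hst' (by
      rw [hA3, hB3, ← pow_add, show i + j = 3 by omega, pow_succ, pow_two, J.pi3])
    rw [hA, hB] at hc
    refine ⟨_, ?_, fun h => hts2 (inv1 s t hs h), c, hc, hc3⟩
    rw [← hc, ← map_mul, ← map_mul, hc3, map_one]

/-- The pair of lifts. -/
theorem exists_pair (F : Small M) {s t : M} (hs : s * s * s = 1) (hs1 : s ≠ 1) (ht : t * t * t = 1)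
    (ht1 : t ≠ 1) (hst : s * t = t * s) (hts : t ≠ s) (hts2 : t ≠ s * s) :
    ∃ a b : ↥(CZ z π), J.proj a = s ∧ J.proj b = t ∧ a * a * a = 1 ∧ b * b * b = 1 ∧
      ((a : G) * b * (a : G)⁻¹ * (b : G)⁻¹ = π ∨ (a : G) * b * (a : G)⁻¹ * (b : G)⁻¹ = π⁻¹) := by
  obtain ⟨a, ha, ha3⟩ := J.lift_three F hs hs1 ht ht1 hst hts hts2 hs
  obtain ⟨b, hb, hb3⟩ := J.lift_three F hs hs1 ht ht1 hst hts hts2 ht
  refine ⟨a, b, ha, hb, ha3, hb3, ?_⟩
  obtain ⟨u, hu, k, hk, he⟩ := J.exists_comm_factor (a := a) (b := b) (by rw [ha, hb]; exact hst)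
  have hupi : Commute u (π ^ k) := by
    rcases hu with h | h <;> rw [h]
    exacts [Commute.one_left _, ((show Commute π z from J.piz).pow_left k).symm]
  have hra : Commute (u * π ^ k) (a : G) := by
    refine Commute.mul_left ?_ ((show Commute π (a : G) from (mem_CZ.1 a.2).2.symm).pow_left k)
    rcases hu with h | h <;> rw [h]
    exacts [Commute.one_left _, (mem_CZ.1 a.2).1.symm]
  -- conjugating three times
  have hr : u * π ^ k = (a : G) * b * (a : G)⁻¹ * (b : G)⁻¹ := by
    rw [he]; group
  set r := u * π ^ k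
  have e1 : ∀ x : G, (a : G) * (r * x) = r * ((a : G) * x) := fun x => by
    rw [← mul_assoc, ← hra.eq, mul_assoc]
  have h3 : r * r * r = 1 := by
    have ha' : (a : G) * a * a = 1 := congrArg Subtype.val ha3
    have h := calc (b : G) = (a : G) * a * a * b := by rw [ha', one_mul]
      _ = (a : G) * ((a : G) * (r * ((b : G) * a))) := by rw [← he]; group
      _ = r * ((a : G) * (((a : G) * b) * a)) := by rw [e1, e1]; group
      _ = r * ((a : G) * (r * ((b : G) * a) * a)) := by rw [he]
      _ = r * r * ((a : G) * b * (a * a)) := by rw [mul_assoc r ((b : G) * a), e1]; group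
      _ = r * r * (r * ((b : G) * a) * (a * a)) := by rw [he]
      _ = r * r * r * ((b : G) * ((a : G) * a * a)) := by group
      _ = r * r * r * b := by rw [ha', mul_one]
    exact mul_eq_right.1 h.symm
  have hu1 : u = 1 := by
    rw [show r * r * r = (u * π ^ k) ^ 3 by rw [pow_succ, pow_two], hupi.mul_pow, ← pow_mul, mul_comm k,
      pow_mul, show π ^ 3 = 1 by rw [pow_succ, pow_two, J.pi3], one_pow, mul_one, pow_succ, pow_two] at h3
    rcases hu with h | h
    · exact h
    · rw [h, J.zz, one_mul] at h3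
      exact absurd h3 J.z_ne
  have hr' : r = π ^ k := by show u * π ^ k = π ^ k; rw [hu1, one_mul]
  rw [← hr, hr']
  interval_cases k
  · exfalso
    refine J.not_abelian F.card ha3 hb3 (ha ▸ hs1) (hb ▸ ht1) (by rw [ha, hb]; exact hts)
      (by rw [ha, hb]; exact hts2) ?_
    rw [he, hr', pow_zero, one_mul]
  · exact Or.inl (pow_one π)
  · exact Or.inr (by rw [pow_two, J.pi_inv])

end Ctx

end CfsgLib.JFour
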