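import Cfsg.Agent.Lib.JFour.FromDef
import Cfsg.Agent.Lib.Golay.MathieuFacts
import Cfsg.Agent.Lib.Golay.AutTwoCert

/-!
# The stabilizer of a pair of points is the automorphism group of the group on 22 points
-/

set_option autoImplicit false
set_option maxRecDepth 100000
set_option linter.style.haveILetI false

open Cfsg

namespace CfsgLib.JFour

open CfsgLib.Golay CfsgLib.Golay.AutTwo
open scoped Pointwise

/-- The elements of the group on 24 points keeping a pair. -/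
def pairStab (p q : GolayPt) : Subgroup ↥Cfsg.M24 where
  carrier := {σ | ((σ : Equiv.Perm GolayPt) p = p ∧ (σ : Equiv.Perm GolayPt) q = q) ∨
    ((σ : Equiv.Perm GolayPt) p = q ∧ (σ : Equiv.Perm GolayPt) q = p)}
  one_mem' := Or.inl ⟨rfl, rfl⟩
  mul_mem' := by
    rintro a b (⟨a1, a2⟩ | ⟨a1, a2⟩) (⟨b1, b2⟩ | ⟨b1, b2⟩)
    all_goals simp only [Set.mem_ofPred_eq, Subgroup.coe_mul, Equiv.Perm.mul_apply, b1, b2, a1, a2, and_self, true_or, or_true]
  inv_mem' := by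
    rintro a (⟨a1, a2⟩ | ⟨a1, a2⟩)
    · exact Or.inl ⟨Equiv.Perm.inv_eq_iff_eq.2 a1.symm, Equiv.Perm.inv_eq_iff_eq.2 a2.symm⟩
    · exact Or.inr ⟨Equiv.Perm.inv_eq_iff_eq.2 a2.symm, Equiv.Perm.inv_eq_iff_eq.2 a1.symm⟩

theorem pt_base : (none : GolayPt) = pt 23 ∧ (some 0 : GolayPt) = pt 0 := by decide +kernel

theorem mem_M22_iff {h : Equiv.Perm GolayPt} :
    h ∈ Cfsg.Spor.M22 ↔ h ∈ Cfsg.M24 ∧ h (pt 23) = pt 23 ∧ h (pt 0) = pt 0 := by
  rw [← pt_base.1, ← pt_base.2, Cfsg.Spor.M22, Cfsg.Spor.M23, Subgroup.mem_inf, Subgroup.mem_inf,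
    MulAction.mem_stabilizer_iff, MulAction.mem_stabilizer_iff, and_assoc]
  rfl

theorem fix22_eq : fixH Cfsg.M24 F22 = Cfsg.Spor.M22 :=
  Subgroup.ext fun _ => mem_fix22_iff.trans mem_M22_iff.symm

/-- The pair of base points. -/
theorem pairStab_base : Nonempty (↥(pairStab (pt 23) (pt 0)) ≃* MulAut ↥Cfsg.Spor.M22) := by
  classical
  set S := pairStab (pt 23) (pt 0)
  have hne : pt 23 ≠ pt 0 := by decide +kernel
  have hnorm : ∀ s : S, ∀ x ∈ Cfsg.Spor.M22,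
      ((s : ↥Cfsg.M24) : Equiv.Perm GolayPt) * x * ((s : ↥Cfsg.M24) : Equiv.Perm GolayPt)⁻¹ ∈ Cfsg.Spor.M22 := by
    intro s x hx
    obtain ⟨hxM, x1, x2⟩ := mem_M22_iff.1 hx
    refine mem_M22_iff.2 ⟨mul_mem (mul_mem s.1.2 hxM) (inv_mem s.1.2), ?_⟩
    rcases s.2 with ⟨s1, s2⟩ | ⟨s1, s2⟩
    · have i1 := Equiv.Perm.inv_eq_iff_eq.2 s1.symm
      have i2 := Equiv.Perm.inv_eq_iff_eq.2 s2.symm
      constructor <;> simp only [Equiv.Perm.mul_apply, i1, i2, x1, x2, s1, s2]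
    · have i1 := Equiv.Perm.inv_eq_iff_eq.2 s1.symm
      have i2 := Equiv.Perm.inv_eq_iff_eq.2 s2.symm
      constructor <;> simp only [Equiv.Perm.mul_apply, i1, i2, x1, x2, s1, s2]
  let ψ : ↥S →* MulAut ↥Cfsg.Spor.M22 :=
    { toFun := fun s =>
        { toFun := fun x => ⟨_, hnorm s x x.2⟩
          invFun := fun x => ⟨_, hnorm s⁻¹ x x.2⟩
          left_inv := fun x => Subtype.ext (by simp [mul_assoc])
          right_inv := fun x => Subtype.ext (by simp [mul_assoc])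
          map_mul' := fun x y => Subtype.ext (by simp [mul_assoc]) }
      map_one' := MulEquiv.ext fun x => Subtype.ext (by simp)
      map_mul' := fun s t => MulEquiv.ext fun x => Subtype.ext (by simp [mul_assoc]) }
  obtain ⟨hx, -, -⟩ := mem22
  rw [fix22_eq] at hx
  have hinj : Function.Injective ψ := by
    rw [injective_iff_map_eq_one]
    intro s hs
    have hcom : ∀ x : ↥Cfsg.Spor.M22,
        ((s : ↥Cfsg.M24) : Equiv.Perm GolayPt) * x = x * ((s : ↥Cfsg.M24) : Equiv.Perm GolayPt) := fun x => by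
      have h := congrArg Subtype.val (DFunLike.congr_fun hs x)
      exact mul_inv_eq_iff_eq_mul.1 h
    obtain ⟨i, hi⟩ := cent_of_conjOK cent22 s.1.2 (hcom ⟨_, hx⟩)
    have hm : ((s : ↥Cfsg.M24) : Equiv.Perm GolayPt) ∈ Cfsg.Spor.M22 := hi ▸ zpow_mem hx i
    have h1 := M22Cert.small.center_eq_one (m := ⟨_, hm⟩) fun x => Subtype.ext (hcom x).symm
    exact Subtype.ext (Subtype.ext (congrArg Subtype.val h1 :))
  have hidx : (MulAut.conj : ↥Cfsg.Spor.M22 →* MulAut ↥Cfsg.Spor.M22).range.index = 2 := by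
    rw [Subgroup.index_eq_card]
    exact Cfsg.Agent.S2062.result
  have hconj : Function.Injective (MulAut.conj : ↥Cfsg.Spor.M22 →* MulAut ↥Cfsg.Spor.M22) := by
    rw [injective_iff_map_eq_one]
    intro m hm
    refine M22Cert.small.center_eq_one fun x => ?_
    have h' := DFunLike.congr_fun hm x
    rw [MulAut.conj_apply, MulAut.one_apply, mul_inv_eq_iff_eq_mul] at h'
    exact h'.symm
  have hcA : Nat.card (MulAut ↥Cfsg.Spor.M22) = 2 * Nat.card ↥Cfsg.Spor.M22 := by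
    rw [← (MulAut.conj : ↥Cfsg.Spor.M22 →* MulAut ↥Cfsg.Spor.M22).range.card_mul_index, hidx,
      ← Nat.card_congr (MonoidHom.ofInjective hconj).toEquiv, mul_comm]
  obtain ⟨w, hw, w1, w2⟩ := exists_map_pair (Ne.symm hne)
  let ι : Bool × ↥Cfsg.Spor.M22 → ↥S := fun p => cond p.1
    ⟨⟨w * p.2, mul_mem hw (mem_M22_iff.1 p.2.2).1⟩, Or.inr ⟨by
      show w ((p.2 : Equiv.Perm GolayPt) (pt 23)) = pt 0
      rw [(mem_M22_iff.1 p.2.2).2.1, w1], by
      show w ((p.2 : Equiv.Perm GolayPt) (pt 0)) = pt 23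
      rw [(mem_M22_iff.1 p.2.2).2.2, w2]⟩⟩
    ⟨⟨p.2, (mem_M22_iff.1 p.2.2).1⟩, Or.inl (mem_M22_iff.1 p.2.2).2⟩
  have hι : Function.Injective ι := by
    rintro ⟨a, x⟩ ⟨b, y⟩ h
    have h' := congrArg (fun s : ↥S => ((s : ↥Cfsg.M24) : Equiv.Perm GolayPt)) h
    cases a <;> cases b <;> simp only [ι, cond_true, cond_false] at h'
    · rw [Subtype.ext h']
    · exfalso
      have := Equiv.ext_iff.1 h' (pt 23)
      rw [Equiv.Perm.mul_apply, (mem_M22_iff.1 x.2).2.1, (mem_M22_iff.1 y.2).2.1, w1] at this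
      exact hne this
    · exfalso
      have := Equiv.ext_iff.1 h' (pt 23)
      rw [Equiv.Perm.mul_apply, (mem_M22_iff.1 x.2).2.1, (mem_M22_iff.1 y.2).2.1, w1] at this
      exact hne this.symm
    · rw [Subtype.ext (mul_left_cancel h')]
  have hcard : Nat.card (MulAut ↥Cfsg.Spor.M22) ≤ Nat.card ↥S := by
    rw [hcA]
    have h := Nat.card_le_card_of_injective ι hι
    rwa [Nat.card_prod, Nat.card_eq_fintype_card (α := Bool), Fintype.card_bool] at h
  exact ⟨MulEquiv.ofBijective ψ ((Nat.bijective_iff_injective_and_card ψ).2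
    ⟨hinj, le_antisymm (Nat.card_le_card_of_injective ψ hinj) hcard⟩)⟩

/-- Any pair. -/
theorem pairStab_equiv {p q : GolayPt} (hpq : p ≠ q) : Nonempty (↥(pairStab p q) ≃* MulAut ↥Cfsg.Spor.M22) := by
  obtain ⟨e⟩ := pairStab_base
  obtain ⟨c, hc, c1, c2⟩ := exists_map_pair hpq
  have hmap : (pairStab (pt 23) (pt 0)).map (MulAut.conj (⟨c, hc⟩ : ↥Cfsg.M24)).toMonoidHom = pairStab p q := by
    ext σ
    rw [Subgroup.mem_map_equiv, MulAut.conj_symm_apply]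
    show ((c⁻¹ * (σ : Equiv.Perm GolayPt) * c) (pt 23) = pt 23 ∧ (c⁻¹ * (σ : Equiv.Perm GolayPt) * c) (pt 0) = pt 0) ∨
      ((c⁻¹ * (σ : Equiv.Perm GolayPt) * c) (pt 23) = pt 0 ∧ (c⁻¹ * (σ : Equiv.Perm GolayPt) * c) (pt 0) = pt 23) ↔
      ((σ : Equiv.Perm GolayPt) p = p ∧ (σ : Equiv.Perm GolayPt) q = q) ∨
        ((σ : Equiv.Perm GolayPt) p = q ∧ (σ : Equiv.Perm GolayPt) q = p)
    simp only [Equiv.Perm.mul_apply, Equiv.Perm.inv_eq_iff_eq, c1, c2]
  exact ⟨((MulEquiv.subgroupCongr hmap).symm.trans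
    ((pairStab (pt 23) (pt 0)).equivMapOfInjective _ (MulAut.conj (⟨c, hc⟩ : ↥Cfsg.M24)).injective).symm).trans e⟩

end CfsgLib.JFour
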