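import Cfsg.Agent.Lib.JFour.Fuse

/-!
# The projection of `H0` onto the simple quotient

`Small M`: the facts about the simple quotient used in the fusion arguments.  `proj` maps
`C(z, π)` onto `M`, `projH` extends it to `H0`.  Involutions of `M` lift to involutions.
-/

set_option autoImplicit false
set_option linter.style.haveILetI false
set_option linter.unusedSectionVars false

open Cfsg

namespace CfsgLib.JFour

/-- Facts on the group on 22 points. -/
structure Small (M : Type*) [Group M] [Finite M] : Prop where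
  card : Nat.card M = 443520
  simple : IsSimpleGroup M
  invol_conj : ∀ s t : M, orderOf s = 2 → orderOf t = 2 → IsConj s t
  card_invol : ∀ t : M, orderOf t = 2 → Nat.card (Subgroup.centralizer ({t} : Set M)) = 384
  three_conj : ∀ x y : M, orderOf x = 3 → orderOf y = 3 → IsConj x y
  card_three : ∀ x : M, orderOf x = 3 → Nat.card (Subgroup.centralizer ({x} : Set M)) = 36
  cube : ∃ a b c : M, a * a = 1 ∧ b * b = 1 ∧ c * c = 1 ∧ a * b = b * a ∧ a * c = c * a ∧
    b * c = c * b ∧ a ≠ 1 ∧ b ≠ 1 ∧ c ≠ 1 ∧ a * b ≠ 1 ∧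
    c * a ≠ 1 ∧ c * b ≠ 1 ∧ c ≠ a * b
  abelian : ∀ A : Subgroup M, IsPGroup 2 A → (∀ a ∈ A, ∀ b ∈ A, a * b = b * a) → Nat.card A ≤ 16

variable {G : Type*} [Group G] [Finite G] {M : Type*} [Group M] {z π : G} {E : Subgroup G}

/-- The projection onto `M`. -/
noncomputable def Ctx.proj (J : Ctx M z π E) : ↥(CZ z π) →* M := J.quot.choose

namespace Ctx

variable (J : Ctx M z π E)
include J

theorem proj_surj : Function.Surjective J.proj := J.quot.choose_spec.1

theorem proj_eq_one {c : ↥(CZ z π)} : J.proj c = 1 ↔ ∃ u : G, (u = 1 ∨ u = z) ∧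
    ((c : G) = u ∨ (c : G) = u * π ∨ (c : G) = u * π⁻¹) := J.quot.choose_spec.2 c

theorem proj_z : J.proj ⟨z, J.z_mem_CZ⟩ = 1 := J.proj_eq_one.2 ⟨z, Or.inr rfl, Or.inl rfl⟩

theorem proj_pi : J.proj ⟨π, J.pi_mem_CZ⟩ = 1 :=
  J.proj_eq_one.2 ⟨1, Or.inl rfl, Or.inr (Or.inl (one_mul π).symm)⟩

theorem eq_center_of_mem_E {c : G} (hc : c ∈ CZ z π) (hE : c ∈ E) : c = 1 ∨ c = z :=
  J.fpf c hE (mem_CZ.1 hc).2

theorem proj_eq {c c' : ↥(CZ z π)} (h : (c : G) * (c' : G)⁻¹ ∈ E) : J.proj c = J.proj c' := by
  rw [← mul_inv_eq_one, ← map_inv, ← map_mul]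
  refine J.proj_eq_one.2 ⟨_, J.eq_center_of_mem_E (c * c'⁻¹).2 h, Or.inl rfl⟩

/-- The inverse of `π` is not a power of `π` times a central element in a nontrivial way. -/
theorem u_pi_ne {u : G} (hu : u = 1 ∨ u = z) : u * π ≠ 1 ∧ u * π ≠ z ∧ u * π⁻¹ ≠ 1 ∧ u * π⁻¹ ≠ z := by
  have hE : u ∈ E := by rcases hu with hu | hu <;> subst u; exacts [one_mem E, J.s.z_mem]
  have key : ∀ x : G, (x = 1 ∨ x = z) → u * π ≠ x ∧ u * π⁻¹ ≠ x := by
    intro x hx
    have hxE : x ∈ E := by rcases hx with rfl | rfl; exacts [one_mem E, J.s.z_mem]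
    constructor <;> intro h
    · apply J.pi_not_mem
      have : π = u⁻¹ * x := by rw [← h]; group
      rw [this]; exact mul_mem (inv_mem hE) hxE
    · apply J.pi_not_mem
      have : π = x⁻¹ * u := by rw [← h]; group
      rw [this]; exact mul_mem (inv_mem hxE) hE
  exact ⟨(key 1 (Or.inl rfl)).1, (key z (Or.inr rfl)).1, (key 1 (Or.inl rfl)).2, (key z (Or.inr rfl)).2⟩

/-- An element of `C(z, π)` with central square and trivial image is central. -/
theorem small_of_proj_one {c : ↥(CZ z π)} (h : J.proj c = 1)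
    (h2 : (c : G) * c = 1 ∨ (c : G) * c = z) : (c : G) = 1 ∨ (c : G) = z := by
  obtain ⟨u, hu, hc⟩ := J.proj_eq_one.1 h
  have huz : u * z = z * u := by rcases hu with hu | hu <;> subst u <;> simp
  have hu2 : u * u = 1 := by rcases hu with hu | hu <;> subst u; exacts [one_mul 1, J.zz]
  rcases hc with hc | hc | hc
  · rw [hc]; exact hu
  · exfalso
    have hsq : (c : G) * c = π⁻¹ := by
      rw [hc, J.pi_inv]
      rcases hu with hu | hu <;> subst u
      · simp
      · calc z * π * (z * π) = z * (π * z) * π := by group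
          _ = _ := by rw [J.piz, ← mul_assoc z, J.zz, one_mul]
    rw [hsq] at h2
    have := J.u_pi_ne (Or.inl rfl : (1 : G) = 1 ∨ (1 : G) = z)
    simp only [one_mul] at this
    rcases h2 with k | k
    · exact this.2.2.1 k
    · exact this.2.2.2 k
  · exfalso
    have hsq : (c : G) * c = π := by
      have e : π⁻¹ * π⁻¹ = π := by rw [← mul_inv_rev, ← J.pi_inv, inv_inv]
      rw [hc]
      rcases hu with hu | hu <;> subst u
      · simpa using e
      · calc z * π⁻¹ * (z * π⁻¹) = z * (π⁻¹ * z) * π⁻¹ := by group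
          _ = _ := by rw [(Commute.inv_left (show Commute π z from J.piz)).eq, ← mul_assoc z, J.zz,
            one_mul, e]
    rw [hsq] at h2
    have := J.u_pi_ne (Or.inl rfl : (1 : G) = 1 ∨ (1 : G) = z)
    simp only [one_mul] at this
    rcases h2 with k | k
    · exact this.1 k
    · exact this.2.1 k

/-- An element of `M` of square one has a lift with central square. -/
theorem exists_lift_sq {m : M} (hm : m * m = 1) :
    ∃ c : ↥(CZ z π), J.proj c = m ∧ ((c : G) * c = 1 ∨ (c : G) * c = z) := by
  obtain ⟨c, rfl⟩ := J.proj_surj m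
  refine ⟨c * c * c, by rw [map_mul, map_mul, hm, one_mul], ?_⟩
  rw [← map_mul] at hm
  obtain ⟨u, hu, hc⟩ := J.proj_eq_one.1 hm
  rw [Subgroup.coe_mul] at hc
  have hu3 : u * u * u = u := by
    rcases hu with hu | hu <;> subst u
    exacts [by simp, by rw [J.zz, one_mul]]
  have hgoal : ∀ t : G, (c : G) * c = u * t → t * z = z * t → t * t * t = 1 →
      ((c * c * c : ↥(CZ z π)) : G) * (c * c * c : ↥(CZ z π)) = u := by
    intro t ht htz ht3
    have hut : u * t = t * u := by rcases hu with hu | hu <;> subst u; exacts [by simp, htz.symm]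
    calc ((c * c * c : ↥(CZ z π)) : G) * (c * c * c : ↥(CZ z π))
        = ((c : G) * c) * ((c : G) * c) * ((c : G) * c) := by simp [mul_assoc]
      _ = (u * t) ^ 3 := by rw [ht, pow_succ, pow_two]
      _ = u ^ 3 * t ^ 3 := (show Commute u t from hut).mul_pow 3
      _ = _ := by rw [pow_succ, pow_two, pow_succ, pow_two, hu3, ht3, mul_one]
  have key : ((c * c * c : ↥(CZ z π)) : G) * (c * c * c : ↥(CZ z π)) = u := by
    rcases hc with hc | hc | hc
    · exact hgoal 1 (by rw [hc, mul_one]) (by simp) (by simp)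
    · exact hgoal π hc J.piz J.pi3
    · exact hgoal π⁻¹ hc (Commute.inv_left (show Commute π z from J.piz)).eq (by
        rw [← mul_inv_rev, ← mul_inv_rev, ← mul_assoc, J.pi3, inv_one])
  rw [key]; exact hu

variable [Finite M]

/-- Involutions lift to involutions. -/
theorem sq_eq_one (F : Small M) {c : ↥(CZ z π)} (h2 : (c : G) * c = 1 ∨ (c : G) * c = z) :
    (c : G) * c = 1 := by
  refine h2.resolve_right fun hc => ?_
  have hm1 : J.proj c ≠ 1 := fun h => by
    rcases J.small_of_proj_one h h2 with e | e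
    · rw [e, one_mul] at hc; exact J.z_ne hc.symm
    · rw [e, J.zz] at hc; exact J.z_ne hc.symm
  have hordm : orderOf (J.proj c) = 2 := by
    refine orderOf_eq_prime ?_ hm1
    rw [pow_two, ← map_mul]
    exact J.proj_eq_one.2 ⟨z, Or.inr rfl, Or.inl hc⟩
  have hall : ∀ d : ↥(CZ z π), (d : G) * d = 1 ∨ (d : G) * d = z → J.proj d ≠ 1 → (d : G) * d = z := by
    intro d hd hd1
    refine hd.resolve_left fun hd2 => ?_
    have hordd : orderOf (J.proj d) = 2 := by
      refine orderOf_eq_prime ?_ hd1
      rw [pow_two, ← map_mul]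
      exact J.proj_eq_one.2 ⟨1, Or.inl rfl, Or.inl hd2⟩
    obtain ⟨m, hm⟩ := isConj_iff.1 (F.invol_conj _ _ hordd hordm)
    obtain ⟨t, rfl⟩ := J.proj_surj m
    rw [← map_inv, ← map_mul, ← map_mul] at hm
    set d' := t * d * t⁻¹
    have hd' : (d' : G) * d' = 1 := by
      calc (d' : G) * d' = (t : G) * ((d : G) * d) * (t : G)⁻¹ := by simp [d', mul_assoc]
        _ = 1 := by rw [hd2]; group
    obtain ⟨u, hu, hu'⟩ := J.proj_eq_one.1 (show J.proj (c * d'⁻¹) = 1 by
      rw [map_mul, map_inv, hm, mul_inv_cancel])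
    have hcd : (c : G) = ((c * d'⁻¹ : ↥(CZ z π)) : G) * d' := by simp
    have hdz : (d' : G) * z = z * d' := (mem_CZ.1 d'.2).1
    have hdp : (d' : G) * π = π * d' := (mem_CZ.1 d'.2).2
    have hsq : ∀ t : G, (d' : G) * t = t * d' → (t * d') * (t * (d' : G)) = t * t := fun t ht => by
      calc t * (d' : G) * (t * d') = t * ((d' : G) * t) * d' := by group
        _ = t * t * ((d' : G) * d') := by rw [ht]; group
        _ = _ := by rw [hd', mul_one]
    have hdu : (d' : G) * u = u * d' := by rcases hu with hu | hu <;> subst u; exacts [by simp, hdz]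
    have hz3 : z = z * z * z := by rw [J.zz, one_mul]
    rcases hu' with k | k | k <;> rw [k] at hcd
    · rw [hcd, hsq u hdu] at hc
      rcases hu with hu | hu <;> rw [hu] at hc
      · rw [one_mul] at hc; exact J.z_ne hc.symm
      · rw [J.zz] at hc; exact J.z_ne hc.symm
    · have e := hsq (u * π) (by rw [← mul_assoc, hdu, mul_assoc, hdp, mul_assoc])
      rw [hcd, e] at hc
      have h4 : u * π = 1 ∨ u * π = z := by
        have hupi : u * π = π * u := by rcases hu with hu | hu <;> subst u; exacts [by simp, J.piz.symm]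
        have h5 : u * π * (u * π) = π⁻¹ := by
          calc u * π * (u * π) = u * (π * u) * π := by group
            _ = u * u * (π * π) := by rw [← hupi]; group
            _ = _ := by rw [J.pi_inv]; rcases hu with hu | hu <;> subst u; exacts [by simp, by rw [J.zz, one_mul]]
        rw [h5] at hc
        exact absurd (show (1 : G) * π⁻¹ = z by rw [one_mul, hc]) (J.u_pi_ne (Or.inl rfl)).2.2.2
      rcases h4 with k | k
      · exact (J.u_pi_ne hu).1 k
      · exact (J.u_pi_ne hu).2.1 k
    · have hpi : Commute (d' : G) π⁻¹ := Commute.inv_right hdp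
      have e := hsq (u * π⁻¹) (by rw [← mul_assoc, hdu, mul_assoc, hpi.eq, mul_assoc])
      rw [hcd, e] at hc
      have hupi : u * π⁻¹ = π⁻¹ * u := by
        rcases hu with hu | hu <;> subst u
        exacts [by simp, ((show Commute π z from J.piz).inv_left).eq.symm]
      have h5 : u * π⁻¹ * (u * π⁻¹) = π := by
        calc u * π⁻¹ * (u * π⁻¹) = u * (π⁻¹ * u) * π⁻¹ := by group
          _ = u * u * (π * π)⁻¹ := by rw [← hupi]; group
          _ = π := by rw [← J.pi_inv, inv_inv]; rcases hu with hu | hu <;> subst u; exacts [by simp, by rw [J.zz, one_mul]]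
      rw [h5] at hc
      exact (J.u_pi_ne (Or.inl rfl)).2.1 (by rw [one_mul, hc])
  -- three independent commuting involutions
  obtain ⟨a, b, e, ha, hb, he, hab, hae, hbe, ha1, hb1, he1, hab1, hca, hcb, hce⟩ := F.cube
  obtain ⟨A, rfl, hA⟩ := J.exists_lift_sq ha
  obtain ⟨B, rfl, hB⟩ := J.exists_lift_sq hb
  obtain ⟨K, rfl, hK⟩ := J.exists_lift_sq he
  -- two lifts of distinct commuting involutions anticommute
  have hanti : ∀ A B : ↥(CZ z π), (A : G) * A = z → (B : G) * B = z →
      ((A : G) * B) * (A * B) = z → (B : G) * A = A * B * z := by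
    intro A B hA hB hAB
    have h1 : (B : G) * A * B = A := by
      apply mul_left_cancel (a := (A : G))
      exact (show (A : G) * ((B : G) * A * B) = (A : G) * B * ((A : G) * B) by group).trans
        (hAB.trans hA.symm)
    calc (B : G) * A = (B : G) * A * B * (B : G)⁻¹ := by group
      _ = (A : G) * (B : G)⁻¹ := by rw [h1]
      _ = (A : G) * ((B : G) * z) := by
        congr 1
        refine inv_eq_of_mul_eq_one_right ?_
        rw [← mul_assoc, hB, J.zz]
      _ = _ := by group
  have hprod : ∀ A B : ↥(CZ z π), (A : G) * A = z → (B : G) * B = z →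
      J.proj A * J.proj B = J.proj B * J.proj A → J.proj A * J.proj B ≠ 1 → ((A : G) * B) * (A * B) = z := by
    intro A B hA hB hc h1
    obtain ⟨u, hu, hr⟩ := J.proj_eq_one.1 (show J.proj (A * B * A⁻¹ * B⁻¹) = 1 by
      simp only [map_mul, map_inv]; rw [hc]; group)
    -- the commutator has trivial odd part
    have hcomm : (A : G) * B * (A : G)⁻¹ * (B : G)⁻¹ = u := by
      simp only [Subgroup.coe_mul, InvMemClass.coe_inv] at hr
      have key : ∀ t : G, (A : G) * t = t * A → (B : G) * t = t * B → t * t * t = 1 →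
          (A : G) * B * (A : G)⁻¹ * (B : G)⁻¹ = u * t → t = 1 := by
        intro t hAt hBt ht3 h
        have hAz : (A : G) * z = z * A := (mem_CZ.1 A.2).1
        have hBz : (B : G) * z = z * B := (mem_CZ.1 B.2).1
        have hAu : (A : G) * u = u * A := by rcases hu with hu | hu <;> subst u; exacts [by simp, hAz]
        have h' : (A : G) * B * (A : G)⁻¹ = u * t * B := by rw [← h]; group
        have h2 : (A : G) * A * B * ((A : G) * A)⁻¹ = u * t * (u * t) * B := by
          calc (A : G) * A * B * ((A : G) * A)⁻¹ = (A : G) * ((A : G) * B * (A : G)⁻¹) * (A : G)⁻¹ := by group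
            _ = ((A : G) * u) * t * B * (A : G)⁻¹ := by rw [h']; group
            _ = u * ((A : G) * t) * B * (A : G)⁻¹ := by rw [hAu]; group
            _ = u * t * ((A : G) * B * (A : G)⁻¹) := by rw [hAt]; group
            _ = _ := by rw [h']; group
        rw [hA, ← hBz, mul_inv_cancel_right] at h2
        have h3 : u * t * (u * t) = 1 := mul_eq_right.1 h2.symm
        have htu : t * u = u * t := by
          rcases hu with hu | hu <;> subst u
          · simp
          · have : (A : G) * B * (A : G)⁻¹ * (B : G)⁻¹ * z = z * ((A : G) * B * (A : G)⁻¹ * (B : G)⁻¹) :=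
              (mem_CZ.1 (A * B * A⁻¹ * B⁻¹).2).1
            rw [h] at this
            exact mul_left_cancel (a := z) (by rw [← mul_assoc]; exact this)
        have hu2 : u * u = 1 := by rcases hu with hu | hu <;> subst u; exacts [one_mul 1, J.zz]
        have h4 : t * t = 1 := by
          calc t * t = u * u * (t * t) := by rw [hu2, one_mul]
            _ = u * (u * t) * t := by group
            _ = u * (t * u) * t := by rw [htu]
            _ = u * t * (u * t) := by group
            _ = 1 := h3
        rw [h4, one_mul] at ht3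
        exact ht3
      rcases hr with k | k | k
      · exact k
      · exact absurd (key π (mem_CZ.1 A.2).2 (mem_CZ.1 B.2).2 J.pi3 k) J.pi1
      · refine absurd (key π⁻¹ (Commute.inv_right (mem_CZ.1 A.2).2).eq
          (Commute.inv_right (mem_CZ.1 B.2).2).eq ?_ k) (inv_ne_one.2 J.pi1)
        rw [← mul_inv_rev, ← mul_inv_rev, ← mul_assoc, J.pi3, inv_one]
    have hAz : (A : G) * z = z * A := (mem_CZ.1 A.2).1
    have hBA : (B : G) * A = u⁻¹ * ((A : G) * B) := by rw [← hcomm]; group
    have hsq2 : (A : G) * B * ((A : G) * B) = 1 ∨ (A : G) * B * ((A : G) * B) = z := by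
      have e : (A : G) * B * ((A : G) * B) = (A : G) * u⁻¹ * A * (z) := by
        calc (A : G) * B * ((A : G) * B) = (A : G) * ((B : G) * A) * B := by group
          _ = (A : G) * (u⁻¹ * ((A : G) * B)) * B := by rw [hBA]
          _ = (A : G) * u⁻¹ * A * ((B : G) * B) := by group
          _ = _ := by rw [hB]
      rw [e]
      rcases hu with hu | hu <;> rw [hu]
      · left; rw [inv_one, mul_one, hA, J.zz]
      · right; rw [J.s.inv_z, hAz, mul_assoc z, hA, J.zz, one_mul]
    have := hall (A * B) (by simpa using hsq2) (by rwa [map_mul])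
    simpa using this
  have zA := hall A hA ha1
  have zB := hall B hB hb1
  have zK := hall K hK he1
  have hne : ∀ x y : M, x * x = 1 → x * y = 1 → y = x := fun x y hx hxy => by
    rw [← one_mul y, ← hx, mul_assoc, hxy, mul_one]
  have hABsq := hprod A B zA zB hab hab1
  -- a third involution independent of the first two
  have main : ∀ K : ↥(CZ z π), (K : G) * K = z → J.proj K * J.proj A = J.proj A * J.proj K →
      J.proj K * J.proj B = J.proj B * J.proj K → J.proj K * J.proj A ≠ 1 → J.proj K * J.proj B ≠ 1 →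
      J.proj K ≠ J.proj A * J.proj B → False := by
    intro K zK hKa hKb h1 h2 h3
    have kA := hanti K A zK zA (hprod K A zK zA hKa h1)
    have kB := hanti K B zK zB (hprod K B zK zB hKb h2)
    have hKAB : J.proj K * J.proj (A * B) = J.proj (A * B) * J.proj K := by
      rw [map_mul, ← mul_assoc, hKa, mul_assoc, hKb, mul_assoc]
    have h4 : J.proj K * J.proj (A * B) ≠ 1 := fun h => h3 (by
      rw [map_mul] at h
      refine (hne _ _ ?_ h).symm
      rw [← map_mul]
      exact J.proj_eq_one.2 ⟨z, Or.inr rfl, Or.inl zK⟩)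
    have kAB := hanti K (A * B) zK (by simpa using hABsq) (hprod K (A * B) zK (by simpa using hABsq) hKAB h4)
    simp only [Subgroup.coe_mul] at kAB
    have hzc : ∀ x : ↥(CZ z π), (x : G) * z = z * x := fun x => (mem_CZ.1 x.2).1
    have e : (A : G) * B * K = (K : G) * ((A : G) * B) := by
      calc (A : G) * B * K = (A : G) * ((B : G) * K) := by group
        _ = (A : G) * ((K : G) * B * z) := by rw [kB]
        _ = ((A : G) * K) * ((B : G) * z) := by group
        _ = (K : G) * A * (z * B) * z := by rw [kA]; group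
        _ = (K : G) * A * ((B : G) * z) * z := by rw [hzc B]
        _ = (K : G) * ((A : G) * B) * (z * z) := by group
        _ = _ := by rw [J.zz, mul_one]
    rw [e] at kAB
    exact J.z_ne (mul_eq_left.1 kAB.symm)
  exact main K zK hae.symm hbe.symm hca hcb hce

end Ctx

end CfsgLib.JFour
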