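import Cfsg.Agent.Lib.JFour.Search

/-!
# The finite search behind the rigidity of the module: third generator
-/

set_option autoImplicit false
set_option maxRecDepth 100000

namespace CfsgLib.JFour

theorem search_I : allX.all (fun X =>
    !isScal [comp m0I (blk X X X)] [0, 0, 0, 0] ||
      witI.any fun t => canI.any fun C => conjB t.2.1 t.2.2 (sB t.1 (comp m0I (blk X X X))) == C) = true := by
  decide +kernel

end CfsgLib.JFour
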