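import Cfsg.Agent.Lib.JFour.Search

/-!
# The finite search behind the rigidity of the module: fourth generator
-/

set_option autoImplicit false
set_option maxRecDepth 100000

namespace CfsgLib.JFour

/-- The test for one base matrix of the fourth generator. -/
def chkJ (t : (ℕ × ℕ) × List ℕ × List ℕ) : Bool :=
  allX.all fun X =>
    !(isScal [gA, gB, MS.getD 2 [], comp t.2.1 (blk X X X), MS.getD 4 []] (relList.getD 13 []) &&
        isScal [gA, gB, MS.getD 2 [], comp t.2.1 (blk X X X), MS.getD 4 []] (relList.getD 14 [])) ||
      [0, 1, 2].any fun k => sB k (comp t.2.1 (blk X X X)) == MS.getD 3 []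

theorem search_J0 : ((m0J.drop 0).take 3).all chkJ = true := by
  decide +kernel

theorem search_J1 : ((m0J.drop 3).take 3).all chkJ = true := by
  decide +kernel

theorem search_J2 : ((m0J.drop 6).take 3).all chkJ = true := by
  decide +kernel

theorem search_J : m0J.all (fun t => allX.all fun X =>
    !(isScal [gA, gB, MS.getD 2 [], comp t.2.1 (blk X X X), MS.getD 4 []] (relList.getD 13 []) &&
        isScal [gA, gB, MS.getD 2 [], comp t.2.1 (blk X X X), MS.getD 4 []] (relList.getD 14 [])) ||
      [0, 1, 2].any fun k => sB k (comp t.2.1 (blk X X X)) == MS.getD 3 []) = true := by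
  show m0J.all chkJ = true
  have hsplit : m0J = (m0J.drop 0).take 3 ++ (m0J.drop 3).take 3 ++ (m0J.drop 6).take 3 := rfl
  rw [hsplit]
  simp only [List.all_append]
  rw [search_J0, search_J1, search_J2]
  rfl

end CfsgLib.JFour
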