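import Cfsg.Agent.Lib.JFour.Search

/-!
# The finite search behind the rigidity of the module: fifth generator
-/

set_option autoImplicit false
set_option maxRecDepth 100000
set_option Elab.async false

namespace CfsgLib.JFour

/-- The test for one candidate of the third generator and one first block. -/
def chkY (gi X : List ℕ) : Bool :=
  invX.all fun Y => invX.all fun W =>
    !(isScal [gA, gB, gi, idB, blk X Y W] (relList.getD 11 []) &&
        isScal [gA, gB, gi, idB, blk X Y W] (relList.getD 12 [])) ||
      (gi == MS.getD 2 [] && witY.any fun t => conjB t.1 t.2 gi == MS.getD 2 [] &&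
        conjB t.1 t.2 (blk X Y W) == MS.getD 4 [])

theorem search_Y00 : ((invX.drop 0).take 4).all (chkY (canI.getD 0 [])) = true := by
  decide +kernel

theorem search_Y01 : ((invX.drop 4).take 4).all (chkY (canI.getD 0 [])) = true := by
  decide +kernel

theorem search_Y02 : ((invX.drop 8).take 4).all (chkY (canI.getD 0 [])) = true := by
  decide +kernel

theorem search_Y03 : ((invX.drop 12).take 4).all (chkY (canI.getD 0 [])) = true := by
  decide +kernel

theorem search_Y10 : ((invX.drop 0).take 4).all (chkY (canI.getD 1 [])) = true := by
  decide +kernel

theorem search_Y11 : ((invX.drop 4).take 4).all (chkY (canI.getD 1 [])) = true := by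
  decide +kernel

theorem search_Y12 : ((invX.drop 8).take 4).all (chkY (canI.getD 1 [])) = true := by
  decide +kernel

theorem search_Y13 : ((invX.drop 12).take 4).all (chkY (canI.getD 1 [])) = true := by
  decide +kernel

theorem search_Y : canI.all (fun gi => invX.all fun X => invX.all fun Y => invX.all fun W =>
    !(isScal [gA, gB, gi, idB, blk X Y W] (relList.getD 11 []) &&
        isScal [gA, gB, gi, idB, blk X Y W] (relList.getD 12 [])) ||
      (gi == MS.getD 2 [] && witY.any fun t => conjB t.1 t.2 gi == MS.getD 2 [] &&
        conjB t.1 t.2 (blk X Y W) == MS.getD 4 [])) = true := by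
  show canI.all (fun gi => invX.all (chkY gi)) = true
  have hsplit : invX = (invX.drop 0).take 4 ++ (invX.drop 4).take 4 ++ (invX.drop 8).take 4 ++
      (invX.drop 12).take 4 := by decide +kernel
  have hc : canI = [canI.getD 0 [], canI.getD 1 []] := rfl
  rw [hc, hsplit]
  simp only [List.all_cons, List.all_nil, List.all_append, Bool.and_true]
  rw [search_Y00, search_Y01, search_Y02, search_Y03, search_Y10, search_Y11, search_Y12, search_Y13]
  rfl

end CfsgLib.JFour
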