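import Cfsg.Agent.Lib.JFour.Lin
import Cfsg.Agent.Lib.JFour.Data

/-!
# The finite search behind the rigidity of the module

The third generator is one of two normal forms after a change of basis, the fifth is then forced up
to such a change, and finally the fourth is forced up to scalars.
-/

set_option autoImplicit false
set_option maxRecDepth 100000

namespace CfsgLib.JFour

/-- The first generator. -/
def gA : List ℕ := [1, 2, 4, 8, 32, 48, 128, 192, 768, 256, 3072, 1024]

/-- The second generator. -/
def gB : List ℕ := [16, 32, 64, 128, 256, 512, 1024, 2048, 1, 2, 4, 8]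

/-- The scalar of order three. -/
def gW0 : List ℕ := [2, 3, 8, 12, 32, 48, 128, 192, 512, 768, 2048, 3072]

/-- The scalar of order three on one block. -/
def w4 : List ℕ := [2, 3, 8, 12]

/-- Multiplication by a power of the scalar. -/
def sB : ℕ → List ℕ → List ℕ
  | 0, B => B
  | k + 1, B => comp gW0 (sB k B)

/-- Evaluation of a word at a vector. -/
def evW (ms : List (List ℕ)) : List ℕ → ℕ → ℕ
  | [], n => n
  | k :: w, n => ap (ms.getD k idB) (evW ms w n)

/-- The word acts as a scalar. -/
def isScal (ms : List (List ℕ)) (w : List ℕ) : Bool :=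
  let f := evW ms w 1
  [sB 0 idB, sB 1 idB, sB 2 idB].any fun S => Nat.beq (ap S 1) f &&
    idB.all fun e => Nat.beq (ap S e) (evW ms w e)

/-- All maps of one block commuting with the scalar. -/
def allX : List (List ℕ) :=
  (List.range 16).flatMap fun x => (List.range 16).map fun y => [x, ap w4 x, y, ap w4 y]

/-- Those of square one. -/
def invX : List (List ℕ) := allX.filter fun X => comp X X == [1, 2, 4, 8]

/-- Change of basis by the same map on the three blocks. -/
def conjB (S Si B : List ℕ) : List ℕ := comp (blk Si Si Si) (comp B (blk S S S))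

theorem wit_ok : (witI.all fun t => okB (blk t.2.1 t.2.1 t.2.1) && okB (blk t.2.2 t.2.2 t.2.2) &&
      comp (blk t.2.1 t.2.1 t.2.1) (blk t.2.2 t.2.2 t.2.2) == idB &&
      comp (blk t.2.2 t.2.2 t.2.2) (blk t.2.1 t.2.1 t.2.1) == idB &&
      conjB t.2.1 t.2.2 gA == gA && conjB t.2.1 t.2.2 gB == gB && conjB t.2.1 t.2.2 gW0 == gW0) = true ∧
    (witY.all fun t => okB (blk t.1 t.1 t.1) && okB (blk t.2 t.2 t.2) &&
      comp (blk t.1 t.1 t.1) (blk t.2 t.2 t.2) == idB &&
      comp (blk t.2 t.2 t.2) (blk t.1 t.1 t.1) == idB &&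
      conjB t.1 t.2 gA == gA && conjB t.1 t.2 gB == gB && conjB t.1 t.2 gW0 == gW0) = true := by
  decide +kernel

theorem base_ok : comp m0I m0Iinv = idB ∧ comp m0Iinv m0I = idB ∧
    comp m0Iinv (comp (comp gA gA) gB) = comp gA m0Iinv ∧ comp m0Iinv (comp gA gB) = comp gB m0Iinv ∧
    okB m0I = true ∧ okB m0Iinv = true ∧
    ((List.range 3).all fun l => (List.range 3).all fun u => m0J.any fun t =>
      t.1 == (l, u) && comp t.2.1 t.2.2 == idB && okB t.2.1 && okB t.2.2 &&
        comp t.2.2 (sB l (comp gB gB)) == comp gA t.2.2 && comp t.2.2 (sB u gA) == comp gB t.2.2) = true ∧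
    okB gA = true ∧ okB gB = true ∧ okB gW0 = true ∧
    MS.all okB = true ∧ MS.getD 0 [] = gA ∧ MS.getD 1 [] = gB := by
  decide +kernel

/-- Vectors fixed by the first generator, or rotated by it, lie in one block. -/
theorem eigen_ok : (List.range 4096).all (fun n =>
    (!Nat.beq (ap gA n) n || Nat.ble n 15) &&
    (!Nat.beq (ap gA n) (ap gW0 n) || (Nat.beq (n % 16) 0 && Nat.ble n 255)) &&
    (!Nat.beq (ap gA n) (ap gW0 (ap gW0 n)) || Nat.beq (n % 256) 0)) = true := by
  decide +kernel

end CfsgLib.JFour
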