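import Cfsg.Agent.Lib.JFour.Lifts
import Cfsg.Agent.Lib.JFour.Coord
import Cfsg.Agent.Lib.JFour.Search

/-!
# Words in the generators, and maps commuting with the first two generators

A product with trivial image in `M` acts as a scalar.  A map commuting with the scalar and with the
first generator is block diagonal; if it also commutes with the second, its blocks are equal.
-/

set_option autoImplicit false
set_option maxRecDepth 100000
set_option linter.style.haveILetI false
set_option linter.unusedSectionVars false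

open Cfsg

namespace CfsgLib.JFour

theorem ap_pow : ∀ (B : List ℕ) (i : ℕ), ap B (2 ^ i) = B.getD i 0
  | [], i => by simp [ap]
  | b :: B, 0 => by
    have hxor : ∀ a c : ℕ, Nat.xor a c = a ^^^ c := fun _ _ => rfl
    simp [ap, ap_zero, hxor]
  | b :: B, i + 1 => by
    have h2 : 2 ^ (i + 1) % 2 = 0 := by rw [pow_succ]; exact Nat.mul_mod_left _ _
    have h3 : 2 ^ (i + 1) / 2 = 2 ^ i := by rw [pow_succ]; exact Nat.mul_div_cancel _ (by norm_num)
    simp only [ap, h2, h3, ap_pow B i, List.getD_cons_succ]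
    rfl

theorem ap_idB {n : ℕ} (hn : n < 4096) : ap idB n = n :=
  (ap_ext (f := fun n => n) (fun _ _ _ _ => rfl) (fun i hi => by
    interval_cases i <;> decide) rfl n hn).symm

theorem okB_comp {B C : List ℕ} (hB : okB B = true) (hC : okB C = true) : okB (comp B C) = true := by
  simp only [okB, Bool.and_eq_true, beq_iff_eq, List.all_eq_true, decide_eq_true_eq] at hC ⊢
  refine ⟨by rw [comp, List.length_map, hC.1], fun c hc => ?_⟩
  obtain ⟨d, -, rfl⟩ := List.mem_map.1 hc
  exact okB_lt hB d

theorem okB_sB {B : List ℕ} (hB : okB B = true) : ∀ k, okB (sB k B) = true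
  | 0 => hB
  | k + 1 => okB_comp (by decide) (okB_sB hB k)

theorem evW_eq {ms : List (List ℕ)} : ∀ {w : List ℕ} {n : ℕ}, n < 4096 → evW ms w n = ap (wordB ms w) n
  | [], n, hn => (ap_idB hn).symm
  | k :: w, n, hn => by rw [evW, wordB, ap_comp, evW_eq hn]

theorem isScal_of {ms : List (List ℕ)} {w : List ℕ} {k : ℕ} (hk : k < 3)
    (h : ∀ n < 4096, ap (wordB ms w) n = ap (sB k idB) n) : isScal ms w = true := by
  simp only [isScal, List.any_eq_true, Bool.and_eq_true, List.all_eq_true]
  refine ⟨sB k idB, by interval_cases k <;> simp, ?_, fun e he => ?_⟩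
  · rw [evW_eq (by norm_num), h 1 (by norm_num)]; exact Nat.beq_refl _
  · have he' : e < 4096 := by
      simp only [idB, List.mem_cons, List.not_mem_nil, or_false] at he
      omega
    rw [evW_eq he', h e he']; exact Nat.beq_refl _

theorem mem_allX {x y : ℕ} (hx : x < 16) (hy : y < 16) : [x, ap w4 x, y, ap w4 y] ∈ allX := by
  simp only [allX, List.mem_flatMap, List.mem_map, List.mem_range]
  exact ⟨x, hx, y, hy, rfl⟩

/-- A map commuting with the scalar and the first generator is block diagonal. -/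
theorem block_form {D : List ℕ} (hD : okB D = true)
    (hA : ∀ n < 4096, ap D (ap gA n) = ap gA (ap D n))
    (hW : ∀ n < 4096, ap D (ap gW0 n) = ap gW0 (ap D n)) :
    ∃ X ∈ allX, ∃ Y ∈ allX, ∃ W ∈ allX, (∀ n < 4096, ap D n = ap (blk X Y W) n) ∧
      ((∀ n < 4096, ap D (ap gB n) = ap gB (ap D n)) → Y = X ∧ W = X) := by
  have hlt : ∀ n, ap D n < 4096 := okB_lt hD
  have he := eigen_ok
  simp only [List.all_eq_true, List.mem_range, Bool.and_eq_true, Bool.or_eq_true,
    Bool.not_eq_true', ← Bool.not_eq_true, Nat.beq_eq, Nat.ble_eq] at he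
  have h0 : ∀ n < 4096, ap gA n = n → ap D n < 16 := fun n hn h => by
    have h' := hA n hn
    rw [h] at h'
    have := ((he _ (hlt n)).1.1).resolve_left (fun hne => hne h'.symm)
    omega
  have h1 : ∀ n < 4096, ap gA n = ap gW0 n → ∃ y, y < 16 ∧ ap D n = y * 16 := fun n hn h => by
    have h' := hA n hn
    rw [h, hW n hn] at h'
    have := ((he _ (hlt n)).1.2).resolve_left (fun hne => hne h'.symm)
    exact ⟨ap D n / 16, by omega, by omega⟩
  have hW4 : ∀ n < 4096, ap gW0 n < 4096 := fun n _ => okB_lt (by decide) n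
  have h2 : ∀ n < 4096, ap gA n = ap gW0 (ap gW0 n) → ∃ y, y < 16 ∧ ap D n = y * 256 := fun n hn h => by
    have h' := hA n hn
    rw [h, hW _ (hW4 n hn), hW n hn] at h'
    have := (he _ (hlt n)).2.resolve_left (fun hne => hne h'.symm)
    have := hlt n
    exact ⟨ap D n / 256, by omega, by omega⟩
  have hw : ∀ x < 16, ap gW0 x = ap w4 x ∧ ap gW0 (x * 16) = ap w4 x * 16 ∧
      ap gW0 (x * 256) = ap w4 x * 256 ∧ ap gB x = x * 16 ∧ ap gB (x * 16) = x * 256 := by decide
  have x1 := h0 1 (by norm_num) (by decide)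
  have x4 := h0 4 (by norm_num) (by decide)
  obtain ⟨y1, hy1, e1⟩ := h1 16 (by norm_num) (by decide)
  obtain ⟨y4, hy4, e4⟩ := h1 64 (by norm_num) (by decide)
  obtain ⟨u1, hu1, f1⟩ := h2 256 (by norm_num) (by decide)
  obtain ⟨u4, hu4, f4⟩ := h2 1024 (by norm_num) (by decide)
  refine ⟨_, mem_allX x1 x4, _, mem_allX hy1 hy4, _, mem_allX hu1 hu4, fun n hn => ?_, fun hB => ?_⟩
  · refine ap_ext (f := ap D) (fun m k _ _ => ap_xor D m k) (fun i hi => ?_) rfl n hn
    rw [ap_pow (blk _ _ _)]
    interval_cases i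
    · rfl
    · show ap D (ap gW0 1) = ap w4 _
      rw [hW 1 (by norm_num), (hw _ x1).1]
    · rfl
    · show ap D (ap gW0 4) = ap w4 _
      rw [hW 4 (by norm_num), (hw _ x4).1]
    · exact e1
    · show ap D (ap gW0 16) = ap w4 y1 * 16
      rw [hW 16 (by norm_num), e1, (hw _ hy1).2.1]
    · exact e4
    · show ap D (ap gW0 64) = ap w4 y4 * 16
      rw [hW 64 (by norm_num), e4, (hw _ hy4).2.1]
    · exact f1
    · show ap D (ap gW0 256) = ap w4 u1 * 256
      rw [hW 256 (by norm_num), f1, (hw _ hu1).2.2.1]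
    · exact f4
    · show ap D (ap gW0 1024) = ap w4 u4 * 256
      rw [hW 1024 (by norm_num), f4, (hw _ hu4).2.2.1]
  · have a1 : ap D 16 = ap D 1 * 16 := by
      rw [show (16 : ℕ) = ap gB 1 by decide, hB 1 (by norm_num), (hw _ x1).2.2.2.1]
      rw [show ap gB 1 = 16 by decide]
    have a4 : ap D 64 = ap D 4 * 16 := by
      rw [show (64 : ℕ) = ap gB 4 by decide, hB 4 (by norm_num), (hw _ x4).2.2.2.1]
    have b1 : ap D 256 = ap D 1 * 256 := by
      rw [show (256 : ℕ) = ap gB 16 by decide, hB 16 (by norm_num), a1, (hw _ x1).2.2.2.2]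
      rw [show ap gB 16 = 256 by decide]
    have b4 : ap D 1024 = ap D 4 * 256 := by
      rw [show (1024 : ℕ) = ap gB 64 by decide, hB 64 (by norm_num), a4, (hw _ x4).2.2.2.2]
    have : y1 = ap D 1 := by omega
    have : y4 = ap D 4 := by omega
    have : u1 = ap D 1 := by omega
    have : u4 = ap D 4 := by omega
    subst y1 y4 u1 u4
    exact ⟨rfl, rfl⟩

variable {G : Type*} [Group G] [Finite G] {M : Type*} [Group M] {z π : G} {E : Subgroup G}
  {vec : ℕ → G}

theorem Coords.acts_congr {c : G} {B C : List ℕ} (h : Acts z vec c B) (hC : okB C = true)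
    (e : ∀ n < 4096, ap B n = ap C n) : Acts z vec c C :=
  ⟨hC, fun n hn => e n hn ▸ h.2 n hn⟩

namespace Ctx

variable (J : Ctx M z π E)
include J

theorem acts_pow (V : Coords z E vec) (hπ : Acts z vec π gW0) {c : G} {B : List ℕ}
    (hc : Acts z vec c B) : ∀ k, Acts z vec (π ^ k * c) (sB k B)
  | 0 => by simpa [sB] using hc
  | k + 1 => by
    rw [pow_succ', mul_assoc]
    exact V.acts_mul J hπ J.piz (acts_pow V hπ hc k) (okB_comp (by decide) (okB_sB hc.1 k))

/-- An element with the image of `c` acts as a scalar multiple. -/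
theorem acts_of_proj (V : Coords z E vec) (hπ : Acts z vec π gW0) {c d : ↥(CZ z π)} {B : List ℕ}
    (hc : Acts z vec (c : G) B) (h : J.proj d = J.proj c) :
    ∃ k, k < 3 ∧ Acts z vec (d : G) (sB k B) := by
  obtain ⟨u, huE, -, k, hk, he⟩ := J.exists_pow' (c := d * c⁻¹) (by rw [map_mul, map_inv, h, mul_inv_cancel])
  refine ⟨k, hk, ?_⟩
  have hd : (d : G) = u * (π ^ k * (c : G)) := by
    have : (d : G) * (c : G)⁻¹ = u * π ^ k := by simpa using he
    rw [← mul_assoc, ← this]; group
  rw [hd]
  refine V.acts_mul_E J (J.acts_pow V hπ hc k) huE ?_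
  rw [mul_assoc, (mem_CZ.1 c.2).1, ← mul_assoc, ((show Commute π z from J.piz).pow_left k).eq, mul_assoc]

/-- A word acts by the product of the matrices. -/
theorem acts_word (V : Coords z E vec) {c : ℕ → ↥(CZ z π)} {ms : List (List ℕ)} :
    ∀ {w : List ℕ}, (∀ k ∈ w, Acts z vec (c k : G) (ms.getD k idB)) →
      Acts z vec ((w.map c).prod : ↥(CZ z π)) (wordB ms w)
  | [], _ => by simpa [wordB] using V.acts_one J
  | k :: w, h => by
    have ih := acts_word V (w := w) fun j hj => h j (List.mem_cons_of_mem _ hj)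
    simp only [List.map_cons, List.prod_cons, Subgroup.coe_mul, wordB]
    exact V.acts_mul J (h k List.mem_cons_self) (mem_CZ.1 (c k).2).1 ih
      (okB_comp (h k List.mem_cons_self).1 ih.1)

/-- A relation acts as a scalar. -/
theorem isScal_rel (V : Coords z E vec) (hπ : Acts z vec π gW0) {c : ℕ → ↥(CZ z π)}
    {ms : List (List ℕ)} {g : ℕ → M} {w : List ℕ} (hc : ∀ k ∈ w, J.proj (c k) = g k)
    (ha : ∀ k ∈ w, Acts z vec (c k : G) (ms.getD k idB)) (hw : (w.map g).prod = 1) :
    isScal ms w = true := by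
  have h1 : Acts z vec ((1 : ↥(CZ z π)) : G) idB := by simpa using V.acts_one J
  have hp : J.proj (w.map c).prod = J.proj 1 := by
    rw [map_one, map_list_prod, List.map_map, ← hw]
    exact congrArg List.prod (List.map_congr_left fun k hk => hc k hk)
  obtain ⟨k, hk, h⟩ := J.acts_of_proj V hπ h1 hp
  exact isScal_of hk (V.acts_eq J (J.acts_word V ha) h)

/-- An element commuting with `π` has columns commuting with the scalar. -/
theorem comm_om (V : Coords z E vec) (hπ : Acts z vec π gW0) {c : G} {B : List ℕ}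
    (hc : Acts z vec c B) (h : c ∈ CZ z π) :
    ∀ n < 4096, ap B (ap gW0 n) = ap gW0 (ap B n) := by
  intro n hn
  have hcz := (mem_CZ.1 h).1
  have h1 := V.acts_mul J hc hcz hπ (okB_comp hc.1 (by decide))
  have h2 := V.acts_mul J hπ J.piz hc (okB_comp (by decide) hc.1)
  rw [← (mem_CZ.1 h).2] at h2
  rw [← ap_comp, ← ap_comp]
  exact V.acts_eq J h1 h2 n hn

/-- Changing the basis. -/
theorem coords_rebase (V : Coords z E vec) {T Ti : List ℕ} (hT : okB T = true) (hTi : okB Ti = true)
    (h1 : comp T Ti = idB) (h2 : comp Ti T = idB) :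
    Coords z E (fun n => vec (ap T n)) where
  mem n _ := V.mem _ (okB_lt hT n)
  add m n hm hn := by
    have : ap T (Nat.xor m n) = Nat.xor (ap T m) (ap T n) := ap_xor T m n
    simp only [this]
    exact V.add _ _ (okB_lt hT m) (okB_lt hT n)
  inj n hn h := by
    have h0 := V.inj _ (okB_lt hT n) h
    have := congrArg (ap Ti) h0
    rwa [← ap_comp, h2, ap_idB hn, ap_zero] at this
  surj e he := by
    obtain ⟨n, hn, h⟩ := V.surj e he
    exact ⟨ap Ti n, okB_lt hTi n, by rwa [← ap_comp, h1, ap_idB hn]⟩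

end Ctx

theorem acts_rebase {S Si : List ℕ} {c : G} {B : List ℕ}
    (h : Acts z vec c B) (hT : okB (blk S S S) = true) (hTi : okB (blk Si Si Si) = true)
    (h1 : comp (blk S S S) (blk Si Si Si) = idB) :
    Acts z (fun n => vec (ap (blk S S S) n)) c (conjB S Si B) := by
  refine ⟨okB_comp hTi (okB_comp h.1 hT), fun n _ => ?_⟩
  simp only [conjB, ap_comp]
  rw [← ap_comp (blk S S S) (blk Si Si Si), h1, ap_idB (okB_lt h.1 _)]
  exact h.2 _ (okB_lt hT n)

end CfsgLib.JFour
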