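import Cfsg.Agent.Lib.JFour.Frame
import Cfsg.Agent.Lib.JFour.Words
import Cfsg.Agent.Lib.JFour.Pair3
import Cfsg.Agent.Lib.JFour.SearchI
import Cfsg.Agent.Lib.JFour.SearchY
import Cfsg.Agent.Lib.JFour.SearchJ

/-!
# Rigidity of the action on `E` modulo its centre

For suitable lifts of the five generators of `M` there are coordinates in which they act by the
normal forms `MS`.
-/

set_option autoImplicit false
set_option maxRecDepth 100000
set_option linter.style.haveILetI false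
set_option linter.unusedSectionVars false

open Cfsg

namespace CfsgLib.JFour

variable {G : Type*} [Group G] [Finite G] {M : Type*} [Group M] [Finite M] {z π : G} {E : Subgroup G}

/-- The five generators and what is required of them. -/
structure Gens (M : Type*) [Group M] [Finite M] (g : ℕ → M) : Prop where
  small : Small M
  rels : ∀ w ∈ relList, (w.map g).prod = 1
  indep : g 0 ≠ 1 ∧ g 1 ≠ 1 ∧ g 1 ≠ g 0 ∧ g 1 ≠ g 0 * g 0

theorem Gens.map {g : ℕ → M} (T : Gens M g) (θ : M ≃* M) : Gens M (fun k => θ (g k)) where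
  small := T.small
  rels w hw := by
    have e : (fun k => θ (g k)) = θ ∘ g := rfl
    rw [e, ← List.map_map, ← map_list_prod, T.rels w hw, map_one]
  indep := by
    obtain ⟨h0, h1, h2, h3⟩ := T.indep
    refine ⟨fun h => h0 (θ.injective (h.trans (map_one θ).symm)),
      fun h => h1 (θ.injective (h.trans (map_one θ).symm)), fun h => h2 (θ.injective h), fun h => h3 ?_⟩
    exact θ.injective (by rw [map_mul]; exact h)

/-- Coordinates in which the generators take their normal forms. -/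
structure Ctx.Model (J : Ctx M z π E) (g : ℕ → M) (vec : ℕ → G) : Prop where
  coords : Coords z E vec
  om : Acts z vec π gW0
  gens : ∀ k < 5, ∃ c : ↥(CZ z π), J.proj c = g k ∧ Acts z vec (c : G) (MS.getD k idB)

theorem comp_self {a b c d : ℕ} (e : ∀ r < 16, ap [a, b, c, d] (ap [a, b, c, d] r) = r) :
    comp [a, b, c, d] [a, b, c, d] = [1, 2, 4, 8] := by
  have e1 := e 1 (by norm_num)
  have e2 := e 2 (by norm_num)
  have e4 := e 4 (by norm_num)
  have e8 := e 8 (by norm_num)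
  rw [show ap [a, b, c, d] 1 = a by simp [ap]] at e1
  rw [show ap [a, b, c, d] 2 = b by simp [ap]] at e2
  rw [show ap [a, b, c, d] 4 = c by simp [ap]] at e4
  rw [show ap [a, b, c, d] 8 = d by simp [ap]] at e8
  simp only [comp, List.map_cons, List.map_nil, e1, e2, e4, e8]

theorem getD_cases {ms : List (List ℕ)} (k : ℕ) (h : k ∈ [0, 1, 2, 3, 4]) :
    ms.getD k idB = ms.getD 0 idB ∧ k = 0 ∨ ms.getD k idB = ms.getD 1 idB ∧ k = 1 ∨
      ms.getD k idB = ms.getD 2 idB ∧ k = 2 ∨ ms.getD k idB = ms.getD 3 idB ∧ k = 3 ∨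
      ms.getD k idB = ms.getD 4 idB ∧ k = 4 := by
  simp only [List.mem_cons, List.not_mem_nil, or_false] at h
  rcases h with rfl | rfl | rfl | rfl | rfl <;> simp

namespace Ctx

variable (J : Ctx M z π E)
include J

/-- Two homomorphisms with the kernel of the projection differ by an automorphism. -/
theorem flip_proj : ∃ θ : M ≃* M, ∀ c : ↥(CZ z π),
    J.flip.proj ⟨c, (CZ_inv z π).ge c.2⟩ = θ (J.proj c) := by
  classical
  let i : ↥(CZ z π) →* ↥(CZ z π⁻¹) := Subgroup.inclusion (CZ_inv z π).ge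
  let φ := J.flip.proj.comp i
  have hker : ∀ c, φ c = 1 ↔ J.proj c = 1 := fun c => by
    rw [MonoidHom.comp_apply, J.flip.proj_eq_one, J.proj_eq_one]
    simp only [inv_inv]
    refine exists_congr fun u => and_congr_right fun _ => ?_
    show ((c : G) = u ∨ (c : G) = u * π⁻¹ ∨ (c : G) = u * π) ↔ _
    tauto
  have hφ : Function.Surjective φ := fun m => by
    obtain ⟨c, rfl⟩ := J.flip.proj_surj m
    exact ⟨⟨c, (CZ_inv z π).le c.2⟩, rfl⟩
  let θ₀ : M →* M := MonoidHom.liftOfSurjective J.proj J.proj_surj ⟨φ, fun c hc => (hker c).2 hc⟩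
  have hθ : ∀ c, θ₀ (J.proj c) = φ c := fun c =>
    MonoidHom.liftOfRightInverse_comp_apply J.proj _ _ _ c
  have hbij : Function.Bijective θ₀ := by
    have hinj : Function.Injective θ₀ := by
      rw [injective_iff_map_eq_one]
      intro m hm
      obtain ⟨c, rfl⟩ := J.proj_surj m
      rw [hθ] at hm
      exact (hker c).1 hm
    exact ⟨hinj, Finite.surjective_of_injective hinj⟩
  exact ⟨MulEquiv.ofBijective θ₀ hbij, fun c => (hθ c).symm⟩

/-- An element of order three with trivial image is a power of `π`. -/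
theorem eq_pow_of_proj {x y : ↥(CZ z π)} (hx : x * x * x = 1) (hy : y * y * y = 1)
    (h : J.proj x = J.proj y) : ∃ l, l < 3 ∧ (x : G) = (y : G) * π ^ l := by
  obtain ⟨u, -, hu, l, hl, he⟩ := J.exists_pow' (c := y⁻¹ * x) (by
    rw [map_mul, map_inv, h, inv_mul_cancel])
  refine ⟨l, hl, ?_⟩
  have hxe : (x : G) = (y : G) * (u * π ^ l) := by
    simp only [Subgroup.coe_mul, InvMemClass.coe_inv] at he
    rw [← he, mul_inv_cancel_left]
  rcases hu with rfl | hu
  · simpa using hxe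
  exfalso
  rw [hu] at hxe
  have hyz : Commute (y : G) z := (mem_CZ.1 y.2).1
  have hyp : Commute (y : G) π := (mem_CZ.1 y.2).2
  have hzp : Commute z (π ^ l) := ((show Commute π z from J.piz).pow_left l).symm
  have h1 : ((x : G)) ^ 3 = z := by
    rw [hxe, (hyz.mul_right (hyp.pow_right l)).mul_pow, hzp.mul_pow, ← pow_mul, mul_comm l, pow_mul,
      show π ^ 3 = 1 by rw [pow_succ, pow_two, J.pi3], one_pow, mul_one, pow_succ, pow_two,
      pow_succ, pow_two, show (y : G) * y * y = 1 from congrArg Subtype.val hy, J.zz, one_mul, one_mul]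
  rw [pow_succ, pow_two, show (x : G) * x * x = 1 from congrArg Subtype.val hx] at h1
  exact J.z_ne h1.symm

variable {vec : ℕ → G} (V : Coords z E vec) (hπ : Acts z vec π gW0)
include V hπ

/-- An element normalising the pair, as a product with the base matrix. -/
theorem base_form {c a' b' : G} {Bc M0 M0i A' B' : List ℕ} {a b : G} (hc : c ∈ CZ z π)
    (hBc : Acts z vec c Bc) (ha : Acts z vec a gA) (hb : Acts z vec b gB) (ha' : Acts z vec a' A')
    (hb' : Acts z vec b' B') (haz : a * z = z * a) (hbz : b * z = z * b) (ha'z : a' * z = z * a')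
    (hb'z : b' * z = z * b') (hca : c * a = a' * c) (hcb : c * b = b' * c)
    (hM : comp M0 M0i = idB) (hM0 : okB M0 = true) (hM0i : okB M0i = true)
    (e1 : comp M0i A' = comp gA M0i) (e2 : comp M0i B' = comp gB M0i)
    (eW : comp M0i gW0 = comp gW0 M0i) :
    ∃ X ∈ allX, Acts z vec c (comp M0 (blk X X X)) := by
  have hcz := (mem_CZ.1 hc).1
  set D := comp M0i Bc
  have hD : okB D = true := okB_comp hM0i hBc.1
  have h1 : ∀ n < 4096, ap Bc (ap gA n) = ap A' (ap Bc n) := fun n hn => by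
    have p := V.acts_mul J hBc hcz ha (okB_comp hBc.1 ha.1)
    have q := V.acts_mul J ha' ha'z hBc (okB_comp ha'.1 hBc.1)
    rw [← hca] at q
    rw [← ap_comp, ← ap_comp]
    exact V.acts_eq J p q n hn
  have h2 : ∀ n < 4096, ap Bc (ap gB n) = ap B' (ap Bc n) := fun n hn => by
    have p := V.acts_mul J hBc hcz hb (okB_comp hBc.1 hb.1)
    have q := V.acts_mul J hb' hb'z hBc (okB_comp hb'.1 hBc.1)
    rw [← hcb] at q
    rw [← ap_comp, ← ap_comp]
    exact V.acts_eq J p q n hn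
  have hA : ∀ n < 4096, ap D (ap gA n) = ap gA (ap D n) := fun n hn => by
    simp only [D, ap_comp]
    rw [h1 n hn, ← ap_comp, e1, ap_comp]
  have hB : ∀ n < 4096, ap D (ap gB n) = ap gB (ap D n) := fun n hn => by
    simp only [D, ap_comp]
    rw [h2 n hn, ← ap_comp, e2, ap_comp]
  have hW : ∀ n < 4096, ap D (ap gW0 n) = ap gW0 (ap D n) := fun n hn => by
    simp only [D, ap_comp]
    rw [J.comm_om V hπ hBc hc n hn, ← ap_comp, eW, ap_comp]
  obtain ⟨X, hX, Y, -, W, -, hXYW, heq⟩ := block_form hD hA hW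
  obtain ⟨hYX, hWX⟩ := heq hB
  rw [hYX, hWX] at hXYW
  refine ⟨X, hX, Coords.acts_congr hBc ?_ fun n hn => ?_⟩
  · simp only [okB, Bool.and_eq_true, beq_iff_eq, List.all_eq_true, decide_eq_true_eq]
    refine ⟨?_, fun x hx => ?_⟩
    · simp only [allX, List.mem_flatMap, List.mem_map, List.mem_range] at hX
      obtain ⟨p, -, q, -, rfl⟩ := hX
      simp [comp, blk]
    · obtain ⟨d, -, rfl⟩ := List.mem_map.1 hx
      exact okB_lt hM0 d
  · rw [ap_comp, ← hXYW n hn, show ap D n = ap M0i (ap Bc n) from ap_comp _ _ _, ← ap_comp M0 M0i,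
      hM, ap_idB (okB_lt hBc.1 n)]

end Ctx

/-- The coordinates are kept by a normalising change of basis. -/
theorem Ctx.rebase_all (J : Ctx M z π E) {vec : ℕ → G} (V : Coords z E vec) {S Si : List ℕ}
    (hS : okB (blk S S S) = true) (hSi : okB (blk Si Si Si) = true)
    (h1 : comp (blk S S S) (blk Si Si Si) = idB) (h2 : comp (blk Si Si Si) (blk S S S) = idB) :
    Coords z E (fun n => vec (ap (blk S S S) n)) ∧
      ∀ (c : G) (B C : List ℕ), Acts z vec c B → conjB S Si B = C →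
        Acts z (fun n => vec (ap (blk S S S) n)) c C :=
  ⟨J.coords_rebase V hS hSi h1 h2, fun _ _ _ h e => e ▸ acts_rebase h hS hSi h1⟩

theorem Ctx.mul_pi {J : Ctx M z π E} {c : ↥(CZ z π)} (k : ℕ) :
    ∃ d : ↥(CZ z π), (d : G) = π ^ k * (c : G) ∧ J.proj d = J.proj c :=
  ⟨⟨π, J.pi_mem_CZ⟩ ^ k * c, by simp, by rw [map_mul, map_pow, J.proj_pi, one_pow, one_mul]⟩

set_option maxHeartbeats 800000 in
/-- The model for the correct sign of `π`. -/
theorem Ctx.exists_model_aux (J : Ctx M z π E) {g : ℕ → M} (T : Gens M g) {a b : ↥(CZ z π)}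
    (ha : J.proj a = g 0) (hb : J.proj b = g 1) (ha3 : a * a * a = 1) (hb3 : b * b * b = 1)
    (hab : (a : G) * b * (a : G)⁻¹ * (b : G)⁻¹ = π) : ∃ vec, J.Model g vec := by
  classical
  obtain ⟨hb1, hb2, hb4, hb5, -, -, hJall, -⟩ := base_ok
  have hrel : ∀ i, i < 15 → ((relList.getD i []).map g).prod = 1 := fun i hi =>
    T.rels _ (by rw [List.getD_eq_getElem _ _ (show i < relList.length from hi)]; exact List.getElem_mem _)
  have hord3 : ∀ {x : ↥(CZ z π)}, x * x * x = 1 → ∀ c : ↥(CZ z π),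
      c * x * c⁻¹ * (c * x * c⁻¹) * (c * x * c⁻¹) = 1 := fun {x} hx c => by
    calc c * x * c⁻¹ * (c * x * c⁻¹) * (c * x * c⁻¹) = c * (x * x * x) * c⁻¹ := by group
      _ = 1 := by rw [hx]; group
  let p : ↥(CZ z π) := ⟨π, J.pi_mem_CZ⟩
  have hpc : ∀ x : ↥(CZ z π), Commute p x := fun x => Subtype.ext (mem_CZ.1 x.2).2.symm
  have hp3 : p * p * p = 1 := Subtype.ext J.pi3
  have hab' : a * b = p * b * a := Subtype.ext (by
    show (a : G) * b = π * (b : G) * (a : G)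
    calc (a : G) * b = ((a : G) * b * (a : G)⁻¹ * (b : G)⁻¹) * b * a := by group
      _ = _ := by rw [hab])
  -- the third generator and the normalisation of the first two
  obtain ⟨I₀, hI⟩ := J.proj_surj (g 2)
  have hgab3 : ∀ {x y : ↥(CZ z π)} {r : ℕ}, x * x * x = 1 → y * y * y = 1 → x * y = p ^ r * y * x →
      (x * y) * (x * y) * (x * y) = 1 := fun {x y r} hx hy h => by
    rw [cube_mul h ((hpc x).pow_left r) ((hpc y).pow_left r), hx, hy, mul_one, mul_one,
      show p ^ r * p ^ r * p ^ r = (p ^ 3) ^ r by rw [← pow_add, ← pow_add, ← pow_mul]; congr 1; ring,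
      pow_succ, pow_two, hp3, one_pow, inv_one]
  have haab : a * a * b = p ^ 2 * b * (a * a) := by
    have e : a * p = p * a := (hpc a).eq.symm
    calc a * a * b = a * (p * b * a) := by rw [mul_assoc, hab']
      _ = a * p * (b * a) := by group
      _ = p * (a * b) * a := by rw [e]; group
      _ = p * (p * b * a) * a := by rw [hab']
      _ = _ := by rw [pow_two]; group
  have hsq3 : a * a * (a * a) * (a * a) = 1 := by
    rw [show a * a * (a * a) * (a * a) = (a * a * a) * (a * a * a) by group, ha3, one_mul]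
  have hR6 := hrel 6 (by norm_num)
  have hR7 := hrel 7 (by norm_num)
  have hR5 := hrel 5 (by norm_num)
  have hR0 := hrel 0 (by norm_num)
  have hR1 := hrel 1 (by norm_num)
  have hR3 := hrel 3 (by norm_num)
  simp [relList] at hR6 hR7 hR5 hR0 hR1 hR3
  obtain ⟨l, hl, hla⟩ := J.eq_pow_of_proj (hord3 ha3 I₀) (hgab3 hsq3 hb3 haab) (by
    rw [map_mul, map_mul, map_inv, map_mul, map_mul, hI, ha, hb]
    have hi : (g 2)⁻¹ = g 2 * (g 2 * g 2) := inv_eq_of_mul_eq_one_right (by simpa [mul_assoc] using hR3)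
    calc g 2 * g 0 * (g 2)⁻¹ = g 2 * g 0 * (g 2)⁻¹ *
          ((g 1 * g 1 * g 0) * (g 0 * g 0 * g 1)) := by
            rw [show (g 1 * g 1 * g 0) * (g 0 * g 0 * g 1) = g 1 * g 1 * (g 0 * (g 0 * g 0)) * g 1 by group,
              hR0, mul_one, show g 1 * g 1 * g 1 = g 1 * (g 1 * g 1) by group, hR1, mul_one]
      _ = g 2 * g 0 * (g 2 * (g 2 * g 2)) * (g 1 * g 1 * g 0) * (g 0 * g 0 * g 1) := by rw [hi]; group
      _ = g 0 * g 0 * g 1 := by
            rw [show g 2 * g 0 * (g 2 * (g 2 * g 2)) * (g 1 * g 1 * g 0) =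
              g 2 * (g 0 * (g 2 * (g 2 * (g 2 * (g 1 * (g 1 * g 0)))))) by group, hR6, one_mul])
  obtain ⟨u, hu, hub⟩ := J.eq_pow_of_proj (hord3 hb3 I₀) (hgab3 (r := 1) ha3 hb3 (by rw [pow_one]; exact hab')) (by
    rw [map_mul, map_mul, map_inv, map_mul, hI, ha, hb]
    have hi : (g 2)⁻¹ = g 2 * (g 2 * g 2) := inv_eq_of_mul_eq_one_right (by simpa [mul_assoc] using hR3)
    calc g 2 * g 1 * (g 2)⁻¹ = g 2 * g 1 * (g 2)⁻¹ *
          ((g 1 * g 1 * (g 0 * g 0)) * (g 0 * g 1)) := by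
            rw [show (g 1 * g 1 * (g 0 * g 0)) * (g 0 * g 1) = g 1 * g 1 * (g 0 * (g 0 * g 0)) * g 1 by group,
              hR0, mul_one, show g 1 * g 1 * g 1 = g 1 * (g 1 * g 1) by group, hR1, mul_one]
      _ = g 2 * g 1 * (g 2 * (g 2 * g 2)) * (g 1 * g 1 * (g 0 * g 0)) * (g 0 * g 1) := by rw [hi]; group
      _ = g 0 * g 1 := by
            rw [show g 2 * g 1 * (g 2 * (g 2 * g 2)) * (g 1 * g 1 * (g 0 * g 0)) =
              g 2 * (g 1 * (g 2 * (g 2 * (g 2 * (g 1 * (g 1 * (g 0 * g 0))))))) by group, hR7, one_mul])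
  obtain ⟨A, hA⟩ : ∃ A : ↥(CZ z π), A = a * p ^ u := ⟨_, rfl⟩
  obtain ⟨B, hB⟩ : ∃ B : ↥(CZ z π), B = b * p ^ (l + 2 * u) := ⟨_, rfl⟩
  have hPA : J.proj A = g 0 := by rw [hA, map_mul, map_pow, J.proj_pi, one_pow, mul_one, ha]
  have hPB : J.proj B = g 1 := by rw [hB, map_mul, map_pow, J.proj_pi, one_pow, mul_one, hb]
  have hmod : ∀ n, p ^ (3 * n) = 1 := fun n => by rw [pow_mul, pow_succ, pow_two, hp3, one_pow]
  have hmv : ∀ (x y : ↥(CZ z π)) (m n : ℕ), x * p ^ m * (y * p ^ n) = x * y * p ^ (m + n) := fun x y m n => by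
    rw [mul_assoc x, ← mul_assoc (p ^ m), ((hpc y).pow_left m).eq, mul_assoc y, ← pow_add, mul_assoc]
  have hconjP : ∀ (x : ↥(CZ z π)) (m : ℕ), I₀ * (x * p ^ m) * I₀⁻¹ = I₀ * x * I₀⁻¹ * p ^ m := fun x m => by
    rw [mul_assoc (I₀ * x), ← ((hpc I₀⁻¹).pow_left m).eq]; group
  have hcA : I₀ * A * I₀⁻¹ = A * A * B := by
    have h1 : I₀ * a * I₀⁻¹ = a * a * b * p ^ l := Subtype.ext (by simpa [p] using hla)
    rw [hA, hB, hconjP, h1, mul_assoc _ (p ^ l), ← pow_add, hmv, hmv,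
      show u + u + (l + 2 * u) = l + u + 3 * u by ring, pow_add _ (l + u), hmod, mul_one]
  have hcB : I₀ * B * I₀⁻¹ = A * B := by
    have h1 : I₀ * b * I₀⁻¹ = a * b * p ^ u := Subtype.ext (by simpa [p] using hub)
    rw [hA, hB, hconjP, h1, mul_assoc _ (p ^ u), ← pow_add, hmv]
  have hA3 : A * A * A = 1 := by
    rw [hA, hmv, hmv, show u + u + u = 3 * u by ring, hmod, mul_one, ha3]
  have hB3 : B * B * B = 1 := by
    rw [hB, hmv, hmv, show l + 2 * u + (l + 2 * u) + (l + 2 * u) = 3 * (l + 2 * u) by ring, hmod, mul_one, hb3]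
  have hAB : (A : G) * B * (A : G)⁻¹ * (B : G)⁻¹ = π := by
    have h1 : A * B * A⁻¹ * B⁻¹ = p := by
      rw [show A * B * A⁻¹ * B⁻¹ = A * B * (B * A)⁻¹ by group, hA, hB, hmv, hmv, hab',
        show l + 2 * u + u = u + (l + 2 * u) by ring]
      group
    exact congrArg Subtype.val h1
  obtain ⟨vec₀, V₀, hπ₀, hA₀, hB₀⟩ := J.exists_frame A.2 B.2 (congrArg Subtype.val hA3)
    (congrArg Subtype.val hB3) hAB
  change Acts z vec₀ π gW0 at hπ₀
  change Acts z vec₀ (A : G) gA at hA₀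
  change Acts z vec₀ (B : G) gB at hB₀
  have hz : ∀ x : ↥(CZ z π), (x : G) * z = z * x := fun x => (mem_CZ.1 x.2).1
  obtain ⟨BI, hBI⟩ := V₀.exists_acts J (hz I₀)
  have hAAB : Acts z vec₀ (((A * A * B : ↥(CZ z π))) : G) (comp (comp gA gA) gB) :=
    V₀.acts_mul J (V₀.acts_mul J hA₀ (hz A) hA₀ (okB_comp hA₀.1 hA₀.1)) (hz (A * A)) hB₀
      (okB_comp (okB_comp hA₀.1 hA₀.1) hB₀.1)
  obtain ⟨X, hX, hIX⟩ := J.base_form V₀ hπ₀ (M0 := m0I) (M0i := m0Iinv) I₀.2 hBI hA₀ hB₀ hAAB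
    (V₀.acts_mul J hA₀ (hz A) hB₀ (okB_comp hA₀.1 hB₀.1) : Acts z vec₀ ((A * B : ↥(CZ z π)) : G) _)
    (hz A) (hz B) (hz (A * A * B)) (hz (A * B))
    (congrArg Subtype.val (mul_inv_eq_iff_eq_mul.1 hcA))
    (congrArg Subtype.val (mul_inv_eq_iff_eq_mul.1 hcB)) hb1 (by decide) (by decide) hb4 hb5 (by decide)
  have h2222 : isScal [comp m0I (blk X X X)] [0, 0, 0, 0] = true :=
    J.isScal_rel V₀ hπ₀ (c := fun _ => I₀) (g := fun _ => g 2) (fun _ _ => hI)
      (fun k hk => by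
        simp only [List.mem_cons, List.not_mem_nil, or_false, or_self] at hk
        subst hk; exact hIX) (by simpa [mul_assoc] using hR3)
  have hs := search_I
  simp only [List.all_eq_true, Bool.or_eq_true, List.any_eq_true, Bool.not_eq_true'] at hs
  obtain ⟨t, ht, C, hC, htC⟩ := (hs X hX).resolve_left (by rw [h2222]; simp)
  have hw := wit_ok
  simp only [List.all_eq_true, Bool.and_eq_true, beq_iff_eq] at hw
  obtain ⟨⟨⟨⟨⟨⟨hS, hSi⟩, hS1⟩, hS2⟩, hSA⟩, hSB⟩, hSW⟩ := hw.1 t ht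
  obtain ⟨V₁, hr₁⟩ := J.rebase_all V₀ hS hSi hS1 hS2
  set vec₁ := fun n => vec₀ (ap (blk t.2.1 t.2.1 t.2.1) n)
  have hπ₁ : Acts z vec₁ π gW0 := hr₁ _ _ _ hπ₀ hSW
  have hA₁ : Acts z vec₁ (A : G) gA := hr₁ _ _ _ hA₀ hSA
  have hB₁ : Acts z vec₁ (B : G) gB := hr₁ _ _ _ hB₀ hSB
  obtain ⟨I₁, hI₁e, hI₁p⟩ := Ctx.mul_pi (J := J) (c := I₀) t.1
  have hI₁ : Acts z vec₁ (I₁ : G) C := by
    rw [hI₁e]
    exact hr₁ _ _ _ (J.acts_pow V₀ hπ₀ hIX t.1) (by simpa using htC)
  -- the fifth generator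
  obtain ⟨Y, hY, hY2⟩ := J.exists_lift_sq (m := g 4) (by
    have := hrel 2 (by norm_num); simpa [relList] using this)
  have hY2' := J.sq_eq_one T.small hY2
  have hYinv : Y⁻¹ = Y := inv_eq_of_mul_eq_one_right (Subtype.ext hY2')
  obtain ⟨BY, hBY⟩ := V₁.exists_acts J (hz Y)
  obtain ⟨t', ht', hYa⟩ := J.eq_pow_of_proj (hord3 hA3 Y) hA3 (by
    have h := hrel 10 (by norm_num)
    simp [relList] at h
    rw [hYinv, map_mul, map_mul, hY, hPA]
    calc g 4 * g 0 * g 4 = g 4 * g 0 * g 4 * (g 0 * (g 0 * g 0)) := by rw [hR0, mul_one]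
      _ = g 4 * (g 0 * (g 4 * (g 0 * g 0))) * g 0 := by
        rw [show g 0 * (g 0 * g 0) = g 0 * g 0 * g 0 by group]; group
      _ = g 0 := by rw [h, one_mul])
  have ht0 : π ^ t' = 1 := by
    rw [hYinv] at hYa
    simp only [Subgroup.coe_mul] at hYa
    have hpy : Commute (Y : G) (π ^ t') := (show Commute (Y : G) π from (mem_CZ.1 Y.2).2).pow_right t'
    have h2 : (A : G) = (A : G) * (π ^ t' * π ^ t') := by
      calc (A : G) = (Y : G) * Y * A * ((Y : G) * Y) := by rw [hY2', one_mul, mul_one]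
        _ = (Y : G) * ((Y : G) * A * Y) * Y := by group
        _ = (Y : G) * A * (π ^ t' * Y) := by rw [hYa]; group
        _ = ((Y : G) * A * Y) * π ^ t' := by rw [← hpy.eq]; group
        _ = _ := by rw [hYa, mul_assoc]
    have h4 : π ^ t' * π ^ t' = 1 := mul_eq_left.1 h2.symm
    have h3 : (π ^ t') ^ 3 = 1 := by
      rw [← pow_mul, mul_comm, pow_mul, pow_succ, pow_two, J.pi3, one_pow]
    rwa [pow_succ, pow_two, h4, one_mul] at h3
  have hYA : (Y : G) * A = (A : G) * Y := by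
    rw [ht0, mul_one] at hYa
    simp only [Subgroup.coe_mul, InvMemClass.coe_inv] at hYa
    exact mul_inv_eq_iff_eq_mul.1 hYa
  have hYgA : ∀ n < 4096, ap BY (ap gA n) = ap gA (ap BY n) := fun n hn => by
    have pp := V₁.acts_mul J hBY (hz Y) hA₁ (okB_comp hBY.1 hA₁.1)
    have qq := V₁.acts_mul J hA₁ (hz A) hBY (okB_comp hA₁.1 hBY.1)
    rw [← hYA] at qq
    rw [← ap_comp, ← ap_comp]
    exact V₁.acts_eq J pp qq n hn
  obtain ⟨X', hX', Y', hY'', W', hW', hblk, -⟩ :=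
    block_form hBY.1 hYgA (J.comm_om V₁ hπ₁ hBY Y.2)
  have hYB : Acts z vec₁ (Y : G) (blk X' Y' W') := Coords.acts_congr hBY (by
    simp only [allX, List.mem_flatMap, List.mem_map, List.mem_range] at hX' hY'' hW'
    obtain ⟨x1, hx1, x2, hx2, rfl⟩ := hX'
    obtain ⟨y1, hy1, y2, hy2, rfl⟩ := hY''
    obtain ⟨w1, hw1, w2, hw2, rfl⟩ := hW'
    have h4 : ∀ r < 16, ap w4 r < 16 := by decide
    have := h4 _ hx1; have := h4 _ hx2; have := h4 _ hy1; have := h4 _ hy2; have := h4 _ hw1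
    have := h4 _ hw2
    simp [okB, blk]
    omega) hblk
  have hYY : ∀ n < 4096, ap BY (ap BY n) = n := fun n hn => by
    have hp := V₁.acts_mul J hBY (hz Y) hBY (okB_comp hBY.1 hBY.1)
    rw [hY2'] at hp
    rw [← ap_comp, V₁.acts_eq J hp (V₁.acts_one J) n hn, ap_idB hn]
  have hinv : X' ∈ invX ∧ Y' ∈ invX ∧ W' ∈ invX := by
    simp only [allX, List.mem_flatMap, List.mem_map, List.mem_range] at hX' hY'' hW'
    obtain ⟨x1, hx1, x2, hx2, rfl⟩ := hX'
    obtain ⟨y1, hy1, y2, hy2, rfl⟩ := hY''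
    obtain ⟨w1, hw1, w2, hw2, rfl⟩ := hW'
    have hap : ∀ r < 16, ∀ X Y W : List ℕ, X.length = 4 → Y.length = 4 → W.length = 4 →
        ap (blk X Y W) r = ap X r ∧ ap (blk X Y W) (r * 16) = ap (Y.map (· * 16)) r ∧
        ap (blk X Y W) (r * 256) = ap (W.map (· * 256)) r := by
      intro r hr X Y W hX hY hW
      match X, hX, Y, hY, W, hW with
      | [a, b, c, d], _, [e, f, g', h], _, [i, j, k, m], _ =>
        interval_cases r <;> simp [blk, ap]
    have hsh : ∀ x < 16, ∀ y < 16, ∀ r < 16,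
        ap ([x, ap w4 x, y, ap w4 y].map (· * 16)) r = ap [x, ap w4 x, y, ap w4 y] r * 16 ∧
        ap ([x, ap w4 x, y, ap w4 y].map (· * 256)) r = ap [x, ap w4 x, y, ap w4 y] r * 256 := by
      intro x hx y hy r hr
      have key : ∀ (s : ℕ) (L : List ℕ) (r : ℕ), ap (L.map (· * 2 ^ s)) r = ap L r * 2 ^ s := by
        intro s L
        induction L with
        | nil => intro r; simp [ap]
        | cons a L ih =>
          intro r
          simp only [List.map_cons, ap, ih]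
          cases (r % 2 == 1)
          · rfl
          · show (a * 2 ^ s) ^^^ (ap L (r / 2) * 2 ^ s) = (a ^^^ ap L (r / 2)) * 2 ^ s
            simp only [← Nat.shiftLeft_eq, Nat.shiftLeft_xor_distrib]
      exact ⟨key 4 _ r, key 8 _ r⟩
    have hlt4 : ∀ x < 16, ∀ y < 16, ∀ r < 16, ap [x, ap w4 x, y, ap w4 y] r < 16 := by
      intro x hx y hy r hr
      have h4 : ∀ r < 16, ap w4 r < 16 := by decide
      have hmem : ∀ c ∈ [x, ap w4 x, y, ap w4 y], c < 2 ^ 4 := by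
        simp only [List.mem_cons, List.not_mem_nil, or_false]
        rintro c (rfl | rfl | rfl | rfl)
        exacts [hx, h4 x hx, hy, h4 y hy]
      have key : ∀ (L : List ℕ) (r : ℕ), (∀ c ∈ L, c < 2 ^ 4) → ap L r < 2 ^ 4 := by
        intro L
        induction L with
        | nil => intro r _; simp [ap]
        | cons a L ih =>
          intro r h
          have ih' := ih (r / 2) fun c hc => h c (List.mem_cons_of_mem _ hc)
          simp only [ap]
          cases (r % 2 == 1)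
          · exact ih'
          · exact Nat.xor_lt_two_pow (h a List.mem_cons_self) ih'
      exact key _ r hmem
    have hB : ∀ n < 4096, ap (blk [x1, ap w4 x1, x2, ap w4 x2] [y1, ap w4 y1, y2, ap w4 y2]
        [w1, ap w4 w1, w2, ap w4 w2]) n = ap BY n := fun n hn => (hblk n hn).symm
    simp only [invX, List.mem_filter, beq_iff_eq]
    refine ⟨⟨mem_allX hx1 hx2, ?_⟩, ⟨mem_allX hy1 hy2, ?_⟩, ⟨mem_allX hw1 hw2, ?_⟩⟩
    · have e : ∀ r < 16, ap [x1, ap w4 x1, x2, ap w4 x2] (ap [x1, ap w4 x1, x2, ap w4 x2] r) = r := fun r hr => by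
        have l1 := hlt4 _ hx1 _ hx2 r hr
        have := hYY r (by omega)
        rw [← hB r (by omega), (hap r hr _ _ _ rfl rfl rfl).1, ← hB _ (by omega), (hap _ l1 _ _ _ rfl rfl rfl).1] at this
        exact this
      exact comp_self e
    · have e : ∀ r < 16, ap [y1, ap w4 y1, y2, ap w4 y2] (ap [y1, ap w4 y1, y2, ap w4 y2] r) = r := fun r hr => by
        have l1 := hlt4 _ hy1 _ hy2 r hr
        have := hYY (r * 16) (by omega)
        rw [← hB (r * 16) (by omega), (hap r hr _ _ _ rfl rfl rfl).2.1, (hsh _ hy1 _ hy2 r hr).1,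
          ← hB _ (by omega), (hap _ l1 _ _ _ rfl rfl rfl).2.1, (hsh _ hy1 _ hy2 _ l1).1] at this
        omega
      exact comp_self e
    · have e : ∀ r < 16, ap [w1, ap w4 w1, w2, ap w4 w2] (ap [w1, ap w4 w1, w2, ap w4 w2] r) = r := fun r hr => by
        have l1 := hlt4 _ hw1 _ hw2 r hr
        have := hYY (r * 256) (by omega)
        rw [← hB (r * 256) (by omega), (hap r hr _ _ _ rfl rfl rfl).2.2, (hsh _ hw1 _ hw2 r hr).2,
          ← hB _ (by omega), (hap _ l1 _ _ _ rfl rfl rfl).2.2, (hsh _ hw1 _ hw2 _ l1).2] at this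
        omega
      exact comp_self e
  have hrelmem : ∀ (i : ℕ), i < 15 → ∀ k ∈ relList.getD i [], k ∈ [0, 1, 2, 3, 4] := by decide
  have hno3 : ∀ i ∈ [11, 12], 3 ∉ relList.getD i [] := by decide
  have hscY : ∀ i, i ∈ [11, 12] → isScal [gA, gB, C, idB, blk X' Y' W'] (relList.getD i []) = true := by
    intro i hi
    have hi15 : i < 15 := by simp at hi; omega
    refine J.isScal_rel V₁ hπ₁ (g := g)
      (c := fun k => if k = 0 then A else if k = 1 then B else if k = 2 then I₁ else Y) ?_ ?_ (hrel i hi15)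
    all_goals
      intro k hk
      have hne : k ≠ 3 := fun e => hno3 i hi (e ▸ hk)
      rcases getD_cases (ms := [gA, gB, C, idB, blk X' Y' W']) k (hrelmem i hi15 k hk) with
        ⟨-, rfl⟩ | ⟨-, rfl⟩ | ⟨-, rfl⟩ | ⟨-, rfl⟩ | ⟨-, rfl⟩
    all_goals first
      | exact hPA
      | exact hPB
      | exact hY
      | exact hI₁p.trans hI
      | exact absurd rfl hne
      | exact hA₁
      | exact hB₁
      | exact hI₁
      | exact hYB
  have hy := search_Y
  simp only [List.all_eq_true, Bool.or_eq_true, Bool.not_eq_true', Bool.and_eq_true, beq_iff_eq,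
    List.any_eq_true] at hy
  obtain ⟨hCe, t₂, ht₂, hCc, hYc⟩ := (hy C hC X' hinv.1 Y' hinv.2.1 W' hinv.2.2).resolve_left (by
    rw [hscY 11 (by simp), hscY 12 (by simp)]; simp)
  obtain ⟨⟨⟨⟨⟨⟨hS', hSi'⟩, hS1'⟩, hS2'⟩, hSA'⟩, hSB'⟩, hSW'⟩ := hw.2 t₂ ht₂
  obtain ⟨V₂, hr₂⟩ := J.rebase_all V₁ hS' hSi' hS1' hS2'
  set vec₂ := fun n => vec₁ (ap (blk t₂.1 t₂.1 t₂.1) n)
  have hπ₂ : Acts z vec₂ π gW0 := hr₂ _ _ _ hπ₁ hSW'
  have hA₂ : Acts z vec₂ (A : G) gA := hr₂ _ _ _ hA₁ hSA'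
  have hB₂ : Acts z vec₂ (B : G) gB := hr₂ _ _ _ hB₁ hSB'
  have hI₂ : Acts z vec₂ (I₁ : G) (MS.getD 2 []) := hr₂ _ _ _ hI₁ hCc
  have hY₂ : Acts z vec₂ (Y : G) (MS.getD 4 []) := hr₂ _ _ _ hYB hYc
  -- the fourth generator
  obtain ⟨J₀, hJ⟩ := J.proj_surj (g 3)
  have hR8 := hrel 8 (by norm_num)
  have hR9 := hrel 9 (by norm_num)
  have hR4 := hrel 4 (by norm_num)
  simp [relList] at hR8 hR9 hR4
  have hBB3 : B * B * (B * B) * (B * B) = 1 := by
    rw [show B * B * (B * B) * (B * B) = (B * B * B) * (B * B * B) by group, hB3, one_mul]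
  have hJi : (g 3)⁻¹ = g 3 * (g 3 * g 3) := inv_eq_of_mul_eq_one_right (by simpa [mul_assoc] using hR4)
  obtain ⟨l', hl', hJa⟩ := J.eq_pow_of_proj (hord3 hA3 J₀) hBB3 (by
    rw [map_mul, map_mul, map_inv, map_mul, hJ, hPA, hPB, hJi]
    calc g 3 * g 0 * (g 3 * (g 3 * g 3)) = g 3 * g 0 * (g 3 * (g 3 * g 3)) * (g 1 * (g 1 * g 1)) := by
          rw [hR1, mul_one]
      _ = g 3 * (g 0 * (g 3 * (g 3 * (g 3 * g 1)))) * (g 1 * g 1) := by group
      _ = g 1 * g 1 := by rw [hR8, one_mul])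
  obtain ⟨u', hu', hJb⟩ := J.eq_pow_of_proj (hord3 hB3 J₀) hA3 (by
    rw [map_mul, map_mul, map_inv, hJ, hPA, hPB, hJi]
    calc g 3 * g 1 * (g 3 * (g 3 * g 3)) = g 3 * g 1 * (g 3 * (g 3 * g 3)) * (g 0 * (g 0 * g 0)) := by
          rw [hR0, mul_one]
      _ = g 3 * (g 1 * (g 3 * (g 3 * (g 3 * (g 0 * g 0))))) * g 0 := by
          rw [show g 0 * (g 0 * g 0) = g 0 * g 0 * g 0 by group]; group
      _ = g 0 := by rw [hR9, one_mul])
  simp only [List.all_eq_true, List.mem_range, List.any_eq_true, Bool.and_eq_true, beq_iff_eq] at hJall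
  obtain ⟨q, hq, ⟨⟨⟨⟨⟨-, hM⟩, hM0⟩, hM0i⟩, e1⟩, e2⟩⟩ := hJall l' hl' u' hu'
  obtain ⟨BJ, hBJ⟩ := V₂.exists_acts J (hz J₀)
  have hpow : ∀ (x : G) (k : ℕ), x ∈ CZ z π → x * π ^ k = π ^ k * x := fun x k hx =>
    ((show Commute x π from (mem_CZ.1 hx).2).pow_right k).eq
  have hpz : ∀ (x : G) (k : ℕ), x ∈ CZ z π → (π ^ k * x) * z = z * (π ^ k * x) := fun x k hx => by
    rw [mul_assoc, (mem_CZ.1 hx).1, ← mul_assoc, ((show Commute π z from J.piz).pow_left k).eq, mul_assoc]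
  have heW : comp q.2.2 gW0 = comp gW0 q.2.2 := by
    have : (m0J.all fun t => comp t.2.2 gW0 == comp gW0 t.2.2) = true := by decide +kernel
    simp only [List.all_eq_true, beq_iff_eq] at this
    exact this q hq
  simp only [Subgroup.coe_mul, InvMemClass.coe_inv] at hJa hJb
  obtain ⟨X₃, hX₃, hJX⟩ := J.base_form V₂ hπ₂ (M0 := q.2.1) (M0i := q.2.2) J₀.2 hBJ hA₂ hB₂
    (J.acts_pow V₂ hπ₂ (V₂.acts_mul J hB₂ (hz B) hB₂ (okB_comp hB₂.1 hB₂.1)) l')
    (J.acts_pow V₂ hπ₂ hA₂ u') (hz A) (hz B) (hpz _ _ (mul_mem B.2 B.2)) (hpz _ _ A.2)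
    (by rw [← hpow _ l' (mul_mem B.2 B.2)]; exact mul_inv_eq_iff_eq_mul.1 hJa)
    (by rw [← hpow _ u' A.2]; exact mul_inv_eq_iff_eq_mul.1 hJb) hM hM0 hM0i e1 e2 heW
  have hscJ : ∀ i, i ∈ [13, 14] → isScal [gA, gB, MS.getD 2 [], comp q.2.1 (blk X₃ X₃ X₃), MS.getD 4 []]
      (relList.getD i []) = true := by
    intro i hi
    have hi15 : i < 15 := by simp at hi; omega
    refine J.isScal_rel V₂ hπ₂ (g := g)
      (c := fun k => if k = 0 then A else if k = 1 then B else if k = 2 then I₁ else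
        if k = 3 then J₀ else Y) ?_ ?_ (hrel i hi15)
    all_goals
      intro k hk
      rcases getD_cases (ms := [gA, gB, MS.getD 2 [], comp q.2.1 (blk X₃ X₃ X₃), MS.getD 4 []]) k
        (hrelmem i hi15 k hk) with ⟨-, rfl⟩ | ⟨-, rfl⟩ | ⟨-, rfl⟩ | ⟨-, rfl⟩ | ⟨-, rfl⟩
    all_goals first
      | exact hPA
      | exact hPB
      | exact hY
      | exact hI₁p.trans hI
      | exact hJ
      | exact hA₂
      | exact hB₂
      | exact hI₂
      | exact hJX
      | exact hY₂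
  have hj := search_J
  simp only [List.all_eq_true, Bool.or_eq_true, Bool.not_eq_true', Bool.and_eq_true, beq_iff_eq,
    List.any_eq_true] at hj
  obtain ⟨k, -, hk⟩ := (hj q hq X₃ hX₃).resolve_left (by
    rw [hscJ 13 (by simp), hscJ 14 (by simp)]; simp)
  obtain ⟨J₁, hJ₁e, hJ₁p⟩ := Ctx.mul_pi (J := J) (c := J₀) k
  refine ⟨vec₂, V₂, hπ₂, fun i hi => ?_⟩
  interval_cases i
  · exact ⟨A, hPA, hA₂⟩
  · exact ⟨B, hPB, hB₂⟩
  · exact ⟨I₁, hI₁p.trans hI, hI₂⟩
  · refine ⟨J₁, hJ₁p.trans hJ, ?_⟩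
    rw [hJ₁e, show MS.getD 3 idB = MS.getD 3 [] from rfl, ← hk]
    exact J.acts_pow V₂ hπ₂ hJX k
  · exact ⟨Y, hY, hY₂⟩

/-- The model exists for `π` or its inverse. -/
theorem Ctx.exists_model (J : Ctx M z π E) {g : ℕ → M} (T : Gens M g) :
    ∃ p : G, (p = π ∨ p = π⁻¹) ∧ ∃ (Jp : Ctx M z p E) (θ : M ≃* M) (vec : ℕ → G),
      Jp.Model (fun k => θ (g k)) vec := by
  obtain ⟨h0, h1, h2, h3⟩ := T.indep
  have hR : ∀ w ∈ relList, (w.map g).prod = 1 := T.rels
  have e0 := hR [0, 0, 0] (by simp [relList])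
  have e1 := hR [1, 1, 1] (by simp [relList])
  have e5 := hR [0, 1, 0, 0, 1, 1] (by simp [relList])
  simp at e0 e1 e5
  have hst : g 0 * g 1 = g 1 * g 0 := by
    calc g 0 * g 1 = g 0 * g 1 * (g 0 * (g 0 * g 0)) := by rw [e0, mul_one]
      _ = g 0 * g 1 * g 0 * g 0 * (g 1 * (g 1 * g 1)) * g 0 := by rw [e1, mul_one]; group
      _ = g 0 * (g 1 * (g 0 * (g 0 * (g 1 * g 1)))) * (g 1 * g 0) := by group
      _ = g 1 * g 0 := by rw [e5, one_mul]
  obtain ⟨a, b, ha, hb, ha3, hb3, hc | hc⟩ := J.exists_pair T.small (s := g 0) (t := g 1)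
    (by rw [mul_assoc]; exact e0) h0 (by rw [mul_assoc]; exact e1) h1 hst h2 h3
  · obtain ⟨vec, hv⟩ := J.exists_model_aux T ha hb ha3 hb3 hc
    exact ⟨π, Or.inl rfl, J, MulEquiv.refl M, vec, hv⟩
  · obtain ⟨θ, hθ⟩ := J.flip_proj
    let i : ↥(CZ z π) →* ↥(CZ z π⁻¹) := Subgroup.inclusion (CZ_inv z π).ge
    have hi : ∀ c, J.flip.proj (i c) = θ (J.proj c) := hθ
    obtain ⟨vec, hv⟩ := J.flip.exists_model_aux (T.map θ) (a := i a) (b := i b)
      (by rw [hi, ha]) (by rw [hi, hb]) (by rw [← map_mul, ← map_mul, ha3, map_one])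
      (by rw [← map_mul, ← map_mul, hb3, map_one]) hc
    exact ⟨π⁻¹, Or.inr rfl, J.flip, θ, vec, hv⟩

end CfsgLib.JFour
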