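import Cfsg.Agent.Lib.JFour.Invol
import Cfsg.Agent.Lib.JFour.PairStab

/-!
# The centralizer of an involution of the second class
-/

set_option autoImplicit false
set_option maxRecDepth 100000
set_option linter.style.haveILetI false
set_option linter.unusedSectionVars false

open Cfsg

namespace CfsgLib.JFour

open CfsgLib.LargeFischer (dp dp_lt exists_dp dp_inj pairMask)

namespace Ctx.Std

variable {G : Type*} [Group G] [Finite G] {M : Type*} [Group M] [Finite M] {z π : G} {E : Subgroup G}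
variable {J : Ctx M z π E} {g : ℕ → M} {vec : ℕ → G} {V : Subgroup G} (D : J.Std g vec V)
include D

/-- The centralizer of a member of the small class splits. -/
theorem second_split {d : G} (hd : IsD z V d) :
    ∃ K : Subgroup G, V ≤ Subgroup.centralizer ({d} : Set G) ∧ K ≤ Subgroup.centralizer ({d} : Set G) ∧
      Subgroup.centralizer ({d} : Set G) ≤ Subgroup.normalizer (V : Set G) ∧
      K ⊓ V = ⊥ ∧ K ⊔ V = Subgroup.centralizer ({d} : Set G) ∧ Nonempty (↥K ≃* MulAut ↥Cfsg.Spor.M22) := by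
  classical
  obtain ⟨φ, hker, hsurj, hφ⟩ := D.exists_hom
  obtain ⟨K, hKN, hKV, hKs, -⟩ := D.exists_complement
  set C := Subgroup.centralizer ({d} : Set G) with hC
  have hVC : V ≤ C := fun v hv => Subgroup.mem_centralizer_singleton_iff.2 (D.isV.comm v hv d hd.1)
  have hCN : C ≤ Subgroup.normalizer (V : Set G) := fun x hx =>
    D.cent_le_normalizer hd (Subgroup.mem_centralizer_singleton_iff.1 hx)
  have hmul : ∀ x ∈ Subgroup.normalizer (V : Set G), ∃ v ∈ V, ∃ k ∈ K, v * k = x := by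
    intro x hx
    rw [← hKs, sup_comm, ← SetLike.mem_coe, Subgroup.coe_mul_of_right_le_normalizer_left V K hKN] at hx
    obtain ⟨v, hv, k, hk, e⟩ := hx
    exact ⟨v, hv, k, hk, e⟩
  refine ⟨K ⊓ C, hVC, inf_le_right, hCN, ?_, ?_, ?_⟩
  · exact eq_bot_iff.2 ((inf_le_inf_right V inf_le_left).trans hKV.le)
  · refine le_antisymm (sup_le inf_le_right hVC) fun x hx => ?_
    obtain ⟨v, hv, k, hk, e⟩ := hmul x (hCN hx)
    rw [← e]
    refine mul_mem (Subgroup.mem_sup_right hv) (Subgroup.mem_sup_left ⟨hk, ?_⟩)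
    rw [show k = v⁻¹ * x by rw [← e]; group]
    exact C.mul_mem (C.inv_mem (hVC hv)) hx
  obtain ⟨n, hn, hne⟩ := D.ev_surj hd.1
  have hmask := (D.isD_pairs hn).1 (hne.symm ▸ hd)
  obtain ⟨p, q, hpq, hdp⟩ := exists_dp (toT_lt n) hmask
  have hd' : d = ev J g vec (ap ofT (dp p q)) := by rw [← hdp, (toT_inv hn).1, hne]
  obtain ⟨e⟩ := pairStab_equiv hpq
  let ι : ↥(K ⊓ C) →* ↥(Subgroup.normalizer (V : Set G)) := Subgroup.inclusion (inf_le_left.trans hKN)
  have hiff : ∀ m : ↥(Subgroup.normalizer (V : Set G)), (m : G) ∈ C ↔ φ m ∈ pairStab p q := by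
    intro m
    have h := hφ m p q
    rw [← hd'] at h
    rw [hC, Subgroup.mem_centralizer_singleton_iff]
    constructor
    · intro hm
      rw [hm, mul_inv_cancel_right, hd'] at h
      have h2 := congrArg (ap toT) (D.ev_inj (ofT_lt _) (ofT_lt _) h)
      rw [(toT_inv (dp_lt _ _)).2, (toT_inv (dp_lt _ _)).2] at h2
      rcases dp_inj hpq h2 with ⟨e1, e2⟩ | ⟨e1, e2⟩
      · exact Or.inl ⟨e1.symm, e2.symm⟩
      · exact Or.inr ⟨e2.symm, e1.symm⟩
    · intro hm
      have h2 : dp ((φ m : Equiv.Perm GolayPt) p) ((φ m : Equiv.Perm GolayPt) q) = dp p q := by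
        rcases hm with ⟨e1, e2⟩ | ⟨e1, e2⟩ <;> rw [e1, e2]
        exact CfsgLib.LargeFischer.dp_comm _ _
      rw [h2, ← hd'] at h
      exact mul_inv_eq_iff_eq_mul.1 h
  let f : ↥(K ⊓ C) →* ↥(pairStab p q) := (φ.comp ι).codRestrict _ fun x => (hiff _).1 x.2.2
  refine ⟨(MulEquiv.ofBijective f ⟨?_, ?_⟩).trans e⟩
  · rw [injective_iff_map_eq_one]
    intro x hx
    have h1 : ι x ∈ φ.ker := congrArg Subtype.val hx
    rw [hker] at h1
    have : (x : G) ∈ K ⊓ V := ⟨x.2.1, h1⟩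
    rw [hKV, Subgroup.mem_bot] at this
    exact Subtype.ext this
  · rintro ⟨σ, hσ⟩
    obtain ⟨m, rfl⟩ := hsurj σ
    obtain ⟨v, hv, k, hk, hvk⟩ := hmul m m.2
    have hmC := (hiff m).2 hσ
    have hkC : k ∈ C := by
      rw [show k = v⁻¹ * (m : G) by rw [← hvk]; group]
      exact C.mul_mem (C.inv_mem (hVC hv)) hmC
    refine ⟨⟨k, hk, hkC⟩, Subtype.ext ?_⟩
    show φ ⟨k, _⟩ = φ m
    have hm : m = ⟨v, Subgroup.le_normalizer hv⟩ * ⟨k, hKN hk⟩ := Subtype.ext hvk.symm
    have hv' : φ ⟨v, Subgroup.le_normalizer hv⟩ = 1 := by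
      have : (⟨v, Subgroup.le_normalizer hv⟩ : ↥(Subgroup.normalizer (V : Set G))) ∈ φ.ker := by
        rw [hker]; exact hv
      exact this
    rw [hm, map_mul, hv', one_mul]

end Ctx.Std

/-- The centralizer of an involution not conjugate to `z`. -/
theorem second_cent {G : Type*} [Group G] [Finite G] [IsSimpleGroup G] (hG : ¬ IsMulCommutative G) {z : G}
    (hJ : IsOfJankoFourTypeAt z) {t : G} (ht : orderOf t = 2) (hnc : ¬ IsConj z t) :
    ∃ V K : Subgroup G, V ≤ Subgroup.centralizer ({t} : Set G) ∧ K ≤ Subgroup.centralizer ({t} : Set G) ∧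
    Subgroup.centralizer ({t} : Set G) ≤ Subgroup.normalizer (V : Set G) ∧ Cfsg.IsElementaryAbelian 2 V ∧
    Nat.card ↥V = 2 ^ 11 ∧ K ⊓ V = ⊥ ∧ K ⊔ V = Subgroup.centralizer ({t} : Set G) ∧
    Nonempty (↥K ≃* MulAut ↥Cfsg.Spor.M22) := by
  obtain ⟨P, hP⟩ := hJ
  obtain ⟨π, -, J, g, vec, S⟩ := exists_full hG hP
  obtain ⟨V, hV⟩ := S.exists_isV
  have D : J.Std g vec V := ⟨S, hV, unique11_of_type (G := G) ⟨z, P, hP⟩⟩
  have ht2 : t * t = 1 := by rw [← pow_two, ← ht, pow_orderOf_eq_one]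
  have ht1 : t ≠ 1 := fun e => by rw [e, orderOf_one] at ht; norm_num at ht
  obtain ⟨d, hd, htd⟩ := (D.invol_cases ht2 ht1).resolve_left hnc
  obtain ⟨c, hc⟩ := isConj_iff.1 htd.symm
  subst hc
  obtain ⟨K, h1, h2, h3, h4, h5, ⟨e⟩⟩ := D.second_split hd
  set f := (MulAut.conj c).toMonoidHom with hfdef
  have hf : Function.Injective f := (MulAut.conj c).injective
  have hC : Subgroup.centralizer ({c * d * c⁻¹} : Set G) = (Subgroup.centralizer ({d} : Set G)).map f := by
    ext x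
    rw [hfdef, mem_conj_map, Subgroup.mem_centralizer_singleton_iff, Subgroup.mem_centralizer_singleton_iff]
    constructor
    · intro h
      calc c⁻¹ * x * c * d = c⁻¹ * (x * (c * d * c⁻¹)) * c := by group
        _ = _ := by rw [h]; group
    · intro h
      calc x * (c * d * c⁻¹) = c * (c⁻¹ * x * c * d) * c⁻¹ := by group
        _ = _ := by rw [h]; group
  refine ⟨V.map f, K.map f, hC ▸ Subgroup.map_mono h1, hC ▸ Subgroup.map_mono h2, fun x hx => ?_, ?_, ?_, ?_, ?_,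
    ⟨(K.equivMapOfInjective f hf).symm.trans e⟩⟩
  · rw [hC, hfdef, mem_conj_map] at hx
    rw [hfdef, normalizer_conj_map]
    exact h3 hx
  · refine elementary_of_sq ?_
    rintro _ ⟨v, hv, rfl⟩
    rw [← map_mul, D.isV.sq v hv, map_one]
  · rw [Subgroup.card_map_of_injective hf, D.isV.card]
  · rw [← Subgroup.map_inf _ _ f hf, h4, Subgroup.map_bot]
  · rw [← Subgroup.map_sup, h5, hC]

end CfsgLib.JFour
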