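import Cfsg.Agent.Lib.JFour.FromDef

/-!
# The six-fold cover in the centralizer
-/

set_option autoImplicit false
set_option maxRecDepth 100000
set_option linter.style.haveILetI false
set_option linter.unusedSectionVars false

open Cfsg
open scoped commutatorElement

namespace CfsgLib.JFour

variable {G : Type*} [Group G] [Finite G]

/-- The centralizer of `z` and `P` is a perfect six-fold cover and `N(P) ≤ C(z)`. -/
theorem six_cover [IsSimpleGroup G] (hG : ¬ IsMulCommutative G) {z : G} {P : Subgroup G}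
    (hJ : IsOfJankoFourTypeWith z P) :
    ⁅(Subgroup.centralizer ({z} : Set G) ⊓ Subgroup.centralizer (P : Set G)), (Subgroup.centralizer ({z} : Set G) ⊓ Subgroup.centralizer (P : Set G))⁆ = (Subgroup.centralizer ({z} : Set G) ⊓ Subgroup.centralizer (P : Set G)) ∧
    IsCyclic ↥(Subgroup.center ↥(Subgroup.centralizer ({z} : Set G) ⊓ Subgroup.centralizer (P : Set G))) ∧ Nat.card ↥(Subgroup.center ↥(Subgroup.centralizer ({z} : Set G) ⊓ Subgroup.centralizer (P : Set G))) = 6 ∧
    Cfsg.Spor.IsoM22 (↥(Subgroup.centralizer ({z} : Set G) ⊓ Subgroup.centralizer (P : Set G)) ⧸ Subgroup.center ↥(Subgroup.centralizer ({z} : Set G) ⊓ Subgroup.centralizer (P : Set G))) ∧ Subgroup.normalizer (P : Set G) ≤ Subgroup.centralizer ({z} : Set G) := by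
  classical
  obtain ⟨π, hP, J, g, vec, Mo, T, hdim, -, hzD, hC⟩ := exists_setup hG hJ
  have F := T.gens.small
  have heq : Subgroup.centralizer ({z} : Set G) ⊓ Subgroup.centralizer (P : Set G) = CZ z π := by
    rw [hP, Subgroup.zpowers_eq_closure, Subgroup.centralizer_closure]; rfl
  rw [heq]
  have hker := J.center_eq F
  have hk6 : Nat.card J.proj.ker = 6 := by
    have h := J.proj.ker.card_mul_index
    rw [Subgroup.index_ker, MonoidHom.range_eq_top.2 J.proj_surj, Subgroup.card_top, J.card_CZ F.card,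
      F.card] at h
    omega
  refine ⟨J.CZ_perfect F hzD, ?_, by rw [hker, hk6], ?_, ?_⟩
  · rw [hker]
    let c : ↥J.proj.ker := ⟨⟨z, J.z_mem_CZ⟩, J.proj_z⟩ * ⟨⟨π, J.pi_mem_CZ⟩, J.proj_pi⟩
    refine isCyclic_of_orderOf_eq_card c ?_
    rw [hk6, ← Subgroup.orderOf_coe, ← Subgroup.orderOf_coe]
    show orderOf (z * π) = 6
    rw [(show Commute z π from J.piz.symm).orderOf_mul_eq_mul_orderOf_of_coprime
      (by rw [J.s.ordz, J.orderOf_pi]; norm_num), J.s.ordz, J.orderOf_pi]
  · exact ⟨(QuotientGroup.quotientMulEquivOfEq hker).trans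
      (QuotientGroup.quotientKerEquivOfSurjective J.proj J.proj_surj)⟩
  · intro k hk
    rw [Subgroup.mem_centralizer_singleton_iff]
    refine J.normalizer_le F hC ?_
    have hπP : π ∈ P := hP ▸ Subgroup.mem_zpowers π
    have h1 : k * π * k⁻¹ ∈ P := (Subgroup.mem_normalizer_iff.1 hk π).1 hπP
    rw [hP] at h1
    obtain ⟨j, hj⟩ := (isOfFinOrder_of_finite π).mem_powers_iff_mem_zpowers.2 h1
    have hj' : π ^ (j % 3) = k * π * k⁻¹ := by rw [← hj, ← J.orderOf_pi, pow_mod_orderOf]
    have : j % 3 < 3 := Nat.mod_lt _ (by norm_num)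
    interval_cases hc : j % 3
    · exfalso
      rw [pow_zero] at hj'
      exact J.pi1 (by rw [eq_comm, mul_inv_eq_one, mul_eq_left] at hj'; exact hj')
    · exact Or.inl (by rw [← hj', pow_one])
    · exact Or.inr (by rw [← hj', pow_two, J.pi_inv])

end CfsgLib.JFour
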