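import Cfsg.Agent.Lib.JFour.TSign
import Cfsg.Agent.Lib.Golay.MathieuFacts

/-!
# The normalizer acts on the points as the Mathieu group on 24 points
-/

set_option autoImplicit false
set_option maxRecDepth 100000
set_option linter.style.haveILetI false
set_option linter.unusedSectionVars false

open Cfsg

namespace CfsgLib.JFour

open CfsgLib.LargeFischer (dp dp_lt exists_perm perm_unique eq_id_of_pairs pairMask)

/-- All columns are below 2048. -/
def okL (L : List ℕ) : Bool := L.length == 11 && L.all fun c => Nat.blt c 2048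

/-- The columns preserve the pairs. -/
def keepsPairs (L : List ℕ) : Bool :=
  (List.range 2048).all fun n => pairMask.testBit (ap toT (ap L n)) == pairMask.testBit (ap toT n)

theorem ap_lt_two_pow {m : ℕ} : ∀ {L : List ℕ}, (∀ c ∈ L, c < 2 ^ m) → ∀ n, ap L n < 2 ^ m
  | [], _, n => by simp [ap]
  | b :: L, h, n => by
    have ih := ap_lt_two_pow (L := L) (fun c hc => h c (List.mem_cons_of_mem _ hc)) (n / 2)
    simp only [ap]
    cases (n % 2 == 1)
    · exact ih
    · exact Nat.xor_lt_two_pow (h b List.mem_cons_self) ih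

theorem okL_lt {L : List ℕ} (h : okL L = true) (n : ℕ) : ap L n < 2048 := by
  simp only [okL, Bool.and_eq_true, List.all_eq_true] at h
  exact ap_lt_two_pow (m := 11) (fun c hc => Nat.blt_eq.mp (h.2 c hc)) n

theorem toT_lt (n : ℕ) : ap toT n < 2048 :=
  okL_lt (by rw [okL, toT_ok.1, toT_ok.2.2.1]; rfl) n

theorem ofT_lt (n : ℕ) : ap ofT n < 2048 :=
  okL_lt (by rw [okL, toT_ok.2.1, toT_ok.2.2.2.1]; rfl) n

theorem toT_inv {n : ℕ} (hn : n < 2048) : ap ofT (ap toT n) = n ∧ ap toT (ap ofT n) = n := by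
  have h := List.all_eq_true.1 toT_ok.2.2.2.2 n (List.mem_range.2 hn)
  simp only [Bool.and_eq_true, Nat.beq_eq] at h
  exact h

variable {G : Type*} [Group G] [Finite G] {M : Type*} [Group M] [Finite M] {z π : G} {E : Subgroup G}

/-- Conjugation by `m` has the columns `L` in the coordinates. -/
def VActs (J : Ctx M z π E) (g : ℕ → M) (vec : ℕ → G) (m : G) (L : List ℕ) : Prop :=
  okL L = true ∧ ∀ n < 2048, m * ev J g vec n * m⁻¹ = ev J g vec (ap L n)

namespace Ctx.Std

variable {J : Ctx M z π E} {g : ℕ → M} {vec : ℕ → G} {V : Subgroup G} (D : J.Std g vec V)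
include D

theorem vacts_mem {m : G} {L : List ℕ} (h : VActs J g vec m L) : m ∈ Subgroup.normalizer (V : Set G) := by
  refine D.mem_normalizer_of_conj fun v hv => ?_
  obtain ⟨n, hn, rfl⟩ := D.ev_surj hv
  rw [h.2 n hn]
  exact D.ev_mem _

theorem vacts_mul {m m' : G} {L L' : List ℕ} (h : VActs J g vec m L) (h' : VActs J g vec m' L') :
    VActs J g vec (m * m') (comp L L') := by
  refine ⟨?_, fun n hn => ?_⟩
  · have hl := h'.1
    simp only [okL, Bool.and_eq_true, List.all_eq_true, beq_iff_eq] at hl ⊢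
    refine ⟨by rw [comp, List.length_map, hl.1], fun c hc => ?_⟩
    obtain ⟨d, -, rfl⟩ := List.mem_map.1 hc
    exact Nat.blt_eq.mpr (okL_lt h.1 d)
  · rw [ap_comp, show m * m' * ev J g vec n * (m * m')⁻¹ = m * (m' * ev J g vec n * m'⁻¹) * m⁻¹ by group,
      h'.2 n hn, h.2 _ (okL_lt h'.1 n)]

/-- Elements acting alike differ by a member. -/
theorem vacts_unique {m m' : G} {L : List ℕ} (h : VActs J g vec m L) (h' : VActs J g vec m' L) : m⁻¹ * m' ∈ V := by
  refine D.centralizer_le (Subgroup.mem_centralizer_iff.2 fun v hv => ?_)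
  obtain ⟨n, hn, rfl⟩ := D.ev_surj hv
  have e : m * ev J g vec n * m⁻¹ = m' * ev J g vec n * m'⁻¹ := (h.2 n hn).trans (h'.2 n hn).symm
  calc ev J g vec n * (m⁻¹ * m') = m⁻¹ * (m * ev J g vec n * m⁻¹) * m' := by group
    _ = m⁻¹ * (m' * ev J g vec n * m'⁻¹) * m' := by rw [e]
    _ = m⁻¹ * m' * ev J g vec n := by group

theorem vacts_one : VActs J g vec 1 id11 := by
  refine ⟨by decide, fun n hn => ?_⟩
  have : ∀ n < 2048, ap id11 n = n := by
    intro n hn
    have h := List.all_eq_true.1 (show (List.range 2048).all (fun n => Nat.beq (ap id11 n) n) = true by decide +kernel) n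
      (List.mem_range.2 hn)
    exact Nat.eq_of_beq_eq_true h
  rw [this n hn]
  group

theorem vacts_V {v : G} (hv : v ∈ V) : VActs J g vec v id11 := by
  refine ⟨by decide, fun n hn => ?_⟩
  rw [D.isV.comm v hv _ (D.ev_mem n), mul_inv_cancel_right]
  have h := D.vacts_one.2 n hn
  simpa using h

/-- The action on the points. -/
theorem exists_hom :
    ∃ φ : ↥(Subgroup.normalizer (V : Set G)) →* ↥Cfsg.M24,
      φ.ker = V.subgroupOf (Subgroup.normalizer (V : Set G)) ∧ Function.Surjective φ ∧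
        ∀ (m : ↥(Subgroup.normalizer (V : Set G))) p q, (m : G) * ev J g vec (ap ofT (dp p q)) * (m : G)⁻¹ =
          ev J g vec (ap ofT (dp ((φ m : Equiv.Perm GolayPt) p) ((φ m : Equiv.Perm GolayPt) q))) := by
  classical
  set N := Subgroup.normalizer (V : Set G)
  have hmap : ∀ m : N, ∃ L : ℕ → ℕ, (∀ k < 2048, L k < 2048 ∧
      (m : G) * ev J g vec (ap ofT k) * (m : G)⁻¹ = ev J g vec (ap ofT (L k))) ∧
      (∀ a < 2048, ∀ b < 2048, L (a ^^^ b) = L a ^^^ L b) ∧ (∀ a < 2048, ∀ b < 2048, L a = L b → a = b) ∧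
      ∀ k < 2048, pairMask.testBit k = true → pairMask.testBit (L k) = true := by
    intro m
    have hex : ∀ k, ∃ l, l < 2048 ∧ (m : G) * ev J g vec (ap ofT k) * (m : G)⁻¹ = ev J g vec (ap ofT l) := by
      intro k
      obtain ⟨n, hn, hne⟩ := D.ev_surj (D.conj_mem m.2 (D.ev_mem (ap ofT k)))
      exact ⟨ap toT n, toT_lt n, by rw [(toT_inv hn).1, hne]⟩
    choose L hL1 hL2 using hex
    have hinj : ∀ {a b : ℕ}, a < 2048 → b < 2048 → ev J g vec (ap ofT a) = ev J g vec (ap ofT b) → a = b := by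
      intro a b ha hb h
      have := congrArg (ap toT) (D.ev_inj (ofT_lt a) (ofT_lt b) h)
      rwa [(toT_inv ha).2, (toT_inv hb).2] at this
    refine ⟨L, fun k _ => ⟨hL1 k, hL2 k⟩, fun a _ b _ => ?_, fun a ha b hb h => hinj ha hb ?_, fun k hk h => ?_⟩
    · refine hinj (hL1 _) (Nat.xor_lt_two_pow (n := 11) (hL1 a) (hL1 b)) ?_
      rw [← hL2, ap_xor, D.ev_xor, ap_xor, D.ev_xor, ← hL2, ← hL2]
      group
    · have e := (hL2 a).trans ((congrArg (fun l => ev J g vec (ap ofT l)) h).trans (hL2 b).symm)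
      exact mul_left_cancel (mul_right_cancel e)
    · rw [← (toT_inv (hL1 k)).2, ← D.isD_pairs (ofT_lt _), ← hL2 k]
      refine IsD.conj D m.2 ?_
      rw [D.isD_pairs (ofT_lt k), (toT_inv hk).2]
      exact h
  have hσ : ∀ m : N, ∃ σ : ↥Cfsg.M24, ∀ p q, (m : G) * ev J g vec (ap ofT (dp p q)) * (m : G)⁻¹ =
      ev J g vec (ap ofT (dp ((σ : Equiv.Perm GolayPt) p) ((σ : Equiv.Perm GolayPt) q))) := by
    intro m
    obtain ⟨L, hL, hadd, hinj, hP⟩ := hmap m
    obtain ⟨σ, hσ, e⟩ := exists_perm L (fun n hn => (hL n hn).1) hadd hinj hP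
    exact ⟨⟨σ, hσ⟩, fun p q => by rw [(hL _ (dp_lt p q)).2, e]⟩
  choose f hf using hσ
  have huniq : ∀ {σ τ : Equiv.Perm GolayPt}, (∀ p q, ev J g vec (ap ofT (dp (σ p) (σ q))) =
      ev J g vec (ap ofT (dp (τ p) (τ q)))) → σ = τ := fun h => perm_unique fun p q => by
    have := congrArg (ap toT) (D.ev_inj (ofT_lt _) (ofT_lt _) (h p q))
    rwa [(toT_inv (dp_lt _ _)).2, (toT_inv (dp_lt _ _)).2] at this
  let φ : N →* ↥Cfsg.M24 := MonoidHom.mk' f fun a b => Subtype.ext (huniq fun p q => by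
    rw [← hf (a * b) p q]
    simp only [Subgroup.coe_mul, Equiv.Perm.mul_apply]
    rw [← hf a, ← hf b]
    group)
  have hker : φ.ker = V.subgroupOf N := by
    ext m
    rw [MonoidHom.mem_ker, Subgroup.mem_subgroupOf]
    constructor
    · intro h1
      obtain ⟨L, hL, hadd, -, -⟩ := hmap m
      have hid := eq_id_of_pairs L hadd fun p q => by
        have e : ev J g vec (ap ofT (L (dp p q))) = ev J g vec (ap ofT (dp p q)) := by
          rw [← (hL _ (dp_lt p q)).2, hf m p q, show f m = 1 from h1]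
          rfl
        have := congrArg (ap toT) (D.ev_inj (ofT_lt _) (ofT_lt _) e)
        rwa [(toT_inv (hL _ (dp_lt p q)).1).2, (toT_inv (dp_lt p q)).2] at this
      refine D.centralizer_le (Subgroup.mem_centralizer_iff.2 fun v hv => ?_)
      obtain ⟨n, hn, rfl⟩ := D.ev_surj hv
      have h := (hL (ap toT n) (toT_lt n)).2
      rw [hid _ (toT_lt n), (toT_inv hn).1] at h
      exact (mul_inv_eq_iff_eq_mul.1 h).symm
    · intro hm
      refine Subtype.ext (huniq fun p q => ?_)
      rw [show φ m = f m from rfl, ← hf m p q, D.isV.comm _ hm _ (D.ev_mem _), mul_inv_cancel_right]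
      rfl
  refine ⟨φ, hker, ?_, hf⟩
  rw [← MonoidHom.range_eq_top]
  refine Subgroup.eq_top_of_card_eq _ ?_
  have h := φ.ker.card_mul_index
  rw [Subgroup.index_ker, hker, Nat.card_congr (Subgroup.subgroupOfEquivOfLe Subgroup.le_normalizer).toEquiv,
    D.isV.card, D.card_normalizer] at h
  rw [CfsgLib.Golay.natCard_M24]
  omega

/-- Every linear map preserving the pairs comes from the normalizer. -/
theorem realize {L : List ℕ} (hL : okL L = true) (hK : keepsPairs L = true) {R : List ℕ}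
    (hR : (List.range 2048).all (fun n => Nat.beq (ap R (ap L n)) n) = true) :
    ∃ m, VActs J g vec m L := by
  obtain ⟨φ, -, hsurj, hφ⟩ := D.exists_hom
  let L' : ℕ → ℕ := fun k => ap toT (ap L (ap ofT k))
  obtain ⟨σ, hσ, e⟩ := exists_perm L' (fun n _ => toT_lt _) (fun a _ b _ => by
      simp only [L', ap_xor])
    (fun a ha b hb h => by
      have hk : ∀ n < 2048, ap R (ap L n) = n := fun n hn =>
        Nat.eq_of_beq_eq_true (List.all_eq_true.1 hR n (List.mem_range.2 hn))
      have h1 := congrArg (fun n => ap R (ap ofT n)) h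
      simp only [L', (toT_inv (okL_lt hL _)).1, hk _ (ofT_lt _)] at h1
      rw [← (toT_inv ha).2, h1, (toT_inv hb).2])
    (fun n hn h => by
      have := beq_iff_eq.1 (List.all_eq_true.1 hK (ap ofT n) (List.mem_range.2 (ofT_lt n)))
      simp only [L']
      rwa [this, (toT_inv hn).2])
  obtain ⟨m, hm⟩ := hsurj ⟨σ, hσ⟩
  refine ⟨m, hL, fun n hn => ?_⟩
  have hex : ∀ k, ∃ l, l < 2048 ∧ (m : G) * ev J g vec (ap ofT k) * (m : G)⁻¹ = ev J g vec (ap ofT l) := by
    intro k
    obtain ⟨n, hn, hne⟩ := D.ev_surj (D.conj_mem m.2 (D.ev_mem (ap ofT k)))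
    exact ⟨ap toT n, toT_lt n, by rw [(toT_inv hn).1, hne]⟩
  choose A hA1 hA2 using hex
  -- the two linear maps agree on the pairs, hence everywhere
  have hAdd : ∀ a < 2048, ∀ b < 2048, A (a ^^^ b) = A a ^^^ A b := fun a _ b _ => by
    have h1 := hA2 (a ^^^ b)
    rw [ap_xor, D.ev_xor, show (m : G) * (ev J g vec (ap ofT a) * ev J g vec (ap ofT b)) * (m : G)⁻¹ =
      (m : G) * ev J g vec (ap ofT a) * (m : G)⁻¹ * ((m : G) * ev J g vec (ap ofT b) * (m : G)⁻¹) by group,
      hA2, hA2, ← D.ev_xor, ← ap_xor] at h1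
    have := congrArg (ap toT) (D.ev_inj (ofT_lt _) (ofT_lt _) h1)
    rw [(toT_inv (Nat.xor_lt_two_pow (n := 11) (hA1 a) (hA1 b))).2, (toT_inv (hA1 _)).2] at this
    exact this.symm
  have key : ∀ k < 2048, A k = L' k := by
    intro k hk
    have hz := eq_id_of_pairs (fun j => A j ^^^ L' j ^^^ j) (fun a ha b hb => by
        simp only [L', hAdd a ha b hb, ap_xor]
        ac_rfl)
      (fun p q => by
        have h1 : A (dp p q) = L' (dp p q) := by
          rw [e p q]
          have h2 := hA2 (dp p q)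
          rw [hφ m p q, hm] at h2
          have := congrArg (ap toT) (D.ev_inj (ofT_lt _) (ofT_lt _) h2)
          rw [(toT_inv (dp_lt _ _)).2, (toT_inv (hA1 _)).2] at this
          exact this.symm
        simp only [h1, Nat.xor_self, Nat.zero_xor]) k hk
    -- hz : A k ^^^ L' k ^^^ k = k
    have : A k ^^^ L' k = 0 := by
      calc A k ^^^ L' k = A k ^^^ L' k ^^^ k ^^^ k := by rw [Nat.xor_assoc, Nat.xor_self, Nat.xor_zero]
        _ = 0 := by rw [hz, Nat.xor_self]
    exact Nat.xor_eq_zero_iff.1 this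
  have h := hA2 (ap toT n)
  rwa [key _ (toT_lt n), (toT_inv hn).1, show L' (ap toT n) = ap toT (ap L n) by simp only [L', (toT_inv hn).1],
    (toT_inv (okL_lt hL n)).1] at h

end Ctx.Std

end CfsgLib.JFour
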