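import Cfsg.Agent.Lib.JFour.TDefs

/-!
# Kernel checks for the model of the elementary subgroup
-/

set_option autoImplicit false
set_option Elab.async false
set_option maxRecDepth 100000

namespace CfsgLib.JFour

theorem uC_ok : okB uInv = true ∧ uCol.length = 6 ∧
    (List.range 64).all (fun j => decide (uC j < 4096) && fixV.contains (uC j) && Nat.beq (ap uInv (uC j)) j) = true ∧
    fixV.all (fun v => Nat.beq (uC (ap uInv v)) v && Nat.blt (ap uInv v) 64) = true ∧
    (List.range 64).all (fun i => (List.range 64).all fun j => !betaQ (uC i) (uC j)) = true := by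
  decide +kernel

theorem an_ok : (List.range 4096).all (fun n => anNum.testBit n == aniso n) = true := by decide +kernel

theorem hexT_ok : (List.range 16).all (fun S => hexT.getD S [] == hexB S && okB (hexT.getD S [])) = true := by
  decide +kernel

theorem com_ok : (List.range 16).all (fun S => Nat.beq S 0 ||
    ((comX.getD S []).length == 16 && (comK.getD S []).length == 16 && (tcL S).contains 0 &&
      (tcL S).all (fun d => fixV.contains d && (tcL S).all fun d' => (tcL S).contains (Nat.xor d d')) &&
      (dispB S).all (fun d => (tcL S).contains d) &&
      (List.range 16).all (fun i => Nat.blt ((comX.getD S []).getD i 0) 4096 &&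
        Nat.beq (keyC S ((comX.getD S []).getD i 0)) ((comK.getD S []).getD i 0)))) = true := by
  decide +kernel

theorem norm_ok : (List.range 2).all (fun k => okB (letB k) && Nat.beq ((normPerm.getD k []).length) 16 &&
    (List.range 16).all (fun S => Nat.blt (nP k S) 16 && (Nat.beq S 0 || !Nat.beq (nP k S) 0))) = true := by
  decide +kernel

theorem sign_ok : (List.range 2048).all (fun s => !eqvT s ||
    !Nat.beq (meetT s (ap uInv 260)) (meetT s 128) || Nat.beq s epsNum) = true := by
  decide +kernel

theorem toT_ok : toT.length = 11 ∧ ofT.length = 11 ∧ toT.all (fun c => Nat.blt c 2048) = true ∧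
    ofT.all (fun c => Nat.blt c 2048) = true ∧
    (List.range 2048).all (fun n => Nat.beq (ap ofT (ap toT n)) n && Nat.beq (ap toT (ap ofT n)) n) = true := by
  decide +kernel

theorem mask_ok : (List.range 2048).all (fun n =>
    maskD epsNum n == Nat.testBit LargeFischer.pairMask (ap toT n)) = true := by
  decide +kernel

theorem w_ok : okB (List.range 12 |>.map fun _ => 0) = true ∧ wCol.length = 6 ∧
    (List.range 64).all (fun i => decide (wC i < 4096) && !anNum.testBit (wC i) &&
      (Nat.beq i 0 || !fixV.contains (wC i)) && (List.range 64).all fun j => !betaQ (wC i) (wC j)) = true := by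
  decide +kernel

end CfsgLib.JFour
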