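import Cfsg.Agent.Lib.JFour.TCoord

/-!
# The small class in coordinates

Given the signs of the products of the lifts the members not conjugate to `z` are the elements of a
mask; invariance under two normalizing elements and the transitivity on the class leave one choice of
signs, and the mask is that of the pairs of points.
-/

set_option autoImplicit false
set_option maxRecDepth 100000
set_option linter.style.haveILetI false
set_option linter.unusedSectionVars false

open Cfsg

namespace CfsgLib.JFour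

theorem ap_zipXor : ∀ (A B : List ℕ), A.length = B.length → ∀ n,
    ap (List.zipWith Nat.xor A B) n = ap A n ^^^ ap B n
  | [], [], _, n => by simp [ap]
  | [], _ :: _, h, _ => by simp at h
  | _ :: _, [], h, _ => by simp at h
  | a :: A, b :: B, h, n => by
    have ih := ap_zipXor A B (by simpa using h) (n / 2)
    simp only [List.zipWith_cons_cons, ap, ih]
    cases (n % 2 == 1)
    · rfl
    · show (a ^^^ b) ^^^ (ap A (n / 2) ^^^ ap B (n / 2)) = (a ^^^ ap A (n / 2)) ^^^ (b ^^^ ap B (n / 2))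
      ac_rfl

theorem ap_closed {T : List ℕ} (h0 : 0 ∈ T) (hx : ∀ a ∈ T, ∀ b ∈ T, a ^^^ b ∈ T) :
    ∀ (L : List ℕ), (∀ c ∈ L, c ∈ T) → ∀ n, ap L n ∈ T
  | [], _, n => by simpa [ap] using h0
  | a :: L, h, n => by
    have ih := ap_closed h0 hx L (fun c hc => h c (List.mem_cons_of_mem _ hc)) (n / 2)
    simp only [ap]
    cases (n % 2 == 1)
    · exact ih
    · exact hx _ (h a List.mem_cons_self) _ ih

theorem nat_beq_decide {a b : ℕ} : Nat.beq a b = decide (a = b) := by
  cases h : Nat.beq a b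
  · simp only [Bool.false_eq, decide_eq_false_iff_not]
    intro e
    subst e
    simp [Nat.beq_refl] at h
  · simp [Nat.eq_of_beq_eq_true h]

namespace Ctx.Std

variable {G : Type*} [Group G] [Finite G] {M : Type*} [Group M] [Finite M] {z π : G} {E : Subgroup G}
variable {J : Ctx M z π E} {g : ℕ → M} {vec : ℕ → G} {V : Subgroup G} (D : J.Std g vec V)
include D

theorem bad_acts {S : ℕ} (hS : S < 16) {c : ↥(CZ z π)} (hc : (c : G) = badG J g S) :
    Acts z vec (c : G) (hexT.getD S []) := by
  obtain ⟨d, hd, hd2, hdp, -⟩ := D.bad_spec hS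
  have h := List.all_eq_true.1 hexT_ok S (List.mem_range.2 hS)
  simp only [Bool.and_eq_true, beq_iff_eq] at h
  rw [hc, ← hd, h.1]
  exact D.acts_hexB hS hdp hd2

/-- Conjugating a lift by a representative. -/
theorem hat_conj_lift {c : ↥(CZ z π)} {B : List ℕ} (hB : Acts z vec (c : G) B) {x : ℕ} (hx : x < 4096) :
    hat z π vec x * (c : G) * (hat z π vec x)⁻¹ =
      zb z (aniso (ap B x) ^^ beta x (ap B x)) * hat z π vec (x ^^^ ap B x) * (c : G) := by
  have hy := okB_lt hB.1 x
  have h1 : (c : G) * (hat z π vec x)⁻¹ = (hat z π vec (ap B x))⁻¹ * (c : G) := by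
    rw [← D.hat_conj hB hx]; group
  rw [mul_assoc, h1, ← mul_assoc, D.hat_inv hy, ← mul_assoc (hat z π vec x),
    J.zb_comm (J.s.z_comm (D.hat_mem hx)), mul_assoc (zb z _), D.hat_mul hx hy, J.zb_xor]
  group

theorem hat_zb_inj {a b : Bool} {m n : ℕ} (hm : m < 4096) (hn : n < 4096)
    (h : zb z a * hat z π vec m = zb z b * hat z π vec n) : a = b ∧ m = n := by
  have hr : Rel z (vec m) (vec n) := by
    have hz : ∀ (p : Bool) (x : G), Rel z (zb z p * x) x := fun p x => by
      cases p
      · exact Or.inl (one_mul x)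
      · exact Or.inr rfl
    refine J.rel_trans (J.rel_symm (D.hat_rel m)) (J.rel_trans (J.rel_symm (hz a _)) ?_)
    rw [h]
    exact J.rel_trans (hz b _) (D.hat_rel n)
  obtain rfl := (D.full.Mo.coords.rel_iff J hm hn).1 hr
  exact ⟨J.zb_inj (mul_right_cancel h), rfl⟩

theorem ev_mem_E {n : ℕ} (hn : n < 2048) : ev J g vec n ∈ E ↔ n < 128 := by
  rw [D.ev_parts hn]
  have hhE : hat z π vec (uC (n % 64)) * zb z (Nat.beq (n / 64 % 2) 1) ∈ E :=
    E.mul_mem (D.hat_mem (uC_facts (Nat.mod_lt _ (by norm_num))).1) (J.zb_mem _)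
  rw [E.mul_mem_cancel_left hhE]
  have hS : n / 128 < 16 := by omega
  constructor
  · intro h
    by_contra hlt
    obtain ⟨c, hc, -, hcp⟩ := D.cp_proj hS
    refine D.hexS_ne (by omega) hS (hcp ▸ ?_)
    rw [← map_one J.proj]
    exact J.proj_eq (by simpa [hc] using h)
  · intro h
    rw [show n / 128 = 0 by omega]
    simp [cp, vlist]

/-- The signs of the products of the lifts. -/
theorem exists_signs : ∃ s < 2048, ∀ S < 16, cp J g S = zb z (epsS s S) * badG J g S := by
  classical
  choose e he using fun S : Fin 16 => D.cp_sign S.2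
  let L : List ℕ := [3, 5, 6, 7, 9, 10, 11, 12, 13, 14, 15]
  let f : Fin 11 → Bool := fun k => e ⟨L.getD k 0 % 16, Nat.mod_lt _ (by norm_num)⟩
  refine ⟨Nat.ofBits f, Nat.ofBits_lt_two_pow f, fun S hS => ?_⟩
  have hone : ∀ {S : ℕ}, S ∈ [1, 2, 4, 8] → cp J g S = badG J g S := by
    intro S hS
    simp only [List.mem_cons, List.not_mem_nil, or_false] at hS
    rcases hS with rfl | rfl | rfl | rfl <;> simp [cp, vlist]
  have hbit : ∀ k (hk : k < 11), (Nat.ofBits f).testBit k = f ⟨k, hk⟩ := fun k hk => Nat.testBit_ofBits_lt f k hk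
  have hout : (Nat.ofBits f).testBit 11 = false := Nat.testBit_lt_two_pow (Nat.ofBits_lt_two_pow f)
  unfold epsS
  interval_cases S
  · simp [show List.findIdx (Nat.beq 0) [3, 5, 6, 7, 9, 10, 11, 12, 13, 14, 15] = 11 by decide, hout, zb, cp, vlist,
      D.bad_zero]
  · simp [show List.findIdx (Nat.beq 1) [3, 5, 6, 7, 9, 10, 11, 12, 13, 14, 15] = 11 by decide, hout, zb, hone]
  · simp [show List.findIdx (Nat.beq 2) [3, 5, 6, 7, 9, 10, 11, 12, 13, 14, 15] = 11 by decide, hout, zb, hone]
  · rw [show List.findIdx (Nat.beq 3) [3, 5, 6, 7, 9, 10, 11, 12, 13, 14, 15] = 0 by decide, hbit 0 (by norm_num)]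
    exact he ⟨3, by norm_num⟩
  · simp [show List.findIdx (Nat.beq 4) [3, 5, 6, 7, 9, 10, 11, 12, 13, 14, 15] = 11 by decide, hout, zb, hone]
  · rw [show List.findIdx (Nat.beq 5) [3, 5, 6, 7, 9, 10, 11, 12, 13, 14, 15] = 1 by decide, hbit 1 (by norm_num)]
    exact he ⟨5, by norm_num⟩
  · rw [show List.findIdx (Nat.beq 6) [3, 5, 6, 7, 9, 10, 11, 12, 13, 14, 15] = 2 by decide, hbit 2 (by norm_num)]
    exact he ⟨6, by norm_num⟩
  · rw [show List.findIdx (Nat.beq 7) [3, 5, 6, 7, 9, 10, 11, 12, 13, 14, 15] = 3 by decide, hbit 3 (by norm_num)]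
    exact he ⟨7, by norm_num⟩
  · simp [show List.findIdx (Nat.beq 8) [3, 5, 6, 7, 9, 10, 11, 12, 13, 14, 15] = 11 by decide, hout, zb, hone]
  · rw [show List.findIdx (Nat.beq 9) [3, 5, 6, 7, 9, 10, 11, 12, 13, 14, 15] = 4 by decide, hbit 4 (by norm_num)]
    exact he ⟨9, by norm_num⟩
  · rw [show List.findIdx (Nat.beq 10) [3, 5, 6, 7, 9, 10, 11, 12, 13, 14, 15] = 5 by decide, hbit 5 (by norm_num)]
    exact he ⟨10, by norm_num⟩
  · rw [show List.findIdx (Nat.beq 11) [3, 5, 6, 7, 9, 10, 11, 12, 13, 14, 15] = 6 by decide, hbit 6 (by norm_num)]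
    exact he ⟨11, by norm_num⟩
  · rw [show List.findIdx (Nat.beq 12) [3, 5, 6, 7, 9, 10, 11, 12, 13, 14, 15] = 7 by decide, hbit 7 (by norm_num)]
    exact he ⟨12, by norm_num⟩
  · rw [show List.findIdx (Nat.beq 13) [3, 5, 6, 7, 9, 10, 11, 12, 13, 14, 15] = 8 by decide, hbit 8 (by norm_num)]
    exact he ⟨13, by norm_num⟩
  · rw [show List.findIdx (Nat.beq 14) [3, 5, 6, 7, 9, 10, 11, 12, 13, 14, 15] = 9 by decide, hbit 9 (by norm_num)]
    exact he ⟨14, by norm_num⟩
  · rw [show List.findIdx (Nat.beq 15) [3, 5, 6, 7, 9, 10, 11, 12, 13, 14, 15] = 10 by decide, hbit 10 (by norm_num)]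
    exact he ⟨15, by norm_num⟩

/-- The small class in coordinates. -/
theorem isD_iff {s : ℕ} (hs : ∀ S < 16, cp J g S = zb z (epsS s S) * badG J g S) {n : ℕ} (hn : n < 2048) :
    IsD z V (ev J g vec n) ↔ maskD s n = true := by
  have hj : n % 64 < 64 := Nat.mod_lt _ (by norm_num)
  obtain ⟨hu, hufix, huj⟩ := uC_facts hj
  by_cases hlow : n < 128
  · have hev : ev J g vec n = zb z (Nat.beq (n / 64 % 2) 1) * hat z π vec (uC (n % 64)) := by
      rw [D.ev_parts hn, show n / 128 = 0 by omega, ← J.zb_comm (J.s.z_comm (D.hat_mem hu))]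
      simp [cp, vlist]
    have hr : Rel z (ev J g vec n) (vec (uC (n % 64))) := by
      rw [hev]
      refine J.rel_trans ?_ (D.hat_rel _)
      cases Nat.beq (n / 64 % 2) 1
      · exact Or.inl (one_mul _)
      · exact Or.inr rfl
    rw [maskD, show Nat.blt n 128 = true from Nat.blt_eq.mpr hlow, cond_true, Bool.and_eq_true, Bool.not_eq_true',
      nat_beq_decide, decide_eq_false_iff_not, List.contains_iff_mem]
    constructor
    · intro hD
      obtain ⟨m, hm, hmr, -⟩ := D.inE_bad hD.1 ((D.ev_mem_E hn).2 hlow) hD.2.1 hD.2.2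
      have hmu := (D.uA_mem (List.mem_append_right _ hm))
      have e := (D.full.Mo.coords.rel_iff J hu hmu.1).1 (J.rel_trans (J.rel_symm hr) hmr)
      refine ⟨fun h0 => hmu.2 ?_, e ▸ hm⟩
      rw [← e, h0, uC, ap_zero]
    · rintro ⟨-, hmem⟩
      obtain ⟨h1, -, h3, -⟩ := D.mem_of_list (List.mem_append_right _ hmem) hr
      exact ⟨h1, h3, fun k => D.conj_classes.2.1 ((D.uB_class hmem hr).1 k)⟩
  · have hS : n / 128 < 16 := by omega
    have hS0 : n / 128 ≠ 0 := by omega
    rw [maskD, show Nat.blt n 128 = false from Bool.eq_false_iff.2 (fun h => hlow (Nat.blt_eq.mp h)), cond_false,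
      List.contains_iff_mem]
    set S := n / 128 with hSdef
    set j := n % 64
    set σ := Nat.beq (n / 64 % 2) 1 ^^ epsS s S with hσ
    obtain ⟨c, hc, hc2, hcp, hnc⟩ := D.bad_spec hS
    have hcK : J.proj c ∈ hexK g := hcp ▸ D.hexS_mem
    have hc1 : J.proj c ≠ 1 := hcp ▸ D.hexS_ne hS0 hS
    have hev : ev J g vec n = zb z σ * hat z π vec (uC j) * (c : G) := by
      rw [D.ev_parts hn, hs S hS, hc, hσ, J.zb_xor]
      have hm' := J.zb_comm (J.s.z_comm (D.hat_mem hu))
      rw [show hat z π vec (uC j) * zb z (Nat.beq (n / 64 % 2) 1) * (zb z (epsS s S) * badG J g S) =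
        hat z π vec (uC j) * (zb z (Nat.beq (n / 64 % 2) 1) * zb z (epsS s S)) * badG J g S by group,
        ← J.zb_xor, hm']
    have hB := D.bad_acts hS hc
    set B := hexT.getD S [] with hBdef
    have hcom := List.all_eq_true.1 com_ok S (List.mem_range.2 hS)
    rw [show Nat.beq S 0 = false by rw [nat_beq_decide]; simpa using hS0, Bool.false_or] at hcom
    simp only [Bool.and_eq_true, beq_iff_eq, List.all_eq_true, List.contains_iff_mem, List.mem_range,
      Nat.blt_eq, Nat.beq_eq] at hcom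
    obtain ⟨⟨⟨⟨⟨hlx, hlk⟩, h0T⟩, hT⟩, hdisp⟩, hkey⟩ := hcom
    -- the value at a listed vector
    have hval : ∀ i < 16, ∃ x < 4096, (comX.getD S []).getD i 0 = x ∧
        ∃ j' < 64, ∃ p : Bool, uC j' = x ^^^ ap B x ∧ (comK.getD S []).getD i 0 = j' + cond p 64 0 ∧
          hat z π vec x * (c : G) * (hat z π vec x)⁻¹ = zb z p * hat z π vec (uC j') * (c : G) := by
      intro i hi
      obtain ⟨hxl, hk⟩ := hkey i hi
      refine ⟨_, hxl, rfl, ?_⟩
      set x := (comX.getD S []).getD i 0
      have hy := okB_lt hB.1 x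
      have hd : x ^^^ ap B x ∈ fixV := (hT _ (List.mem_map.2 ⟨x, by
        rw [show x = (comX.getD S []).getD i 0 from rfl, List.getD_eq_getElem (comX.getD S []) 0 (show i < (comX.getD S []).length by omega)]
        exact List.getElem_mem _, rfl⟩)).1
      obtain ⟨he, hlt⟩ := uInv_facts hd
      refine ⟨_, hlt, aniso (ap B x) ^^ beta x (ap B x), he, ?_, ?_⟩
      · rw [← hk, keyC, an_eq hy, betaQ_eq hy]
        rfl
      · rw [he]; exact D.hat_conj_lift hB hxl
    constructor
    · intro hD
      obtain ⟨c', hc'2, hc'K, hc'1, hnc', -, -, e, he, hes⟩ :=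
        D.cross_bad hD.1 (fun h => hlow ((D.ev_mem_E hn).1 h)) hD.2.2
      have hproj : J.proj c' = J.proj c := by
        refine J.proj_part (h := ev J g vec n) c' c ?_ ?_
        · rw [← hes, show e * (c' : G) * e⁻¹ * (c' : G)⁻¹ = e * ((c' : G) * e⁻¹ * (c' : G)⁻¹) by group]
          exact E.mul_mem he (J.conjE (mem_CZ.1 c'.2).1 (E.inv_mem he))
        · rw [hev, mul_inv_cancel_right]
          exact E.mul_mem (J.zb_mem _) (D.hat_mem hu)
      have hcc : (c' : G) = c := (D.bad_unique hS hc'2 (hproj.trans hcp) hnc').trans hc.symm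
      obtain ⟨x, hx, hxr⟩ := D.full.Mo.coords.surj e he
      obtain ⟨a, ha⟩ := J.rel_zb (J.rel_trans hxr (J.rel_symm (D.hat_rel x)))
      have hd : x ^^^ ap B x ∈ tcL S := by
        have h := ap_closed h0T (fun a ha b hb => (hT a ha).2 b hb) (dispB S) hdisp x
        rwa [dispB, ap_zipXor _ _ (by
          have := hB.1
          simp only [okB, Bool.and_eq_true, beq_iff_eq] at this
          rw [this.1]; rfl), ap_idB hx] at h
      obtain ⟨xi, hxi, hxie⟩ := List.mem_map.1 hd
      obtain ⟨i, hi, hie⟩ := List.getElem_of_mem hxi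
      obtain ⟨x', hx', hx'e, j', hj', p, hju, hk, hconj⟩ := hval i (by omega)
      rw [List.getD_eq_getElem (comX.getD S []) 0 hi, hie] at hx'e
      subst hx'e
      -- the difference is fixed
      have hf : x ^^^ xi < 4096 := Nat.xor_lt_two_pow (n := 12) hx hx'
      have hfix : ap B (x ^^^ xi) = x ^^^ xi := by
        rw [ap_xor]
        have e1 : xi ^^^ ap B xi = x ^^^ ap B x := hxie
        calc ap B x ^^^ ap B xi = x ^^^ (x ^^^ ap B x) ^^^ ap B xi := by rw [← Nat.xor_assoc x x, Nat.xor_self, Nat.zero_xor]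
          _ = x ^^^ (xi ^^^ ap B xi) ^^^ ap B xi := by rw [e1]
          _ = _ := by rw [Nat.xor_assoc, Nat.xor_assoc xi, Nat.xor_self, Nat.xor_zero]
      have hcomm : hat z π vec (x ^^^ xi) * (c : G) = (c : G) * hat z π vec (x ^^^ xi) := by
        have := D.hat_conj hB hf
        rw [hfix] at this
        exact (mul_inv_eq_iff_eq_mul.1 this).symm
      have hcz := (mem_CZ.1 c.2).1
      have hsplit : ∃ b : Bool, hat z π vec x = zb z b * (hat z π vec xi * hat z π vec (x ^^^ xi)) := by
        refine ⟨beta xi (x ^^^ xi), ?_⟩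
        rw [D.hat_mul hx' hf, show xi ^^^ (x ^^^ xi) = x by
          rw [Nat.xor_comm x, ← Nat.xor_assoc, Nat.xor_self, Nat.zero_xor], ← mul_assoc, ← J.zb_xor, Bool.xor_self]
        exact (one_mul _).symm
      obtain ⟨b, hb⟩ := hsplit
      have key : ev J g vec n = zb z p * hat z π vec (uC j') * (c : G) := by
        rw [← hconj, ← hes, hcc, ha, hb, ← mul_assoc (zb z a), ← J.zb_xor]
        generalize (a ^^ b) = q
        set P := hat z π vec xi
        set F := hat z π vec (x ^^^ xi)
        calc zb z q * (P * F) * (c : G) * (zb z q * (P * F))⁻¹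
            = zb z q * (P * (F * (c : G)) * F⁻¹ * P⁻¹) * (zb z q)⁻¹ := by group
          _ = zb z q * (P * (c : G) * P⁻¹) * (zb z q)⁻¹ := by rw [hcomm]; group
          _ = P * (c : G) * P⁻¹ := by
            have hPz : P * z = z * P := J.s.z_comm (D.hat_mem hx')
            have h1 : Commute (P * (c : G) * P⁻¹) z :=
              ((show Commute P z from hPz).mul_left (show Commute (c : G) z from hcz)).mul_left
                (show Commute P z from hPz).inv_left
            rw [← J.zb_comm h1.eq, mul_inv_cancel_right]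
      rw [hev] at key
      obtain ⟨hpq, hjj⟩ := D.hat_zb_inj hu (uC_facts hj').1 (mul_right_cancel key)
      have : j' = j := by rw [← huj, ← (uC_facts hj').2.2, hjj]
      rw [← hpq, this] at hk
      rw [← hk, List.getD_eq_getElem (comK.getD S []) 0 (show i < (comK.getD S []).length by omega)]
      exact List.getElem_mem _
    · intro hmem
      obtain ⟨i, hi, hie⟩ := List.getElem_of_mem hmem
      obtain ⟨x, hx, -, j', hj', p, -, hk, hconj⟩ := hval i (by omega)
      rw [List.getD_eq_getElem (comK.getD S []) 0 hi, hie] at hk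
      have hpj : σ = p ∧ j = j' := by
        have : j < 64 := hj
        clear_value σ j
        cases σ <;> cases p <;> simp at hk ⊢ <;> omega
      rw [← hpj.1, ← hpj.2, ← hev] at hconj
      rw [← hconj]
      refine ⟨?_, fun h => ?_, fun h => hnc ((isConj_conj_iff _).1 h)⟩
      · rw [hconj]; exact D.ev_mem n
      · rw [mul_inv_eq_one, mul_eq_left] at h
        exact hc1 (by rw [show c = 1 from Subtype.ext h, map_one])

end Ctx.Std

end CfsgLib.JFour
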