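import Cfsg.Agent.Lib.JFour.TChecks

/-!
# Coordinates on the standard elementary subgroup

Eleven generators: six representatives in the fixed space, `z`, and four lifts of the basis products
that are not conjugate to `z`.  The members not conjugate to `z` are given by a mask determined by
the signs of the products of the lifts; the normalizer leaves only one choice of signs.
-/

set_option autoImplicit false
set_option maxRecDepth 100000
set_option linter.style.haveILetI false
set_option linter.unusedSectionVars false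

open Cfsg

namespace CfsgLib.JFour

theorem bq_eq {m n : ℕ} (hm : m < 4096) (hn : n < 4096) : bq m n = bb m n := by
  have h : ∀ k < 4096, anNum.testBit k = aniso k := fun k hk =>
    beq_iff_eq.1 (List.all_eq_true.1 an_ok k (List.mem_range.2 hk))
  have hmn : m ^^^ n < 4096 := Nat.xor_lt_two_pow (n := 12) hm hn
  simp only [bq, bb, h m hm, h n hn, show Nat.xor m n = m ^^^ n from rfl, h _ hmn]

theorem betaQ_eq {m n : ℕ} (hn : n < 4096) : betaQ m n = beta m n :=
  bq_eq hn (okB_lt gW1_ok.1 m)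

theorem an_eq {n : ℕ} (hn : n < 4096) : anNum.testBit n = aniso n :=
  beq_iff_eq.1 (List.all_eq_true.1 an_ok n (List.mem_range.2 hn))

theorem uC_facts {j : ℕ} (hj : j < 64) : uC j < 4096 ∧ uC j ∈ fixV ∧ ap uInv (uC j) = j := by
  have h := List.all_eq_true.1 uC_ok.2.2.1 j (List.mem_range.2 hj)
  simp only [Bool.and_eq_true, decide_eq_true_eq, Nat.beq_eq, List.contains_iff_mem] at h
  exact ⟨h.1.1, h.1.2, h.2⟩

theorem uInv_facts {v : ℕ} (hv : v ∈ fixV) : uC (ap uInv v) = v ∧ ap uInv v < 64 := by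
  have h := List.all_eq_true.1 uC_ok.2.2.2.1 v hv
  simp only [Bool.and_eq_true, Nat.beq_eq, Nat.blt_eq] at h
  exact h

/-- The product of the words selected by the bits. -/
def selW : List (List ℕ) → ℕ → List ℕ
  | [], _ => []
  | w :: ws, n => cond (n % 2 == 1) (w ++ selW ws (n / 2)) (selW ws (n / 2))

theorem selW_eq : (List.range 16).all (fun S => selW hexW S == hexS.getD S []) = true := by decide +kernel

theorem vlist_hom {A B : Type*} [Group A] [Group B] (f : A →* B) :
    ∀ (l : List A) (n : ℕ), f (vlist l n) = vlist (l.map f) n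
  | [], n => by simp [vlist]
  | a :: l, n => by
    simp only [List.map_cons, vlist, ← vlist_hom f l]
    cases (n % 2 == 1) <;> simp

theorem vlist_selW {M : Type*} [Group M] (g : ℕ → M) :
    ∀ (ws : List (List ℕ)) (n : ℕ), vlist (ws.map fun w => (w.map g).prod) n = ((selW ws n).map g).prod
  | [], n => by simp [vlist, selW]
  | w :: ws, n => by
    simp only [List.map_cons, vlist, selW, vlist_selW g ws]
    cases (n % 2 == 1) <;> simp

theorem vlist_xor_sq {G : Type*} [Group G] {A : Subgroup G} (h2 : ∀ a ∈ A, a * a = 1) :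
    ∀ {gs : List G}, (∀ x ∈ gs, x ∈ A) → ∀ m n, vlist gs (m ^^^ n) = vlist gs m * vlist gs n
  | [], _, m, n => by simp [vlist]
  | x :: gs, h, m, n => by
    have hx := h x List.mem_cons_self
    have hrest : ∀ y ∈ gs, y ∈ A := fun y hy => h y (List.mem_cons_of_mem _ hy)
    have ih := vlist_xor_sq h2 hrest (m / 2) (n / 2)
    have hh : (m ^^^ n) / 2 = (m / 2) ^^^ (n / 2) := by
      apply Nat.eq_of_testBit_eq
      intro i
      simp [Nat.testBit_div_two]
    have h0 : ((m ^^^ n) % 2 == 1) = ((m % 2 == 1) ^^ (n % 2 == 1)) := by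
      have := Nat.testBit_xor m n 0
      simp only [Nat.testBit_zero] at this
      rcases Nat.mod_two_eq_zero_or_one m with hm | hm <;>
        rcases Nat.mod_two_eq_zero_or_one n with hn | hn <;>
        rcases Nat.mod_two_eq_zero_or_one (m ^^^ n) with hx | hx <;>
        simp_all
    have hc : ∀ {a b : G}, a ∈ A → b ∈ A → a * b = b * a := fun {a b} ha hb => by
      have hab := h2 _ (A.mul_mem ha hb)
      have ea : a⁻¹ = a := inv_eq_of_mul_eq_one_right (h2 a ha)
      have eb : b⁻¹ = b := inv_eq_of_mul_eq_one_right (h2 b hb)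
      rw [← inv_eq_of_mul_eq_one_right hab, mul_inv_rev, ea, eb]
    simp only [vlist, hh, h0, ih]
    have hm' := vlist_mem hrest (m / 2)
    cases (m % 2 == 1) <;> cases (n % 2 == 1) <;>
      simp only [Bool.bne_false, Bool.bne_true, Bool.false_bne, Bool.true_bne, Bool.not_true,
        Bool.not_false, cond_true, cond_false]
    · rw [← mul_assoc x, hc hx hm', mul_assoc]
    · rw [mul_assoc]
    · rw [show x * vlist gs (m / 2) * (x * vlist gs (n / 2)) = x * (vlist gs (m / 2) * x) * vlist gs (n / 2) by group,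
        hc hm' hx, ← mul_assoc x x, h2 x hx, one_mul]

/-- A list of values of an additive function gives the value at the combination. -/
theorem vlist_add {G : Type*} [Group G] (F : ℕ → G) (P : ℕ → Prop) (h0 : F 0 = 1) :
    ∀ (L : List ℕ), (∀ n, P (ap L n)) → (∀ m n, P m → P n → F (m ^^^ n) = F m * F n) →
      ∀ n, vlist (L.map F) n = F (ap L n)
  | [], _, _, n => by simp [vlist, ap, h0]
  | b :: L, hP, hF, n => by
    have hsub : ∀ n, ap (b :: L) (2 * n) = ap L n := fun n => by
      simp [ap]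
    have hb : ap (b :: L) 1 = b := by simp [ap, ap_zero, Nat.xor]
    have ih := vlist_add F P h0 L (fun n => hsub n ▸ hP _) hF (n / 2)
    simp only [List.map_cons, vlist, ih, ap]
    cases (n % 2 == 1)
    · rfl
    · exact (hF _ _ (hb ▸ hP 1) (hsub (n / 2) ▸ hP _)).symm

/-- The lift of a product that is not conjugate to `z`. -/
noncomputable def badG {G : Type*} [Group G] [Finite G] {M : Type*} [Group M] {z π : G} {E : Subgroup G}
    (J : Ctx M z π E) (g : ℕ → M) (S : ℕ) : G :=
  Classical.epsilon fun x => ∃ c : ↥(CZ z π), (c : G) = x ∧ (c : G) * c = 1 ∧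
    J.proj c = ((hexS.getD S []).map g).prod ∧ ¬ IsConj z (c : G)

/-- The eleven generators. -/
noncomputable def evL {G : Type*} [Group G] [Finite G] {M : Type*} [Group M] {z π : G} {E : Subgroup G}
    (J : Ctx M z π E) (g : ℕ → M) (vec : ℕ → G) : List G :=
  uCol.map (hat z π vec) ++ [z] ++ [badG J g 1, badG J g 2, badG J g 4, badG J g 8]

/-- The element with given coordinates. -/
noncomputable def ev {G : Type*} [Group G] [Finite G] {M : Type*} [Group M] {z π : G} {E : Subgroup G}
    (J : Ctx M z π E) (g : ℕ → M) (vec : ℕ → G) (n : ℕ) : G := vlist (evL J g vec) n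

/-- The product of basis lifts. -/
noncomputable def cp {G : Type*} [Group G] [Finite G] {M : Type*} [Group M] {z π : G} {E : Subgroup G}
    (J : Ctx M z π E) (g : ℕ → M) (S : ℕ) : G := vlist [badG J g 1, badG J g 2, badG J g 4, badG J g 8] S

namespace Ctx.Std

variable {G : Type*} [Group G] [Finite G] {M : Type*} [Group M] [Finite M] {z π : G} {E : Subgroup G}
variable {J : Ctx M z π E} {g : ℕ → M} {vec : ℕ → G} {V : Subgroup G} (D : J.Std g vec V)
include D

theorem hexS_ne {S : ℕ} (h0 : S ≠ 0) (hS : S < 16) : ((hexS.getD S []).map g).prod ≠ 1 := fun h => by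
  have := congrArg Fin.val (D.full.S16.distinct ⟨S, hS⟩ 0 (by
    show ((hexS.getD S []).map g).prod = ((hexS.getD 0 []).map g).prod
    rw [h, D.hexS_zero]))
  exact h0 this

theorem bad_spec {S : ℕ} (hS : S < 16) : ∃ c : ↥(CZ z π), (c : G) = badG J g S ∧ (c : G) * c = 1 ∧
    J.proj c = ((hexS.getD S []).map g).prod ∧ ¬ IsConj z (c : G) := by
  refine Classical.epsilon_spec (p := fun x => ∃ c : ↥(CZ z π), (c : G) = x ∧ (c : G) * c = 1 ∧
    J.proj c = ((hexS.getD S []).map g).prod ∧ ¬ IsConj z (c : G)) ?_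
  by_cases h0 : S = 0
  · subst h0
    refine ⟨1, 1, rfl, by simp, by rw [map_one, D.hexS_zero], fun h => ?_⟩
    exact conj_ne_one J.z_ne h rfl
  · obtain ⟨c, hcp, hc2, hnc, -⟩ := D.exists_bad D.hexS_mem (D.hexS_ne h0 hS)
    exact ⟨c, c, rfl, hc2, hcp, hnc⟩

theorem bad_mem {S : ℕ} (hS : S < 16) : badG J g S ∈ V := by
  obtain ⟨c, hc, hc2, hcp, -⟩ := D.bad_spec hS
  rw [← hc]
  exact D.isV.lift c hc2 (hcp ▸ D.hexS_mem)

theorem bad_unique {S : ℕ} (hS : S < 16) {c : ↥(CZ z π)} (hc2 : (c : G) * c = 1)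
    (hcp : J.proj c = ((hexS.getD S []).map g).prod) (hnc : ¬ IsConj z (c : G)) : (c : G) = badG J g S := by
  obtain ⟨d, hd, hd2, hdp, hnd⟩ := D.bad_spec hS
  rw [← hd]
  by_cases h0 : S = 0
  · subst h0
    rw [D.hexS_zero] at hcp hdp
    have key : ∀ {e : ↥(CZ z π)}, (e : G) * e = 1 → J.proj e = 1 → ¬ IsConj z (e : G) → (e : G) = 1 := by
      intro e he hep hne
      rcases J.small_of_proj_one hep (Or.inl he) with k | k
      · exact k
      · rw [k] at hne
        exact absurd (IsConj.refl z) hne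
    rw [key hc2 hcp hnc, key hd2 hdp hnd]
  rcases J.lift_unique hd2 hc2 (hcp.trans hdp.symm) with k | k
  · exact k
  · exfalso
    rcases D.z_or_zc hd2 (hdp ▸ D.hexS_ne h0 hS) with l | l
    · exact hnd l.1
    · exact hnc (k ▸ l.1)

theorem bad_zero : badG J g 0 = 1 := by
  refine ((D.bad_unique (S := 0) (by norm_num) (c := 1) (by simp) (by rw [map_one, D.hexS_zero]) fun h => ?_).symm)
  exact conj_ne_one J.z_ne h rfl

theorem hat_uC_mem {j : ℕ} (hj : j < 64) : hat z π vec (uC j) ∈ V := by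
  obtain ⟨hlt, hfix, -⟩ := uC_facts hj
  have hv := (D.full.vec_mem_V D.isV hlt).2 (List.mem_filter.1 hfix).2
  rcases D.hat_rel (uC j) with k | k <;> rw [k]
  exacts [hv, V.mul_mem D.isV.z_mem hv]

theorem uCol_eq {j : ℕ} (_hj : j < 6) : uCol.getD j 0 = uC (2 ^ j) := (ap_pow uCol j).symm

theorem evL_mem : ∀ x ∈ evL J g vec, x ∈ V := by
  intro x hx
  simp only [evL, List.mem_append, List.mem_map, List.mem_cons, List.not_mem_nil, or_false] at hx
  rcases hx with (⟨u, hu, rfl⟩ | rfl) | rfl | rfl | rfl | rfl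
  · obtain ⟨j, hj, rfl⟩ := List.getElem_of_mem hu
    rw [uC_ok.2.1] at hj
    have := D.uCol_eq hj
    rw [List.getD_eq_getElem _ _ (by rw [uC_ok.2.1]; exact hj)] at this
    rw [this]
    refine D.hat_uC_mem ?_
    calc 2 ^ j ≤ 2 ^ 5 := Nat.pow_le_pow_right (by norm_num) (by omega)
      _ < 64 := by norm_num
  · exact D.isV.z_mem
  all_goals exact D.bad_mem (by norm_num)

theorem ev_mem (n : ℕ) : ev J g vec n ∈ V := vlist_mem D.evL_mem n

theorem ev_xor (m n : ℕ) : ev J g vec (m ^^^ n) = ev J g vec m * ev J g vec n :=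
  vlist_xor_sq D.isV.sq D.evL_mem m n

theorem ev_zero : ev J g vec 0 = 1 := by
  have h := D.ev_xor 0 0
  rw [Nat.xor_self] at h
  exact mul_eq_left.1 h.symm

theorem vlist_uC (j : ℕ) : vlist (uCol.map (hat z π vec)) j = hat z π vec (uC j) := by
  refine vlist_add (hat z π vec) (fun x => ∃ i < 64, x = uC i) D.hat_zero uCol (fun n => ?_) (fun x y hx hy => ?_) j
  · have h6 : uCol.length = 6 := uC_ok.2.1
    have : ∀ (L : List ℕ) (n : ℕ), ap L n = ap L (n % 2 ^ L.length) := by
      intro L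
      induction L with
      | nil => intro n; simp [ap]
      | cons b L ih =>
        intro n
        simp only [ap, List.length_cons]
        have e1 : n % 2 ^ (L.length + 1) % 2 = n % 2 := by
          rw [pow_succ, mul_comm]; exact Nat.mod_mul_right_mod _ _ _
        have e2 : n % 2 ^ (L.length + 1) / 2 = n / 2 % 2 ^ L.length := by
          rw [pow_succ, mul_comm, Nat.mod_mul_right_div_self]
        rw [e1, e2, ← ih]
    refine ⟨n % 64, Nat.mod_lt _ (by norm_num), ?_⟩
    rw [uC, this uCol n, h6]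
    norm_num
  · obtain ⟨i, hi, rfl⟩ := hx
    obtain ⟨k, hk, rfl⟩ := hy
    have h := List.all_eq_true.1 (List.all_eq_true.1 uC_ok.2.2.2.2 i (List.mem_range.2 hi)) k (List.mem_range.2 hk)
    rw [Bool.not_eq_true', betaQ_eq (uC_facts hk).1] at h
    rw [D.hat_mul (uC_facts hi).1 (uC_facts hk).1, h]
    exact (one_mul _).symm

/-- The three parts of an element. -/
theorem ev_parts {n : ℕ} (hn : n < 2048) :
    ev J g vec n = hat z π vec (uC (n % 64)) * zb z (Nat.beq (n / 64 % 2) 1) * cp J g (n / 128) := by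
  rw [ev, evL, vlist_append, vlist_append]
  have h1 : (uCol.map (hat z π vec)).length = 6 := by rw [List.length_map, uC_ok.2.1]
  simp only [List.length_append, h1, List.length_singleton]
  norm_num
  rw [D.vlist_uC, show n % 128 / 64 = n / 64 % 2 by omega]
  rcases Nat.mod_two_eq_zero_or_one (n / 64) with k | k <;> rw [k] <;> simp [vlist, zb, cp] <;> rfl

theorem cp_proj {S : ℕ} (hS : S < 16) :
    ∃ c : ↥(CZ z π), (c : G) = cp J g S ∧ (c : G) * c = 1 ∧ J.proj c = ((hexS.getD S []).map g).prod := by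
  obtain ⟨c1, e1, -, p1, -⟩ := D.bad_spec (S := 1) (by norm_num)
  obtain ⟨c2, e2, -, p2, -⟩ := D.bad_spec (S := 2) (by norm_num)
  obtain ⟨c4, e4, -, p4, -⟩ := D.bad_spec (S := 4) (by norm_num)
  obtain ⟨c8, e8, -, p8, -⟩ := D.bad_spec (S := 8) (by norm_num)
  refine ⟨vlist [c1, c2, c4, c8] S, ?_, ?_, ?_⟩
  · have := vlist_hom (CZ z π).subtype [c1, c2, c4, c8] S
    simp only [Subgroup.coe_subtype, List.map_cons, List.map_nil, e1, e2, e4, e8] at this
    exact this
  · refine D.isV.sq _ ?_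
    have := vlist_hom (CZ z π).subtype [c1, c2, c4, c8] S
    simp only [Subgroup.coe_subtype, List.map_cons, List.map_nil, e1, e2, e4, e8] at this
    rw [this]
    refine vlist_mem (fun x hx => ?_) S
    simp only [List.mem_cons, List.not_mem_nil, or_false] at hx
    rcases hx with rfl | rfl | rfl | rfl <;> exact D.bad_mem (by norm_num)
  · rw [vlist_hom J.proj]
    simp only [List.map_cons, List.map_nil, p1, p2, p4, p8]
    have h := vlist_selW g hexW S
    rw [beq_iff_eq.1 (List.all_eq_true.1 selW_eq S (List.mem_range.2 hS))] at h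
    rw [← h]
    rfl

theorem cp_sign {S : ℕ} (hS : S < 16) : ∃ b : Bool, cp J g S = zb z b * badG J g S := by
  obtain ⟨c, hc, hc2, hcp⟩ := D.cp_proj hS
  obtain ⟨d, hd, hd2, hdp, -⟩ := D.bad_spec hS
  rw [← hc, ← hd]
  exact J.rel_zb (J.lift_unique hd2 hc2 (hcp.trans hdp.symm))

theorem ev_surj {v : G} (hv : v ∈ V) : ∃ n < 2048, ev J g vec n = v := by
  obtain ⟨c, hcE, hcV, hc2, -, hcK⟩ := D.isV.split D.small hv
  obtain ⟨S, hS, hSp⟩ := D.hexK_card_eq.2 _ hcK
  obtain ⟨d, hd, hd2, hdp⟩ := D.cp_proj hS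
  obtain ⟨b, hb⟩ := J.rel_zb (J.lift_unique hd2 hc2 (hSp.trans hdp.symm))
  set u := v * (c : G)⁻¹ with hu
  obtain ⟨m, hm, hr, hiff⟩ := J.vec_mem D.full.Mo.coords (A := V) D.isV.z_mem hcE
  have hfix : m ∈ fixV := List.mem_filter.2 ⟨List.mem_range.2 hm, (D.full.vec_mem_V D.isV hm).1 (hiff.1 hcV)⟩
  obtain ⟨he, hj⟩ := uInv_facts hfix
  set j := ap uInv m with hj'
  obtain ⟨a, ha⟩ := J.rel_zb (J.rel_trans hr (J.rel_symm (D.hat_rel m)))
  refine ⟨128 * S + cond (a ^^ b) 64 0 + j, by cases (a ^^ b) <;> simp <;> omega, ?_⟩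
  have hv' : v = u * c := by rw [hu, inv_mul_cancel_right]
  have e1 : (128 * S + cond (a ^^ b) 64 0 + j) % 64 = j := by cases (a ^^ b) <;> simp <;> omega
  have e2 : Nat.beq ((128 * S + cond (a ^^ b) 64 0 + j) / 64 % 2) 1 = (a ^^ b) := by
    cases (a ^^ b) <;> simp only [cond_true, cond_false]
    · have : (128 * S + 0 + j) / 64 % 2 = 0 := by omega
      rw [this]; rfl
    · have : (128 * S + 64 + j) / 64 % 2 = 1 := by omega
      rw [this]; rfl
  have e3 : (128 * S + cond (a ^^ b) 64 0 + j) / 128 = S := by cases (a ^^ b) <;> simp <;> omega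
  rw [D.ev_parts (by cases (a ^^ b) <;> simp <;> omega), e1, e2, e3, he, J.zb_xor, hv', ha, hb, hd]
  have hm' := J.zb_comm (J.s.z_comm (D.hat_mem hm))
  calc hat z π vec m * (zb z a * zb z b) * cp J g S = hat z π vec m * zb z a * (zb z b * cp J g S) := by group
    _ = _ := by rw [hm']

theorem ev_bij : Function.Bijective (fun n : Fin 2048 => (⟨ev J g vec n, D.ev_mem n⟩ : ↥V)) := by
  refine (Nat.bijective_iff_surjective_and_card _).2 ⟨fun a => ?_, by rw [Nat.card_fin, D.isV.card]; norm_num⟩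
  obtain ⟨n, hn, e⟩ := D.ev_surj a.2
  exact ⟨⟨n, hn⟩, Subtype.ext e⟩

theorem ev_inj {a b : ℕ} (ha : a < 2048) (hb : b < 2048) (h : ev J g vec a = ev J g vec b) : a = b :=
  congrArg Fin.val (D.ev_bij.1 (a₁ := ⟨a, ha⟩) (a₂ := ⟨b, hb⟩) (Subtype.ext h))

end Ctx.Std

end CfsgLib.JFour
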