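import Cfsg.Agent.Lib.JFour.THat
import Cfsg.Agent.Lib.JFour.TData
import Cfsg.Agent.Lib.LargeFischer.ToddPerm

/-!
# The computable model of the elementary subgroup and of some of its automorphisms
-/

set_option autoImplicit false
set_option maxRecDepth 100000

namespace CfsgLib.JFour

/-- The vector of coordinates in the fixed space. -/
def uC (j : ℕ) : ℕ := ap uCol j

/-- The vector of coordinates in the complement. -/
def wC (i : ℕ) : ℕ := ap wCol i

/-- A fast form of `bb`. -/
def bq (m n : ℕ) : Bool := (anNum.testBit (Nat.xor m n) ^^ anNum.testBit m) ^^ anNum.testBit n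

/-- A fast form of `beta`. -/
def betaQ (x y : ℕ) : Bool := bq y (ap gW1 x)

/-- The coordinates of the displacement of `x` over the product `S`, with its sign. -/
def keyC (S x : ℕ) : ℕ :=
  let y := ap (hexT.getD S []) x
  ap uInv (Nat.xor x y) + cond (anNum.testBit y ^^ betaQ x y) 64 0

/-- The columns of the displacement over a product. -/
def dispB (S : ℕ) : List ℕ := List.zipWith Nat.xor idB (hexT.getD S [])

/-- The displacements of the listed vectors. -/
def tcL (S : ℕ) : List ℕ := (comX.getD S []).map fun x => Nat.xor x (ap (hexT.getD S []) x)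

/-- The sign of a product of basis lifts. -/
def epsS (s S : ℕ) : Bool :=
  Nat.testBit s ([3, 5, 6, 7, 9, 10, 11, 12, 13, 14, 15].findIdx (Nat.beq S))

/-- The small class in coordinates. -/
def maskD (s n : ℕ) : Bool :=
  bif Nat.blt n 128 then !Nat.beq (n % 64) 0 && uB.contains (uC (n % 64))
  else (comK.getD (n / 128) []).contains (n % 64 + cond (Nat.beq (n / 64 % 2) 1 ^^ epsS s (n / 128)) 64 0)

/-- The permutation of the products by the word `k`. -/
def nP (k S : ℕ) : ℕ := (normPerm.getD k []).getD S 0

/-- The coordinates of the images of the basis lifts by the word `k`. -/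
def liftCodes (s k : ℕ) : List ℕ :=
  (List.range 4).map fun i => 128 * nP k (2 ^ i) + cond (epsS s (nP k (2 ^ i))) 64 0

/-- The signs are kept by the two words. -/
def eqvT (s : ℕ) : Bool :=
  (List.range 2).all fun k => (List.range 16).all fun S => Nat.beq S 0 ||
    Nat.beq (ap (liftCodes s k) S) (128 * nP k S + cond (epsS s S ^^ epsS s (nP k S)) 64 0)

/-- The number of members at the given distance inside the class. -/
def meetT (s t : ℕ) : ℕ := ((List.range 2048).filter fun n => maskD s n && maskD s (Nat.xor n t)).length

/-- The columns of a lift of `C(z, π)` with the columns `B` and the permutation `p`. -/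
def actC (B : List ℕ) (p : ℕ → ℕ) : List ℕ :=
  (List.range 6).map (fun j => ap uInv (ap B (uC (2 ^ j)))) ++ [64] ++
    (List.range 4).map fun i => 128 * p (2 ^ i) + cond (epsS epsNum (p (2 ^ i))) 64 0

/-- The columns of a representative. -/
def actH (x : ℕ) : List ℕ :=
  (List.range 6).map (fun j => 2 ^ j + cond (bq x (uC (2 ^ j))) 64 0) ++ [64] ++
    (List.range 4).map fun i => 128 * 2 ^ i + keyC (2 ^ i) x

/-- The identity on eleven coordinates. -/
def id11 : List ℕ := [1, 2, 4, 8, 16, 32, 64, 128, 256, 512, 1024]

/-- A letter: two normalizing words, the scalar, a lift of the first product. -/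
def letB (k : ℕ) : List ℕ :=
  [wordB MS (normW.getD 0 []), wordB MS (normW.getD 1 []), gW0, hexB 1].getD k idB

/-- Its permutation of the products. -/
def letP (k S : ℕ) : ℕ := bif Nat.blt k 2 then nP k S else S

/-- The columns of a word. -/
def wMat : List ℕ → List ℕ
  | [] => idB
  | k :: w => comp (letB k) (wMat w)

/-- Its permutation. -/
def wPerm : List ℕ → ℕ → ℕ
  | [], S => S
  | k :: w, S => letP k (wPerm w S)

/-- The first involution of the complement. -/
def sWd : List ℕ := [0, 0, 0]

/-- The second one. -/
def tWd : List ℕ := [1, 0, 1, 1, 1, 1]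

/-- A test element. -/
def oneWd : List ℕ := [1]

/-- Its conjugate by the outer element. -/
def imgWd : List ℕ := [2, 0, 1, 1, 0, 1, 0, 1, 1]

end CfsgLib.JFour
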