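import Cfsg.Agent.Lib.JFour.VFinal

/-!
# Canonical representatives in `E`

Of the two elements of `E` over a vector exactly one has product one with its translates by `π` and
`π²`.  These representatives are permuted by `C(z, π)` and multiply by the cocycle `beta`.
-/

set_option autoImplicit false
set_option maxRecDepth 100000
set_option linter.style.haveILetI false
set_option linter.unusedSectionVars false

open Cfsg

namespace CfsgLib.JFour

/-- The scalar of order three squared. -/
def gW1 : List ℕ := comp gW0 gW0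

/-- The sign in the product of two representatives. -/
def beta (x y : ℕ) : Bool := bb y (ap gW1 x)

theorem gW1_ok : okB gW1 = true ∧ okB gW0 = true ∧ comp gW1 gW0 = idB ∧ comp gW0 gW1 = idB := by decide +kernel

variable {G : Type*} [Group G] [Finite G] {M : Type*} [Group M] [Finite M] {z π : G} {E : Subgroup G}

/-- A power of `z` by a Boolean exponent. -/
def zb (z : G) (b : Bool) : G := cond b z 1

/-- An element times its two translates. -/
def trip (π e : G) : G := e * (π * e * π⁻¹) * (π⁻¹ * e * π)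

namespace Ctx

variable (J : Ctx M z π E)
include J

theorem zb_xor (a b : Bool) : zb z (a ^^ b) = zb z a * zb z b := by
  cases a <;> cases b <;> simp [zb, J.zz]

theorem zb_mem (b : Bool) : zb z b ∈ E := by
  cases b <;> simp [zb, J.s.z_mem]

theorem zb_comm {x : G} (hx : x * z = z * x) (b : Bool) : x * zb z b = zb z b * x := by
  cases b <;> simp [zb, hx]

theorem zb_inj {a b : Bool} (h : zb z a = zb z b) : a = b := by
  cases a <;> cases b <;> simp [zb, J.z_ne, J.z_ne.symm] at h ⊢

theorem rel_zb {x y : G} (h : Rel z x y) : ∃ b : Bool, x = zb z b * y := by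
  rcases h with h | h
  · exact ⟨false, by simpa [zb] using h⟩
  · exact ⟨true, by simpa [zb] using h⟩

theorem trip_zb {e : G} (he : e ∈ E) (b : Bool) : trip π (zb z b * e) = zb z b * trip π e := by
  cases b
  · simp [zb]
  have h1 : π * e * π⁻¹ ∈ E := J.conjE J.piz he
  have hp' : π⁻¹ * z = z * π⁻¹ := (Commute.inv_left (show Commute π z from J.piz)).eq
  have hzi : z * z = 1 := J.zz
  simp only [zb, cond_true, trip]
  calc z * e * (π * (z * e) * π⁻¹) * (π⁻¹ * (z * e) * π)
      = z * e * ((π * z) * e * π⁻¹) * ((π⁻¹ * z) * e * π) := by group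
    _ = z * (e * z) * (π * e * π⁻¹ * z) * (π⁻¹ * e * π) := by rw [J.piz, hp']; group
    _ = z * (z * e) * (z * (π * e * π⁻¹)) * (π⁻¹ * e * π) := by
        rw [(J.s.z_comm he), (J.s.z_comm h1)]
    _ = z * z * (e * z) * (π * e * π⁻¹) * (π⁻¹ * e * π) := by group
    _ = z * (e * (π * e * π⁻¹) * (π⁻¹ * e * π)) := by rw [J.zz, one_mul, J.s.z_comm he]; group

end Ctx

/-- The representative of a vector. -/
noncomputable def hat (z π : G) (vec : ℕ → G) (n : ℕ) : G :=
  haveI := Classical.propDecidable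
  if trip π (vec n) = 1 then vec n else z * vec n

namespace Ctx.Std

variable {J : Ctx M z π E} {g : ℕ → M} {vec : ℕ → G} {V : Subgroup G} (D : J.Std g vec V)
include D

theorem hat_rel (n : ℕ) : Rel z (hat z π vec n) (vec n) := by
  unfold hat
  split
  · exact Or.inl rfl
  · exact Or.inr rfl

theorem hat_mem {n : ℕ} (hn : n < 4096) : hat z π vec n ∈ E :=
  J.rel_mem (D.hat_rel n) (D.full.Mo.coords.mem n hn)

theorem hat_trip {n : ℕ} (hn : n < 4096) : trip π (hat z π vec n) = 1 := by
  have he := D.full.Mo.coords.mem n hn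
  unfold hat
  split
  · assumption
  · rename_i h
    have h2 : trip π (vec n) = z := by
      rcases J.prod_three he with k | k
      · exact absurd k h
      · simpa [trip] using k
    have := J.trip_zb he true
    simp only [zb, cond_true] at this
    rw [this, h2, J.zz]

theorem hat_unique {n : ℕ} (hn : n < 4096) {e : G} (h : Rel z e (vec n)) (ht : trip π e = 1) :
    e = hat z π vec n := by
  obtain ⟨b, hb⟩ := J.rel_zb (J.rel_trans h (J.rel_symm (D.hat_rel n)))
  rw [hb, J.trip_zb (D.hat_mem hn) b, D.hat_trip hn, mul_one] at ht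
  cases b
  · simpa [zb] using hb
  · simp [zb, J.z_ne] at ht

theorem hat_zero : hat z π vec 0 = 1 :=
  (D.hat_unique (by norm_num) (J.rel_symm (D.full.Mo.coords.rel_zero J)) (by simp [trip])).symm

theorem hat_sq {n : ℕ} (hn : n < 4096) : hat z π vec n * hat z π vec n = zb z (aniso n) := by
  rw [D.full.sq_of_rel (D.hat_rel n) (D.full.Mo.coords.mem n hn), D.full.sq_vec D.isV hn]
  cases aniso n <;> rfl

theorem hat_inv {n : ℕ} (hn : n < 4096) : (hat z π vec n)⁻¹ = zb z (aniso n) * hat z π vec n := by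
  refine inv_eq_of_mul_eq_one_right ?_
  rw [← mul_assoc, J.zb_comm (J.s.z_comm (D.hat_mem hn)), mul_assoc, D.hat_sq hn, ← J.zb_xor, Bool.xor_self]
  rfl

theorem hat_conj {c : ↥(CZ z π)} {B : List ℕ} (hB : Acts z vec (c : G) B) {n : ℕ} (hn : n < 4096) :
    (c : G) * hat z π vec n * (c : G)⁻¹ = hat z π vec (ap B n) := by
  obtain ⟨hcz, hcp⟩ := mem_CZ.1 c.2
  refine D.hat_unique (okB_lt hB.1 n) (J.rel_trans (J.rel_conj hcz (D.hat_rel n)) (hB.2 n hn)) ?_
  set x := hat z π vec n
  calc trip π ((c : G) * x * (c : G)⁻¹)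
      = (c : G) * x * (c : G)⁻¹ * (π * (c : G) * x * (π * (c : G))⁻¹) *
          (π⁻¹ * (c : G) * x * (π⁻¹ * (c : G))⁻¹) := by rw [trip]; group
    _ = (c : G) * trip π x * (c : G)⁻¹ := by
      rw [← hcp, ← (Commute.inv_right (show Commute (c : G) π from hcp)).eq, trip]
      group
    _ = 1 := by rw [D.hat_trip hn]; group

theorem hat_conj_pi {n : ℕ} (hn : n < 4096) : π * hat z π vec n * π⁻¹ = hat z π vec (ap gW0 n) :=
  D.hat_conj (c := ⟨π, J.pi_mem_CZ⟩) D.full.Mo.om hn

theorem hat_conj_pi_inv {n : ℕ} (hn : n < 4096) : π⁻¹ * hat z π vec n * π = hat z π vec (ap gW1 n) := by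
  have h1 := D.hat_conj_pi (okB_lt gW1_ok.1 n)
  rw [← ap_comp, gW1_ok.2.2.2, ap_idB hn] at h1
  rw [← h1]
  group

theorem hat_comm {m n : ℕ} (hm : m < 4096) (hn : n < 4096) :
    hat z π vec m * hat z π vec n = zb z (bb m n) * (hat z π vec n * hat z π vec m) := by
  have hmE := D.full.Mo.coords.mem m hm
  have hnE := D.full.Mo.coords.mem n hn
  obtain ⟨a, ha⟩ := J.rel_zb (D.hat_rel m)
  obtain ⟨b, hb⟩ := J.rel_zb (D.hat_rel n)
  rw [ha, hb]
  have hc : vec m * vec n = zb z (bb m n) * (vec n * vec m) := by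
    rcases J.comm_val hmE hnE with k | k
    · rw [((D.full.comm_vec D.isV hm hn).1 k)]
      simpa [zb] using k
    · cases hbb : bb m n
      · exfalso
        rw [(D.full.comm_vec D.isV hm hn).2 hbb] at k
        exact J.z_ne (mul_eq_right.1 k.symm)
      · simpa [zb] using k
  have key : ∀ {p q : Bool} {x y : G}, x ∈ E → y ∈ E → zb z p * x * (zb z q * y) = zb z p * zb z q * (x * y) :=
    fun {p q x y} hx _ => by
      calc zb z p * x * (zb z q * y) = zb z p * (x * zb z q) * y := by group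
        _ = _ := by rw [J.zb_comm (J.s.z_comm hx)]; group
  rw [key hmE hnE, key hnE hmE, hc]
  simp only [← mul_assoc, ← J.zb_xor]
  cases a <;> cases b <;> cases bb m n <;> rfl

theorem bb_pi {m n : ℕ} (hm : m < 4096) (hn : n < 4096) : bb (ap gW0 m) (ap gW0 n) = bb m n := by
  have hm' := okB_lt gW1_ok.2.1 m
  have hn' := okB_lt gW1_ok.2.1 n
  have h := congrArg (fun x => π * x * π⁻¹) (D.hat_comm hm hn)
  have hz : π * zb z (bb m n) * π⁻¹ = zb z (bb m n) := by rw [J.zb_comm J.piz, mul_inv_cancel_right]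
  have e : ∀ x y : G, π * (x * y) * π⁻¹ = π * x * π⁻¹ * (π * y * π⁻¹) := fun x y => by group
  simp only [e, D.hat_conj_pi hm, D.hat_conj_pi hn, hz] at h
  rw [D.hat_comm hm' hn'] at h
  exact J.zb_inj (mul_right_cancel h)

/-- The product of two representatives. -/
theorem hat_mul {m n : ℕ} (hm : m < 4096) (hn : n < 4096) :
    hat z π vec m * hat z π vec n = zb z (beta m n) * hat z π vec (m ^^^ n) := by
  have hmn : m ^^^ n < 4096 := Nat.xor_lt_two_pow (n := 12) hm hn
  have hm1 := okB_lt gW1_ok.2.1 m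
  have hn1 := okB_lt gW1_ok.2.1 n
  have hm2 := okB_lt gW1_ok.1 m
  have hn2 := okB_lt gW1_ok.1 n
  set a := hat z π vec m
  set b := hat z π vec n
  set a1 := hat z π vec (ap gW0 m)
  set b1 := hat z π vec (ap gW0 n)
  set a2 := hat z π vec (ap gW1 m)
  set b2 := hat z π vec (ap gW1 n)
  have ta : a * a1 * a2 = 1 := by
    have := D.hat_trip hm
    rwa [trip, D.hat_conj_pi hm, D.hat_conj_pi_inv hm] at this
  have tb : b * b1 * b2 = 1 := by
    have := D.hat_trip hn
    rwa [trip, D.hat_conj_pi hn, D.hat_conj_pi_inv hn] at this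
  have hcancel : bb n (ap gW0 m) = bb (ap gW0 n) (ap gW1 m) := by
    have h2 : ap gW1 m = ap gW0 (ap gW0 m) := ap_comp gW0 gW0 m
    rw [h2, D.bb_pi hn hm1]
  have hEz : ∀ {x : G}, x ∈ E → ∀ p, x * zb z p = zb z p * x := fun hx p => J.zb_comm (J.s.z_comm hx) p
  have htr : trip π (a * b) = zb z (beta m n) := by
    have e1 : trip π (a * b) = a * b * (a1 * b1) * (a2 * b2) := by
      rw [trip, show π * (a * b) * π⁻¹ = π * a * π⁻¹ * (π * b * π⁻¹) by group,
        show π⁻¹ * (a * b) * π = π⁻¹ * a * π * (π⁻¹ * b * π) by group, D.hat_conj_pi hm, D.hat_conj_pi hn,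
        D.hat_conj_pi_inv hm, D.hat_conj_pi_inv hn]
    rw [e1]
    have c1 : b * a1 = zb z (bb n (ap gW0 m)) * (a1 * b) := D.hat_comm hn hm1
    have c2 : b1 * a2 = zb z (bb (ap gW0 n) (ap gW1 m)) * (a2 * b1) := D.hat_comm hn1 hm2
    have c3 : b * a2 = zb z (bb n (ap gW1 m)) * (a2 * b) := D.hat_comm hn hm2
    have ma : a ∈ E := D.hat_mem hm
    have ma1 : a * a1 ∈ E := E.mul_mem ma (D.hat_mem hm1)
    have mab : a * a1 * b ∈ E := E.mul_mem ma1 (D.hat_mem hn)
    calc a * b * (a1 * b1) * (a2 * b2) = a * (b * a1) * b1 * a2 * b2 := by group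
      _ = a * zb z (bb n (ap gW0 m)) * a1 * b * (b1 * a2) * b2 := by rw [c1]; group
      _ = zb z (bb n (ap gW0 m)) * a * a1 * b * (zb z (bb (ap gW0 n) (ap gW1 m)) * (a2 * b1)) * b2 := by
        rw [hEz ma, c2]
      _ = zb z (bb n (ap gW0 m)) * (a * a1 * b * zb z (bb (ap gW0 n) (ap gW1 m))) * (a2 * b1) * b2 := by group
      _ = zb z (bb n (ap gW0 m)) * zb z (bb (ap gW0 n) (ap gW1 m)) * (a * a1 * (b * a2) * b1 * b2) := by
        rw [hEz mab]; group
      _ = a * a1 * (b * a2) * b1 * b2 := by rw [← J.zb_xor, hcancel, Bool.xor_self]; simp [zb]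
      _ = a * a1 * zb z (beta m n) * a2 * b * b1 * b2 := by rw [c3, beta]; group
      _ = zb z (beta m n) * (a * a1 * a2 * (b * b1 * b2)) := by
        rw [hEz ma1]; group
      _ = zb z (beta m n) := by rw [ta, tb, mul_one, mul_one]
  have hE : a * b ∈ E := E.mul_mem (D.hat_mem hm) (D.hat_mem hn)
  have hrel : Rel z (zb z (beta m n) * (a * b)) (vec (m ^^^ n)) := by
    refine J.rel_trans (b := a * b) ?_ ?_
    · cases beta m n
      · exact Or.inl (one_mul _)
      · exact Or.inr rfl
    · exact J.rel_trans (J.rel_mul (J.s.z_comm (D.full.Mo.coords.mem m hm)) (D.hat_rel m) (D.hat_rel n))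
        (J.rel_symm (D.full.Mo.coords.add m n hm hn))
  rw [← D.hat_unique hmn hrel (by rw [J.trip_zb hE, htr, ← J.zb_xor, Bool.xor_self]; rfl),
    ← mul_assoc, ← J.zb_xor, Bool.xor_self]
  exact (one_mul _).symm

end Ctx.Std

end CfsgLib.JFour
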