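import Cfsg.Agent.Lib.JFour.TOuter

/-!
# An outer involution inverting `π` and centralizing a dihedral group of order eight
-/

set_option autoImplicit false
set_option maxRecDepth 100000
set_option linter.style.haveILetI false
set_option linter.unusedSectionVars false

open Cfsg

namespace CfsgLib.JFour

namespace Ctx.Std

variable {G : Type*} [Group G] [Finite G] {M : Type*} [Group M] [Finite M] {z π : G} {E : Subgroup G}
variable {J : Ctx M z π E} {g : ℕ → M} {vec : ℕ → G} {V : Subgroup G} (D : J.Std g vec V)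
include D

theorem ev_sq (n : ℕ) : ev J g vec n * ev J g vec n = 1 := D.isV.sq _ (D.ev_mem n)

theorem ev_inv (n : ℕ) : (ev J g vec n)⁻¹ = ev J g vec n := inv_eq_of_mul_eq_one_right (D.ev_sq n)

theorem vacts_inj {m : G} {L L' : List ℕ} (h : VActs J g vec m L) (h' : VActs J g vec m L') {n : ℕ} (hn : n < 2048) :
    ap L n = ap L' n :=
  D.ev_inj (okL_lt h.1 n) (okL_lt h'.1 n) ((h.2 n hn).symm.trans (h'.2 n hn))

/-- Conjugating an element with known action. -/
theorem vacts_model {m y : G} {Ln Ly L R : List ℕ} (hm : VActs J g vec m Ln) (hy : VActs J g vec y Ly)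
    (hL : okL L = true) (hR : comp R Ln = id11) (hR' : comp Ln R = id11) (h : comp Ln Ly = comp L Ln) :
    VActs J g vec (m * y * m⁻¹) L := by
  refine ⟨hL, fun n hn => ?_⟩
  have hmi : m⁻¹ * ev J g vec n * m = ev J g vec (ap R n) := by
    have hlt : ap R n % 2048 < 2048 := Nat.mod_lt _ (by norm_num)
    obtain ⟨k, hk, hkn⟩ := D.ev_surj (D.conj_mem (inv_mem (D.vacts_mem hm)) (D.ev_mem n))
    have e : ap Ln k = n := by
      refine D.ev_inj (okL_lt hm.1 k) hn ?_
      rw [← hm.2 k hk, hkn]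
      group
    have : k = ap R n := by rw [← e, ← ap_comp, hR, ap_id11 hk]
    rw [← this, hkn, inv_inv]
  have hRlt : ap R n < 2048 := by
    obtain ⟨k, hk, hkn⟩ := D.ev_surj (D.conj_mem (inv_mem (D.vacts_mem hm)) (D.ev_mem n))
    have e : ap Ln k = n := by
      refine D.ev_inj (okL_lt hm.1 k) hn ?_
      rw [← hm.2 k hk, hkn]
      group
    rwa [show ap R n = k by rw [← e, ← ap_comp, hR, ap_id11 hk]]
  rw [show m * y * m⁻¹ * ev J g vec n * (m * y * m⁻¹)⁻¹ = m * (y * (m⁻¹ * ev J g vec n * m) * y⁻¹) * m⁻¹ by group,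
    hmi, hy.2 _ hRlt, hm.2 _ (okL_lt hy.1 _)]
  congr 1
  rw [← ap_comp, h, ap_comp, ← ap_comp Ln R, hR', ap_id11 hn]

/-- The two involutions of the centralizer. -/
theorem exists_dihedral : ∃ s t : G, (NActs J g vec s (wMat sWd) (wPerm sWd) ∧ VActs J g vec s LsV ∧ s * s = 1) ∧
    (NActs J g vec t (wMat tWd) (wPerm tWd) ∧ VActs J g vec t LtV ∧ t * t = 1) ∧
    s * t * (s * t) * (s * t * (s * t)) = 1 := by
  have key : ∀ {d : G} {B : List ℕ} {L : List ℕ}, d ∈ CZ z π → Acts z vec d B → VActs J g vec d L →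
      comp L L = id11 → comp B B = idB → d * d = 1 := by
    intro d B L hd hB hL hLL hBB
    have hdd : VActs J g vec (d * d) id11 := hLL ▸ D.vacts_mul hL hL
    have hV : d * d ∈ V := by
      have := D.vacts_unique D.vacts_one hdd
      rwa [inv_one, one_mul] at this
    obtain ⟨n, hn, hne⟩ := D.ev_surj hV
    have hdp := (mem_CZ.1 hd).2
    have hfix : ap LpV n = n := (D.comm_pi_iff hn).1 (by
      rw [hne]
      exact (show Commute (d * d) π from (show Commute d π from hdp).mul_left hdp).eq)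
    have hn5 := (m5_iff hn).1.2 hfix
    have hA := D.m5_acts hn5
    rw [hne] at hA
    have hAA : Acts z vec (d * d) idB := hBB ▸ D.full.Mo.coords.acts_mul J hB (mem_CZ.1 hd).1 hB (by rw [hBB]; rfl)
    have hS : n / 128 < 16 := by omega
    have h0 : n / 128 = 0 := by
      have h := List.all_eq_true.1 hex_faithful (n / 128) (List.mem_range.2 hS)
      simp only [Bool.or_eq_true, Nat.beq_eq, Bool.not_eq_true', beq_eq_false_iff_ne] at h
      refine h.resolve_right fun hne' => hne' ?_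
      have hl : (hexT.getD (n / 128) []).length = 12 := by
        have := hA.1
        simp only [okB, Bool.and_eq_true, beq_iff_eq] at this
        exact this.1
      refine List.ext_getElem (by rw [hl]; rfl) fun i hi hi' => ?_
      have := D.full.Mo.coords.acts_eq J hA hAA (2 ^ i)
        (Nat.pow_lt_pow_right (n := 12) (by norm_num) (by omega))
      rwa [ap_pow, ap_pow, List.getD_eq_getElem _ _ hi, List.getD_eq_getElem _ _ hi'] at this
    have hE : d * d ∈ E := by rw [← hne]; exact (D.ev_mem_E hn).2 (by omega)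
    refine J.sq_eq_one D.small (c := ⟨d, hd⟩) ?_
    exact J.eq_center_of_mem_E (mul_mem hd hd) hE
  have hw : ∀ w ∈ [sWd, tWd], ∀ k ∈ w, k < 4 := by decide
  obtain ⟨s, hs, -⟩ := D.exists_word (hw sWd (by simp))
  obtain ⟨t, ht, -⟩ := D.exists_word (hw tWd (by simp))
  have hsV : VActs J g vec s LsV := D.nacts_vacts (by simp) hs
  have htV : VActs J g vec t LtV := D.nacts_vacts (by simp) ht
  obtain ⟨m1, m2, -, m4, -⟩ := mat_ok
  obtain ⟨v1, v2, v3, -⟩ := vec_ok
  refine ⟨s, t, ⟨hs, hsV, key hs.1 hs.2.1 hsV v1 m1⟩, ⟨ht, htV, key ht.1 ht.2.1 htV v2 m2⟩, ?_⟩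
  have hst := D.nacts_mul hs ht
  have hu := D.nacts_mul hst hst
  exact key hu.1 hu.2.1 (D.vacts_mul (D.vacts_mul hsV htV) (D.vacts_mul hsV htV)) v3 m4

/-- An involution with one of the four actions of the outer coset. -/
theorem exists_coset {i : ℕ} {p : ℕ × ℕ × List ℕ}
    (hp : p ∈ [(0, 0, outL), (1, 1, comp outL LsV), (2, 0, comp outL LtV), (3, 1, comp outL LuV)]) (_hi : p.1 = i) :
    ∃ y : G, y * y = 1 ∧ VActs J g vec y p.2.2 := by
  have h := List.all_eq_true.1 conj_ok p hp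
  simp only [Bool.and_eq_true, beq_iff_eq] at h
  obtain ⟨⟨⟨⟨⟨h1, h2⟩, h3⟩, h4⟩, h5⟩, h6⟩ := h
  obtain ⟨m, hm⟩ := D.realize h1 h2 (R := conjR.getD p.1 []) (List.all_eq_true.2 fun n hn => by
    rw [nat_beq_decide, decide_eq_true_eq, ← ap_comp, h3, ap_id11 (List.mem_range.1 hn)])
  obtain ⟨y, hy2, hy⟩ : ∃ y : G, y * y = 1 ∧ VActs J g vec y (cond (Nat.beq p.2.1 0) LsV (actH 3842)) := by
    cases hb : Nat.beq p.2.1 0
    · exact ⟨_, by rw [D.hat_sq sing_ok.2, sing_ok.1]; rfl, D.vacts_hat sing_ok.2⟩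
    · obtain ⟨s, t, ⟨-, hsV, hs2⟩, -⟩ := D.exists_dihedral
      exact ⟨s, hs2, hsV⟩
  refine ⟨m * y * m⁻¹, ?_, D.vacts_model hm hy h5 h3 h4 h6⟩
  rw [show m * y * m⁻¹ * (m * y * m⁻¹) = m * (y * y) * m⁻¹ by group, hy2]
  group

/-- The outer involution inverts `π`. -/
theorem exists_invert : ∃ τ : G, τ * τ = 1 ∧ VActs J g vec τ outL ∧ τ * π * τ = π⁻¹ := by
  obtain ⟨τ, hτ2, hτ⟩ := D.exists_coset (i := 0) (p := (0, 0, outL)) (by simp) rfl
  simp only at hτ
  have hτi : τ⁻¹ = τ := inv_eq_of_mul_eq_one_right hτ2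
  obtain ⟨-, -, -, v4, -, v6, -, -, -, v10, -⟩ := vec_ok
  have hw : VActs J g vec (τ * π * τ) Lp2V := v6 ▸ D.vacts_mul (D.vacts_mul hτ D.vacts_pi) hτ
  obtain ⟨n, hn, hne⟩ := D.ev_surj (D.vacts_unique D.vacts_pi_inv hw)
  rw [inv_inv] at hne
  have hv : τ * π * τ = π⁻¹ * ev J g vec n := by rw [hne]; group
  set v := ev J g vec n with hvdef
  have hp := fun k (hk : k < 2048) => D.vacts_pi.2 k hk
  have hpi := fun k (hk : k < 2048) => D.vacts_pi_inv.2 k hk
  have hcube : π⁻¹ * v * (π⁻¹ * v) * (π⁻¹ * v) = 1 := by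
    rw [← hv, show τ * π * τ * (τ * π * τ) * (τ * π * τ) = τ * π * (τ * τ) * π * (τ * τ) * π * τ by group, hτ2]
    rw [show τ * π * 1 * π * 1 * π * τ = τ * (π * π * π) * τ by group, J.pi3, mul_one, hτ2]
  have h0 : avgV n = 0 := by
    have e : π⁻¹ * v * π⁻¹⁻¹ * (π * v * π⁻¹) * v = 1 := by
      rw [show π * v * π⁻¹ = (π * π * π) * (π⁻¹ * π⁻¹ * v * π⁻¹) * 1 by group, J.pi3, one_mul, mul_one]
      calc π⁻¹ * v * π⁻¹⁻¹ * (π⁻¹ * π⁻¹ * v * π⁻¹) * v = π⁻¹ * v * (π⁻¹ * v) * (π⁻¹ * v) := by group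
        _ = 1 := hcube
    rw [hvdef, hpi n hn, hp n hn, ← D.ev_xor, ← D.ev_xor] at e
    refine D.ev_inj ?_ (by norm_num) (?_ : ev J g vec (avgV n) = ev J g vec 0)
    · exact Nat.xor_lt_two_pow (n := 11) (Nat.xor_lt_two_pow (n := 11) hn (okL_lt D.vacts_pi.1 n))
        (okL_lt D.vacts_pi_inv.1 n)
    · rw [D.ev_zero, ← e]
      congr 1
      show n ^^^ ap LpV n ^^^ ap Lp2V n = _
      ac_rfl
  have hR : ap outL n = ap Lp2V n := by
    have h := hτ.2 n hn
    rw [hτi] at h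
    have hi : τ * π⁻¹ * τ = v * π := by
      rw [show τ * π⁻¹ * τ = (τ⁻¹ * π * τ⁻¹)⁻¹ by group, hτi, hv, mul_inv_rev, inv_inv, hvdef, D.ev_inv]
    have e : π = v * π * ev J g vec (ap outL n) := by
      calc π = τ * τ * π * (τ * τ) := by rw [hτ2]; group
        _ = τ * (τ * π * τ) * τ := by group
        _ = τ * π⁻¹ * (τ * τ) * v * τ := by rw [hv, hτ2]; group
        _ = τ * π⁻¹ * τ * (τ * v * τ) := by group
        _ = _ := by rw [hi, h]
    refine D.ev_inj (okL_lt hτ.1 n) (okL_lt D.vacts_pi_inv.1 n) ?_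
    rw [← hpi n hn, inv_inv]
    calc ev J g vec (ap outL n) = π⁻¹ * v⁻¹ * (v * π * ev J g vec (ap outL n)) := by group
      _ = π⁻¹ * v⁻¹ * π := by rw [← e]
      _ = _ := by rw [hvdef, D.ev_inv]
  have h := List.all_eq_true.1 hone_ok n (List.mem_range.2 hn)
  have hb1 : Nat.beq (avgV n) 0 = true := by rw [h0]; rfl
  have hb2 : Nat.beq (ap outL n) (ap Lp2V n) = true := by rw [hR]; exact Nat.beq_refl _
  rw [hb1, hb2, Bool.and_self, Bool.not_true, Bool.false_or, List.any_eq_true] at h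
  obtain ⟨k, hk, hkn⟩ := h
  have hk' := List.mem_range.1 hk
  rw [Nat.beq_eq] at hkn
  set w := ev J g vec k with hwdef
  have hwi : w⁻¹ = w := D.ev_inv k
  refine ⟨w * τ * w, ?_, ?_, ?_⟩
  · calc w * τ * w * (w * τ * w) = w * τ * (w * w) * τ * w := by group
      _ = 1 := by rw [D.ev_sq, mul_one, mul_assoc w τ τ, hτ2, mul_one, D.ev_sq]
  · have hWV := D.vacts_V (D.ev_mem k)
    have h1 := D.vacts_mul (D.vacts_mul hWV hτ) hWV
    refine ⟨hτ.1, fun a ha => ?_⟩
    rw [h1.2 a ha, ap_comp, ap_id11 ha, ap_comp, ap_id11 (okL_lt hτ.1 a)]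
  · have hπw : π⁻¹ * w * π = ev J g vec (ap Lp2V k) := by
      have := hpi k hk'
      rwa [inv_inv] at this
    have hwπ : w * π * w = π * ev J g vec (Nat.xor k (ap Lp2V k)) := by
      rw [show Nat.xor k (ap Lp2V k) = ap Lp2V k ^^^ k from Nat.xor_comm _ _, D.ev_xor, ← hπw, ← hwdef]
      group
    have hτm : τ * ev J g vec (Nat.xor k (ap Lp2V k)) * τ = ev J g vec (ap outL (Nat.xor k (ap Lp2V k))) := by
      have := hτ.2 (Nat.xor k (ap Lp2V k)) (Nat.xor_lt_two_pow (n := 11) hk' (okL_lt D.vacts_pi_inv.1 k))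
      rwa [hτi] at this
    calc w * τ * w * π * (w * τ * w) = w * τ * (w * π * w) * τ * w := by group
      _ = w * ((τ * π * τ) * (τ * ev J g vec (Nat.xor k (ap Lp2V k)) * τ)) * w := by
        rw [hwπ, show τ * π * τ * (τ * ev J g vec (Nat.xor k (ap Lp2V k)) * τ) =
          τ * π * (τ * τ) * ev J g vec (Nat.xor k (ap Lp2V k)) * τ by group, hτ2]
        group
      _ = π⁻¹ * ((π * w * π⁻¹) * (v * ev J g vec (ap outL (Nat.xor k (ap Lp2V k)))) * w) := by
        rw [hτm, hv]; group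
      _ = π⁻¹ := by
        rw [hwdef, hp k hk', hvdef, ← D.ev_xor, ← D.ev_xor, ← D.ev_xor, hkn]
        conv_rhs => rw [← mul_one π⁻¹, ← D.ev_zero]
        congr 2
        simp only [show ∀ a b : ℕ, Nat.xor a b = a ^^^ b from fun _ _ => rfl]
        rw [show ∀ a b c d : ℕ, a ^^^ (b ^^^ a ^^^ c ^^^ d) ^^^ b = c ^^^ d from fun a b c d => by
          calc a ^^^ (b ^^^ a ^^^ c ^^^ d) ^^^ b = (a ^^^ a) ^^^ (b ^^^ b) ^^^ (c ^^^ d) := by ac_rfl
            _ = _ := by simp]
        simp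

/-- The data of an involution `d` twisted by `τ`. -/
theorem twist {τ d : G} {L : List ℕ} (hτ2 : τ * τ = 1) (hτ : VActs J g vec τ outL) (hd2 : d * d = 1)
    (hd : VActs J g vec d L) (hdp : d * π = π * d) (hτp : τ * π * τ = π⁻¹) (hc : comp (comp outL L) outL = L) :
    ∃ n ∈ m5, τ * d * τ = d * ev J g vec n ∧ ap L n = n ∧ ap outL n = n := by
  have hτi : τ⁻¹ = τ := inv_eq_of_mul_eq_one_right hτ2
  have hdi : d⁻¹ = d := inv_eq_of_mul_eq_one_right hd2
  have hw : VActs J g vec (τ * d * τ) L := hc ▸ D.vacts_mul (D.vacts_mul hτ hd) hτ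
  obtain ⟨n, hn, hne⟩ := D.ev_surj (D.vacts_unique hd hw)
  have hv : τ * d * τ = d * ev J g vec n := by rw [hne]; group
  refine ⟨n, (m5_iff hn).1.2 ((D.comm_pi_iff hn).1 ?_), hv, ?_, ?_⟩
  · rw [hne]
    have h1 : Commute (τ * d * τ) π := by
      have h : τ * (d * π⁻¹) * τ = τ * (π⁻¹ * d) * τ := by
        rw [(Commute.inv_right (show Commute d π from hdp)).eq]
      show τ * d * τ * π = π * (τ * d * τ)
      have hπ : π = τ * π⁻¹ * τ := by
        rw [← hτp, show τ * (τ * π * τ) * τ = τ * τ * π * (τ * τ) by group, hτ2, one_mul, mul_one]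
      calc τ * d * τ * π = τ * d * τ * (τ * π⁻¹ * τ) := by rw [← hπ]
        _ = τ * d * (τ * τ) * π⁻¹ * τ := by group
        _ = τ * (d * π⁻¹) * τ := by rw [hτ2]; group
        _ = τ * (π⁻¹ * d) * τ := h
        _ = τ * π⁻¹ * (τ * τ) * d * τ := by rw [hτ2]; group
        _ = τ * π⁻¹ * τ * (τ * d * τ) := by group
        _ = _ := by rw [← hπ]
    exact ((show Commute d π from hdp).inv_left.mul_left h1).eq
  · refine D.ev_inj (okL_lt hd.1 n) hn ?_
    have hsq : d * ev J g vec n * (d * ev J g vec n) = 1 := by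
      rw [← hv, show τ * d * τ * (τ * d * τ) = τ * d * (τ * τ) * d * τ by group, hτ2, mul_one, mul_assoc τ d d, hd2,
        mul_one, hτ2]
    rw [← hd.2 n hn, hdi]
    calc d * ev J g vec n * d = d * ev J g vec n * (d * ev J g vec n) * (ev J g vec n)⁻¹ := by group
      _ = _ := by rw [hsq, one_mul, D.ev_inv]
  · refine D.ev_inj (okL_lt hτ.1 n) hn ?_
    have h := hτ.2 n hn
    rw [hτi] at h
    rw [← h]
    have e : d = d * ev J g vec n * (τ * ev J g vec n * τ) := by
      calc d = τ * τ * d * (τ * τ) := by rw [hτ2]; group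
        _ = τ * (τ * d * τ) * τ := by group
        _ = τ * d * (τ * τ) * ev J g vec n * τ := by rw [hv, hτ2]; group
        _ = _ := by rw [← hv]; group
    calc τ * ev J g vec n * τ = (ev J g vec n)⁻¹ * d⁻¹ * (d * ev J g vec n * (τ * ev J g vec n * τ)) := by group
      _ = (ev J g vec n)⁻¹ * d⁻¹ * d := by rw [← e]
      _ = _ := by rw [D.ev_inv]; group

/-- An involution in the coset limits the displacement. -/
theorem twist_coset {τ d : G} {L : List ℕ} {i : ℕ} {j : ℕ} (hτ2 : τ * τ = 1) (hτ : VActs J g vec τ outL)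
    (hd2 : d * d = 1) (hd : VActs J g vec d L) (hL : L ∈ [LsV, LtV, LuV])
    (hp : (i, j, comp outL L) ∈ [(0, 0, outL), (1, 1, comp outL LsV), (2, 0, comp outL LtV), (3, 1, comp outL LuV)])
    {n : ℕ} (hn : n ∈ m5) (hv : τ * d * τ = d * ev J g vec n) (hLn : ap L n = n) : n ∈ imgT L := by
  have hτi : τ⁻¹ = τ := inv_eq_of_mul_eq_one_right hτ2
  have hdi : d⁻¹ = d := inv_eq_of_mul_eq_one_right hd2
  obtain ⟨y, hy2, hy⟩ := D.exists_coset (i := i) hp rfl
  obtain ⟨k, hk, hke⟩ := D.ev_surj (D.vacts_unique (D.vacts_mul hτ hd) hy)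
  have hy' : y = τ * d * ev J g vec k := by rw [hke]; group
  have hn' := m5_lt hn
  have hk2 := hτ.2 k hk
  rw [hτi] at hk2
  have hk3 := hd.2 (n ^^^ ap outL k) (Nat.xor_lt_two_pow (n := 11) hn' (okL_lt hτ.1 k))
  rw [hdi] at hk3
  have e : ev J g vec (ap L (n ^^^ ap outL k) ^^^ k) = 1 := by
    rw [D.ev_xor, ← hk3, D.ev_xor, ← hk2, ← hy2, hy']
    calc d * (ev J g vec n * (τ * ev J g vec k * τ)) * d * ev J g vec k
        = d * ev J g vec n * (τ * ev J g vec k * τ) * d * ev J g vec k := by group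
      _ = τ * d * τ * (τ * ev J g vec k * τ) * d * ev J g vec k := by rw [hv]
      _ = τ * d * (τ * τ) * ev J g vec k * τ * d * ev J g vec k := by group
      _ = _ := by rw [hτ2]; group
  have hk0 : ap L (n ^^^ ap outL k) ^^^ k = 0 :=
    D.ev_inj (Nat.xor_lt_two_pow (n := 11) (okL_lt hd.1 _) hk) (by norm_num) (e.trans D.ev_zero.symm)
  rw [ap_xor, hLn] at hk0
  have hnk : n = k ^^^ ap L (ap outL k) := by
    calc n = (n ^^^ ap L (ap outL k) ^^^ k) ^^^ (k ^^^ ap L (ap outL k)) := by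
          calc n = n ^^^ (ap L (ap outL k) ^^^ ap L (ap outL k)) ^^^ (k ^^^ k) := by simp
            _ = _ := by ac_rfl
      _ = _ := by rw [hk0, Nat.zero_xor]
  have havg := List.all_eq_true.1 avg_ok L hL
  simp only [Bool.and_eq_true, List.all_eq_true, List.mem_range, Nat.beq_eq] at havg
  obtain ⟨h1, h2⟩ := havg.2 k hk
  have havL : ∀ a b, avgV (a ^^^ b) = avgV a ^^^ avgV b := fun a b => by
    simp only [avgV, show ∀ a b : ℕ, Nat.xor a b = a ^^^ b from fun _ _ => rfl, ap_xor]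
    ac_rfl
  have hnf := (m5_iff hn').1.1 hn
  have hnn : avgV n = n := by
    show n ^^^ ap LpV n ^^^ ap Lp2V n = n
    rw [Lp2V, ap_comp, hnf, hnf]
    simp
  have hklt : avgV k < 2048 := Nat.xor_lt_two_pow (n := 11) (Nat.xor_lt_two_pow (n := 11) hk (okL_lt D.vacts_pi.1 k))
    (okL_lt D.vacts_pi_inv.1 k)
  refine List.mem_map.2 ⟨avgV k, (m5_iff hklt).1.2 h2, ?_⟩
  rw [← h1]
  conv_rhs => rw [← hnn, hnk, havL]
  rfl

/-- The outer involution commutes with the dihedral group. -/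
theorem exists_commute {s t : G} (hs : NActs J g vec s (wMat sWd) (wPerm sWd)) (hsV : VActs J g vec s LsV)
    (hs2 : s * s = 1) (ht : NActs J g vec t (wMat tWd) (wPerm tWd)) (htV : VActs J g vec t LtV) (ht2 : t * t = 1)
    (hu2 : s * t * (s * t) * (s * t * (s * t)) = 1) :
    ∃ τ : G, τ * τ = 1 ∧ VActs J g vec τ outL ∧ τ * π * τ = π⁻¹ ∧ τ * s * τ = s ∧ τ * t * τ = t := by
  obtain ⟨τ, hτ2, hτ, hτp⟩ := D.exists_invert
  have hτi : τ⁻¹ = τ := inv_eq_of_mul_eq_one_right hτ2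
  have hsp := (mem_CZ.1 hs.1).2
  have htp := (mem_CZ.1 ht.1).2
  obtain ⟨v1, v2, v3, v4, -, -, v7, v8, -⟩ := vec_ok
  obtain ⟨n, hn, hsv, hsn, hτn⟩ := D.twist hτ2 hτ hs2 hsV hsp hτp v7
  obtain ⟨m, hm, htv, htm, hτm⟩ := D.twist hτ2 hτ ht2 htV htp hτp v8
  have huV : VActs J g vec (s * t * (s * t)) LuV := D.vacts_mul (D.vacts_mul hsV htV) (D.vacts_mul hsV htV)
  have hn' := m5_lt hn
  have hm' := m5_lt hm
  set e := ap LtV n ^^^ m with he
  have he' : e < 2048 := Nat.xor_lt_two_pow (n := 11) (okL_lt htV.1 n) hm'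
  have hst : τ * (s * t) * τ = s * t * ev J g vec e := by
    have h := htV.2 n hn'
    rw [inv_eq_of_mul_eq_one_right ht2] at h
    rw [he, D.ev_xor, ← h]
    calc τ * (s * t) * τ = τ * s * (τ * τ) * t * τ := by rw [hτ2]; group
      _ = τ * s * τ * (τ * t * τ) := by group
      _ = s * (t * t) * ev J g vec n * (t * ev J g vec m) := by rw [hsv, htv, ht2]; group
      _ = _ := by group
  have huv : τ * (s * t * (s * t)) * τ = s * t * (s * t) * ev J g vec (dispU n m) := by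
    have h1 := hsV.2 e he'
    have h2 := htV.2 (ap LsV e) (okL_lt hsV.1 e)
    rw [show dispU n m = ap LtV (ap LsV e) ^^^ e from rfl, D.ev_xor, ← h2, ← h1]
    calc τ * (s * t * (s * t)) * τ = τ * (s * t) * (τ * τ) * (s * t) * τ := by rw [hτ2]; group
      _ = τ * (s * t) * τ * (τ * (s * t) * τ) := by group
      _ = s * t * ev J g vec e * (s * t * ev J g vec e) := by rw [hst]
      _ = _ := by
        rw [inv_eq_of_mul_eq_one_right ht2, inv_eq_of_mul_eq_one_right hs2]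
        calc s * t * ev J g vec e * (s * t * ev J g vec e)
            = s * t * (s * (t * t) * s) * ev J g vec e * (s * t) * ev J g vec e := by
              rw [ht2, mul_one, hs2]; group
          _ = _ := by group
  have hup : Commute (s * t * (s * t)) π :=
    ((show Commute s π from hsp).mul_left htp).mul_left ((show Commute s π from hsp).mul_left htp)
  have hcu : comp (comp outL LuV) outL = LuV := by decide +kernel
  obtain ⟨d, hd, hdv, hdn, -⟩ := D.twist hτ2 hτ hu2 huV hup.eq hτp hcu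
  have hdd : d = dispU n m := by
    refine D.ev_inj (m5_lt hd) ?_ (mul_left_cancel (hdv.symm.trans huv))
    exact Nat.xor_lt_two_pow (n := 11) (okL_lt htV.1 _) he'
  subst hdd
  have c1 := D.twist_coset (i := 1) (j := 1) hτ2 hτ hs2 hsV (by simp) (by simp) hn hsv hsn
  have c2 := D.twist_coset (i := 2) (j := 0) hτ2 hτ ht2 htV (by simp) (by simp) hm htv htm
  have c3 := D.twist_coset (i := 3) (j := 1) hτ2 hτ hu2 huV (by simp) (by simp) hd hdv hdn
  have hc : ∀ {L : List ℕ} {a : ℕ}, a ∈ m5 → ap L a = a → ap outL a = a → a ∈ imgT L → a ∈ candT L :=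
    fun h1 h2 h3 h4 => by
      simp only [candT, List.mem_filter, Bool.and_eq_true, Nat.beq_eq, List.contains_iff_mem]
      exact ⟨h1, ⟨h2, h3⟩, h4⟩
  have h := List.all_eq_true.1 (List.all_eq_true.1 fix_cand_ok n (hc hn hsn hτn c1)) m (hc hm htm hτm c2)
  rw [List.contains_iff_mem.2 c3, Bool.not_true, Bool.false_or, List.any_eq_true] at h
  obtain ⟨k, hk5, hk⟩ := h
  simp only [Bool.and_eq_true, Nat.beq_eq] at hk
  obtain ⟨⟨hk1, hk2⟩, hk3⟩ := hk
  have hk' := m5_lt hk5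
  set v := ev J g vec k with hvdef
  have hτv : τ * v = v * τ := by
    have h := hτ.2 k hk'
    rw [hk1] at h
    exact mul_inv_eq_iff_eq_mul.1 h
  have hvp : v * π = π * v := (D.comm_pi_iff hk').2 ((m5_iff hk').1.1 hk5)
  refine ⟨τ * v, ?_, ?_, ?_, ?_, ?_⟩
  · calc τ * v * (τ * v) = τ * v * (v * τ) := by rw [hτv]
      _ = τ * (v * v) * τ := by group
      _ = 1 := by rw [D.ev_sq, mul_one, hτ2]
  · refine ⟨hτ.1, fun a ha => ?_⟩
    rw [(D.vacts_mul hτ (D.vacts_V (D.ev_mem k))).2 a ha, ap_comp, ap_id11 ha]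
  · calc τ * v * π * (τ * v) = τ * v * π * (v * τ) := by rw [← hτv]
      _ = τ * (v * π) * (v * τ) := by group
      _ = τ * π * (v * v) * τ := by rw [hvp]; simp only [mul_assoc]
      _ = π⁻¹ := by rw [D.ev_sq, mul_one, hτp]
  all_goals
    rw [show ∀ x : G, τ * v * x * (τ * v) = τ * (v * x * v) * τ from fun x => by
      calc τ * v * x * (τ * v) = τ * v * x * (v * τ) := by rw [hτv]
        _ = _ := by group]
  · have h := hsV.2 k hk'
    rw [inv_eq_of_mul_eq_one_right hs2] at h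
    have h' := hτ.2 (ap LsV k ^^^ k) (Nat.xor_lt_two_pow (n := 11) (okL_lt hsV.1 k) hk')
    rw [hτi] at h'
    calc τ * (v * s * v) * τ = τ * (s * s) * v * s * v * τ := by rw [hs2]; group
      _ = τ * s * (τ * τ) * (s * v * s * v) * τ := by rw [hτ2]; group
      _ = τ * s * τ * (τ * (s * v * s * v) * τ) := by group
      _ = s * ev J g vec n * (τ * ev J g vec (ap LsV k ^^^ k) * τ) := by rw [hsv, D.ev_xor, ← h]
      _ = s := by rw [h', show ap LsV k ^^^ k = Nat.xor (ap LsV k) k from rfl, ← hk2, mul_assoc, D.ev_sq, mul_one]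
  · have h := htV.2 k hk'
    rw [inv_eq_of_mul_eq_one_right ht2] at h
    have h' := hτ.2 (ap LtV k ^^^ k) (Nat.xor_lt_two_pow (n := 11) (okL_lt htV.1 k) hk')
    rw [hτi] at h'
    calc τ * (v * t * v) * τ = τ * (t * t) * v * t * v * τ := by rw [ht2]; group
      _ = τ * t * (τ * τ) * (t * v * t * v) * τ := by rw [hτ2]; group
      _ = τ * t * τ * (τ * (t * v * t * v) * τ) := by group
      _ = t * ev J g vec m * (τ * ev J g vec (ap LtV k ^^^ k) * τ) := by rw [htv, D.ev_xor, ← h]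
      _ = t := by rw [h', show ap LtV k ^^^ k = Nat.xor (ap LtV k) k from rfl, ← hk3, mul_assoc, D.ev_sq, mul_one]

end Ctx.Std

end CfsgLib.JFour
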