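import Cfsg.Agent.Lib.JFour.TOutDefs

/-!
# Kernel checks for the outer involution and the complement
-/

set_option autoImplicit false
set_option Elab.async false
set_option maxRecDepth 100000

namespace CfsgLib.JFour

theorem word_ok : [sWd, tWd, oneWd, imgWd, [2]].all (fun w => okL (vWd w) && okB (wMat w) &&
    (List.range 6).all fun j => fixV.contains (ap (wMat w) (uC (2 ^ j)))) = true := by
  decide +kernel

theorem mat_ok : comp (wMat sWd) (wMat sWd) = idB ∧ comp (wMat tWd) (wMat tWd) = idB ∧
    comp (comp (wMat sWd) (wMat tWd)) (comp (wMat sWd) (wMat tWd)) ≠ idB ∧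
    comp (comp (comp (wMat sWd) (wMat tWd)) (comp (wMat sWd) (wMat tWd)))
      (comp (comp (wMat sWd) (wMat tWd)) (comp (wMat sWd) (wMat tWd))) = idB ∧
    wMat [2] = gW0 ∧ wPerm sWd 14 = 14 ∧ wPerm tWd 14 = 14 := by
  decide +kernel

theorem vec_ok : comp LsV LsV = id11 ∧ comp LtV LtV = id11 ∧ comp LuV LuV = id11 ∧ comp outL outL = id11 ∧
    okL outL = true ∧ comp (comp outL LpV) outL = Lp2V ∧ comp (comp outL LsV) outL = LsV ∧
    comp (comp outL LtV) outL = LtV ∧ comp (comp outL (vWd oneWd)) outL = vWd imgWd ∧
    comp LpV Lp2V = id11 ∧ comp (comp outL (actH wGen)) outL = actH (ap outB wGen) := by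
  decide +kernel

theorem hex_faithful : (List.range 16).all (fun S => Nat.beq S 0 || !(hexT.getD S [] == idB)) = true := by
  decide +kernel

theorem fix_ok : (List.range 2048).all (fun n => (!Nat.beq (ap LpV n) n || m5.contains n) &&
    (!m5.contains n || (Nat.beq (ap LpV n) n && Nat.beq (n % 64) 0))) = true := by
  decide +kernel

theorem avg_ok : [LsV, LtV, LuV].all (fun L => okL L && (List.range 2048).all fun k =>
    Nat.beq (avgV (ap L (ap outL k))) (ap L (ap outL (avgV k))) &&
      Nat.beq (ap LpV (avgV k)) (avgV k)) = true := by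
  decide +kernel

theorem hone_ok : (List.range 2048).all (fun n =>
    !(Nat.beq (avgV n) 0 && Nat.beq (ap outL n) (ap Lp2V n)) ||
    (List.range 2048).any fun k =>
      Nat.beq n (Nat.xor (Nat.xor k (ap LpV k)) (ap outL (Nat.xor k (ap Lp2V k))))) = true := by
  decide +kernel

theorem fix_cand_ok : (candT LsV).all (fun n => (candT LtV).all fun m =>
    !(imgT LuV).contains (dispU n m) || m5.any fun k => Nat.beq (ap outL k) k &&
      Nat.beq n (ap outL (Nat.xor (ap LsV k) k)) && Nat.beq m (ap outL (Nat.xor (ap LtV k) k))) = true := by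
  decide +kernel

theorem conj_ok : [(0, 0, outL), (1, 1, comp outL LsV), (2, 0, comp outL LtV), (3, 1, comp outL LuV)].all
    (fun p => let Ln := conjT.getD p.1 []; let R := conjR.getD p.1 []
      let Ly := cond (Nat.beq p.2.1 0) LsV (actH 3842)
      okL Ln && keepsPairs Ln && comp R Ln == id11 && comp Ln R == id11 && okL p.2.2 &&
        comp Ln Ly == comp p.2.2 Ln) = true := by
  decide +kernel

theorem sing_ok : aniso 3842 = false ∧ 3842 < 4096 := by decide +kernel

theorem basis_ok : okB orbBas = true ∧ okB orbQ = true ∧ wGen < 4096 ∧ okB outB = true ∧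
    (List.range 12).all (fun i => Nat.beq (ap orbBas (ap orbQ (2 ^ i))) (2 ^ i)) = true ∧
    (List.range 6).all (fun j => Nat.blt (ap outL (2 ^ j)) 128) = true ∧
    (List.range 6).all (fun j => Nat.beq (uC (ap outL (2 ^ j) % 64)) (ap outB (uC (2 ^ j)))) = true := by
  decide +kernel

theorem cand_ok : (List.range 64).all (fun k => !(List.range 16).any (gTest (candB k)) ||
    candB k == outB || comp (candB k) (hexT.getD 14 []) == outB) = true := by
  decide +kernel

theorem out_fix : ap outL 1856 = 1856 ∧ ap LpV 1856 = 1856 := by decide +kernel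

end CfsgLib.JFour
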