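import Cfsg.Agent.Lib.JFour.TInvol

/-!
# The outer involution on `E`
-/

set_option autoImplicit false
set_option maxRecDepth 100000
set_option linter.style.haveILetI false
set_option linter.unusedSectionVars false

open Cfsg

namespace CfsgLib.JFour

theorem wordC_twist {B : List ℕ} {ls ls' : List (List ℕ)} (hB : okB B = true) (hls : ∀ i, okB (ls.getD i idB) = true)
    (hls' : ∀ i, okB (ls'.getD i idB) = true)
    (h : ∀ i n, n < 4096 → ap B (ap (ls.getD i idB) n) = ap (ls'.getD i idB) (ap B n)) :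
    ∀ (w : List ℕ) (n : ℕ), n < 4096 → ap (wordC ls w) n < 4096 ∧
      ap B (ap (wordC ls w) n) = ap (wordC ls' w) (ap B n)
  | [], n, hn => by
    simp only [wordC]
    rw [ap_idB hn, ap_idB (okB_lt hB n)]
    exact ⟨hn, rfl⟩
  | i :: w, n, hn => by
    obtain ⟨h1, h2⟩ := wordC_twist hB hls hls' h w n hn
    simp only [wordC, ap_comp]
    exact ⟨okB_lt (hls i) _, by rw [h i _ h1, h2]⟩

theorem orb_ok : ∀ i, okB (orbA.getD i idB) = true ∧ okB (orbB.getD i idB) = true := by
  intro i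
  have h : ∀ i < 4, okB (orbA.getD i idB) = true ∧ okB (orbB.getD i idB) = true := by decide +kernel
  rcases Nat.lt_or_ge i 4 with k | k
  · exact h i k
  · rw [List.getD_eq_default _ _ (by simp [orbA]; omega), List.getD_eq_default _ _ (by simp [orbB]; omega)]
    exact ⟨by decide, by decide⟩

namespace Ctx.Std

variable {G : Type*} [Group G] [Finite G] {M : Type*} [Group M] [Finite M] {z π : G} {E : Subgroup G}
variable {J : Ctx M z π E} {g : ℕ → M} {vec : ℕ → G} {V : Subgroup G} (D : J.Std g vec V)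
include D

/-- An outer involution with the listed columns, commuting with the dihedral group. -/
theorem exists_outB {s t : G} (hs : NActs J g vec s (wMat sWd) (wPerm sWd)) (hsV : VActs J g vec s LsV)
    (hs2 : s * s = 1) (ht : NActs J g vec t (wMat tWd) (wPerm tWd)) (htV : VActs J g vec t LtV) (ht2 : t * t = 1)
    (hu2 : s * t * (s * t) * (s * t * (s * t)) = 1) :
    ∃ τ : G, τ * τ = 1 ∧ VActs J g vec τ outL ∧ τ * π * τ = π⁻¹ ∧ τ * s * τ = s ∧ τ * t * τ = t ∧
      τ * z = z * τ ∧ Acts z vec τ outB := by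
  obtain ⟨τ, hτ2, hτ, hτp, hτs, hτt⟩ := D.exists_commute hs hsV hs2 ht htV ht2 hu2
  have hτi : τ⁻¹ = τ := inv_eq_of_mul_eq_one_right hτ2
  have hτz : τ * z = z * τ := by
    have h := hτ.2 64 (by norm_num)
    rw [show ap outL 64 = 64 by decide, D.z_eq_ev] at h
    exact mul_inv_eq_iff_eq_mul.1 h
  obtain ⟨B, hB⟩ := D.full.Mo.coords.exists_acts J hτz
  have hBeq : ∀ {a b : G} {A A' : List ℕ}, a * z = z * a → b * z = z * b → Acts z vec a A → Acts z vec b A' →
      τ * a = b * τ → ∀ n, n < 4096 → ap B (ap A n) = ap A' (ap B n) := by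
    intro a b A A' ha hb hA hA' e n hn
    have h1 := D.full.Mo.coords.acts_mul J hB hτz hA (okB_comp hB.1 hA.1)
    have h2 := D.full.Mo.coords.acts_mul J hA' hb hB (okB_comp hA'.1 hB.1)
    rw [e] at h1
    have := D.full.Mo.coords.acts_eq J h1 h2 n hn
    rwa [ap_comp, ap_comp] at this
  have hflip : ∀ {x : G}, τ * x * τ = x → τ * x = x * τ := fun {x} h => by
    calc τ * x = τ * x * (τ * τ) := by rw [hτ2, mul_one]
      _ = τ * x * τ * τ := by group
      _ = _ := by rw [h]
  have hpinvA : Acts z vec π⁻¹ gW1 := by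
    rw [J.pi_inv]
    exact D.full.Mo.coords.acts_mul J D.full.Mo.om J.piz D.full.Mo.om gW1_ok.1
  have hpiz' : π⁻¹ * z = z * π⁻¹ := (Commute.inv_left (show Commute π z from J.piz)).eq
  have hτπ : τ * π = π⁻¹ * τ := by
    calc τ * π = τ * π * (τ * τ) := by rw [hτ2, mul_one]
      _ = τ * π * τ * τ := by group
      _ = _ := by rw [hτp]
  have htw : ∀ i n, n < 4096 → ap B (ap (orbA.getD i idB) n) = ap (orbB.getD i idB) (ap B n) := by
    intro i n hn
    rcases (show i = 0 ∨ i = 1 ∨ i = 2 ∨ 3 ≤ i by omega) with rfl | rfl | rfl | k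
    · exact hBeq J.piz hpiz' D.full.Mo.om hpinvA hτπ n hn
    · exact hBeq (mem_CZ.1 hs.1).1 (mem_CZ.1 hs.1).1 hs.2.1 hs.2.1 (hflip hτs) n hn
    · exact hBeq (mem_CZ.1 ht.1).1 (mem_CZ.1 ht.1).1 ht.2.1 ht.2.1 (hflip hτt) n hn
    · rw [List.getD_eq_default _ _ (by simp [orbA]; omega), List.getD_eq_default _ _ (by simp [orbB]; omega),
        ap_idB hn, ap_idB (okB_lt hB.1 n)]
  obtain ⟨hbas, hQ, hgen, hoB, hinv, hlow, hlowB⟩ := basis_ok
  have hz : ∀ (b : Bool) (x : G), Rel z (zb z b * x) x := fun b x => by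
    cases b
    · exact Or.inl (one_mul x)
    · exact Or.inr rfl
  -- on the fixed space
  have hU : ∀ j < 6, ap B (uC (2 ^ j)) = uC (ap outL (2 ^ j) % 64) := by
    intro j hj
    have hj64 : 2 ^ j < 64 := by interval_cases j <;> norm_num
    have hl : ap outL (2 ^ j) < 128 := Nat.blt_eq.mp (List.all_eq_true.1 hlow j (List.mem_range.2 hj))
    set r := ap outL (2 ^ j)
    have hr : ev J g vec r = zb z (decide (64 ≤ r)) * hat z π vec (uC (r % 64)) := by
      rw [← D.ev_low_zb (Nat.mod_lt _ (by norm_num))]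
      congr 1
      by_cases h : 64 ≤ r <;> simp [h] <;> omega
    have h := hτ.2 (2 ^ j) (by omega)
    rw [show ap outL (2 ^ j) = r from rfl, hr, D.ev_low hj64] at h
    have h1 := hB.2 (uC (2 ^ j)) (uC_facts hj64).1
    have h2 : Rel z (τ * vec (uC (2 ^ j)) * τ⁻¹) (vec (uC (r % 64))) :=
      J.rel_trans (J.rel_conj hτz (J.rel_symm (D.hat_rel _))) (h ▸ J.rel_trans (hz _ _) (D.hat_rel _))
    exact (D.full.Mo.coords.rel_iff J (okB_lt hB.1 _) (uC_facts (Nat.mod_lt _ (by norm_num))).1).1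
      (J.rel_trans (J.rel_symm h1) h2)
  -- on the generating vector
  obtain ⟨k, hk, hgk⟩ : ∃ k < 64, ap B wGen = ap outB wGen ^^^ uC k := by
    have hy := okB_lt hB.1 wGen
    have hy' := okB_lt hoB wGen
    obtain ⟨b, hb⟩ := J.rel_zb (J.rel_trans (J.rel_trans (J.rel_conj hτz (D.hat_rel wGen)) (hB.2 wGen hgen))
      (J.rel_symm (D.hat_rel (ap B wGen))))
    have hbV : zb z b ∈ V := by cases b; exacts [V.one_mem, D.isV.z_mem]
    have hmid : VActs J g vec (τ * hat z π vec wGen * τ) (actH (ap outB wGen)) :=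
      vec_ok.2.2.2.2.2.2.2.2.2.2 ▸ D.vacts_mul (D.vacts_mul hτ (D.vacts_hat hgen)) hτ
    have hhat := D.vacts_hat hy'
    rw [hτi] at hb
    have hd := D.vacts_unique hhat hmid
    rw [hb] at hd
    have hV : (hat z π vec (ap outB wGen))⁻¹ * hat z π vec (ap B wGen) ∈ V := by
      have := V.mul_mem hd hbV
      convert this using 1
      rw [← mul_assoc (hat z π vec (ap outB wGen))⁻¹, mul_assoc _ _ (zb z b),
        J.zb_comm (J.s.z_comm (D.hat_mem hy)), mul_assoc, ← mul_assoc (zb z b) (zb z b), ← J.zb_xor, Bool.xor_self]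
      simp [zb]
    rw [D.hat_inv hy', mul_assoc, D.hat_mul hy' hy, ← mul_assoc, ← J.zb_xor] at hV
    have hxy : ap outB wGen ^^^ ap B wGen < 4096 := Nat.xor_lt_two_pow (n := 12) hy' hy
    have hvec : vec (ap outB wGen ^^^ ap B wGen) ∈ V := by
      rcases J.rel_trans (J.rel_symm (D.hat_rel _)) (J.rel_symm (hz (aniso (ap outB wGen) ^^
        beta (ap outB wGen) (ap B wGen)) (hat z π vec (ap outB wGen ^^^ ap B wGen)))) with e | e <;> rw [e]
      exacts [hV, V.mul_mem D.isV.z_mem hV]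
    have hfix : ap outB wGen ^^^ ap B wGen ∈ fixV :=
      List.mem_filter.2 ⟨List.mem_range.2 hxy, (D.full.vec_mem_V D.isV hxy).1 hvec⟩
    obtain ⟨he, hlt⟩ := uInv_facts hfix
    exact ⟨_, hlt, by rw [he, ← Nat.xor_assoc, Nat.xor_self, Nat.zero_xor]⟩
  -- everywhere
  have hall : ∀ n < 4096, ap B n = ap (candB k) n := by
    intro n hn
    have hn' : ap orbBas (ap orbQ n) = n := by
      have hid : comp orbBas orbQ = idB := by decide +kernel
      rw [← ap_comp, hid, ap_idB hn]
    conv_lhs => rw [← hn']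
    rw [← ap_comp, candB, ap_comp _ orbQ]
    congr 1
    rw [comp, orbBas, List.map_append, List.map_map]
    congr 1
    · refine List.ext_getElem (by simp [uCol]) fun i hi hi' => ?_
      simp only [List.getElem_map, List.getElem_range]
      have hi6 : i < 6 := by simpa using hi'
      rw [← hU i hi6, ← D.uCol_eq hi6, List.getD_eq_getElem uCol 0 (by simpa using hi)]
    · refine List.map_congr_left fun w _ => ?_
      simp only [Function.comp_apply]
      rw [(wordC_twist hB.1 (fun i => (orb_ok i).1) (fun i => (orb_ok i).2) htw w wGen hgen).2, hgk]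
      rfl
  -- the test by one element
  obtain ⟨d, hd, -⟩ := D.exists_word (w := oneWd) (by decide)
  obtain ⟨e, he, -⟩ := D.exists_word (w := imgWd) (by decide)
  have hconj : VActs J g vec (τ * d * τ) (vWd imgWd) :=
    vec_ok.2.2.2.2.2.2.2.2.1 ▸ D.vacts_mul (D.vacts_mul hτ (D.nacts_vacts (by simp) hd)) hτ
  obtain ⟨n, hn, hne⟩ := D.ev_surj (D.vacts_unique (D.nacts_vacts (by simp) he) hconj)
  have hdp := (mem_CZ.1 hd.1).2
  have hep := (mem_CZ.1 he.1).2
  have hπ : π = τ * π⁻¹ * τ := by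
    rw [← hτp, show τ * (τ * π * τ) * τ = τ * τ * π * (τ * τ) by group, hτ2, one_mul, mul_one]
  have hτdπ : Commute (τ * d * τ) π := by
    show τ * d * τ * π = π * (τ * d * τ)
    calc τ * d * τ * π = τ * d * τ * (τ * π⁻¹ * τ) := by rw [← hπ]
      _ = τ * d * (τ * τ) * π⁻¹ * τ := by group
      _ = τ * (d * π⁻¹) * τ := by rw [hτ2]; group
      _ = τ * (π⁻¹ * d) * τ := by rw [(Commute.inv_right (show Commute d π from hdp)).eq]
      _ = τ * π⁻¹ * (τ * τ) * d * τ := by rw [hτ2]; group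
      _ = τ * π⁻¹ * τ * (τ * d * τ) := by group
      _ = _ := by rw [← hπ]
  have hn5 : n ∈ m5 := (m5_iff hn).1.2 ((D.comm_pi_iff hn).1 (by
    rw [hne]
    exact ((show Commute e π from hep).inv_left.mul_left hτdπ).eq))
  have hS : n / 128 < 16 := by omega
  have hτde : τ * d * τ = e * ev J g vec n := by rw [hne]; group
  have hdz := (mem_CZ.1 hd.1).1
  have hτdz : τ * d * z = z * (τ * d) := (show Commute (τ * d) z from (show Commute τ z from hτz).mul_left hdz).eq
  have htest : (List.range 16).any (gTest (candB k)) = true := by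
    refine List.any_eq_true.2 ⟨n / 128, List.mem_range.2 hS, List.all_eq_true.2 fun i hi => ?_⟩
    have hi' : 2 ^ i < 4096 := Nat.pow_lt_pow_right (n := 12) (by norm_num) (List.mem_range.1 hi)
    have h1 := D.full.Mo.coords.acts_mul J
      (D.full.Mo.coords.acts_mul J hB hτz hd.2.1 (okB_comp hB.1 hd.2.1.1)) hτdz hB
      (okB_comp (okB_comp hB.1 hd.2.1.1) hB.1)
    have hA := D.m5_acts hn5
    have h2 := D.full.Mo.coords.acts_mul J he.2.1 (mem_CZ.1 he.1).1 hA (okB_comp he.2.1.1 hA.1)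
    rw [hτde] at h1
    have := D.full.Mo.coords.acts_eq J h1 h2 (2 ^ i) hi'
    rw [ap_comp, ap_comp, ap_comp] at this
    rw [nat_beq_decide, decide_eq_true_eq, ← hall _ hi', ← hall _ (okB_lt hd.2.1.1 _), this]
  have h := List.all_eq_true.1 cand_ok k (List.mem_range.2 hk)
  rw [htest, Bool.not_true, Bool.false_or, Bool.or_eq_true, beq_iff_eq, beq_iff_eq] at h
  rcases h with h | h
  · exact ⟨τ, hτ2, hτ, hτp, hτs, hτt, hτz, hoB, fun n hn => by rw [← h, ← hall n hn]; exact hB.2 n hn⟩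
  · obtain ⟨c, hc, hc2, -, -⟩ := D.bad_spec (S := 14) (by norm_num)
    have hcA := D.bad_acts (S := 14) (by norm_num) hc
    have hcV : (c : G) ∈ V := hc ▸ D.bad_mem (by norm_num)
    obtain ⟨hcz, hcp⟩ := mem_CZ.1 c.2
    have hcτ : τ * (c : G) = (c : G) * τ := by
      have e14 := D.bad_ev (S := 14) (by norm_num)
      rw [← hc, show 128 * 14 + cond (epsS epsNum 14) 64 0 = 1856 by decide] at e14
      have := hτ.2 1856 (by norm_num)
      rw [out_fix.1, ← e14] at this
      exact mul_inv_eq_iff_eq_mul.1 this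
    have hcc : ∀ {x : G}, x * (c : G) = (c : G) * x → τ * x * τ = x →
        τ * (c : G) * x * (τ * (c : G)) = x := fun {x} h1 h2 => by
      calc τ * (c : G) * x * (τ * (c : G)) = τ * (c : G) * x * ((c : G) * τ) := by rw [hcτ]
        _ = τ * ((c : G) * x) * (c : G) * τ := by group
        _ = τ * x * ((c : G) * c) * τ := by rw [← h1]; group
        _ = x := by rw [hc2, mul_one, h2]
    have hfix14 : ∀ {d : G} {w : List ℕ}, NActs J g vec d (wMat w) (wPerm w) → wPerm w 14 = 14 →
        d * (c : G) = (c : G) * d := fun {d w} hd hw => by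
      have := (hd.2.2 14 (by norm_num)).2
      rw [hw, ← hc] at this
      exact mul_inv_eq_iff_eq_mul.1 this
    refine ⟨τ * (c : G), ?_, ?_, ?_, hcc (hfix14 hs mat_ok.2.2.2.2.2.1) hτs, hcc (hfix14 ht mat_ok.2.2.2.2.2.2) hτt,
      ((show Commute τ z from hτz).mul_left hcz).eq, ?_⟩
    · calc τ * (c : G) * (τ * (c : G)) = τ * (c : G) * ((c : G) * τ) := by rw [hcτ]
        _ = τ * ((c : G) * c) * τ := by group
        _ = 1 := by rw [hc2, mul_one, hτ2]
    · refine ⟨hτ.1, fun a ha => ?_⟩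
      rw [(D.vacts_mul hτ (D.vacts_V hcV)).2 a ha, ap_comp, ap_id11 ha]
    · calc τ * (c : G) * π * (τ * (c : G)) = τ * (c : G) * π * ((c : G) * τ) := by rw [hcτ]
        _ = τ * ((c : G) * π) * (c : G) * τ := by group
        _ = τ * π * ((c : G) * c) * τ := by rw [hcp]; group
        _ = π⁻¹ := by rw [hc2, mul_one, hτp]
    · refine ⟨hoB, fun n hn => ?_⟩
      have hA := D.full.Mo.coords.acts_mul J hB hτz hcA (okB_comp hB.1 hcA.1)
      have := hA.2 n hn
      rwa [ap_comp, hall _ (okB_lt hcA.1 n), ← ap_comp, h] at this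

end Ctx.Std

end CfsgLib.JFour
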