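import Cfsg.Agent.Lib.JFour.TAction

/-!
# The tables for the outer involution and the complement
-/

set_option autoImplicit false
set_option maxRecDepth 100000

namespace CfsgLib.JFour

/-- The columns on the eleven coordinates of the lift of a word. -/
def vWd (w : List ℕ) : List ℕ := actC (wMat w) (wPerm w)

/-- The action of the first involution. -/
def LsV : List ℕ := vWd sWd

/-- The action of the second one. -/
def LtV : List ℕ := vWd tWd

/-- The action of the square of their product. -/
def LuV : List ℕ := comp (comp LsV LtV) (comp LsV LtV)

/-- The action of the scalar. -/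
def LpV : List ℕ := vWd [2]

/-- The action of its square. -/
def Lp2V : List ℕ := comp LpV LpV

/-- The sum of a vector and its two translates. -/
def avgV (k : ℕ) : ℕ := Nat.xor (Nat.xor k (ap LpV k)) (ap Lp2V k)

/-- The vectors fixed by the scalar. -/
def m5 : List ℕ := (List.range 32).map fun i => 64 * i

/-- Inverses of the four conjugations. -/
def conjR : List (List ℕ) := [
  [712, 447, 6, 1306, 384, 338, 433, 285, 1598, 99, 1650],
  [971, 865, 833, 8, 105, 1002, 3, 1739, 1716, 640, 1082],
  [1030, 935, 1703, 833, 512, 510, 427, 1489, 1878, 694, 847],
  [703, 14, 8, 2044, 70, 1297, 120, 441, 517, 899, 430]]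

/-- The displacements of an involution of the coset. -/
def imgT (L : List ℕ) : List ℕ := m5.map fun k => Nat.xor k (ap L (ap outL k))

/-- The possible displacements of an involution. -/
def candT (L : List ℕ) : List ℕ :=
  m5.filter fun n => Nat.beq (ap L n) n && Nat.beq (ap outL n) n && (imgT L).contains n

/-- The displacement of the square of the product. -/
def dispU (n m : ℕ) : ℕ :=
  let e := Nat.xor (ap LtV n) m
  Nat.xor (ap LtV (ap LsV e)) e

/-- The product of the listed matrices. -/
def wordC (ls : List (List ℕ)) : List ℕ → List ℕ
  | [] => idB
  | i :: w => comp (ls.getD i idB) (wordC ls w)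

/-- The matrices of the scalar and of the two involutions. -/
def orbA : List (List ℕ) := [gW0, wMat sWd, wMat tWd]

/-- Their images under the outer element. -/
def orbB : List (List ℕ) := [gW1, wMat sWd, wMat tWd]

/-- Words giving a basis of the complement. -/
def orbW : List (List ℕ) := [[], [0], [1], [2], [1, 0], [2, 0]]

/-- A basis of the twelve coordinates. -/
def orbBas : List ℕ := uCol ++ orbW.map fun w => ap (wordC orbA w) wGen

/-- The coordinates in that basis. -/
def orbQ : List ℕ := [104, 188, 1669, 3530, 2580, 552, 2894, 1671, 1665, 3522, 1237, 1386]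

/-- The candidates for the columns of the outer element. -/
def candB (k : ℕ) : List ℕ :=
  comp ((List.range 6).map (fun j => uC (ap outL (2 ^ j) % 64)) ++
    orbW.map fun w => ap (wordC orbB w) (Nat.xor (ap outB wGen) (uC k))) orbQ

/-- The test by the conjugate of one element. -/
def gTest (B : List ℕ) (q : ℕ) : Bool :=
  (List.range 12).all fun i => Nat.beq (ap B (ap (wMat oneWd) (ap B (2 ^ i))))
    (ap (wMat imgWd) (ap (hexT.getD q []) (2 ^ i)))

/-- The actions of the sixteen elements of the two-group. -/
def dList : List (List ℕ) :=
  let d := [id11, LsV, LtV, comp LsV LtV, comp LtV LsV, comp LsV (comp LtV LsV), comp LtV (comp LsV LtV), LuV]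
  d ++ d.map (comp outL)

end CfsgLib.JFour
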