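import Cfsg.Agent.Lib.JFour.TOutChecks

/-!
# Actions of representatives and of lifts of words on the coordinates
-/

set_option autoImplicit false
set_option maxRecDepth 100000
set_option linter.style.haveILetI false
set_option linter.unusedSectionVars false

open Cfsg

namespace CfsgLib.JFour

theorem getD_map_range {α : Type*} (f : ℕ → α) (d : α) {n i : ℕ} (hi : i < n) :
    ((List.range n).map f).getD i d = f i := by
  rw [List.getD_eq_getElem _ _ (by simpa using hi), List.getElem_map, List.getElem_range]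

theorem uInv_lt (n : ℕ) : ap uInv n < 64 :=
  ap_lt_two_pow (m := 6) (fun c hc => by
    have h : ∀ c ∈ uInv, c < 64 := by decide
    exact h c hc) n

theorem comp_getD {B C : List ℕ} {i : ℕ} (hi : i < C.length) : (comp B C).getD i 0 = ap B (C.getD i 0) := by
  rw [comp, List.getD_eq_getElem _ _ (by simpa using hi), List.getD_eq_getElem _ _ hi, List.getElem_map]

theorem ap_id11 {n : ℕ} (hn : n < 2048) : ap id11 n = n :=
  Nat.eq_of_beq_eq_true (List.all_eq_true.1
    (show (List.range 2048).all (fun n => Nat.beq (ap id11 n) n) = true by decide +kernel) n (List.mem_range.2 hn))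

theorem m5_iff {n : ℕ} (hn : n < 2048) : (n ∈ m5 ↔ ap LpV n = n) ∧ (n ∈ m5 → n % 64 = 0) := by
  have h := List.all_eq_true.1 fix_ok n (List.mem_range.2 hn)
  simp only [Bool.and_eq_true, Bool.or_eq_true, Bool.not_eq_true', nat_beq_decide, decide_eq_false_iff_not,
    decide_eq_true_eq, List.contains_iff_mem, ← Bool.not_eq_true] at h
  exact ⟨⟨fun k => ((h.2.resolve_left (not_not_intro k))).1, fun k => h.1.resolve_left (not_not_intro k)⟩,
    fun k => ((h.2.resolve_left (not_not_intro k))).2⟩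

theorem m5_lt {n : ℕ} (hn : n ∈ m5) : n < 2048 := by
  obtain ⟨i, hi, rfl⟩ := List.mem_map.1 hn
  have := List.mem_range.1 hi
  omega

/-- An element of `C(z, π)` with a matrix and a permutation of the lifts not conjugate to `z`. -/
def NActs {G : Type*} [Group G] [Finite G] {M : Type*} [Group M] {z π : G} {E : Subgroup G} (J : Ctx M z π E)
    (g : ℕ → M) (vec : ℕ → G) (d : G) (B : List ℕ) (p : ℕ → ℕ) : Prop :=
  d ∈ CZ z π ∧ Acts z vec d B ∧ ∀ S < 16, p S < 16 ∧ d * badG J g S * d⁻¹ = badG J g (p S)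

namespace Ctx.Std

variable {G : Type*} [Group G] [Finite G] {M : Type*} [Group M] [Finite M] {z π : G} {E : Subgroup G}
variable {J : Ctx M z π E} {g : ℕ → M} {vec : ℕ → G} {V : Subgroup G} (D : J.Std g vec V)
include D

theorem ev_low {j : ℕ} (hj : j < 64) : ev J g vec j = hat z π vec (uC j) := by
  rw [D.ev_parts (by omega), Nat.mod_eq_of_lt hj, show j / 64 % 2 = 0 by omega, show j / 128 = 0 by omega]
  simp [zb, cp, vlist]
  rfl

theorem ev_low_zb {j : ℕ} (hj : j < 64) (b : Bool) :
    ev J g vec (j + cond b 64 0) = zb z b * hat z π vec (uC j) := by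
  rw [D.ev_parts (by cases b <;> simp <;> omega), show (j + cond b 64 0) % 64 = j by cases b <;> simp <;> omega,
    show (j + cond b 64 0) / 128 = 0 by cases b <;> simp <;> omega,
    show Nat.beq ((j + cond b 64 0) / 64 % 2) 1 = b by
      cases b
      · rw [show (j + cond false 64 0) / 64 % 2 = 0 by simp; omega]; rfl
      · rw [show (j + cond true 64 0) / 64 % 2 = 1 by simp; omega]; rfl,
    J.zb_comm (J.s.z_comm (D.hat_mem (uC_facts hj).1))]
  simp [cp, vlist]

theorem bad_ev {S : ℕ} (hS : S < 16) : badG J g S = ev J g vec (128 * S + cond (epsS epsNum S) 64 0) := by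
  rw [← D.zb_cp hS, D.signs S hS, ← mul_assoc, ← J.zb_xor, Bool.xor_self]
  exact (one_mul _).symm

theorem bad_pow {i : ℕ} (hi : i < 4) : badG J g (2 ^ i) = ev J g vec (128 * 2 ^ i) := by
  rw [← D.cp_eq_ev (pow_lt_sixteen hi)]
  interval_cases i <;> simp [cp, vlist]

/-- The action is known from the generators. -/
theorem vacts_of_gens {m : G} {L : List ℕ} (hL : okL L = true)
    (h1 : ∀ j < 6, m * hat z π vec (uC (2 ^ j)) * m⁻¹ = ev J g vec (L.getD j 0))
    (h2 : m * z * m⁻¹ = ev J g vec (L.getD 6 0))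
    (h3 : ∀ i < 4, m * badG J g (2 ^ i) * m⁻¹ = ev J g vec (L.getD (7 + i) 0)) : VActs J g vec m L := by
  refine ⟨hL, fun n hn => ?_⟩
  rw [← D.vlist_ev, ev]
  have hm := vlist_hom (MulAut.conj m).toMonoidHom (evL J g vec) n
  rw [MulEquiv.coe_toMonoidHom, MulAut.conj_apply] at hm
  rw [hm]
  congr 1
  obtain ⟨hlen, -⟩ : L.length = 11 ∧ True := by
    simp only [okL, Bool.and_eq_true, beq_iff_eq] at hL
    exact ⟨hL.1, trivial⟩
  have hu : ∀ j < 6, uCol.getD j 0 = uC (2 ^ j) := fun j hj => D.uCol_eq hj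
  refine List.ext_getElem (by simp [evL, uCol, hlen]) fun i hi hi' => ?_
  have hi11 : i < 11 := by simpa [evL, uCol] using hi
  simp only [List.getElem_map, MulEquiv.coe_toMonoidHom, MulAut.conj_apply]
  have hget : L[i]'(by omega) = L.getD i 0 := (List.getD_eq_getElem L 0 (by omega)).symm
  rw [hget]
  have e : evL J g vec = [hat z π vec (uC (2 ^ 0)), hat z π vec (uC (2 ^ 1)), hat z π vec (uC (2 ^ 2)),
      hat z π vec (uC (2 ^ 3)), hat z π vec (uC (2 ^ 4)), hat z π vec (uC (2 ^ 5)), z, badG J g (2 ^ 0),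
      badG J g (2 ^ 1), badG J g (2 ^ 2), badG J g (2 ^ 3)] := by
    simp only [← hu 0 (by norm_num), ← hu 1 (by norm_num), ← hu 2 (by norm_num), ← hu 3 (by norm_num),
      ← hu 4 (by norm_num), ← hu 5 (by norm_num)]
    simp [evL, uCol]
  simp only [e]
  interval_cases i <;> simp only [List.getElem_cons_zero, List.getElem_cons_succ]
  all_goals first
    | exact h2
    | exact h1 _ (by norm_num)
    | exact h3 0 (by norm_num)
    | exact h3 1 (by norm_num)
    | exact h3 2 (by norm_num)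
    | exact h3 3 (by norm_num)

/-- The action of a representative. -/
theorem vacts_hat {x : ℕ} (hx : x < 4096) : VActs J g vec (hat z π vec x) (actH x) := by
  have hk : ∀ S, keyC S x < 128 := fun S => by
    simp only [keyC]
    have := uInv_lt (Nat.xor x (ap (hexT.getD S []) x))
    generalize (anNum.testBit _ ^^ _) = b
    generalize ap uInv (Nat.xor x (ap (hexT.getD S []) x)) = a at this ⊢
    cases b <;> simp <;> omega
  refine D.vacts_of_gens ?_ (fun j hj => ?_) ?_ (fun i hi => ?_)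
  · simp only [okL, Bool.and_eq_true, beq_iff_eq, List.all_eq_true]
    refine ⟨by simp [actH], fun c hc => Nat.blt_eq.mpr ?_⟩
    simp only [actH, List.mem_append, List.mem_map, List.mem_range, List.mem_singleton] at hc
    rcases hc with (⟨j, hj, rfl⟩ | rfl) | ⟨i, hi, rfl⟩
    · have : 2 ^ j ≤ 32 := le_trans (Nat.pow_le_pow_right (by norm_num) (show j ≤ 5 by omega)) (by norm_num)
      cases bq x (uC (2 ^ j)) <;> simp <;> omega
    · norm_num
    · have := hk (2 ^ i)
      have := pow_lt_sixteen hi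
      omega
  · have hj64 : 2 ^ j < 64 := by interval_cases j <;> norm_num
    obtain ⟨hu, -, -⟩ := uC_facts hj64
    have e : (actH x).getD j 0 = 2 ^ j + cond (bq x (uC (2 ^ j))) 64 0 := by
      interval_cases j <;> simp [actH, List.range_succ]
    rw [e, D.ev_low_zb hj64, bq_eq hx hu, D.hat_comm hx hu, mul_assoc (zb z _), mul_inv_cancel_right]
  · rw [show (actH x).getD 6 0 = 64 by simp [actH, List.range_succ], D.z_eq_ev, J.s.z_comm (D.hat_mem hx),
      mul_inv_cancel_right]
  · have hS := pow_lt_sixteen hi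
    obtain ⟨c, hc, -, -, -⟩ := D.bad_spec hS
    have hB := D.bad_acts hS hc
    set B := hexT.getD (2 ^ i) [] with hBdef
    have hy := okB_lt hB.1 x
    have hcom := List.all_eq_true.1 com_ok (2 ^ i) (List.mem_range.2 hS)
    rw [show Nat.beq (2 ^ i) 0 = false by rw [nat_beq_decide]; simp, Bool.false_or] at hcom
    simp only [Bool.and_eq_true, beq_iff_eq, List.all_eq_true, List.contains_iff_mem, List.mem_range,
      Nat.blt_eq, Nat.beq_eq] at hcom
    obtain ⟨⟨⟨⟨⟨-, -⟩, h0T⟩, hT⟩, hdisp⟩, -⟩ := hcom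
    have hfix : x ^^^ ap B x ∈ fixV := by
      have h := ap_closed h0T (fun a ha b hb => (hT a ha).2 b hb) (dispB (2 ^ i)) hdisp x
      rw [dispB, ap_zipXor _ _ (by
        have := hB.1
        simp only [okB, Bool.and_eq_true, beq_iff_eq] at this
        rw [this.1]; rfl), ap_idB hx] at h
      exact (hT _ h).1
    obtain ⟨he, hlt⟩ := uInv_facts hfix
    have e : (actH x).getD (7 + i) 0 = 128 * 2 ^ i + keyC (2 ^ i) x := by
      interval_cases i <;> simp [actH, List.range_succ]
    set j := ap uInv (x ^^^ ap B x) with hj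
    set σ := aniso (ap B x) ^^ beta x (ap B x) with hσ
    have hkey : keyC (2 ^ i) x = j + cond σ 64 0 := by
      rw [keyC, ← hBdef, hσ, hj]
      simp only [an_eq hy, betaQ_eq hy]
      rfl
    rw [e, hkey, ← hc, D.hat_conj_lift hB hx, ← hσ, ← he, ← D.ev_low_zb hlt, hc, D.bad_pow hi, ← D.ev_xor]
    congr 1
    have hlow : j + cond σ 64 0 < 2 ^ 7 := by cases σ <;> simp <;> omega
    rw [show 128 * 2 ^ i = 2 ^ 7 * 2 ^ i by norm_num, Nat.two_pow_add_eq_or_of_lt hlow]
    apply Nat.eq_of_testBit_eq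
    intro k
    rw [Nat.testBit_or, Nat.testBit_xor]
    by_cases hk7 : k < 7
    · have h0 : Nat.testBit (2 ^ 7 * 2 ^ i) k = false := by
        rw [Nat.testBit_two_pow_mul, Bool.and_eq_false_imp]
        intro h
        simp only [ge_iff_le, decide_eq_true_eq] at h
        omega
      rw [h0]
      simp
    · rw [show (j + cond σ 64 0).testBit k = false from
        Nat.testBit_lt_two_pow (lt_of_lt_of_le hlow (Nat.pow_le_pow_right (by norm_num) (Nat.le_of_not_lt hk7)))]
      simp

/-- Products of elements with matrices and permutations. -/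
theorem nacts_mul {d d' : G} {B B' : List ℕ} {p p' : ℕ → ℕ} (h : NActs J g vec d B p)
    (h' : NActs J g vec d' B' p') : NActs J g vec (d * d') (comp B B') (fun S => p (p' S)) := by
  refine ⟨mul_mem h.1 h'.1, D.full.Mo.coords.acts_mul J h.2.1 (mem_CZ.1 h.1).1 h'.2.1 (okB_comp h.2.1.1 h'.2.1.1),
    fun S hS => ?_⟩
  obtain ⟨hS', e'⟩ := h'.2.2 S hS
  obtain ⟨hS'', e⟩ := h.2.2 _ hS'
  refine ⟨hS'', ?_⟩
  rw [← e, ← e']
  group

/-- A lift of a word in the letters. -/
theorem exists_word {w : List ℕ} (hw : ∀ k ∈ w, k < 4) :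
    ∃ d : G, NActs J g vec d (wMat w) (wPerm w) ∧ d ∈ Subgroup.normalizer (V : Set G) := by
  induction w with
  | nil =>
    exact ⟨1, ⟨one_mem _, D.full.Mo.coords.acts_one J, fun S hS => ⟨hS, by simp [wPerm]⟩⟩, one_mem _⟩
  | cons k w ih =>
    obtain ⟨d, hd, hdN⟩ := ih fun x hx => hw x (List.mem_cons_of_mem _ hx)
    have hlet : ∃ e : G, NActs J g vec e (letB k) (letP k) ∧ e ∈ Subgroup.normalizer (V : Set G) := by
      have hk := hw k List.mem_cons_self
      by_cases h2 : k < 2
      · obtain ⟨e, heN, heA, he⟩ := D.exists_word_lift h2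
        exact ⟨e, ⟨e.2, heA, fun S hS => by
          rw [letP, show Nat.blt k 2 = true from Nat.blt_eq.mpr h2]
          exact ⟨(nP_facts h2 hS).1, he S hS⟩⟩, heN⟩
      have hP : ∀ S, letP k S = S := fun S => by
        rw [letP, show Nat.blt k 2 = false from Bool.eq_false_iff.2 fun h => h2 (Nat.blt_eq.mp h), cond_false]
      rcases (show k = 2 ∨ k = 3 by omega) with rfl | rfl
      · refine ⟨π, ⟨J.pi_mem_CZ, D.full.Mo.om, fun S hS => ⟨(hP S).symm ▸ hS, ?_⟩⟩, D.pi_mem⟩
        obtain ⟨c, hc, -, -, -⟩ := D.bad_spec hS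
        rw [hP, ← hc, ← (mem_CZ.1 c.2).2, mul_inv_cancel_right]
      · obtain ⟨c, hc, -, -, -⟩ := D.bad_spec (S := 1) (by norm_num)
        have hcV : (c : G) ∈ V := hc ▸ D.bad_mem (by norm_num)
        refine ⟨c, ⟨c.2, ?_, fun S hS => ⟨(hP S).symm ▸ hS, ?_⟩⟩, Subgroup.le_normalizer hcV⟩
        · have h := D.bad_acts (S := 1) (by norm_num) hc
          rwa [show hexT.getD 1 [] = letB 3 by
            have h := List.all_eq_true.1 hexT_ok 1 (List.mem_range.2 (by norm_num))
            simp only [Bool.and_eq_true, beq_iff_eq] at h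
            rw [h.1]; rfl] at h
        · rw [hP, D.isV.comm _ hcV _ (D.bad_mem hS), mul_inv_cancel_right]
    obtain ⟨e, he, heN⟩ := hlet
    refine ⟨e * d, ?_, mul_mem heN hdN⟩
    have hmul := D.nacts_mul he hd
    exact hmul

/-- The action of a lift of a word. -/
theorem nacts_vacts {d : G} {w : List ℕ} (hw : w ∈ [sWd, tWd, oneWd, imgWd, [2]])
    (h : NActs J g vec d (wMat w) (wPerm w)) : VActs J g vec d (vWd w) := by
  have hok := List.all_eq_true.1 word_ok w hw
  simp only [Bool.and_eq_true, List.all_eq_true, List.mem_range, List.contains_iff_mem] at hok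
  refine D.vacts_of_gens hok.1.1 (fun j hj => ?_) ?_ (fun i hi => ?_)
  · have hj64 : 2 ^ j < 64 := by interval_cases j <;> norm_num
    obtain ⟨hu, -, -⟩ := uC_facts hj64
    obtain ⟨he, hlt⟩ := uInv_facts (hok.2 j hj)
    have e : (vWd w).getD j 0 = ap uInv (ap (wMat w) (uC (2 ^ j))) := by
      interval_cases j <;> simp [vWd, actC, List.range_succ]
    rw [e, D.ev_low hlt, he]
    exact D.hat_conj (c := ⟨d, h.1⟩) h.2.1 hu
  · rw [show (vWd w).getD 6 0 = 64 by simp [vWd, actC, List.range_succ], D.z_eq_ev, (mem_CZ.1 h.1).1,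
      mul_inv_cancel_right]
  · obtain ⟨hp, e⟩ := h.2.2 _ (pow_lt_sixteen hi)
    have e' : (vWd w).getD (7 + i) 0 =
        128 * wPerm w (2 ^ i) + cond (epsS epsNum (wPerm w (2 ^ i))) 64 0 := by
      interval_cases i <;> simp [vWd, actC, List.range_succ]
    rw [e', e, D.bad_ev hp]

theorem vacts_pi : VActs J g vec π LpV := by
  refine D.nacts_vacts (w := [2]) (by simp) ⟨J.pi_mem_CZ, ?_, fun S hS => ?_⟩
  · rw [mat_ok.2.2.2.2.1]
    exact D.full.Mo.om
  · have hS' : wPerm [2] S = S := rfl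
    obtain ⟨c, hc, -, -, -⟩ := D.bad_spec hS
    rw [hS', ← hc, ← (mem_CZ.1 c.2).2, mul_inv_cancel_right]
    exact ⟨hS, rfl⟩

theorem vacts_pi_inv : VActs J g vec π⁻¹ Lp2V := by
  rw [J.pi_inv]
  exact D.vacts_mul D.vacts_pi D.vacts_pi

/-- The elements of `V` centralizing `π`. -/
theorem comm_pi_iff {n : ℕ} (hn : n < 2048) : ev J g vec n * π = π * ev J g vec n ↔ ap LpV n = n := by
  have h := D.vacts_pi.2 n hn
  constructor
  · intro hc
    refine D.ev_inj (okL_lt D.vacts_pi.1 n) hn ?_
    rw [← h, ← hc, mul_inv_cancel_right]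
  · intro hf
    rw [hf] at h
    exact (mul_inv_eq_iff_eq_mul.1 h).symm

/-- An element of `V` centralizing `π` acts as a product of lifts. -/
theorem m5_acts {n : ℕ} (hn : n ∈ m5) : Acts z vec (ev J g vec n) (hexT.getD (n / 128) []) := by
  have hn' := m5_lt hn
  have hS : n / 128 < 16 := by omega
  obtain ⟨c, hc, -, -, -⟩ := D.bad_spec hS
  have h0 := (m5_iff hn').2 hn
  have he : ev J g vec n = zb z (Nat.beq (n / 64 % 2) 1 ^^ epsS epsNum (n / 128)) * (c : G) := by
    rw [D.ev_parts hn', h0, uC, ap_zero, D.hat_zero, one_mul, D.signs _ hS, hc, ← mul_assoc, ← J.zb_xor]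
  rw [he]
  exact D.full.Mo.coords.acts_mul_E J (D.bad_acts hS hc) (J.zb_mem _) (mem_CZ.1 c.2).1

end Ctx.Std

end CfsgLib.JFour
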