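import Cfsg.Agent.Lib.JFour.TClass

/-!
# The signs, and the class as the pairs of points
-/

set_option autoImplicit false
set_option maxRecDepth 100000
set_option linter.style.haveILetI false
set_option linter.unusedSectionVars false

open Cfsg

namespace CfsgLib.JFour

theorem nP_facts {k S : ℕ} (hk : k < 2) (hS : S < 16) :
    nP k S < 16 ∧ (S = 0 ∨ nP k S ≠ 0) ∧ okB (letB k) = true := by
  have h := List.all_eq_true.1 norm_ok k (List.mem_range.2 hk)
  simp only [Bool.and_eq_true, List.all_eq_true, List.mem_range, Bool.or_eq_true, Bool.not_eq_true',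
    nat_beq_decide, decide_eq_true_eq, decide_eq_false_iff_not] at h
  obtain ⟨⟨h1, -⟩, h2⟩ := h
  obtain ⟨h3, h4⟩ := h2 S hS
  exact ⟨Nat.blt_eq.mp h3, h4, h1⟩

theorem pow_lt_sixteen {i : ℕ} (hi : i < 4) : 2 ^ i < 16 := by interval_cases i <;> norm_num

theorem cp_range : (List.range 4).map (fun i => 2 ^ i) = [1, 2, 4, 8] := by decide

namespace Ctx.Std

variable {G : Type*} [Group G] [Finite G] {M : Type*} [Group M] [Finite M] {z π : G} {E : Subgroup G}
variable {J : Ctx M z π E} {g : ℕ → M} {vec : ℕ → G} {V : Subgroup G} (D : J.Std g vec V)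
include D

/-- A lift of a normalizing word permutes the lifts not conjugate to `z`. -/
theorem exists_word_lift {k : ℕ} (hk : k < 2) :
    ∃ d : ↥(CZ z π), (d : G) ∈ Subgroup.normalizer (V : Set G) ∧ Acts z vec (d : G) (letB k) ∧
      ∀ S < 16, (d : G) * badG J g S * (d : G)⁻¹ = badG J g (nP k S) := by
  obtain ⟨d, hd, hdA⟩ := D.full.Mo.lift (w := normW.getD k []) (by
    have h : ∀ k < 2, ∀ x ∈ normW.getD k [], x < 5 := by decide
    exact h k hk)
  have hdN : (d : G) ∈ Subgroup.normalizer (V : Set G) :=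
    D.isV.mem_normalizer D.small (hd ▸ D.normW_mem hk)
  refine ⟨d, hdN, ?_, fun S hS => ?_⟩
  · interval_cases k <;> exact hdA
  obtain ⟨c, hc, hc2, hcp, hnc⟩ := D.bad_spec hS
  obtain ⟨hp16, -, -⟩ := nP_facts hk hS
  rw [← hc]
  refine D.bad_unique (c := d * c * d⁻¹) hp16 ?_ ?_ fun h => hnc ?_
  · simp only [Subgroup.coe_mul, InvMemClass.coe_inv]
    rw [show (d : G) * c * (d : G)⁻¹ * ((d : G) * c * (d : G)⁻¹) = (d : G) * ((c : G) * c) * (d : G)⁻¹ by group, hc2]
    group
  · have hq : (normW.getD k [], S, (normPerm.getD k []).getD S 0) ∈ conjL :=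
      List.mem_append_left _ (List.mem_flatMap.2 ⟨k, List.mem_range.2 hk, List.mem_map.2 ⟨S, List.mem_range.2 hS, rfl⟩⟩)
    have h := D.full.H.conjW _ hq
    simp only [List.map_append, List.prod_append] at h
    rw [map_mul, map_mul, map_inv, hcp, hd, h, mul_inv_cancel_right]
    rfl
  · simp only [Subgroup.coe_mul, InvMemClass.coe_inv] at h
    exact (isConj_conj_iff _).1 h

theorem cp_eq_ev {S : ℕ} (hS : S < 16) : cp J g S = ev J g vec (128 * S) := by
  rw [D.ev_parts (by omega), show 128 * S % 64 = 0 by omega, show 128 * S / 64 % 2 = 0 by omega,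
    show 128 * S / 128 = S by omega, uC, ap_zero, D.hat_zero]
  simp [zb]
  rfl

theorem z_eq_ev : ev J g vec 64 = z := by
  rw [D.ev_parts (by norm_num), show 64 % 64 = 0 from rfl, show 64 / 64 % 2 = 1 from rfl, show 64 / 128 = 0 from rfl,
    uC, ap_zero, D.hat_zero]
  simp [zb, cp, vlist]

theorem zb_cp {S : ℕ} (hS : S < 16) (b : Bool) : zb z b * cp J g S = ev J g vec (128 * S + cond b 64 0) := by
  cases b
  · simpa [zb] using D.cp_eq_ev hS
  · rw [cond_true, show 128 * S + 64 = 64 ^^^ 128 * S by
      have e : 64 ^^^ 128 * S = 128 * S + 64 := by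
        have := Nat.two_pow_add_eq_or_of_lt (i := 7) (show 64 < 2 ^ 7 by norm_num) S
        rw [show (2 : ℕ) ^ 7 * S = 128 * S by norm_num] at this
        rw [this, Nat.xor_comm]
        apply Nat.eq_of_testBit_eq
        intro i
        rw [Nat.testBit_or, Nat.testBit_xor]
        by_cases hi : i < 7
        · rw [show (128 * S).testBit i = false by
            rw [show 128 * S = 2 ^ 7 * S by norm_num, Nat.testBit_two_pow_mul]
            simp [hi]]
          simp
        · rw [show (64 : ℕ).testBit i = false from Nat.testBit_lt_two_pow (lt_of_lt_of_le (by norm_num) (Nat.pow_le_pow_right (by norm_num : 1 ≤ 2) (Nat.le_of_not_lt hi)))]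
          simp
      omega, D.ev_xor, D.z_eq_ev, D.cp_eq_ev hS]
    rfl

theorem vlist_ev (L : List ℕ) (n : ℕ) : vlist (L.map (ev J g vec)) n = ev J g vec (ap L n) :=
  vlist_add (ev J g vec) (fun _ => True) D.ev_zero L (fun _ => trivial) (fun a b _ _ => D.ev_xor a b) n

theorem signs_eqv {s : ℕ} (hs : ∀ S < 16, cp J g S = zb z (epsS s S) * badG J g S) : eqvT s = true := by
  have hbad : ∀ S < 16, badG J g S = zb z (epsS s S) * cp J g S := fun S hS => by
    rw [hs S hS, ← mul_assoc, ← J.zb_xor, Bool.xor_self]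
    exact (one_mul _).symm
  simp only [eqvT, List.all_eq_true, List.mem_range, Bool.or_eq_true]
  intro k hk S hS
  by_cases h0 : S = 0
  · exact Or.inl (by rw [h0]; rfl)
  right
  obtain ⟨d, hdN, -, hd⟩ := D.exists_word_lift hk
  have hpS := (nP_facts hk hS).1
  have hlt : ∀ i < 4, nP k (2 ^ i) < 16 := fun i hi => (nP_facts hk (pow_lt_sixteen hi)).1
  have e1 : (d : G) * cp J g S * (d : G)⁻¹ = ev J g vec (ap (liftCodes s k) S) := by
    rw [← D.vlist_ev, cp]
    have hm := vlist_hom (MulAut.conj (d : G)).toMonoidHom [badG J g 1, badG J g 2, badG J g 4, badG J g 8] S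
    rw [MulEquiv.coe_toMonoidHom, MulAut.conj_apply] at hm
    rw [hm, liftCodes, List.map_map]
    congr 1
    rw [show [badG J g 1, badG J g 2, badG J g 4, badG J g 8] = (List.range 4).map fun i => badG J g (2 ^ i) by
      simp [List.range_succ], List.map_map]
    refine List.map_congr_left fun i hi => ?_
    have hi' := List.mem_range.1 hi
    simp only [Function.comp_apply, MulEquiv.coe_toMonoidHom, MulAut.conj_apply]
    rw [hd _ (pow_lt_sixteen hi'), hbad _ (hlt i hi'), D.zb_cp (hlt i hi')]
  have hz : (d : G) * zb z (epsS s S) * (d : G)⁻¹ = zb z (epsS s S) := by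
    rw [J.zb_comm (mem_CZ.1 d.2).1, mul_inv_cancel_right]
  have e2 : (d : G) * cp J g S * (d : G)⁻¹ = ev J g vec (128 * nP k S + cond (epsS s S ^^ epsS s (nP k S)) 64 0) := by
    rw [← D.zb_cp hpS, hs S hS,
      show (d : G) * (zb z (epsS s S) * badG J g S) * (d : G)⁻¹ =
        (d : G) * zb z (epsS s S) * (d : G)⁻¹ * ((d : G) * badG J g S * (d : G)⁻¹) by group,
      hz, hd S hS, hbad _ hpS, J.zb_xor, mul_assoc]
  rw [nat_beq_decide, decide_eq_true_eq]
  refine D.ev_inj ?_ ?_ (e1.symm.trans e2)
  · have : ∀ c ∈ liftCodes s k, c < 2 ^ 11 := by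
      intro c hc
      obtain ⟨i, hi, rfl⟩ := List.mem_map.1 hc
      have := hlt i (List.mem_range.1 hi)
      cases epsS s (nP k (2 ^ i)) <;> simp <;> omega
    have key : ∀ (L : List ℕ), (∀ c ∈ L, c < 2 ^ 11) → ∀ n, ap L n < 2 ^ 11 := by
      intro L
      induction L with
      | nil => intro _ n; simp [ap]
      | cons b L ih =>
        intro h n
        simp only [ap]
        cases (n % 2 == 1)
        · exact ih (fun c hc => h c (List.mem_cons_of_mem _ hc)) _
        · exact Nat.xor_lt_two_pow (h b List.mem_cons_self) (ih (fun c hc => h c (List.mem_cons_of_mem _ hc)) _)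
    exact key _ this S
  · cases (epsS s S ^^ epsS s (nP k S)) <;> simp <;> omega

/-- Every element of the class has as many neighbours as the others. -/
theorem meet_eq {s : ℕ} (hs : ∀ S < 16, cp J g S = zb z (epsS s S) * badG J g S) {a b : ℕ} (ha : a < 2048)
    (hb : b < 2048) (hA : IsD z V (ev J g vec a)) (hB : IsD z V (ev J g vec b)) : meetT s a = meetT s b := by
  classical
  have key : ∀ t < 2048, meetT s t = Set.ncard {v : G | v ∈ V ∧ IsD z V v ∧ IsD z V (v * ev J g vec t)} := by
    intro t ht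
    set L := (List.range 2048).filter fun n => maskD s n && maskD s (Nat.xor n t) with hL
    have hset : {v : G | v ∈ V ∧ IsD z V v ∧ IsD z V (v * ev J g vec t)} = ↑(L.toFinset.image (ev J g vec)) := by
      ext v
      simp only [Finset.coe_image, Set.mem_image, Finset.mem_coe, List.mem_toFinset, hL, List.mem_filter,
        List.mem_range, Bool.and_eq_true, Set.mem_ofPred_eq]
      constructor
      · rintro ⟨hv, h1, h2⟩
        obtain ⟨n, hn, rfl⟩ := D.ev_surj hv
        rw [← D.ev_xor] at h2
        have hx : n ^^^ t < 2048 := Nat.xor_lt_two_pow (n := 11) hn ht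
        exact ⟨n, ⟨hn, (D.isD_iff hs hn).1 h1, (D.isD_iff hs hx).1 h2⟩, rfl⟩
      · rintro ⟨n, ⟨hn, h1, h2⟩, rfl⟩
        have hx : n ^^^ t < 2048 := Nat.xor_lt_two_pow (n := 11) hn ht
        refine ⟨D.ev_mem n, (D.isD_iff hs hn).2 h1, ?_⟩
        rw [← D.ev_xor]
        exact (D.isD_iff hs hx).2 h2
    rw [hset, Set.ncard_coe_finset, Finset.card_image_of_injOn, List.toFinset_card_of_nodup]
    · rfl
    · exact List.Nodup.filter _ List.nodup_range
    · intro x hx y hy e
      simp only [Finset.mem_coe, List.mem_toFinset, hL, List.mem_filter, List.mem_range] at hx hy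
      exact D.ev_inj hx.1 hy.1 e
  rw [key a ha, key b hb]
  obtain ⟨n, hn, hne⟩ := D.D_trans hA hB
  have himg : {v : G | v ∈ V ∧ IsD z V v ∧ IsD z V (v * ev J g vec b)} =
      (fun v => n * v * n⁻¹) '' {v : G | v ∈ V ∧ IsD z V v ∧ IsD z V (v * ev J g vec a)} := by
    ext v
    constructor
    · rintro ⟨hv, h1, h2⟩
      refine ⟨n⁻¹ * v * n, ⟨?_, ?_, ?_⟩, by group⟩
      · simpa using D.conj_mem (inv_mem hn) hv
      · simpa using IsD.conj D (inv_mem hn) h1
      · have h := IsD.conj D (inv_mem hn) h2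
        rw [inv_inv] at h
        convert h using 1
        rw [← hne]
        group
    · rintro ⟨u, ⟨hu, h1, h2⟩, rfl⟩
      refine ⟨D.conj_mem hn hu, IsD.conj D hn h1, ?_⟩
      have h := IsD.conj D hn h2
      convert h using 1
      rw [← hne]
      group
  rw [himg, Set.ncard_image_of_injective _ (show Function.Injective (fun v : G => n * v * n⁻¹) from (MulAut.conj n).injective)]

/-- The signs of the products of the lifts are the listed ones. -/
theorem signs : ∀ S < 16, cp J g S = zb z (epsS epsNum S) * badG J g S := by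
  obtain ⟨s, hs2, hs⟩ := D.exists_signs
  have h260 : 260 ∈ uB := by decide
  have hfix : 260 ∈ fixV := by
    rw [fixV, List.mem_filter]
    exact ⟨List.mem_range.2 (by norm_num), List.all_eq_true.1 u_ok.2.2.2.1 260 (List.mem_append_right _ h260)⟩
  obtain ⟨he, hju⟩ := uInv_facts hfix
  have hA : IsD z V (ev J g vec (ap uInv 260)) := by
    rw [D.isD_iff hs (by omega), maskD, show Nat.blt (ap uInv 260) 128 = true from Nat.blt_eq.mpr (by omega),
      cond_true, Bool.and_eq_true, Nat.mod_eq_of_lt hju, he]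
    refine ⟨?_, List.contains_iff_mem.2 h260⟩
    rw [Bool.not_eq_true', nat_beq_decide, decide_eq_false_iff_not]
    intro h0
    rw [h0, uC, ap_zero] at he
    exact absurd he (by norm_num)
  have hB : IsD z V (ev J g vec 128) := by
    rw [show 128 = 128 * 1 from rfl, ← D.cp_eq_ev (by norm_num)]
    obtain ⟨c, hc, hc2, hcp, hnc⟩ := D.bad_spec (S := 1) (by norm_num)
    rw [show cp J g 1 = badG J g 1 by simp [cp, vlist], ← hc]
    refine ⟨hc ▸ D.bad_mem (by norm_num), fun h => ?_, hnc⟩
    exact D.hexS_ne (S := 1) (by norm_num) (by norm_num) (by rw [← hcp, show c = 1 from Subtype.ext h, map_one])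
  have h := List.all_eq_true.1 sign_ok s (List.mem_range.2 hs2)
  rw [D.signs_eqv hs, D.meet_eq hs (by omega) (by norm_num) hA hB, Nat.beq_refl] at h
  simp only [Bool.not_true, Bool.false_or, nat_beq_decide, decide_eq_true_eq] at h
  exact h ▸ hs

/-- The small class consists of the pairs of points. -/
theorem isD_pairs {n : ℕ} (hn : n < 2048) :
    IsD z V (ev J g vec n) ↔ LargeFischer.pairMask.testBit (ap toT n) = true := by
  rw [D.isD_iff D.signs hn, beq_iff_eq.1 (List.all_eq_true.1 mask_ok n (List.mem_range.2 hn))]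

end Ctx.Std

end CfsgLib.JFour
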