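import Cfsg.Agent.Lib.JFour.TOutDefs

/-!
# Kernel checks for the two-group
-/

set_option autoImplicit false
set_option Elab.async false
set_option maxRecDepth 100000

namespace CfsgLib.JFour

theorem w_closed : [wMat sWd, wMat tWd, outB].all (fun B => okB B && (List.range 64).all fun i =>
    (List.range 64).any fun j => Nat.beq (ap B (wC i)) (wC j)) = true := by
  decide +kernel

theorem w_lin : (List.range 64).all (fun i => (List.range 64).all fun j =>
    Nat.beq (Nat.xor (wC i) (wC j)) (wC (Nat.xor i j)) && !anNum.testBit (wC i)) = true := by
  decide +kernel

theorem d_faithful : (List.range 64).all (fun i => (List.range 16).all fun k =>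
    (Nat.beq i 0 && Nat.beq k 0) || !(comp (actH (wC i)) (dList.getD k []) == id11)) = true := by
  decide +kernel

theorem d_nodup : dList.length = 16 ∧ dList.Nodup ∧ ((List.range 64).map wC).Nodup := by
  decide +kernel

end CfsgLib.JFour
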