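import Cfsg.Agent.Lib.JFour.TOutCols
import Cfsg.Agent.Lib.JFour.TWChecks
import Cfsg.Agent.Lib.Gaschutz.Split

/-!
# A complement in the normalizer

A group of order `2 ^ 10` meeting `V` trivially gives a complement in a subgroup of odd index.
-/

set_option autoImplicit false
set_option maxRecDepth 100000
set_option linter.style.haveILetI false
set_option linter.unusedSectionVars false

open Cfsg
open scoped Pointwise

namespace CfsgLib.JFour

/-- The eight elements generated by two involutions and their translates by a third one. -/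
def dEls {G : Type*} [Group G] (s t τ : G) : List G :=
  let d := [1, s, t, s * t, t * s, s * (t * s), t * (s * t), s * t * (s * t)]
  d ++ d.map (τ * ·)

theorem dEls_closed {G : Type*} [Group G] {s t τ : G} (hs : s * s = 1) (ht : t * t = 1)
    (hu : s * t * (s * t) * (s * t * (s * t)) = 1) (hτ : τ * τ = 1) (hτs : τ * s = s * τ) (hτt : τ * t = t * τ)
    {x a : G} (hx : x ∈ dEls s t τ) (ha : a = s ∨ a = t ∨ a = τ) : a * x ∈ dEls s t τ := by
  have hs' : ∀ r : G, s * (s * r) = r := fun r => by rw [← mul_assoc, hs, one_mul]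
  have ht' : ∀ r : G, t * (t * r) = r := fun r => by rw [← mul_assoc, ht, one_mul]
  have hτ' : ∀ r : G, τ * (τ * r) = r := fun r => by rw [← mul_assoc, hτ, one_mul]
  have hsτ : ∀ r : G, s * (τ * r) = τ * (s * r) := fun r => by rw [← mul_assoc, ← hτs, mul_assoc]
  have htτ : ∀ r : G, t * (τ * r) = τ * (t * r) := fun r => by rw [← mul_assoc, ← hτt, mul_assoc]
  have hsi : s⁻¹ = s := inv_eq_of_mul_eq_one_right hs
  have hti : t⁻¹ = t := inv_eq_of_mul_eq_one_right ht
  have h4 : t * (s * (t * s)) = s * (t * (s * t)) := by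
    have h : (s * t * (s * t))⁻¹ = s * t * (s * t) := inv_eq_of_mul_eq_one_right hu
    simp only [mul_inv_rev, hsi, hti, mul_assoc] at h
    exact h
  have h5 : ∀ r : G, t * (s * (t * (s * r))) = s * (t * (s * (t * r))) := fun r => by
    have h := congrArg (· * r) h4
    simpa only [mul_assoc] using h
  simp only [dEls, List.map_cons, List.map_nil, List.cons_append, List.nil_append, List.mem_cons, List.not_mem_nil,
    or_false, mul_one, mul_assoc] at hx ⊢
  rcases ha with rfl | rfl | rfl <;>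
    rcases hx with rfl | rfl | rfl | rfl | rfl | rfl | rfl | rfl | rfl | rfl | rfl | rfl | rfl | rfl | rfl | rfl <;>
    simp [hs, ht, hτ, hs', ht', hτ', hsτ, htτ, h4, h5, ← hτs, ← hτt]

theorem wC_facts {i : ℕ} (hi : i < 64) : wC i < 4096 ∧ aniso (wC i) = false := by
  have h := List.all_eq_true.1 w_ok.2.2 i (List.mem_range.2 hi)
  simp only [Bool.and_eq_true, decide_eq_true_eq, Bool.not_eq_true'] at h
  exact ⟨h.1.1.1, (an_eq h.1.1.1).symm.trans h.1.1.2⟩

namespace Ctx.Std

variable {G : Type*} [Group G] [Finite G] {M : Type*} [Group M] [Finite M] {z π : G} {E : Subgroup G}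
variable {J : Ctx M z π E} {g : ℕ → M} {vec : ℕ → G} {V : Subgroup G} (D : J.Std g vec V)
include D

theorem hat_wC_mul {i j : ℕ} (hi : i < 64) (hj : j < 64) :
    hat z π vec (wC i) * hat z π vec (wC j) = hat z π vec (wC (i ^^^ j)) := by
  have h := List.all_eq_true.1 (List.all_eq_true.1 w_ok.2.2 i (List.mem_range.2 hi) |> fun h => by
    simp only [Bool.and_eq_true] at h; exact h.2) j (List.mem_range.2 hj)
  rw [Bool.not_eq_true', betaQ_eq (wC_facts hj).1] at h
  have h' := List.all_eq_true.1 (List.all_eq_true.1 w_lin i (List.mem_range.2 hi)) j (List.mem_range.2 hj)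
  simp only [Bool.and_eq_true, Nat.beq_eq] at h'
  rw [D.hat_mul (wC_facts hi).1 (wC_facts hj).1, h, show wC i ^^^ wC j = wC (i ^^^ j) from h'.1]
  exact one_mul _

/-- The conjugate by an element inverting `π`. -/
theorem hat_conj_invert {τ : G} {B : List ℕ} (hB : Acts z vec τ B) (hτz : τ * z = z * τ)
    (hτ : τ * π * τ⁻¹ = π⁻¹) {n : ℕ} (hn : n < 4096) (hbe : beta n n = false) :
    τ * hat z π vec n * τ⁻¹ = hat z π vec (ap B n) := by
  refine D.hat_unique (okB_lt hB.1 n) (J.rel_trans (J.rel_conj hτz (D.hat_rel n)) (hB.2 n hn)) ?_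
  set x := hat z π vec n with hx
  have hτ' : π * τ = τ * π⁻¹ := by
    calc π * τ = (τ * π * τ⁻¹)⁻¹ * τ := by rw [hτ, inv_inv]
      _ = _ := by group
  have hτ'' : π⁻¹ * τ = τ * π := by
    calc π⁻¹ * τ = τ * π * τ⁻¹ * τ := by rw [hτ]
      _ = _ := by group
  have h1 := okB_lt gW1_ok.2.1 n
  have h2 := okB_lt gW1_ok.1 n
  have htr : x * hat z π vec (ap gW0 n) * hat z π vec (ap gW1 n) = 1 := by
    have := D.hat_trip hn
    rwa [trip, D.hat_conj_pi hn, D.hat_conj_pi_inv hn] at this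
  have hbb : bb (ap gW1 n) (ap gW0 n) = false := by
    have e : ap gW1 n = ap gW0 (ap gW0 n) := ap_comp gW0 gW0 n
    have e2 : ap gW0 (ap gW1 n) = n := by rw [← ap_comp, gW1_ok.2.2.2, ap_idB hn]
    have h3 := D.bb_pi hn h2
    rw [e2] at h3
    rw [e, D.bb_pi h1 hn, h3]
    exact hbe
  calc trip π (τ * x * τ⁻¹) = τ * x * τ⁻¹ * ((π * τ) * x * (π * τ)⁻¹) * ((π⁻¹ * τ) * x * (π⁻¹ * τ)⁻¹) := by
        rw [trip]; group
    _ = τ * (x * (π⁻¹ * x * π) * (π * x * π⁻¹)) * τ⁻¹ := by rw [hτ', hτ'']; group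
    _ = 1 := by
      rw [hx, D.hat_conj_pi hn, D.hat_conj_pi_inv hn, mul_assoc (hat z π vec n), D.hat_comm h2 h1, hbb,
        show zb z false = 1 from rfl, one_mul, ← mul_assoc (hat z π vec n), ← hx, htr, mul_one, mul_inv_cancel]

/-- A subgroup of order `2 ^ 10` meeting `V` trivially. -/
theorem exists_two_group : ∃ Y : Subgroup G, Y ≤ Subgroup.normalizer (V : Set G) ∧ Y ⊓ V = ⊥ ∧
    Nat.card ↥Y = 2 ^ 10 := by
  classical
  obtain ⟨s, t, ⟨hs, hsV, hs2⟩, ⟨ht, htV, ht2⟩, hu⟩ := D.exists_dihedral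
  obtain ⟨τ, hτ2, hτV, hτp, hτs, hτt, hτz, hτB⟩ := D.exists_outB hs hsV hs2 ht htV ht2 hu
  have hτi : τ⁻¹ = τ := inv_eq_of_mul_eq_one_right hτ2
  have hsi : s⁻¹ = s := inv_eq_of_mul_eq_one_right hs2
  have hti : t⁻¹ = t := inv_eq_of_mul_eq_one_right ht2
  have hflip : ∀ {x : G}, τ * x * τ = x → τ * x = x * τ := fun {x} h => by
    calc τ * x = τ * x * (τ * τ) := by rw [hτ2, mul_one]
      _ = τ * x * τ * τ := by group
      _ = _ := by rw [h]
  -- the elementary part
  let X : Subgroup G :=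
    { carrier := {x | ∃ i < 64, hat z π vec (wC i) = x}
      mul_mem' := by
        rintro _ _ ⟨i, hi, rfl⟩ ⟨j, hj, rfl⟩
        exact ⟨i ^^^ j, Nat.xor_lt_two_pow (n := 6) hi hj, (D.hat_wC_mul hi hj).symm⟩
      one_mem' := ⟨0, by norm_num, by rw [wC, ap_zero, D.hat_zero]⟩
      inv_mem' := by
        rintro _ ⟨i, hi, rfl⟩
        refine ⟨i, hi, (inv_eq_of_mul_eq_one_right ?_).symm⟩
        rw [D.hat_wC_mul hi hi, Nat.xor_self, wC, ap_zero, D.hat_zero] }
  have hwinj : ∀ {i j : ℕ}, i < 64 → j < 64 → hat z π vec (wC i) = hat z π vec (wC j) → i = j := by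
    intro i j hi hj h
    have hh : zb z false * hat z π vec (wC i) = zb z false * hat z π vec (wC j) := by rw [h]
    have e := (D.hat_zb_inj (wC_facts hi).1 (wC_facts hj).1 hh).2
    exact List.inj_on_of_nodup_map d_nodup.2.2 (List.mem_range.2 hi) (List.mem_range.2 hj) e
  have hXcard : Nat.card ↥X = 64 := by
    rw [show 64 = Nat.card (Fin 64) by rw [Nat.card_fin]]
    refine (Nat.card_eq_of_bijective (fun i : Fin 64 => (⟨_, i, i.2, rfl⟩ : ↥X)) ⟨fun i j h => ?_, ?_⟩).symm
    · exact Fin.ext (hwinj i.2 j.2 (congrArg Subtype.val h))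
    · rintro ⟨_, i, hi, rfl⟩
      exact ⟨⟨i, hi⟩, rfl⟩
  -- the dihedral part
  have hcl : ∀ {x a : G}, x ∈ dEls s t τ → a = s ∨ a = t ∨ a = τ → a * x ∈ dEls s t τ :=
    fun hx ha => dEls_closed hs2 ht2 hu hτ2 (hflip hτs) (hflip hτt) hx ha
  let K : Subgroup G := Subgroup.closure {s, t, τ}
  have hKmem : ∀ x ∈ K, x ∈ dEls s t τ := by
    intro x hx
    induction hx using Subgroup.closure_induction_left with
    | one => simp [dEls]
    | mul_left a ha y _ ih => exact hcl ih (by simpa using ha)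
    | inv_mul_cancel a ha y _ ih =>
      have ha' : a = s ∨ a = t ∨ a = τ := by simpa using ha
      refine hcl ih ?_
      rcases ha' with rfl | rfl | rfl
      exacts [Or.inl hsi, Or.inr (Or.inl hti), Or.inr (Or.inr hτi)]
  have hact : ∀ k < 16, ∃ x ∈ K, (dEls s t τ).getD k 1 = x ∧ VActs J g vec x (dList.getD k []) := by
    have hsK : s ∈ K := Subgroup.subset_closure (by simp)
    have htK : t ∈ K := Subgroup.subset_closure (by simp)
    have hτK : τ ∈ K := Subgroup.subset_closure (by simp)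
    have h1 := D.vacts_one
    have hst := D.vacts_mul hsV htV
    have hts := D.vacts_mul htV hsV
    have h8 : ∀ k < 8, ∃ x ∈ K, ([1, s, t, s * t, t * s, s * (t * s), t * (s * t), s * t * (s * t)] : List G).getD k 1 = x ∧
        VActs J g vec x (([id11, LsV, LtV, comp LsV LtV, comp LtV LsV, comp LsV (comp LtV LsV),
          comp LtV (comp LsV LtV), LuV]).getD k []) := by
      intro k hk
      interval_cases k
      exacts [⟨1, K.one_mem, rfl, h1⟩, ⟨s, hsK, rfl, hsV⟩, ⟨t, htK, rfl, htV⟩, ⟨_, mul_mem hsK htK, rfl, hst⟩,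
        ⟨_, mul_mem htK hsK, rfl, hts⟩, ⟨_, mul_mem hsK (mul_mem htK hsK), rfl, D.vacts_mul hsV hts⟩,
        ⟨_, mul_mem htK (mul_mem hsK htK), rfl, D.vacts_mul htV hst⟩,
        ⟨_, mul_mem (mul_mem hsK htK) (mul_mem hsK htK), rfl, D.vacts_mul hst hst⟩]
    intro k hk
    simp only [dEls, dList]
    rcases Nat.lt_or_ge k 8 with h | h
    · obtain ⟨x, hx, hxe, hxA⟩ := h8 k h
      refine ⟨x, hx, ?_, ?_⟩
      · rw [List.getD_append _ _ _ _ (by simpa using h)]; exact hxe
      · rw [List.getD_append _ _ _ _ (by simpa using h)]; exact hxA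
    · obtain ⟨x, hx, hxe, hxA⟩ := h8 (k - 8) (by omega)
      refine ⟨τ * x, mul_mem hτK hx, ?_, ?_⟩
      · rw [List.getD_append_right _ _ _ _ (by simpa using h), List.getD_eq_getElem _ _ (by simp; omega),
          List.getElem_map]
        rw [List.getD_eq_getElem _ _ (by simp; omega)] at hxe
        simp only [List.length_cons, List.length_nil] at *
        rw [← hxe]
      · rw [List.getD_append_right _ _ _ _ (by simpa using h), List.getD_eq_getElem _ _ (by simp; omega),
          List.getElem_map]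
        rw [List.getD_eq_getElem _ _ (by simp; omega)] at hxA
        exact D.vacts_mul hτV hxA
  choose d hdK hde hdA using hact
  have hKall : ∀ x ∈ K, ∃ k, ∃ hk : k < 16, d k hk = x := by
    intro x hx
    obtain ⟨k, hk, rfl⟩ := List.getElem_of_mem (hKmem x hx)
    have hk16 : k < 16 := by simpa [dEls] using hk
    exact ⟨k, hk16, by rw [← hde k hk16, List.getD_eq_getElem]⟩
  have hKcard : Nat.card ↥K = 16 := by
    rw [show 16 = Nat.card (Fin 16) by rw [Nat.card_fin]]
    refine (Nat.card_eq_of_bijective (fun k : Fin 16 => (⟨d k k.2, hdK k k.2⟩ : ↥K)) ⟨fun a b h => ?_, ?_⟩).symm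
    · have e : d a a.2 = d b b.2 := congrArg Subtype.val h
      have hA := hdA a a.2
      have hB := hdA b b.2
      rw [e] at hA
      have heq : dList.getD a [] = dList.getD b [] := by
        have hlA : (dList.getD a []).length = 11 := by
          have := hA.1; simp only [okL, Bool.and_eq_true, beq_iff_eq] at this; exact this.1
        have hlB : (dList.getD b []).length = 11 := by
          have := hB.1; simp only [okL, Bool.and_eq_true, beq_iff_eq] at this; exact this.1
        refine List.ext_getElem (by rw [hlA, hlB]) fun i hi hi' => ?_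
        have := D.vacts_inj hA hB (n := 2 ^ i)
          (Nat.pow_lt_pow_right (n := 11) (by norm_num) (by omega))
        rwa [ap_pow, ap_pow, List.getD_eq_getElem _ _ hi, List.getD_eq_getElem _ _ hi'] at this
      rw [List.getD_eq_getElem _ _ (by rw [d_nodup.1]; exact a.2),
        List.getD_eq_getElem _ _ (by rw [d_nodup.1]; exact b.2)] at heq
      exact Fin.ext ((List.Nodup.getElem_inj_iff d_nodup.2.1).1 heq)
    · rintro ⟨x, hx⟩
      obtain ⟨k, hk, e⟩ := hKall x hx
      exact ⟨⟨k, hk⟩, Subtype.ext e⟩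
  have hKN : K ≤ Subgroup.normalizer (V : Set G) := by
    rw [Subgroup.closure_le]
    intro x hx
    simp only [Set.mem_insert_iff, Set.mem_singleton_iff] at hx
    rcases hx with rfl | rfl | rfl
    exacts [D.vacts_mem hsV, D.vacts_mem htV, D.vacts_mem hτV]
  have hXN : X ≤ Subgroup.normalizer (V : Set G) := by
    rintro _ ⟨i, hi, rfl⟩
    exact D.E_le (D.hat_mem (wC_facts hi).1)
  -- the dihedral part normalizes the elementary part
  have hnorm : ∀ k ∈ K, ∀ x ∈ X, k * x * k⁻¹ ∈ X := by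
    have hgen : ∀ {a : G} {B : List ℕ}, Acts z vec a B → B ∈ [wMat sWd, wMat tWd, outB] →
        (∀ i < 64, a * hat z π vec (wC i) * a⁻¹ = hat z π vec (ap B (wC i))) →
        ∀ x ∈ X, a * x * a⁻¹ ∈ X := by
      rintro a B - hBm hc _ ⟨i, hi, rfl⟩
      rw [hc i hi]
      have h := List.all_eq_true.1 w_closed B hBm
      simp only [Bool.and_eq_true, List.all_eq_true, List.any_eq_true, List.mem_range, Nat.beq_eq] at h
      obtain ⟨j, hj, e⟩ := h.2 i hi
      exact ⟨j, hj, by rw [e]⟩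
    have hS := hgen hs.2.1 (by simp) fun i hi => D.hat_conj (c := ⟨s, hs.1⟩) hs.2.1 (wC_facts hi).1
    have hT := hgen ht.2.1 (by simp) fun i hi => D.hat_conj (c := ⟨t, ht.1⟩) ht.2.1 (wC_facts hi).1
    have hR := hgen hτB (by simp) fun i hi => D.hat_conj_invert hτB hτz (by rw [hτi]; exact hτp) (wC_facts hi).1 (by
      have h := List.all_eq_true.1 w_ok.2.2 i (List.mem_range.2 hi)
      simp only [Bool.and_eq_true, List.all_eq_true, Bool.not_eq_true'] at h
      rw [← betaQ_eq (wC_facts hi).1]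
      exact h.2 i (List.mem_range.2 hi))
    intro k hk
    induction hk using Subgroup.closure_induction_left with
    | one => intro x hx; simpa using hx
    | mul_left a ha y _ ih =>
      intro x hx
      rw [show a * y * x * (a * y)⁻¹ = a * (y * x * y⁻¹) * a⁻¹ by group]
      simp only [Set.mem_insert_iff, Set.mem_singleton_iff] at ha
      rcases ha with rfl | rfl | rfl
      exacts [hS _ (ih x hx), hT _ (ih x hx), hR _ (ih x hx)]
    | inv_mul_cancel a ha y _ ih =>
      intro x hx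
      simp only [Set.mem_insert_iff, Set.mem_singleton_iff] at ha
      have hai : a⁻¹ = a := by rcases ha with rfl | rfl | rfl; exacts [hsi, hti, hτi]
      rw [hai, show a * y * x * (a * y)⁻¹ = a * (y * x * y⁻¹) * a⁻¹ by group]
      rcases ha with rfl | rfl | rfl
      exacts [hS _ (ih x hx), hT _ (ih x hx), hR _ (ih x hx)]
  have hKX : K ≤ Subgroup.normalizer (X : Set G) := by
    intro k hk
    rw [Subgroup.mem_normalizer_iff]
    intro x
    refine ⟨hnorm k hk x, fun h => ?_⟩
    have := hnorm k⁻¹ (inv_mem hk) _ h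
    rwa [show k⁻¹ * (k * x * k⁻¹) * k⁻¹⁻¹ = x by group] at this
  -- an element of the product in `V` is trivial
  have hfree : ∀ i < 64, ∀ k, ∀ hk : k < 16, hat z π vec (wC i) * d k hk ∈ V → i = 0 ∧ k = 0 := by
    intro i hi k hk hV
    have hA := D.vacts_mul (D.vacts_hat (wC_facts hi).1) (hdA k hk)
    have hB := D.vacts_V hV
    have h := List.all_eq_true.1 (List.all_eq_true.1 d_faithful i (List.mem_range.2 hi)) k (List.mem_range.2 hk)
    simp only [Bool.or_eq_true, Bool.and_eq_true, Nat.beq_eq, Bool.not_eq_true', beq_eq_false_iff_ne] at h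
    refine h.resolve_right fun hne => hne ?_
    have hlA : (comp (actH (wC i)) (dList.getD k [])).length = 11 := by
      have := hA.1; simp only [okL, Bool.and_eq_true, beq_iff_eq] at this; exact this.1
    refine List.ext_getElem (by rw [hlA]; rfl) fun j hj hj' => ?_
    have := D.vacts_inj hA hB (n := 2 ^ j) (Nat.pow_lt_pow_right (n := 11) (by norm_num) (by omega))
    rwa [ap_pow, ap_pow, List.getD_eq_getElem _ _ hj, List.getD_eq_getElem _ _ hj'] at this
  have hd0 : d 0 (by norm_num) = 1 := by rw [← hde 0]; rfl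
  have hXK : X ⊓ K = ⊥ := by
    rw [eq_bot_iff]
    rintro x ⟨⟨i, hi, rfl⟩, hxK⟩
    obtain ⟨k, hk, e⟩ := hKall _ hxK
    have h1 : hat z π vec (wC i) * d k hk ∈ V := by
      rw [e, D.hat_wC_mul hi hi, Nat.xor_self, wC, ap_zero, D.hat_zero]
      exact V.one_mem
    obtain ⟨rfl, -⟩ := hfree i hi k hk h1
    rw [Subgroup.mem_bot, wC, ap_zero, D.hat_zero]
  refine ⟨X ⊔ K, sup_le hXN hKN, ?_, ?_⟩
  · rw [eq_bot_iff]
    rintro y ⟨hy, hyV⟩
    have hy' : y ∈ (X : Set G) * (K : Set G) := by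
      rwa [← Subgroup.coe_mul_of_right_le_normalizer_left X K hKX]
    obtain ⟨x, ⟨i, hi, rfl⟩, k, hk, rfl⟩ := hy'
    obtain ⟨k', hk', e⟩ := hKall _ hk
    subst e
    obtain ⟨rfl, rfl⟩ := hfree i hi k' hk' hyV
    simp [hd0, wC, ap_zero, D.hat_zero]
  · rw [← SetLike.coe_sort_coe, Subgroup.coe_mul_of_right_le_normalizer_left X K hKX]
    refine (Nat.card_eq_of_bijective (fun p : ↥X × ↥K => (⟨(p.1 : G) * p.2, Set.mul_mem_mul p.1.2 p.2.2⟩ :
      ↥((X : Set G) * (K : Set G)))) ⟨fun p q hpq => ?_, fun y => ?_⟩).symm.trans (by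
      rw [Nat.card_prod, hXcard, hKcard]; norm_num)
    · exact Subgroup.mul_injective_of_disjoint (disjoint_iff.2 hXK) (congrArg Subtype.val hpq)
    · obtain ⟨x, hx, k, hk, e⟩ := y.2
      exact ⟨(⟨x, hx⟩, ⟨k, hk⟩), Subtype.ext e⟩

/-- The complement of `V` in its normalizer. -/
theorem exists_complement : ∃ K : Subgroup G, K ≤ Subgroup.normalizer (V : Set G) ∧ K ⊓ V = ⊥ ∧
    K ⊔ V = Subgroup.normalizer (V : Set G) ∧ Spor.IsoM24 ↥K := by
  classical
  obtain ⟨Y, hYN, hYV, hYc⟩ := D.exists_two_group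
  obtain ⟨φ, hker, hsurj, -⟩ := D.exists_hom
  let N : Subgroup G := Subgroup.normalizer (V : Set G)
  have hVN : V ≤ N := Subgroup.le_normalizer
  set V' : Subgroup ↥N := V.subgroupOf N with hV'
  haveI : V'.Normal := Subgroup.normal_in_normalizer
  haveI : IsMulCommutative V' := ⟨⟨fun a b => Subtype.ext (Subtype.ext (D.isV.comm _ a.2 _ b.2))⟩⟩
  set Y' := Y.subgroupOf N with hY'
  have hinf : Y' ⊓ V' = ⊥ := by
    rw [eq_bot_iff]
    rintro x ⟨h1, h2⟩
    have : (x : G) ∈ (Y ⊓ V : Subgroup G) := ⟨h1, h2⟩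
    rw [hYV, Subgroup.mem_bot] at this
    exact Subgroup.mem_bot.2 (Subtype.ext this)
  have hcV : Nat.card ↥V' = 2 ^ 11 := by
    rw [Nat.card_congr (Subgroup.subgroupOfEquivOfLe hVN).toEquiv, D.isV.card]
  have hcY : Nat.card ↥Y' = 2 ^ 10 := by
    rw [Nat.card_congr (Subgroup.subgroupOfEquivOfLe hYN).toEquiv, hYc]
  have hsup : Nat.card ↥(V' ⊔ Y') = 2 ^ 21 := by
    rw [← SetLike.coe_sort_coe, Subgroup.normal_mul]
    refine (Nat.card_eq_of_bijective (fun p : ↥V' × ↥Y' => (⟨(p.1 : N) * p.2, Set.mul_mem_mul p.1.2 p.2.2⟩ :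
      ↥((V' : Set N) * (Y' : Set N)))) ⟨fun p q hpq => ?_, fun y => ?_⟩).symm.trans (by
      rw [Nat.card_prod, hcV, hcY]; norm_num)
    · refine Subgroup.mul_injective_of_disjoint (disjoint_iff.2 ?_) (congrArg Subtype.val hpq)
      rw [inf_comm]; exact hinf
    · obtain ⟨x, hx, k, hk, e⟩ := y.2
      exact ⟨(⟨x, hx⟩, ⟨k, hk⟩), Subtype.ext e⟩
  have hidx : (V' ⊔ Y').index = 239085 := by
    have h := (V' ⊔ Y').card_mul_index
    rw [hsup, D.card_normalizer] at h
    omega
  obtain ⟨H, hH⟩ := Gaschutz.exists_complement (K := V') (U := V' ⊔ Y') (A := Y') le_sup_left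
    (by rw [hcV, hidx]; norm_num) hinf rfl
  refine ⟨H.map N.subtype, Subgroup.map_subtype_le H, ?_, ?_, ?_⟩
  · rw [eq_bot_iff]
    rintro _ ⟨⟨x, hx, rfl⟩, h2⟩
    have : x ∈ H ⊓ V' := ⟨hx, h2⟩
    rw [disjoint_iff.1 hH.disjoint.symm, Subgroup.mem_bot] at this
    rw [Subgroup.mem_bot, this]
    rfl
  · have : (H ⊔ V').map N.subtype = N := by
      rw [hH.symm.sup_eq_top, ← MonoidHom.range_eq_map, Subgroup.range_subtype]
    rw [Subgroup.map_sup, hV', Subgroup.subgroupOf_map_subtype, inf_eq_left.2 hVN] at this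
    exact this
  · refine ⟨(H.equivMapOfInjective N.subtype N.subtype_injective).symm.trans
      (MulEquiv.ofBijective (φ.comp H.subtype) ⟨?_, ?_⟩)⟩
    · rw [injective_iff_map_eq_one]
      intro x hx
      have h1 : (x : N) ∈ φ.ker := hx
      rw [hker] at h1
      have : (x : N) ∈ H ⊓ V' := ⟨x.2, h1⟩
      rw [disjoint_iff.1 hH.disjoint.symm, Subgroup.mem_bot] at this
      exact Subtype.ext this
    · intro m
      obtain ⟨x, rfl⟩ := hsurj m
      obtain ⟨p, hp⟩ := hH.2 x
      refine ⟨p.2, ?_⟩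
      have hk : (p.1 : N) ∈ φ.ker := by rw [hker]; exact p.1.2
      simp only [MonoidHom.comp_apply, Subgroup.coe_subtype]
      rw [← hp, map_mul, MonoidHom.mem_ker.1 hk, one_mul]

end Ctx.Std

/-- An elementary subgroup of order `2 ^ 11` and its normalizer. -/
theorem eleven_split {G : Type*} [Group G] [Finite G] [IsSimpleGroup G] (hG : ¬ IsMulCommutative G) {z : G}
    (hJ : IsOfJankoFourTypeAt z) {V : Subgroup G} (hV : IsElementaryAbelian 2 V) (hcard : Nat.card ↥V = 2 ^ 11) :
    Subgroup.centralizer (V : Set G) ≤ V ∧ ∃ K : Subgroup G, K ≤ Subgroup.normalizer (V : Set G) ∧ K ⊓ V = ⊥ ∧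
      K ⊔ V = Subgroup.normalizer (V : Set G) ∧ Spor.IsoM24 ↥K := by
  obtain ⟨π, J, g, vec, V0, c, D, rfl⟩ := exists_std hG hJ hV hcard
  refine ⟨fun x hx => ?_, ?_⟩
  · rw [mem_conj_map]
    refine D.centralizer_le (Subgroup.mem_centralizer_iff.2 fun v hv => ?_)
    have h := Subgroup.mem_centralizer_iff.1 hx (c * v * c⁻¹) ⟨v, hv, rfl⟩
    calc v * (c⁻¹ * x * c) = c⁻¹ * (c * v * c⁻¹ * x) * c := by group
      _ = _ := by rw [h]; group
  · obtain ⟨K, hKN, hKV, hKs, ⟨e⟩⟩ := D.exists_complement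
    set f := (MulAut.conj c).toMonoidHom
    have hf : Function.Injective f := (MulAut.conj c).injective
    have hNf : (Subgroup.normalizer (V0 : Set G)).map f =
        Subgroup.normalizer ((V0.map f : Subgroup G) : Set G) := by
      ext x
      rw [mem_conj_map, normalizer_conj_map]
    refine ⟨K.map f, hNf ▸ Subgroup.map_mono hKN, ?_, ?_, ⟨(K.equivMapOfInjective f hf).symm.trans e⟩⟩
    · rw [← Subgroup.map_inf _ _ f hf, hKV, Subgroup.map_bot]
    · rw [← Subgroup.map_sup, hKs, hNf]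

end CfsgLib.JFour
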