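import Cfsg.Agent.Lib.JFour.Cent
import Cfsg.Agent.Lib.M22Order.CharFacts
import Cfsg.Agent.Lib.M22Order.Three

/-!
# The Sylow 3-subgroup of the group on 22 points

The subgroup generated by the first two generators has order nine, is its own centralizer and has
normalizer of order 72.
-/

set_option autoImplicit false
set_option linter.style.haveILetI false
set_option linter.unusedSectionVars false

open Cfsg

namespace CfsgLib.JFour

variable {M : Type*} [Group M] [Finite M]

/-- The subgroup generated by the first two generators. -/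
def nine (g : ℕ → M) : Subgroup M := Subgroup.closure {g 0, g 1}

namespace Gens

variable {g : ℕ → M} (T : Gens M g)
include T

theorem cube_zero : g 0 * g 0 * g 0 = 1 := by
  have := T.rels [0, 0, 0] (by simp [relList])
  simpa [mul_assoc] using this

theorem cube_one : g 1 * g 1 * g 1 = 1 := by
  have := T.rels [1, 1, 1] (by simp [relList])
  simpa [mul_assoc] using this

theorem orderOf_zero : orderOf (g 0) = 3 :=
  orderOf_eq_prime (by rw [pow_succ, pow_two, T.cube_zero]) T.indep.1

theorem comm_zero_one : g 0 * g 1 = g 1 * g 0 := by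
  have := T.rels [0, 1, 0, 0, 1, 1] (by simp [relList])
  simp only [List.map_cons, List.map_nil, List.prod_cons, List.prod_nil, mul_one] at this
  have e0 : g 0 * g 0 = (g 0)⁻¹ := (inv_eq_of_mul_eq_one_left T.cube_zero).symm
  have e1 : g 1 * g 1 = (g 1)⁻¹ := (inv_eq_of_mul_eq_one_left T.cube_one).symm
  rw [← mul_inv_eq_one]
  calc g 0 * g 1 * (g 1 * g 0)⁻¹ = g 0 * g 1 * ((g 0)⁻¹ * (g 1)⁻¹) := by rw [mul_inv_rev]
    _ = g 0 * g 1 * ((g 0 * g 0) * (g 1 * g 1)) := by rw [e0, e1]
    _ = 1 := by simpa [mul_assoc] using this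

theorem one_not_zpowers : g 1 ∉ Subgroup.zpowers (g 0) := by
  intro h
  obtain ⟨j, hj⟩ := (isOfFinOrder_of_finite (g 0)).mem_powers_iff_mem_zpowers.2 h
  have hj' : g 0 ^ (j % 3) = g 1 := by rw [← hj, ← T.orderOf_zero, pow_mod_orderOf]
  have : j % 3 < 3 := Nat.mod_lt _ (by norm_num)
  obtain ⟨-, i1, i2, i3⟩ := T.indep
  interval_cases hc : j % 3
  · exact i1 (by simpa using hj'.symm)
  · exact i2 (by simpa using hj'.symm)
  · exact i3 (by simpa [pow_two] using hj'.symm)

theorem mem_nine_comm {x y : M} (hx : x ∈ nine g) (hy : y ∈ nine g) : x * y = y * x := by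
  induction hx, hy using Subgroup.closure_induction₂ with
  | mem s t hs ht =>
    rcases hs with rfl | rfl <;> rcases ht with rfl | rfl
    exacts [rfl, T.comm_zero_one, T.comm_zero_one.symm, rfl]
  | one_left t _ => simp
  | one_right t _ => simp
  | mul_left s t r _ _ _ h1 h2 => exact ((show Commute s r from h1).mul_left (show Commute t r from h2)).eq
  | mul_right s t r _ _ _ h1 h2 => exact ((show Commute r s from h1).mul_right (show Commute r t from h2)).eq
  | inv_left s t _ _ h => exact ((show Commute s t from h).inv_left).eq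
  | inv_right s t _ _ h => exact ((show Commute s t from h).inv_right).eq

theorem nine_cube {x : M} (hx : x ∈ nine g) : x * x * x = 1 := by
  suffices h : x ^ 3 = 1 by rwa [pow_succ, pow_two] at h
  refine (Subgroup.closure_induction (p := fun y _ => y ^ 3 = 1) ?_ (one_pow 3) ?_ ?_ hx)
  · rintro y (rfl | rfl) <;> rw [pow_succ, pow_two]
    exacts [T.cube_zero, T.cube_one]
  · intro y w hy hw h1 h2
    rw [(show Commute y w from T.mem_nine_comm hy hw).mul_pow, h1, h2, one_mul]
  · intro y _ h
    rw [inv_pow, h, inv_one]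

omit T in
theorem zero_mem (g : ℕ → M) : g 0 ∈ nine g := Subgroup.subset_closure (Or.inl rfl)

omit T in
theorem one_mem' (g : ℕ → M) : g 1 ∈ nine g := Subgroup.subset_closure (Or.inr rfl)

theorem card_nine : Nat.card (nine g) = 9 := by
  haveI := Fact.mk Nat.prime_three
  have hp : IsPGroup 3 ↥(nine g) := fun x => ⟨1, Subtype.ext (by
    simpa [pow_succ] using T.nine_cube x.2)⟩
  obtain ⟨n, hn⟩ := IsPGroup.iff_card.1 hp
  have h1 : n ≤ 2 := by
    by_contra h
    have hd : (27 : ℕ) ∣ 443520 := by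
      refine dvd_trans ?_ (T.small.card ▸ Subgroup.card_subgroup_dvd_card (nine g))
      rw [hn]
      exact Nat.pow_dvd_pow 3 (show 3 ≤ n by omega)
    norm_num at hd
  have h2 : 2 ≤ n := by
    by_contra h
    have hle : Subgroup.zpowers (g 0) ≤ nine g := Subgroup.zpowers_le.2 (zero_mem g)
    have : Subgroup.zpowers (g 0) = nine g := Subgroup.eq_of_le_of_card_ge hle (by
      rw [hn, Nat.card_zpowers, T.orderOf_zero]
      exact (Nat.pow_le_pow_right (by norm_num) (show n ≤ 1 by omega)).trans_eq (pow_one 3))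
    exact T.one_not_zpowers (this ▸ one_mem' g)
  rw [hn, show n = 2 by omega]
  norm_num

/-- The Sylow subgroup. -/
noncomputable def sylowNine : Sylow 3 M :=
  haveI := Fact.mk Nat.prime_three
  Sylow.ofCard (nine g) (by
    rw [T.card_nine, T.small.card, show (443520 : ℕ) = 3 ^ 2 * 49280 by norm_num,
      Nat.factorization_mul (by norm_num) (by norm_num), Finsupp.add_apply, Nat.factorization_pow,
      Nat.factorization_eq_zero_of_not_dvd (show ¬ 3 ∣ 49280 by norm_num)]
    simp [Nat.prime_three.factorization_self])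

/-- Every 3-element has order dividing three. -/
theorem cube_of_three {x : M} (hx : x ^ 27 = 1) : x * x * x = 1 := by
  haveI := Fact.mk Nat.prime_three
  have hp : IsPGroup 3 ↥(Subgroup.zpowers x) := by
    rintro ⟨y, hy⟩
    obtain ⟨i, rfl⟩ := Subgroup.mem_zpowers_iff.1 hy
    exact ⟨3, Subtype.ext (by
      show (x ^ i) ^ (3 ^ 3) = 1
      rw [← zpow_natCast, zpow_comm, zpow_natCast, show (3 : ℕ) ^ 3 = 27 by norm_num, hx, one_zpow])⟩
  obtain ⟨P, hP⟩ := hp.exists_le_sylow
  obtain ⟨c, hc⟩ := MulAction.exists_smul_eq M P T.sylowNine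
  have hmem : c * x * c⁻¹ ∈ nine g := by
    have h1 : c * x * c⁻¹ ∈ ((c • P : Sylow 3 M) : Subgroup M) := by
      rw [Sylow.coe_subgroup_smul]
      exact ⟨x, hP (Subgroup.mem_zpowers x), rfl⟩
    rwa [hc] at h1
  have := T.nine_cube hmem
  calc x * x * x = c⁻¹ * (c * x * c⁻¹ * (c * x * c⁻¹) * (c * x * c⁻¹)) * c := by group
    _ = 1 := by rw [this]; group

/-- The subgroup is its own centralizer. -/
theorem mem_nine_of_comm {x : M} (h0 : x * g 0 = g 0 * x) (h1 : x * g 1 = g 1 * x) : x ∈ nine g := by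
  set C := Subgroup.centralizer ({g 0} : Set M) ⊓ Subgroup.centralizer ({g 1} : Set M)
  have hle : nine g ≤ C := fun y hy => ⟨Subgroup.mem_centralizer_singleton_iff.2 (T.mem_nine_comm hy (zero_mem g)),
    Subgroup.mem_centralizer_singleton_iff.2 (T.mem_nine_comm hy (one_mem' g))⟩
  have hd : Nat.card C ∣ 36 := T.small.card_three _ T.orderOf_zero ▸ Subgroup.card_dvd_of_le inf_le_left
  have hodd : ¬ 2 ∣ Nat.card C := by
    intro h
    haveI := Fact.mk Nat.prime_two
    obtain ⟨⟨y, hy⟩, hy2⟩ := exists_prime_orderOf_dvd_card' 2 h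
    rw [Subgroup.orderOf_mk] at hy2
    obtain ⟨hy0, hy1⟩ := hy
    exact not_comm_of_nine T.small T.cube_zero T.indep.1 T.cube_one T.comm_zero_one T.one_not_zpowers hy2
      (Subgroup.mem_centralizer_singleton_iff.1 hy0).symm (Subgroup.mem_centralizer_singleton_iff.1 hy1).symm
  have h9 : Nat.card C ∣ 9 := by
    have hcop : Nat.Coprime (Nat.card C) 4 :=
      Nat.Coprime.pow_right 2 ((Nat.Prime.coprime_iff_not_dvd Nat.prime_two).2 hodd).symm
    exact hcop.dvd_of_dvd_mul_left (show Nat.card C ∣ 4 * 9 from hd)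
  have heq : nine g = C := Subgroup.eq_of_le_of_card_ge hle (by
    rw [T.card_nine]; exact Nat.le_of_dvd (by norm_num) h9)
  rw [heq]
  exact ⟨Subgroup.mem_centralizer_singleton_iff.2 h0, Subgroup.mem_centralizer_singleton_iff.2 h1⟩

/-- The normalizer has order 72. -/
theorem card_normalizer_nine : Nat.card (Subgroup.normalizer (nine g : Set M)) = 72 := by
  classical
  haveI := Fact.mk Nat.prime_three
  haveI := T.small.simple
  have F := M22Order.facts_of_card T.small.card
  set N := Subgroup.normalizer (nine g : Set M) with hN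
  haveI : IsMulCommutative ↥(T.sylowNine : Subgroup M) :=
    ⟨⟨fun x y => Subtype.ext (T.mem_nine_comm x.2 y.2)⟩⟩
  letI : MulAction ↥N ↥(nine g) := MulAction.compHom _ (Subgroup.normalizerMonoidHom (nine g))
  let s : ↥(nine g) := ⟨g 0, zero_mem g⟩
  have hact : ∀ (k : ↥N) (u : ↥(nine g)), ((k • u : ↥(nine g)) : M) = k * u * (k : M)⁻¹ := fun k u => rfl
  have horb : Nat.card (MulAction.orbit ↥N s) = 8 := by
    have hcard : Nat.card {u : ↥(nine g) // u ≠ 1} = 8 := by
      letI := Fintype.ofFinite ↥(nine g)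
      rw [Nat.card_eq_fintype_card, Fintype.card_subtype_compl, Fintype.card_subtype_eq,
        ← Nat.card_eq_fintype_card, T.card_nine]
    rw [← hcard]
    refine Nat.card_congr (Equiv.subtypeEquivRight fun u => ?_)
    constructor
    · rintro ⟨k, rfl⟩ h
      refine T.indep.1 ?_
      have h' : (k : M) * g 0 * (k : M)⁻¹ = 1 := (hact k s).symm.trans (congrArg Subtype.val h)
      rwa [mul_inv_eq_one, mul_eq_left] at h'
    · intro hu
      have hu3 : orderOf (u : M) = 3 := orderOf_eq_prime (by rw [pow_succ, pow_two, T.nine_cube u.2])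
        fun e => hu (Subtype.ext e)
      obtain ⟨c, hc⟩ := isConj_iff.1 (T.small.three_conj _ _ T.orderOf_zero hu3)
      obtain ⟨n, hn, hn'⟩ := T.sylowNine.conj_eq_normalizer_conj_of_mem (g 0) c⁻¹ (zero_mem g)
        (by rw [inv_inv, hc]; exact u.2)
      rw [inv_inv, hc] at hn'
      refine ⟨⟨n⁻¹, inv_mem hn⟩, Subtype.ext ?_⟩
      rw [hact, hn']
      simp [s]
  have hstab : Nat.card (MulAction.stabilizer ↥N s) =
      Nat.card ↥(N ⊓ Subgroup.centralizer ({g 0} : Set M)) := by
    refine Nat.card_congr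
      ⟨fun k => ⟨(k : ↥N), (k : ↥N).2, Subgroup.mem_centralizer_singleton_iff.2 (mul_inv_eq_iff_eq_mul.1
          ((hact _ _).symm.trans (congrArg Subtype.val k.2)))⟩,
        fun k => ⟨⟨k, k.2.1⟩, Subtype.ext ((hact _ _).trans (mul_inv_eq_iff_eq_mul.2
          (Subgroup.mem_centralizer_singleton_iff.1 k.2.2)))⟩, fun _ => rfl, fun _ => rfl⟩
  have key' : Nat.card ↥N = 8 * Nat.card ↥(N ⊓ Subgroup.centralizer ({g 0} : Set M)) := by
    rw [← horb, ← hstab]
    rw [← Nat.card_prod]
    exact (Nat.card_congr (MulAction.orbitProdStabilizerEquivGroup ↥N s)).symm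
  set S := N ⊓ Subgroup.centralizer ({g 0} : Set M) with hS
  have h9 : 9 ∣ Nat.card S := by
    rw [← T.card_nine]
    exact Subgroup.card_dvd_of_le (le_inf Subgroup.le_normalizer fun y hy =>
      Subgroup.mem_centralizer_singleton_iff.2 (T.mem_nine_comm hy (zero_mem g)))
  have h36 : Nat.card S ∣ 36 := T.small.card_three _ T.orderOf_zero ▸ Subgroup.card_dvd_of_le inf_le_right
  have hne : Nat.card S ≠ 36 := by
    intro h
    have heq : S = Subgroup.centralizer ({g 0} : Set M) :=
      Subgroup.eq_of_le_of_card_ge inf_le_right (by rw [h, T.small.card_three _ T.orderOf_zero])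
    have hf := M22Order.card_four F T.orderOf_zero
    obtain ⟨⟨v, hv⟩, hv1⟩ := ((Subgroup.one_lt_card_iff_ne_bot _).1 (by rw [hf]; norm_num) |>
      (Subgroup.ne_bot_iff_exists_ne_one).1)
    have hv1' : v ≠ 1 := fun e => hv1 (Subtype.ext e)
    have hvN : v ∈ N := (heq.ge (M22Order.four_le F T.orderOf_zero hv)).1
    have h1 : v * g 1 * v⁻¹ * (g 1)⁻¹ ∈ nine g :=
      mul_mem ((Subgroup.mem_normalizer_iff.1 hvN _).1 (one_mem' g)) (inv_mem (one_mem' g))
    have h2 : v * g 1 * v⁻¹ * (g 1)⁻¹ ∈ M22Order.four (g 0) := by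
      rw [show v * g 1 * v⁻¹ * (g 1)⁻¹ = v * (g 1 * v⁻¹ * (g 1)⁻¹) by group]
      exact mul_mem hv (M22Order.four_conj F T.orderOf_zero T.comm_zero_one.symm (inv_mem hv))
    have h3 : v * g 1 * v⁻¹ * (g 1)⁻¹ = 1 := by
      have e1 := T.nine_cube h1
      rwa [M22Order.four_sq F T.orderOf_zero h2, one_mul] at e1
    rw [mul_inv_eq_one, mul_inv_eq_iff_eq_mul] at h3
    exact not_comm_of_nine T.small T.cube_zero T.indep.1 T.cube_one T.comm_zero_one T.one_not_zpowers
      (orderOf_eq_prime (by rw [pow_two]; exact M22Order.four_sq F T.orderOf_zero hv) hv1')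
      (M22Order.four_comm F T.orderOf_zero hv).symm h3.symm
  have hmod : Nat.card (Sylow 3 M) % 3 = 1 := card_sylow_modEq_one 3 M
  have hidx : Nat.card (Sylow 3 M) * Nat.card ↥N = 443520 := by
    rw [Sylow.card_eq_index_normalizer T.sylowNine, ← T.small.card, mul_comm]
    exact N.card_mul_index
  have hle : Nat.card S ≤ 36 := Nat.le_of_dvd (by norm_num) h36
  obtain ⟨q, hq⟩ := h9
  rw [hq] at h36 hne key' hle
  have hq4 : q = 1 ∨ q = 2 := by
    have : q ∣ 4 := Nat.dvd_of_mul_dvd_mul_left (by norm_num : 0 < 9) h36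
    have hq0 : q ≤ 4 := Nat.le_of_dvd (by norm_num) this
    interval_cases q <;> omega
  rcases hq4 with rfl | rfl
  · omega
  · exfalso
    rw [key'] at hidx
    omega

end Gens

end CfsgLib.JFour
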