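import Cfsg.Agent.Lib.JFour.FromDef
import Cfsg.Agent.Lib.JFour.ThreeM
import Cfsg.Agent.Lib.Fusion.SmallNonabelian

/-!
# The Sylow 3-subgroups and the elements of order three
-/

set_option autoImplicit false
set_option maxRecDepth 100000
set_option linter.style.haveILetI false
set_option linter.unusedSectionVars false

open Cfsg

namespace CfsgLib.JFour

variable {G : Type*} [Group G] [Finite G] {M : Type*} [Group M] [Finite M] {z π : G} {E : Subgroup G}

/-- The 3-part of the preimage of the subgroup of order nine. -/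
structure Ctx.IsR (J : Ctx M z π E) (g : ℕ → M) (R : Subgroup G) : Prop where
  card : Nat.card R = 27
  le : R ≤ CZ z π
  mem_iff : ∀ x : ↥(CZ z π), (x : G) ∈ R ↔ x ^ 3 = 1 ∧ J.proj x ∈ nine g

namespace Ctx

variable (J : Ctx M z π E)
include J

/-- The 3-elements of `C(z, π)` have order dividing three. -/
theorem cube_of_CZ {g : ℕ → M} (T : Gens M g) {x : ↥(CZ z π)} (hx : x ^ 27 = 1) : x ^ 3 = 1 := by
  have h3 : J.proj x * J.proj x * J.proj x = 1 := T.cube_of_three (by rw [← map_pow, hx, map_one])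
  obtain ⟨c, hc, hc3⟩ := J.lift_three T.small T.cube_zero T.indep.1 T.cube_one T.indep.2.1
    T.comm_zero_one T.indep.2.2.1 T.indep.2.2.2 h3
  obtain ⟨u, -, hu, k, -, he⟩ := J.exists_pow' (c := c⁻¹ * x)
    (by rw [map_mul, map_inv, hc, inv_mul_cancel])
  obtain ⟨hcz, hcp⟩ := mem_CZ.1 c.2
  simp only [Subgroup.coe_mul, InvMemClass.coe_inv] at he
  have hxe : (x : G) = (c : G) * π ^ k * u := by
    rw [mul_assoc, show π ^ k * u = u * π ^ k from ?_, ← he, mul_inv_cancel_left]
    rcases hu with e | e <;> rw [e]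
    exacts [by simp, ((show Commute π z from J.piz).pow_left k).eq]
  have hu2 : u * u = 1 := by rcases hu with e | e <;> rw [e]; exacts [one_mul 1, J.zz]
  have hcu : Commute ((c : G) * π ^ k) u := by
    rcases hu with e | e <;> rw [e]
    exacts [Commute.one_right _,
      (show Commute (c : G) z from hcz).mul_left ((show Commute π z from J.piz).pow_left k)]
  have hc3' : ((c : G) * π ^ k) ^ 3 = 1 := by
    rw [((show Commute (c : G) π from hcp).pow_right k).mul_pow, ← pow_mul, mul_comm k, pow_mul,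
      J.pi_pow_three, one_pow, mul_one, pow_succ, pow_two]
    exact congrArg Subtype.val hc3
  have hx3 : (x : G) ^ 3 = u := by
    rw [hxe, hcu.mul_pow, hc3', one_mul, pow_succ, pow_two, hu2, one_mul]
  refine Subtype.ext ?_
  rw [SubgroupClass.coe_pow, OneMemClass.coe_one, hx3]
  have h27 : ((x : G) ^ 3) ^ 9 = 1 := by
    rw [← pow_mul]; exact congrArg Subtype.val hx
  rw [hx3, show (9 : ℕ) = 2 * 4 + 1 from rfl, pow_succ, pow_mul, pow_two, hu2, one_pow, one_mul] at h27
  exact h27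

/-- The distinguished subgroup of order 27. -/
theorem exists_R {g : ℕ → M} (T : Gens M g) : ∃ R : Subgroup G, J.IsR g R := by
  classical
  haveI := Fact.mk Nat.prime_three
  set S := (nine g).comap J.proj with hS
  have hScard : Nat.card S = 54 := by
    have e1 := S.card_mul_index
    have e2 := (nine g).card_mul_index
    rw [hS, Subgroup.index_comap_of_surjective _ J.proj_surj, J.card_CZ T.small.card] at e1
    rw [T.card_nine, T.small.card] at e2
    rw [show (nine g).index = 49280 by omega] at e1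
    rw [hS]; omega
  obtain ⟨P⟩ : Nonempty (Sylow 3 ↥S) := inferInstance
  have hP : Nat.card ↥(P : Subgroup ↥S) = 27 := by
    rw [P.card_eq_multiplicity, hScard, show (54 : ℕ) = 3 ^ 3 * 2 by norm_num,
      Nat.factorization_mul (by norm_num) (by norm_num), Finsupp.add_apply, Nat.factorization_pow,
      Nat.factorization_eq_zero_of_not_dvd (show ¬ 3 ∣ 2 by norm_num)]
    simp [Nat.prime_three.factorization_self]
  have hidx : (P : Subgroup ↥S).index = 2 := by
    have := (P : Subgroup ↥S).card_mul_index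
    rw [hP, hScard] at this; omega
  haveI := Subgroup.normal_of_index_eq_two hidx
  refine ⟨((P : Subgroup ↥S).map S.subtype).map (CZ z π).subtype, ?_, ?_, ?_⟩
  · rw [Subgroup.card_map_of_injective (CZ z π).subtype_injective,
      Subgroup.card_map_of_injective S.subtype_injective, hP]
  · exact Subgroup.map_subtype_le _
  · intro x
    constructor
    · rintro ⟨_, ⟨y, hy, rfl⟩, hyx⟩
      rw [← Subtype.ext hyx]
      refine ⟨J.cube_of_CZ T ?_, y.2⟩
      have h := pow_card_eq_one' (x := (⟨y, hy⟩ : ↥(P : Subgroup ↥S)))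
      rw [hP] at h
      exact congrArg (fun t : ↥(P : Subgroup ↥S) => (((t : ↥S) : ↥(CZ z π)))) h
    · rintro ⟨h3, hx⟩
      let y : ↥S := ⟨x, hx⟩
      have hy3 : y ^ 3 = 1 := Subtype.ext h3
      have h2 : y ^ 2 ∈ (P : Subgroup ↥S) := hidx ▸ Subgroup.pow_index_mem _ y
      have : y ∈ (P : Subgroup ↥S) := by
        have h4 := pow_mem h2 2
        rwa [← pow_mul, pow_succ, hy3, one_mul] at h4
      exact ⟨_, ⟨y, this, rfl⟩, rfl⟩

variable {g : ℕ → M} (T : Gens M g) {R : Subgroup G} (hR : J.IsR g R)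
include T hR

omit T in
theorem pi_mem_R : π ∈ R :=
  (hR.mem_iff ⟨π, J.pi_mem_CZ⟩).2 ⟨Subtype.ext (by
    show π ^ 3 = 1
    exact J.pi_pow_three), by rw [J.proj_pi]; exact one_mem _⟩

/-- Every element of the subgroup of order nine has a lift in `R`. -/
theorem exists_mem_R {m : M} (hm : m ∈ nine g) : ∃ c : ↥(CZ z π), (c : G) ∈ R ∧ J.proj c = m := by
  obtain ⟨c, hc, hc3⟩ := J.lift_three T.small T.cube_zero T.indep.1 T.cube_one T.indep.2.1
    T.comm_zero_one T.indep.2.2.1 T.indep.2.2.2 (T.nine_cube hm)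
  exact ⟨c, (hR.mem_iff c).2 ⟨by rw [pow_succ, pow_two, hc3], hc ▸ hm⟩, hc⟩

/-- `R` has exponent three and is not commutative. -/
theorem R_props : (∀ x ∈ R, x ^ 3 = 1) ∧ ∃ x ∈ R, ∃ y ∈ R, x * y ≠ y * x := by
  refine ⟨fun x hx => congrArg Subtype.val ((hR.mem_iff ⟨x, hR.le hx⟩).1 hx).1, ?_⟩
  obtain ⟨a, ha, hga⟩ := J.exists_mem_R T hR (Gens.zero_mem g)
  obtain ⟨b, hb, hgb⟩ := J.exists_mem_R T hR (Gens.one_mem' g)
  have hc : ∀ c : ↥(CZ z π), (c : G) ∈ R → c * c * c = 1 := fun c hc => by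
    have := ((hR.mem_iff c).1 hc).1
    rwa [pow_succ, pow_two] at this
  exact ⟨a, ha, b, hb, J.not_abelian T.small.card (hc a ha) (hc b hb) (hga ▸ T.indep.1) (hgb ▸ T.indep.2.1)
    (by rw [hga, hgb]; exact T.indep.2.2.1) (by rw [hga, hgb]; exact T.indep.2.2.2)⟩

/-- `R` is extraspecial of exponent three. -/
theorem R_extra : IsExtraspecial 3 ↥R ∧ Monoid.exponent ↥R = 3 := by
  haveI := Fact.mk Nat.prime_three
  obtain ⟨h3, x, hx, y, hy, hxy⟩ := J.R_props T hR
  have h3' : ∀ a : ↥R, a ^ 3 = 1 := fun a => Subtype.ext (by simpa using h3 a a.2)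
  refine ⟨Fusion.SmallNonabelian.isExtraspecial_of_exp (by rw [hR.card]; norm_num)
    (fun h => hxy (congrArg Subtype.val (h ⟨x, hx⟩ ⟨y, hy⟩))) h3', ?_⟩
  rcases (Nat.dvd_prime Nat.prime_three).1 (Monoid.exponent_dvd_of_forall_pow_eq_one h3') with h | h
  · haveI := Monoid.exp_eq_one_iff.1 h
    have := Nat.card_of_subsingleton (⟨x, hx⟩ : ↥R)
    rw [hR.card] at this
    norm_num at this
  · exact h

/-- An involution centralizing `R` is `z`. -/
theorem invol_cent_R (hC : Subgroup.centralizer ({π} : Set G) = CZ z π) {x : G} (hx2 : x * x = 1)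
    (hx1 : x ≠ 1) (hc : ∀ r ∈ R, x * r = r * x) : x = z := by
  have hxC : x ∈ CZ z π := hC.le (Subgroup.mem_centralizer_singleton_iff.2 (hc π (J.pi_mem_R hR)))
  have hcomm : ∀ m ∈ nine g, J.proj ⟨x, hxC⟩ * m = m * J.proj ⟨x, hxC⟩ := by
    intro m hm
    obtain ⟨c, hcR, rfl⟩ := J.exists_mem_R T hR hm
    rw [← map_mul, ← map_mul]
    exact congrArg J.proj (Subtype.ext (hc c hcR))
  set m := J.proj ⟨x, hxC⟩ with hm
  have h2 : m * m = 1 := by
    rw [hm, ← map_mul, show (⟨x, hxC⟩ : ↥(CZ z π)) * ⟨x, hxC⟩ = 1 from Subtype.ext hx2, map_one]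
  have h3 := T.nine_cube (T.mem_nine_of_comm (hcomm _ (Gens.zero_mem g)) (hcomm _ (Gens.one_mem' g)))
  rw [h2, one_mul] at h3
  rcases J.small_of_proj_one h3 (Or.inl hx2) with e | e
  · exact absurd e hx1
  · exact e

/-- The normalizer of `R` lies in `C(z)`. -/
theorem normalizer_R_le (hC : Subgroup.centralizer ({π} : Set G) = CZ z π) {k : G}
    (hk : k ∈ Subgroup.normalizer (R : Set G)) : k * z = z * k := by
  rw [← mul_inv_eq_iff_eq_mul]
  refine J.invol_cent_R T hR hC ?_ ?_ fun r hr => ?_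
  · calc k * z * k⁻¹ * (k * z * k⁻¹) = k * (z * z) * k⁻¹ := by group
      _ = 1 := by rw [J.zz]; group
  · exact fun e => J.z_ne (by rwa [mul_inv_eq_one, mul_eq_left] at e)
  · have h1 : k⁻¹ * r * k ∈ R := by
      have := (Subgroup.mem_normalizer_iff.1 (inv_mem hk) r).1 hr
      rwa [inv_inv] at this
    have h2 := (mem_CZ.1 (hR.le h1)).1
    calc k * z * k⁻¹ * r = k * (z * (k⁻¹ * r * k)) * k⁻¹ := by group
      _ = _ := by rw [← h2]; group

/-- Elements normalizing `R` send `π` to itself or its inverse. -/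
theorem conj_pi {k : G} (hk : k ∈ Subgroup.normalizer (R : Set G)) :
    k * π * k⁻¹ = π ∨ k * π * k⁻¹ = π⁻¹ := by
  haveI := Fact.mk Nat.prime_three
  obtain ⟨hex, -⟩ := J.R_extra T hR
  have hπR := J.pi_mem_R hR
  have hcent : (⟨π, hπR⟩ : ↥R) ∈ Subgroup.center ↥R :=
    Subgroup.mem_center_iff.2 fun r => Subtype.ext (mem_CZ.1 (hR.le r.2)).2
  have heq : Subgroup.zpowers (⟨π, hπR⟩ : ↥R) = Subgroup.center ↥R :=
    Subgroup.eq_of_le_of_card_ge (Subgroup.zpowers_le.2 hcent)
      (by rw [hex.2, Nat.card_zpowers, Subgroup.orderOf_mk, J.orderOf_pi])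
  have hkπ : k * π * k⁻¹ ∈ R := (Subgroup.mem_normalizer_iff.1 hk π).1 hπR
  have hc : (⟨k * π * k⁻¹, hkπ⟩ : ↥R) ∈ Subgroup.center ↥R := by
    refine Subgroup.mem_center_iff.2 fun r => Subtype.ext ?_
    have h1 : k⁻¹ * r * k ∈ R := by
      have := (Subgroup.mem_normalizer_iff.1 (inv_mem hk) (r : G)).1 r.2
      rwa [inv_inv] at this
    have h2 := (mem_CZ.1 (hR.le h1)).2
    show (r : G) * (k * π * k⁻¹) = k * π * k⁻¹ * r
    calc (r : G) * (k * π * k⁻¹) = k * (k⁻¹ * r * k * π) * k⁻¹ := by group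
      _ = _ := by rw [h2]; group
  obtain ⟨j, hj⟩ := (isOfFinOrder_of_finite _).mem_powers_iff_mem_zpowers.2 (heq.ge hc)
  have hj' : π ^ (j % 3) = k * π * k⁻¹ := by
    rw [← J.orderOf_pi, pow_mod_orderOf]
    exact congrArg Subtype.val hj
  have : j % 3 < 3 := Nat.mod_lt _ (by norm_num)
  interval_cases hc3 : j % 3
  · exfalso
    rw [pow_zero] at hj'
    exact J.pi1 (by rwa [eq_comm, mul_inv_eq_one, mul_eq_left] at hj')
  · exact Or.inl (by rw [← hj', pow_one])
  · exact Or.inr (by rw [← hj', pow_two, J.pi_inv])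

/-- The part of the normalizer centralizing `π`. -/
theorem card_normalizer_cent (hC : Subgroup.centralizer ({π} : Set G) = CZ z π) :
    Nat.card ↥(Subgroup.normalizer (R : Set G) ⊓ Subgroup.centralizer ({π} : Set G)) = 432 := by
  rw [hC]
  have heq : Subgroup.normalizer (R : Set G) ⊓ CZ z π =
      ((Subgroup.normalizer (nine g : Set M)).comap J.proj).map (CZ z π).subtype := by
    refine le_antisymm ?_ ?_
    · rintro k ⟨hk, hkC⟩
      refine ⟨⟨k, hkC⟩, ?_, rfl⟩
      have key : ∀ t : G, t ∈ Subgroup.normalizer (R : Set G) → (ht : t ∈ CZ z π) → ∀ m ∈ nine g,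
          J.proj ⟨t, ht⟩ * m * (J.proj ⟨t, ht⟩)⁻¹ ∈ nine g := by
        intro t htN ht m hm
        obtain ⟨c, hcR, rfl⟩ := J.exists_mem_R T hR hm
        rw [← map_inv, ← map_mul, ← map_mul]
        exact ((hR.mem_iff _).1 ((Subgroup.mem_normalizer_iff.1 htN (c : G)).1 hcR)).2
      refine Subgroup.mem_normalizer_iff.2 fun m => ⟨key k hk hkC m, fun hm => ?_⟩
      have := key k⁻¹ (inv_mem hk) (inv_mem hkC) _ hm
      rw [show (⟨k⁻¹, inv_mem hkC⟩ : ↥(CZ z π)) = ⟨k, hkC⟩⁻¹ from rfl, map_inv, inv_inv] at this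
      rwa [show (J.proj ⟨k, hkC⟩)⁻¹ * (J.proj ⟨k, hkC⟩ * m * (J.proj ⟨k, hkC⟩)⁻¹) * J.proj ⟨k, hkC⟩ = m by
        group] at this
    · rintro _ ⟨c, hc, rfl⟩
      refine ⟨?_, c.2⟩
      have key : ∀ t : ↥(CZ z π), J.proj t ∈ Subgroup.normalizer (nine g : Set M) → ∀ x ∈ R,
          (t : G) * x * (t : G)⁻¹ ∈ R := by
        intro t ht x hx
        obtain ⟨h3, hn⟩ := (hR.mem_iff ⟨x, hR.le hx⟩).1 hx
        refine (hR.mem_iff (t * ⟨x, hR.le hx⟩ * t⁻¹)).2 ⟨?_, ?_⟩
        · rw [conj_pow, h3, mul_one, mul_inv_cancel]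
        · rw [map_mul, map_mul, map_inv]
          exact (Subgroup.mem_normalizer_iff.1 ht _).1 hn
      refine Subgroup.mem_normalizer_iff.2 fun x => ⟨key c hc x, fun hx => ?_⟩
      have := key c⁻¹ (by rw [map_inv]; exact inv_mem hc) _ hx
      simpa [mul_assoc] using this
  rw [heq, Subgroup.card_map_of_injective (CZ z π).subtype_injective]
  have e1 := ((Subgroup.normalizer (nine g : Set M)).comap J.proj).card_mul_index
  have e2 := (Subgroup.normalizer (nine g : Set M)).card_mul_index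
  rw [Subgroup.index_comap_of_surjective _ J.proj_surj, J.card_CZ T.small.card] at e1
  rw [T.card_normalizer_nine, T.small.card] at e2
  rw [show (Subgroup.normalizer (nine g : Set M)).index = 6160 by omega] at e1
  omega

/-- The normalizer of `R` has order 864. -/
theorem card_normalizer_R (hC : Subgroup.centralizer ({π} : Set G) = CZ z π) :
    Nat.card ↥(Subgroup.normalizer (R : Set G)) = 864 := by
  haveI := Fact.mk Nat.prime_three
  set N := Subgroup.normalizer (R : Set G) with hN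
  have hle : Nat.card N ≤ 2 * Nat.card ↥(N ⊓ Subgroup.centralizer ({π} : Set G)) :=
    card_le_two_mul_centralizer fun x hx => J.conj_pi T hR hx
  obtain ⟨σ, hσz, hσ⟩ := J.swap
  -- another Sylow subgroup of the centralizer
  have hsub : ∀ x ∈ R, σ * x * σ⁻¹ ∈ CZ z π := by
    intro x hx
    obtain ⟨hxz, hxp⟩ := mem_CZ.1 (hR.le hx)
    refine mem_CZ.2 ⟨((show Commute σ z from hσz).mul_left (show Commute x z from hxz)).mul_left
      (show Commute σ z from hσz).inv_left |>.eq, ?_⟩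
    have h1 : Commute (σ * x * σ⁻¹) (σ * π * σ⁻¹) := by
      show _ = _
      calc σ * x * σ⁻¹ * (σ * π * σ⁻¹) = σ * (x * π) * σ⁻¹ := by group
        _ = _ := by rw [hxp]; group
    rw [hσ] at h1
    have := h1.inv_right
    rw [inv_inv] at this
    exact this.eq
  have hfac : 27 = 3 ^ (Nat.card ↥(CZ z π)).factorization 3 := by
    rw [J.card_CZ T.small.card, show 6 * 443520 = 3 ^ 3 * 98560 by norm_num,
      Nat.factorization_mul (by norm_num) (by norm_num), Finsupp.add_apply, Nat.factorization_pow,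
      Nat.factorization_eq_zero_of_not_dvd (show ¬ 3 ∣ 98560 by norm_num)]
    simp [Nat.prime_three.factorization_self]
  set R' := R.map (MulAut.conj σ).toMonoidHom with hR'
  have hR'le : R' ≤ CZ z π := by
    rintro _ ⟨x, hx, rfl⟩
    exact hsub x hx
  have hR'card : Nat.card R' = 27 := by
    rw [hR', Subgroup.card_map_of_injective (MulAut.conj σ).injective, hR.card]
  let S1 : Sylow 3 ↥(CZ z π) := Sylow.ofCard (R'.subgroupOf (CZ z π))
    (by rw [Nat.card_congr (Subgroup.subgroupOfEquivOfLe hR'le).toEquiv, hR'card, hfac])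
  let S2 : Sylow 3 ↥(CZ z π) := Sylow.ofCard (R.subgroupOf (CZ z π))
    (by rw [Nat.card_congr (Subgroup.subgroupOfEquivOfLe hR.le).toEquiv, hR.card, hfac])
  obtain ⟨c, hc⟩ := MulAction.exists_smul_eq ↥(CZ z π) S1 S2
  have hτ : (c : G) * σ ∈ N := by
    have key : ∀ x ∈ R, (c : G) * σ * x * ((c : G) * σ)⁻¹ ∈ R := by
      intro x hx
      let y : ↥(CZ z π) := ⟨σ * x * σ⁻¹, hsub x hx⟩
      have h1 : c * y * c⁻¹ ∈ ((c • S1 : Sylow 3 ↥(CZ z π)) : Subgroup ↥(CZ z π)) := by
        rw [Sylow.coe_subgroup_smul]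
        exact ⟨y, ⟨x, hx, rfl⟩, rfl⟩
      rw [hc] at h1
      have h2 : (c : G) * (σ * x * σ⁻¹) * (c : G)⁻¹ ∈ R := h1
      convert h2 using 1
      group
    set τ := (c : G) * σ
    have heq : R.map (MulAut.conj τ).toMonoidHom = R :=
      Subgroup.eq_of_le_of_card_ge (by rintro _ ⟨x, hx, rfl⟩; exact key x hx)
        (by rw [Subgroup.card_map_of_injective (MulAut.conj τ).injective])
    refine Subgroup.mem_normalizer_iff.2 fun x => ⟨key x, fun hx => ?_⟩
    obtain ⟨y, hy, hyx⟩ := heq.ge hx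
    have : y = x := (MulAut.conj τ).injective hyx
    rwa [← this]
  have hne : ((c : G) * σ) * π * ((c : G) * σ)⁻¹ = π⁻¹ := by
    calc (c : G) * σ * π * ((c : G) * σ)⁻¹ = (c : G) * (σ * π * σ⁻¹) * (c : G)⁻¹ := by group
      _ = ((c : G) * π * (c : G)⁻¹)⁻¹ := by rw [hσ]; group
      _ = π⁻¹ := by rw [(mem_CZ.1 c.2).2, mul_inv_cancel_right]
  have hlt : N ⊓ Subgroup.centralizer ({π} : Set G) ≠ N := fun e => by
    have h1 := Subgroup.mem_centralizer_singleton_iff.1 (Subgroup.mem_inf.1 (e.ge hτ)).2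
    rw [h1, mul_inv_cancel_right] at hne
    exact J.pi_inv_ne hne.symm
  obtain ⟨d, hd⟩ := Subgroup.card_dvd_of_le (inf_le_left : N ⊓ Subgroup.centralizer ({π} : Set G) ≤ N)
  rw [J.card_normalizer_cent T hR hC] at hd hle
  have hd1 : d ≠ 1 := fun e => hlt (Subgroup.eq_of_le_of_card_ge inf_le_left (by
    rw [J.card_normalizer_cent T hR hC, hd, e, mul_one]))
  have hN0 : 0 < Nat.card N := Nat.card_pos
  rw [hd] at hle hN0 ⊢
  have : d = 2 := by omega
  rw [this]

omit hR in
/-- A 3-subgroup of `C(z)` has order at most 27. -/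
theorem card_three_le {S : Subgroup G} (h3 : IsPGroup 3 S) (hS : ∀ x ∈ S, x * z = z * x) :
    Nat.card S ≤ 27 := by
  classical
  haveI := Fact.mk Nat.prime_three
  have hodd : ∀ x ∈ S, ∃ k : ℕ, x = (x * x) ^ k := by
    intro x hx
    obtain ⟨j, hj⟩ := h3 ⟨x, hx⟩
    have hj' : x ^ 3 ^ j = 1 := congrArg Subtype.val hj
    obtain ⟨l, hl⟩ : Odd (3 ^ j) := Odd.pow (by decide)
    refine ⟨l + 1, ?_⟩
    rw [← pow_two, ← pow_mul, show 2 * (l + 1) = 3 ^ j + 1 by omega, pow_succ, hj', one_mul]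
  have hH : S ≤ H0 z π E := fun x hx => by
    obtain ⟨k, hk⟩ := hodd x hx
    rw [hk]
    exact pow_mem (J.sq_mem_H0 (hS x hx)) k
  obtain ⟨ψ, hψ⟩ := J.exists_projH
  let f : ↥S →* M := ψ.comp (Subgroup.inclusion hH)
  have hSE : ∀ x ∈ S, x ∈ E → x = 1 := by
    intro x hx hxE
    obtain ⟨k, hk⟩ := hodd x hx
    obtain ⟨j, hj⟩ := h3 ⟨x, hx⟩
    have hj' : x ^ 3 ^ j = 1 := congrArg Subtype.val hj
    rcases J.s.sq_cases hxE with e | e
    · rw [hk, e, one_pow]
    · rw [e] at hk
      have hx2 : x * x = 1 := by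
        rw [hk, ← pow_add, ← two_mul, pow_mul, pow_two, J.zz, one_pow]
      exact absurd (e.symm.trans hx2) J.z_ne
  have hker : Nat.card f.ker ≤ 3 := by
    have hmem : ∀ s : ↥f.ker, ∃ e ∈ E, ∃ k, k < 3 ∧ ((s : ↥S) : G) = e * π ^ k := fun s =>
      J.mem_KN.1 ((J.psi_eq_one hψ).1 s.2)
    choose e he k hk hek using hmem
    refine le_trans (Nat.card_le_card_of_injective (fun s : ↥f.ker => (⟨k s, hk s⟩ : Fin 3)) ?_)
      (by rw [Nat.card_fin])
    intro s t hst
    have hkk : k s = k t := congrArg Fin.val hst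
    have h1 : ((s : ↥S) : G) * ((t : ↥S) : G)⁻¹ = e s * (e t)⁻¹ := by
      rw [hek s, hek t, hkk]; group
    have h2 := hSE _ (mul_mem (s : ↥S).2 (inv_mem (t : ↥S).2)) (h1 ▸ mul_mem (he s) (inv_mem (he t)))
    exact Subtype.ext (Subtype.ext (mul_inv_eq_one.1 h2))
  have hrange : Nat.card f.range ≤ 9 := by
    obtain ⟨n, hn⟩ := IsPGroup.iff_card.1 (h3.of_surjective f.rangeRestrict f.rangeRestrict_surjective)
    rw [hn]
    refine (Nat.pow_le_pow_right (by norm_num) (show n ≤ 2 from ?_)).trans_eq (by norm_num)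
    by_contra h
    have hd : (27 : ℕ) ∣ 443520 := by
      refine dvd_trans ?_ (T.small.card ▸ Subgroup.card_subgroup_dvd_card f.range)
      rw [hn]
      exact Nat.pow_dvd_pow 3 (show 3 ≤ n by omega)
    norm_num at hd
  rw [← f.ker.card_mul_index, Subgroup.index_ker]
  calc Nat.card f.ker * Nat.card f.range ≤ 3 * 9 := Nat.mul_le_mul hker hrange
    _ = 27 := by norm_num

/-- In a group with a Sylow 3-subgroup in `C(z)`, the subgroup `R` is a Sylow subgroup. -/
theorem sylow_R (P : Sylow 3 G) (hP : ∀ x ∈ (P : Subgroup G), x * z = z * x) :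
    ∃ S : Sylow 3 G, (S : Subgroup G) = R := by
  haveI := Fact.mk Nat.prime_three
  have hp : IsPGroup 3 R := IsPGroup.of_card (n := 3) (by rw [hR.card]; norm_num)
  obtain ⟨S, hS⟩ := hp.exists_le_sylow
  refine ⟨S, (Subgroup.eq_of_le_of_card_ge hS ?_).symm⟩
  rw [hR.card, S.card_eq_multiplicity, ← P.card_eq_multiplicity]
  exact J.card_three_le T P.2 hP

end Ctx

/-- The Sylow 3-subgroups in `C(z)`. -/
theorem sylow_three_structure [IsSimpleGroup G] (hG : ¬ IsMulCommutative G) {z : G}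
    (hJ : IsOfJankoFourTypeAt z) (R : Sylow 3 G)
    (hR : (R : Subgroup G) ≤ Subgroup.centralizer ({z} : Set G)) :
    IsExtraspecial 3 ↥(R : Subgroup G) ∧ Nat.card ↥(R : Subgroup G) = 27 ∧
    Monoid.exponent ↥(R : Subgroup G) = 3 ∧
    Subgroup.normalizer ((R : Subgroup G) : Set G) ≤ Subgroup.centralizer ({z} : Set G) ∧
    Nat.card ↥(Subgroup.normalizer ((R : Subgroup G) : Set G)) = 864 := by
  haveI := Fact.mk Nat.prime_three
  obtain ⟨P, hP⟩ := hJ
  obtain ⟨π, -, J, g, vec, -, T, -, -, -, hC⟩ := exists_setup hG hP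
  obtain ⟨R0, hR0⟩ := J.exists_R T.gens
  obtain ⟨S, hS⟩ := J.sylow_R T.gens hR0 R fun x hx => Subgroup.mem_centralizer_singleton_iff.1 (hR hx)
  obtain ⟨c, hc⟩ := MulAction.exists_smul_eq G S R
  have hRS : (R : Subgroup G) = R0.map (MulAut.conj c).toMonoidHom := by
    rw [← hc, Sylow.coe_subgroup_smul, hS]; rfl
  have hcz : c * z = z * c := by
    have h1 : c⁻¹ * z * c = z := J.invol_cent_R T.gens hR0 hC (x := c⁻¹ * z * c) (by
      calc c⁻¹ * z * c * (c⁻¹ * z * c) = c⁻¹ * (z * z) * c := by group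
        _ = 1 := by rw [J.zz]; group) (fun e => J.z_ne (by
        calc z = c * (c⁻¹ * z * c) * c⁻¹ := by group
          _ = 1 := by rw [e]; group)) fun r hr => by
      have h2 : c * r * c⁻¹ ∈ (R : Subgroup G) := hRS.ge ⟨r, hr, rfl⟩
      have h3 := Subgroup.mem_centralizer_singleton_iff.1 (hR h2)
      calc c⁻¹ * z * c * r = c⁻¹ * (z * (c * r * c⁻¹)) * c := by group
        _ = _ := by rw [← h3]; group
    calc c * z = c * (c⁻¹ * z * c) := by rw [h1]
      _ = _ := by group
  have hN : Subgroup.normalizer ((R : Subgroup G) : Set G) =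
      (Subgroup.normalizer (R0 : Set G)).map (MulAut.conj c).toMonoidHom := by
    rw [hRS, Subgroup.coe_map]
    exact (Subgroup.map_normalizer_eq_of_bijective R0 (f := (MulAut.conj c).toMonoidHom) (MulAut.conj c).bijective).symm
  obtain ⟨hex, hexp⟩ := J.R_extra T.gens hR0
  have e : ↥R0 ≃* ↥(R : Subgroup G) :=
    (R0.equivMapOfInjective _ (MulAut.conj c).injective).trans (MulEquiv.subgroupCongr hRS.symm)
  refine ⟨CfsgLib.Extraspecial.isExtraspecial_congr e hex, ?_, ?_, ?_, ?_⟩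
  · rw [← Nat.card_congr e.toEquiv, hR0.card]
  · rw [← Monoid.exponent_eq_of_mulEquiv e, hexp]
  · rw [hN]
    rintro _ ⟨k, hk, rfl⟩
    rw [Subgroup.mem_centralizer_singleton_iff]
    exact (((show Commute c z from hcz).mul_left
      (show Commute k z from J.normalizer_R_le T.gens hR0 hC hk)).mul_left
      (show Commute c z from hcz).inv_left).eq
  · rw [hN, Subgroup.card_map_of_injective (MulAut.conj c).injective, J.card_normalizer_R T.gens hR0 hC]

/-- There is one class of elements of order three. -/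
theorem one_class_three [IsSimpleGroup G] (hG : ¬ IsMulCommutative G) (hJ : IsOfJankoFourType G) :
    ∀ x y : G, orderOf x = 3 → orderOf y = 3 → IsConj x y := by
  haveI := Fact.mk Nat.prime_three
  obtain ⟨z, P, hP⟩ := hJ
  obtain ⟨π, -, J, g, vec, -, T, -, ⟨a, b, PR, hga, -, w, h, -, -, -, hha⟩, -, hC⟩ := exists_setup hG hP
  have T' := T.gens
  obtain ⟨R0, hR0⟩ := J.exists_R T'
  -- every element of order three is conjugate to `π`
  suffices key : ∀ x : G, orderOf x = 3 → IsConj x π from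
    fun x y hx hy => (key x hx).trans (key y hy).symm
  have hinv : IsConj π⁻¹ π := by
    obtain ⟨σ, -, hσ⟩ := J.swap
    exact (isConj_iff.2 ⟨σ, hσ⟩).symm
  have hbab : (b : G) * a * (b : G)⁻¹ = π⁻¹ * a := by
    calc (b : G) * a * (b : G)⁻¹ = ((a : G) * b * (a : G)⁻¹ * (b : G)⁻¹)⁻¹ * a := by group
      _ = _ := by rw [PR.comm]
  have hbp : Commute (b : G) π := (mem_CZ.1 b.2).2
  have hap : Commute (a : G) π := (mem_CZ.1 a.2).2
  have hak : ∀ k : ℕ, IsConj ((a : G) * π ^ k) π := by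
    intro k
    refine IsConj.trans ?_ (isConj_iff.2 ⟨h, hha⟩)
    induction k with
    | zero => rw [pow_zero, mul_one]
    | succ k ih =>
      refine IsConj.trans (isConj_iff.2 ⟨b, ?_⟩) ih
      calc (b : G) * ((a : G) * π ^ (k + 1)) * (b : G)⁻¹
          = ((b : G) * a * (b : G)⁻¹) * ((b : G) * π ^ (k + 1) * (b : G)⁻¹) := by group
        _ = π⁻¹ * a * π ^ (k + 1) := by rw [hbab, (hbp.pow_right (k + 1)).eq, mul_inv_cancel_right]
        _ = (a : G) * π⁻¹ * π ^ (k + 1) := by rw [hap.inv_right.eq]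
        _ = _ := by rw [pow_succ']; group
  -- the elements of `C(π, z)`
  have hlocal : ∀ y : ↥(CZ z π), y ^ 3 = 1 → (y : G) ≠ 1 → IsConj (y : G) π := by
    intro y hy3 hy1
    by_cases hy : J.proj y = 1
    · obtain ⟨u, -, hu, k, hk, he⟩ := J.exists_pow' hy
      have hy3' : (y : G) ^ 3 = 1 := congrArg Subtype.val hy3
      have hu2 : u * u = 1 := by rcases hu with e | e <;> rw [e]; exacts [one_mul 1, J.zz]
      have hcu : Commute u (π ^ k) := by
        rcases hu with e | e <;> rw [e]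
        exacts [Commute.one_left _, ((show Commute π z from J.piz).pow_left k).symm]
      rw [he, hcu.mul_pow, ← pow_mul, mul_comm k, pow_mul, J.pi_pow_three, one_pow, mul_one,
        pow_succ, pow_two, hu2, one_mul] at hy3'
      rw [hy3', one_mul] at he
      interval_cases k
      · exact absurd (he.trans (pow_zero π)) hy1
      · rw [he, pow_one]
      · rw [he, pow_two, ← J.pi_inv]; exact hinv
    · have ho : orderOf (J.proj y) = 3 := orderOf_eq_prime (by rw [← map_pow, hy3, map_one]) hy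
      have hoa : orderOf (J.proj a) = 3 := orderOf_eq_prime
        (by rw [pow_succ, pow_two, ← map_mul, ← map_mul, PR.cube, map_one]) PR.a_ne
      obtain ⟨m, hm⟩ := isConj_iff.1 (T'.small.three_conj _ _ ho hoa)
      obtain ⟨d, rfl⟩ := J.proj_surj m
      obtain ⟨u, -, hu, k, -, he⟩ := J.exists_pow' (c := a⁻¹ * (d * y * d⁻¹))
        (by rw [map_mul, map_mul, map_mul, map_inv, map_inv, hm, inv_mul_cancel])
      simp only [Subgroup.coe_mul, InvMemClass.coe_inv] at he
      have hde : (d : G) * y * (d : G)⁻¹ = (a : G) * π ^ k * u := by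
        rw [mul_assoc (a : G), show π ^ k * u = u * π ^ k from ?_, ← he, mul_inv_cancel_left]
        rcases hu with e | e <;> rw [e]
        exacts [by simp, ((show Commute π z from J.piz).pow_left k).eq]
      have hcu : Commute ((a : G) * π ^ k) u := by
        rcases hu with e | e <;> rw [e]
        exacts [Commute.one_right _,
          (show Commute (a : G) z from (mem_CZ.1 a.2).1).mul_left ((show Commute π z from J.piz).pow_left k)]
      have hu2 : u * u = 1 := by rcases hu with e | e <;> rw [e]; exacts [one_mul 1, J.zz]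
      have h3 : ((d : G) * y * (d : G)⁻¹) ^ 3 = 1 := by
        rw [conj_pow, show (y : G) ^ 3 = 1 from congrArg Subtype.val hy3, mul_one, mul_inv_cancel]
      rw [hde, hcu.mul_pow, (hap.pow_right k).mul_pow, ← pow_mul, mul_comm k, pow_mul, J.pi_pow_three,
        one_pow, mul_one, show (a : G) ^ 3 = 1 by
          rw [pow_succ, pow_two]; exact congrArg Subtype.val PR.cube,
        one_mul, pow_succ, pow_two, hu2, one_mul] at h3
      rw [h3, mul_one] at hde
      exact IsConj.trans (isConj_iff.2 ⟨(d : G), hde⟩ : IsConj (y : G) ((a : G) * π ^ k)) (hak k)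
  intro x hx
  have hp : IsPGroup 3 ↥(Subgroup.zpowers x) :=
    IsPGroup.of_card (n := 1) (by rw [Nat.card_zpowers, hx, pow_one])
  obtain ⟨S, hS⟩ := hp.exists_le_sylow
  -- `R0` is a Sylow subgroup
  have hp0 : IsPGroup 3 R0 := IsPGroup.of_card (n := 3) (by rw [hR0.card]; norm_num)
  obtain ⟨S0, hS0⟩ := hp0.exists_le_sylow
  have hS0R : ∀ t ∈ (S0 : Subgroup G), t ∈ R0 := by
    -- an element normalizing `R0` outside it would enlarge it inside `C(z)`
    by_contra hne
    have hlt : R0 < (S0 : Subgroup G) := lt_of_le_of_ne hS0 fun e => hne fun t ht => e.ge ht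
    haveI := (S0.2 : IsPGroup 3 ↥(S0 : Subgroup G)).isNilpotent
    have hlt' : R0.subgroupOf (S0 : Subgroup G) < ⊤ := lt_top_iff_ne_top.2 fun e =>
      hlt.ne (le_antisymm hS0 (Subgroup.subgroupOf_eq_top.1 e))
    have h1 := Group.normalizerCondition_of_isNilpotent _ hlt'
    obtain ⟨t, ht, htn⟩ := SetLike.exists_of_lt h1
    have htN : (t : G) ∈ Subgroup.normalizer (R0 : Set G) := by
      refine Subgroup.mem_normalizer_iff.2 fun r => ?_
      constructor
      · intro hr
        exact ((Subgroup.mem_normalizer_iff.1 ht ⟨r, hS0 hr⟩).1 hr : _)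
      · intro hr
        have hrS : r ∈ (S0 : Subgroup G) := by
          have := mul_mem (mul_mem (inv_mem t.2) (hS0 hr)) t.2
          rwa [show (t : G)⁻¹ * ((t : G) * r * (t : G)⁻¹) * t = r by group] at this
        exact (Subgroup.mem_normalizer_iff.1 ht ⟨r, hrS⟩).2 hr
    set K := (S0 : Subgroup G) ⊓ Subgroup.normalizer (R0 : Set G) with hK
    have hK3 : IsPGroup 3 K := S0.2.to_le inf_le_left
    have hKle := J.card_three_le T' hK3 fun s hs => J.normalizer_R_le T' hR0 hC hs.2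
    have : R0 = K := Subgroup.eq_of_le_of_card_ge (le_inf hS0 Subgroup.le_normalizer) (by rw [hR0.card]; exact hKle)
    exact htn (this.ge ⟨t.2, htN⟩)
  obtain ⟨c, hc⟩ := MulAction.exists_smul_eq G S S0
  have hmem : c * x * c⁻¹ ∈ R0 := by
    refine hS0R _ ?_
    have h1 : c * x * c⁻¹ ∈ ((c • S : Sylow 3 G) : Subgroup G) := by
      rw [Sylow.coe_subgroup_smul]
      exact ⟨x, hS (Subgroup.mem_zpowers x), rfl⟩
    rwa [hc] at h1
  have hx1 : c * x * c⁻¹ ≠ 1 := fun e => by
    rw [mul_inv_eq_one, mul_eq_left] at e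
    rw [e, orderOf_one] at hx; norm_num at hx
  refine (isConj_iff.2 ⟨c, rfl⟩).trans (hlocal ⟨_, hR0.le hmem⟩ ((hR0.mem_iff _).1 hmem).1 hx1)

end CfsgLib.JFour
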