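import Cfsg.Agent.Lib.JFour.VPairs

/-!
# The centralizer of an element of the small class

It normalizes the standard subgroup: otherwise a dihedral group generated by a conjugate of `z` in the
subgroup and one in a conjugate would yield an element of the intersection which is excluded.
-/

set_option autoImplicit false
set_option maxRecDepth 100000
set_option linter.style.haveILetI false
set_option linter.unusedSectionVars false

open Cfsg

namespace CfsgLib.JFour

variable {G : Type*} [Group G] [Finite G] {M : Type*} [Group M] [Finite M] {z π : G} {E : Subgroup G}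

/-- The orbit of an element under conjugation by a subgroup. -/
theorem card_orbit_mul {G : Type*} [Group G] [Finite G] (H : Subgroup G) (x : G) :
    Set.ncard {v : G | ∃ h ∈ H, h * x * h⁻¹ = v} * Nat.card ↥(H ⊓ Subgroup.centralizer ({x} : Set G)) =
      Nat.card H := by
  classical
  set S := {v : G | ∃ h ∈ H, h * x * h⁻¹ = v}
  have hr : ∀ v : S, ∃ h ∈ H, h * x * h⁻¹ = v := fun v => v.2
  choose r hr1 hr2 using hr
  let F : S × ↥(H ⊓ Subgroup.centralizer ({x} : Set G)) → ↥H := fun p => ⟨r p.1 * p.2, H.mul_mem (hr1 p.1) (Subgroup.mem_inf.1 p.2.2).1⟩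
  have hbij : Function.Bijective F := by
    constructor
    · rintro ⟨v, a⟩ ⟨w, b⟩ e
      have e' : r v * (a : G) = r w * b := congrArg Subtype.val e
      have key : ∀ (v : S) (a : ↥(H ⊓ Subgroup.centralizer ({x} : Set G))), r v * a * x * (r v * a)⁻¹ = v := fun v a => by
        calc r v * a * x * (r v * a)⁻¹ = r v * ((a : G) * x * (a : G)⁻¹) * (r v)⁻¹ := by group
          _ = v := by rw [Subgroup.mem_centralizer_singleton_iff.1 (Subgroup.mem_inf.1 a.2).2, mul_inv_cancel_right, hr2]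
      have hvw : v = w := Subtype.ext (by rw [← key v a, e', key w b])
      subst hvw
      exact Prod.ext rfl (Subtype.ext (mul_left_cancel e'))
    · rintro ⟨h, hh⟩
      let v : S := ⟨h * x * h⁻¹, h, hh, rfl⟩
      refine ⟨⟨v, (r v)⁻¹ * h, H.mul_mem (H.inv_mem (hr1 v)) hh, Subgroup.mem_centralizer_singleton_iff.2 ?_⟩,
        Subtype.ext (by simp [F])⟩
      have e : r v * x * (r v)⁻¹ = h * x * h⁻¹ := hr2 v
      calc (r v)⁻¹ * h * x = (r v)⁻¹ * (h * x * h⁻¹) * h := by group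
        _ = _ := by rw [← e]; group
  rw [← Nat.card_coe_set_eq, ← Nat.card_prod]
  exact Nat.card_congr (Equiv.ofBijective F hbij)

namespace Ctx.Std

variable {J : Ctx M z π E} {g : ℕ → M} {vec : ℕ → G} {V : Subgroup G} (D : J.Std g vec V)
include D

/-- The conjugates of a cross element under the normalizer in `C(z)` are many. -/
theorem many_cross {v : G} (hv : v ∈ V) (hvE : v ∉ E) :
    240 ≤ Set.ncard {w : G | ∃ h ∈ Subgroup.normalizer (V : Set G) ⊓ Subgroup.centralizer ({z} : Set G), h * v * h⁻¹ = w} := by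
  classical
  obtain ⟨c, hcE, -, hc2, -, hcK⟩ := D.isV.split D.small hv
  have hc1 : J.proj c ≠ 1 := by
    intro h
    apply hvE
    have : (c : G) ∈ E := by
      rcases J.small_of_proj_one h (Or.inl hc2) with k | k <;> rw [k]
      exacts [E.one_mem, J.s.z_mem]
    have h' := E.mul_mem hcE this
    rwa [inv_mul_cancel_right] at h'
  obtain ⟨hcz, -⟩ := mem_CZ.1 c.2
  set T := {w : G | ∃ e ∈ E, e * v * e⁻¹ = w}
  have hT : 16 ≤ Set.ncard T := by
    have hle : E ⊓ Subgroup.centralizer ({v} : Set G) ≤ fx z E (c : G) := by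
      intro e he
      obtain ⟨heE, hev⟩ := Subgroup.mem_inf.1 he
      refine (J.mem_fx hcz).2 ⟨heE, ?_⟩
      have hev' : v * e * v⁻¹ = e := by rw [← Subgroup.mem_centralizer_singleton_iff.1 hev, mul_inv_cancel_right]
      have h1 := J.rel_conj_E hcE (J.conjE hcz heE)
      rw [show v * (c : G)⁻¹ * ((c : G) * e * (c : G)⁻¹) * (v * (c : G)⁻¹)⁻¹ = v * e * v⁻¹ by group, hev'] at h1
      exact J.rel_symm h1
    have h := card_orbit_mul E v
    have h2 := Subgroup.card_le_of_le hle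
    rw [D.full.hdim _ c.2 hc2 (D.lift_ne hc2 hcK hc1).1 (D.lift_ne hc2 hcK hc1).2] at h2
    rw [J.cardE] at h
    by_contra hlt
    have h3 := Nat.mul_le_mul (show Set.ncard T ≤ 15 by omega) h2
    rw [h] at h3
    norm_num at h3
  have hd : ∀ i : Fin 15, ∃ d : ↥(CZ z π), J.proj d ∈ Subgroup.normalizer (hexK g : Set M) ∧
      J.proj d * J.proj c * (J.proj d)⁻¹ = ((hexS.getD ((i : ℕ) + 1) []).map g).prod := fun i => by
    refine D.hexK_trans hcK hc1 D.hexS_mem fun h => ?_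
    rw [← D.hexS_zero] at h
    exact absurd (congrArg Fin.val (D.full.S16.distinct ⟨(i : ℕ) + 1, by omega⟩ 0 h)) (by simp)
  choose d hd1 hd2 using hd
  let F : Fin 15 × T → G := fun p => (d p.1 : G) * p.2.1 * (d p.1 : G)⁻¹
  have hinj : Function.Injective F := by
    rintro ⟨i, a, e, he, rfl⟩ ⟨j, b, f, hf, rfl⟩ h
    have h' : (d i : G) * (e * v * e⁻¹) * (d i : G)⁻¹ = (d j : G) * (f * v * f⁻¹) * (d j : G)⁻¹ := h
    have key : ∀ (i : Fin 15), ∀ e ∈ E, (d i : G) * (e * v * e⁻¹) * (d i : G)⁻¹ *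
        ((d i * c * (d i)⁻¹ : ↥(CZ z π)) : G)⁻¹ ∈ E := fun i e he => by
      have h1 : e * v * e⁻¹ * (c : G)⁻¹ ∈ E := by
        rw [show e * v * e⁻¹ * (c : G)⁻¹ = e * (v * (c : G)⁻¹) * ((c : G) * e⁻¹ * (c : G)⁻¹) by group]
        exact E.mul_mem (E.mul_mem he hcE) (J.conjE hcz (E.inv_mem he))
      have := J.conjE (mem_CZ.1 (d i).2).1 h1
      convert this using 1
      simp only [Subgroup.coe_mul, InvMemClass.coe_inv]
      group
    have h1 := J.proj_part _ _ (key i e he) (h' ▸ key j f hf)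
    simp only [map_mul, map_inv, hd2] at h1
    have hij : i = j := Fin.ext (by
      have := congrArg Fin.val (D.full.S16.distinct ⟨(i : ℕ) + 1, by omega⟩ ⟨(j : ℕ) + 1, by omega⟩ h1)
      simpa using this)
    subst hij
    exact Prod.ext rfl (Subtype.ext (mul_left_cancel (mul_right_cancel h')))
  have hsub : Set.range F ⊆ {w : G | ∃ h ∈ Subgroup.normalizer (V : Set G) ⊓ Subgroup.centralizer ({z} : Set G), h * v * h⁻¹ = w} := by
    rintro _ ⟨⟨i, w, e, he, rfl⟩, rfl⟩
    refine ⟨(d i : G) * e, ⟨mul_mem (D.isV.mem_normalizer D.small (hd1 i)) (D.E_le he),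
      Subgroup.mem_centralizer_singleton_iff.2 ?_⟩, ?_⟩
    · exact ((show Commute (d i : G) z from (mem_CZ.1 (d i).2).1).mul_left (show Commute e z from J.s.z_comm he)).eq
    · show _ = (d i : G) * (e * v * e⁻¹) * (d i : G)⁻¹
      group
  refine le_trans ?_ (Set.ncard_le_ncard hsub (Set.toFinite _))
  rw [Set.ncard_range_of_injective hinj, Nat.card_prod, Nat.card_fin, Nat.card_coe_set_eq]
  omega

/-- If a conjugate of `z` lies in `E`, then `z` lies in the corresponding conjugate of `E`. -/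
theorem symm_E {k : G} (hk : k * z * k⁻¹ ∈ E) : k⁻¹ * z * k ∈ E := by
  classical
  by_cases hne : k * z * k⁻¹ = z
  · have : k⁻¹ * z * k = z := by
      calc k⁻¹ * z * k = k⁻¹ * (k * z * k⁻¹) * k := by rw [hne]
        _ = z := by group
    rw [this]
    exact J.s.z_mem
  have h2 : k * z * k⁻¹ * (k * z * k⁻¹) = 1 := by
    rw [show k * z * k⁻¹ * (k * z * k⁻¹) = k * (z * z) * k⁻¹ by group, J.zz]; group
  have hc : IsConj z (k * z * k⁻¹) := isConj_iff.2 ⟨k, rfl⟩
  obtain ⟨m, hm, hr, ⟨hin, -⟩ | ⟨-, hn⟩⟩ := D.E_cases hk h2 (conj_ne_one J.z_ne hc) hne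
  swap
  · exact absurd hc hn
  obtain ⟨d, hdz, hde⟩ := D.conj_seed (by norm_num) (by norm_num) layA_ok hm hin hr
  obtain ⟨x, hx⟩ := isConj_iff.1 D.conj_classes.1
  obtain ⟨n, hn, hne'⟩ := D.fuse (a := z) (k := x) D.isV.z_mem (by rw [hx]; exact (D.full.seeds_mem D.isV).1)
  rw [hx] at hne'
  set u0 := n⁻¹ * z * n with hu0
  have hu0V : u0 ∈ V := by simpa [hu0] using D.conj_mem (inv_mem hn) D.isV.z_mem
  have hu0E : u0 ∈ E := by
    by_contra hE
    set C := Subgroup.normalizer (V : Set G) ⊓ Subgroup.centralizer ({z} : Set G) with hC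
    have h1 := card_orbit_mul C (vec 76)
    have h2 := card_orbit_mul C u0
    have hcc : Nat.card ↥(C ⊓ Subgroup.centralizer ({u0} : Set G)) ≥
        Nat.card ↥(C ⊓ Subgroup.centralizer ({vec 76} : Set G)) := by
      refine (Subgroup.card_map_of_injective (f := (MulAut.conj n⁻¹).toMonoidHom) (MulAut.conj n⁻¹).injective).symm.trans_le (Subgroup.card_le_of_le ?_)
      rintro _ ⟨y, hy, rfl⟩
      obtain ⟨⟨hyN, hyz⟩, hyv⟩ := hy
      refine ⟨⟨(Subgroup.normalizer (V : Set G)).mul_mem ((Subgroup.normalizer (V : Set G)).mul_mem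
        ((Subgroup.normalizer (V : Set G)).inv_mem hn) hyN) (by rw [inv_inv]; exact hn), ?_⟩, ?_⟩
      · refine Subgroup.mem_centralizer_singleton_iff.2 ?_
        show n⁻¹ * y * n⁻¹⁻¹ * z = z * (n⁻¹ * y * n⁻¹⁻¹)
        calc n⁻¹ * y * n⁻¹⁻¹ * z = n⁻¹ * (y * (n * z * n⁻¹)) * n := by group
          _ = n⁻¹ * (n * z * n⁻¹ * y) * n := by rw [hne', Subgroup.mem_centralizer_singleton_iff.1 hyv]
          _ = _ := by group
      · refine Subgroup.mem_centralizer_singleton_iff.2 ?_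
        show n⁻¹ * y * n⁻¹⁻¹ * u0 = u0 * (n⁻¹ * y * n⁻¹⁻¹)
        calc n⁻¹ * y * n⁻¹⁻¹ * u0 = n⁻¹ * (y * z) * n := by rw [hu0]; group
          _ = n⁻¹ * (z * y) * n := by rw [Subgroup.mem_centralizer_singleton_iff.1 hyz]
          _ = _ := by rw [hu0]; group
    have h90 : Set.ncard {w : G | ∃ h ∈ C, h * vec 76 * h⁻¹ = w} ≤ 90 := by
      rw [← D.ncard_uA]
      refine Set.ncard_le_ncard ?_ (Set.toFinite _)
      rintro _ ⟨y, ⟨hyN, hyz⟩, rfl⟩
      have hyz' := Subgroup.mem_centralizer_singleton_iff.1 hyz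
      have hcy : IsConj z (y * vec 76 * y⁻¹) := (isConj_conj_iff y).2 D.conj_classes.1
      obtain ⟨l, -, hl, ⟨h, -⟩ | ⟨h, -⟩⟩ := D.inE_cases (D.conj_mem hyN (D.full.seeds_mem D.isV).1)
        (J.conjE hyz' (D.full.Mo.coords.mem 76 (by norm_num))) (conj_ne_one J.z_ne hcy) (fun e => by
          have h := D.vec_ne (n := 76) (by norm_num) (by norm_num)
          rw [mul_inv_eq_iff_eq_mul, ← hyz', mul_right_inj] at e
          exact h.2 e)
      · exact ⟨l, h, hl⟩
      · exact absurd ((D.uB_class h hl).1 hcy) D.conj_classes.2.1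
    have h240 : 240 ≤ Set.ncard {w : G | ∃ h ∈ C, h * u0 * h⁻¹ = w} := D.many_cross hu0V hE
    have hp : 0 < Nat.card ↥(C ⊓ Subgroup.centralizer ({vec 76} : Set G)) := Nat.card_pos
    have h3 := Nat.mul_le_mul h240 hcc
    rw [h2, ← h1] at h3
    have := Nat.le_of_mul_le_mul_right (h3.trans (Nat.mul_le_mul_right _ h90)) hp
    omega
  -- the two conjugating elements differ by an element of `C(z)`
  have hc2 : (d * n)⁻¹ * k * z = z * ((d * n)⁻¹ * k) := by
    have e : d * n * z * (d * n)⁻¹ = k * z * k⁻¹ := by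
      rw [← hde, ← hne']; group
    calc (d * n)⁻¹ * k * z = (d * n)⁻¹ * (k * z * k⁻¹) * k := by group
      _ = _ := by rw [← e]; group
  have h := J.conjE' hc2 hu0E
  have e : ((d * n)⁻¹ * k)⁻¹ * u0 * ((d * n)⁻¹ * k) = k⁻¹ * z * k := by
    calc ((d * n)⁻¹ * k)⁻¹ * u0 * ((d * n)⁻¹ * k) = k⁻¹ * (d * z * d⁻¹) * k := by rw [hu0]; group
      _ = _ := by rw [hdz, mul_inv_cancel_right]
  rwa [e] at h

/-- No element of the small class in `E` lies in two such conjugates of `E`. -/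
theorem core {t p k : G} (ht : IsD z V t) (htE : t ∈ E) (hkp : k * z * k⁻¹ = p) (hpE : p ∈ E) (hpV : p ∉ V)
    (hpt : p * t = t * p) (hk : k⁻¹ * t * k ∈ E) : False := by
  have hpz : IsConj z p := isConj_iff.2 ⟨k, hkp⟩
  have hp1 : p ≠ 1 := conj_ne_one J.z_ne hpz
  have hpne : p ≠ z := fun e => hpV (e ▸ D.isV.z_mem)
  have hp2 : p * p = 1 := by
    rw [← hkp, show k * z * k⁻¹ * (k * z * k⁻¹) = k * (z * z) * k⁻¹ by group, J.zz]; group
  obtain ⟨m, hm, hr, ⟨hin, -⟩ | ⟨-, h⟩⟩ := D.E_cases hpE hp2 hp1 hpne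
  swap
  · exact h hpz
  obtain ⟨d, hd⟩ := D.full.reach (by norm_num) layA_ok hm hin
  have hdp : Rel z ((d : G) * vec 76 * (d : G)⁻¹) p := J.rel_trans hd (J.rel_symm hr)
  obtain ⟨hdz, -⟩ := mem_CZ.1 d.2
  have h76 : vec 76 ∈ E := D.full.Mo.coords.mem 76 (by norm_num)
  set t' := (d : G)⁻¹ * t * d with ht'
  have htne : t ≠ z := fun e => ht.2.2 (e ▸ IsConj.refl z)
  have ht'E : t' ∈ E := J.conjE' hdz htE
  have ht'2 : t' * t' = 1 := by
    rw [ht', show (d : G)⁻¹ * t * d * ((d : G)⁻¹ * t * d) = (d : G)⁻¹ * (t * t) * d by group, D.isV.sq t ht.1]; group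
  have htd : t = (d : G) * t' * (d : G)⁻¹ := by rw [ht']; group
  obtain ⟨n, hn, hrn, ⟨-, h⟩ | ⟨hnB, -⟩⟩ := D.E_cases ht'E ht'2
    (fun e => ht.2.1 (by rw [htd, e]; group))
    (fun e => htne (by rw [htd, e, hdz, mul_inv_cancel_right]))
  · exact ht.2.2 (by rw [htd]; exact (isConj_conj_iff _).2 h)
  have hdz' : (d : G)⁻¹ * z = z * (d : G)⁻¹ := (Commute.inv_left (show Commute (d : G) z from hdz)).eq
  have hcom : vec n * vec 76 = vec 76 * vec n := by
    have h1 : Rel z (vec 76) ((d : G)⁻¹ * p * d) := by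
      have := J.rel_conj hdz' hdp
      rwa [inv_inv, show (d : G)⁻¹ * ((d : G) * vec 76 * (d : G)⁻¹) * d = vec 76 by group] at this
    have h2 : vec 76 * t' = t' * vec 76 := J.comm_of_rel (J.s.z_comm ht'E) h1 (by
      calc (d : G)⁻¹ * p * d * t' = (d : G)⁻¹ * (p * t) * d := by rw [ht']; group
        _ = _ := by rw [hpt, ht']; group)
    exact J.comm_of_rel (J.s.z_comm h76) (J.rel_symm hrn) h2.symm
  have hb := (D.full.comm_vec D.isV hn (by norm_num : 76 < 4096)).1 hcom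
  have hs := List.all_eq_true.1 stab_ok n (List.mem_range.2 hn)
  rw [hnB, hb] at hs
  simp only [Bool.not_true, Bool.false_or, Bool.or_eq_true, List.any_eq_true, Nat.beq_eq] at hs
  rcases hs with ⟨w, hw, u, hu, hue⟩ | ⟨w, hw, hwb⟩
  · -- one of the five conjugates
    obtain ⟨hwk, u', hu', hu'e⟩ : (∀ j ∈ w, j < 5) ∧ ∃ u' ∈ fixV, ap (wordB MS w) u' = 76 := by
      have h := List.all_eq_true.1 six_ok'.1 w hw
      simp only [Bool.and_eq_true, List.all_eq_true, decide_eq_true_eq, List.any_eq_true, Nat.beq_eq] at h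
      exact h
    obtain ⟨c, -, hcA⟩ := D.full.Mo.lift hwk
    obtain ⟨hcz, -⟩ := mem_CZ.1 c.2
    have hcz' : (c : G)⁻¹ * z = z * (c : G)⁻¹ := (Commute.inv_left (show Commute (c : G) z from hcz)).eq
    have hulist : u ∈ uA ++ uB := List.mem_append_right _ hu
    obtain ⟨hult, -⟩ := D.uA_mem hulist
    have hx : Rel z ((c : G)⁻¹ * t' * c) (vec u) := by
      have h1 := hcA.2 u hult
      rw [hue] at h1
      have h2 := J.rel_conj hcz' (J.rel_trans hrn (J.rel_symm h1))
      rwa [inv_inv, show (c : G)⁻¹ * ((c : G) * vec u * (c : G)⁻¹) * c = vec u by group] at h2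
    have hxV := (D.mem_of_list hulist hx).1
    have hdc : ((d * c : ↥(CZ z π)) : G) ∈ Subgroup.normalizer (V : Set G) := by
      refine D.uB_unique ht htE ?_
      simp only [Subgroup.coe_mul]
      rw [show ((d : G) * c)⁻¹ * t * ((d : G) * c) = (c : G)⁻¹ * t' * c by rw [ht']; group]
      exact hxV
    obtain ⟨hu'1, hu'2⟩ := List.mem_filter.1 hu'
    have hu'lt : u' < 4096 := List.mem_range.1 hu'1
    have h1 := hcA.2 u' hu'lt
    rw [hu'e] at h1
    have h2 := J.rel_trans (J.rel_conj hdz h1) hdp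
    have h3 := D.conj_mem hdc ((D.full.vec_mem_V D.isV hu'lt).2 hu'2)
    apply hpV
    simp only [Subgroup.coe_mul] at h3
    rw [show (d : G) * c * vec u' * ((d : G) * c)⁻¹ = (d : G) * ((c : G) * vec u' * (c : G)⁻¹) * (d : G)⁻¹ by group] at h3
    rcases J.rel_symm h2 with e | e <;> rw [e]
    · exact h3
    · exact V.mul_mem D.isV.z_mem h3
  · -- an element fixing `p` not commuting
    have hq := List.all_eq_true.1 six_ok'.2 w hw
    simp only [Bool.and_eq_true, List.all_eq_true, decide_eq_true_eq, Nat.beq_eq] at hq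
    obtain ⟨⟨hwk, -⟩, hfix⟩ := hq
    obtain ⟨c, -, hcA⟩ := D.full.Mo.lift hwk
    obtain ⟨hcz, -⟩ := mem_CZ.1 c.2
    set q := ((d * c * d⁻¹ : ↥(CZ z π)) : G) with hq
    have hqz : q * z = z * q := (mem_CZ.1 (d * c * d⁻¹).2).1
    have hqv : q = (d : G) * c * (d : G)⁻¹ := rfl
    have h1 : Rel z (q * p * q⁻¹) p := by
      have h0 := hcA.2 76 (by norm_num)
      rw [hfix] at h0
      have h2 := J.rel_conj hqz (J.rel_symm hdp)
      refine J.rel_trans h2 ?_
      rw [hqv, show (d : G) * c * (d : G)⁻¹ * ((d : G) * vec 76 * (d : G)⁻¹) * ((d : G) * c * (d : G)⁻¹)⁻¹ =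
        (d : G) * ((c : G) * vec 76 * (c : G)⁻¹) * (d : G)⁻¹ by group]
      exact J.rel_trans (J.rel_conj hdz h0) hdp
    obtain ⟨e, he, hep⟩ : ∃ e ∈ E, e * (q * p * q⁻¹) * e⁻¹ = p := by
      rcases h1 with e | e
      · exact ⟨1, E.one_mem, by rw [e]; group⟩
      · obtain ⟨e', he', he''⟩ := J.s.exists_move hpE hp1 hpne
        refine ⟨e', he', ?_⟩
        rw [e, show e' * (z * p) * e'⁻¹ = e' * z * e'⁻¹ * (e' * p * e'⁻¹) by group, J.s.z_comm he',
          mul_inv_cancel_right, he'', ← mul_assoc, J.zz, one_mul]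
    have J' := J.conj k
    rw [hkp] at J'
    set E' := E.map (MulAut.conj k).toMonoidHom
    have htE' : t ∈ E' := ⟨_, hk, by show k * (k⁻¹ * t * k) * k⁻¹ = t; group⟩
    have hy : (e * q) * p = p * (e * q) := by
      calc e * q * p = e * (q * p * q⁻¹) * e⁻¹ * (e * q) := by group
        _ = _ := by rw [hep]
    have hyz : (e * q) * z = z * (e * q) :=
      ((show Commute e z from J.s.z_comm he).mul_left (show Commute q z from hqz)).eq
    set t2 := e * q * t * (e * q)⁻¹ with ht2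
    have ht2E : t2 ∈ E := J.conjE hyz htE
    have ht2E' : t2 ∈ E' := J'.conjE hy htE'
    have hcomm : t2 * t = t * t2 := by
      rw [← mul_inv_eq_iff_eq_mul]
      rcases J.s.comm_cases ht2E htE with a | a
      · exact a
      rcases J'.s.comm_cases ht2E' htE' with b | b
      · exact b
      · exact absurd (mul_right_cancel (a.symm.trans b)).symm hpne
    have hr2 : Rel z ((d : G)⁻¹ * t2 * d) (vec (ap (wordB MS w) n)) := by
      have e1 : Rel z t2 (q * t * q⁻¹) := by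
        rw [ht2, show e * q * t * (e * q)⁻¹ = e * (q * t * q⁻¹) * e⁻¹ by group]
        exact J.rel_conj_E he (J.conjE hqz htE)
      have e2 := J.rel_conj hdz' e1
      rw [inv_inv] at e2
      refine J.rel_trans e2 ?_
      rw [hqv, show (d : G)⁻¹ * ((d : G) * c * (d : G)⁻¹ * t * ((d : G) * c * (d : G)⁻¹)⁻¹) * d =
        (c : G) * t' * (c : G)⁻¹ by rw [ht']; group]
      exact J.rel_trans (J.rel_conj hcz hrn) (hcA.2 n hn)
    have hc' : t' * ((d : G)⁻¹ * t2 * d) = (d : G)⁻¹ * t2 * d * t' := by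
      calc t' * ((d : G)⁻¹ * t2 * d) = (d : G)⁻¹ * (t * t2) * d := by rw [ht']; group
        _ = _ := by rw [← hcomm, ht']; group
    have hlt := okB_lt hcA.1 n
    have hm' : vec (ap (wordB MS w) n) * t' = t' * vec (ap (wordB MS w) n) :=
      J.comm_of_rel (J.s.z_comm ht'E) (J.rel_symm hr2) hc'.symm
    have hm'' : vec n * vec (ap (wordB MS w) n) = vec (ap (wordB MS w) n) * vec n :=
      J.comm_of_rel (J.s.z_comm (D.full.Mo.coords.mem _ hlt)) (J.rel_symm hrn) hm'.symm
    rw [(D.full.comm_vec D.isV hn hlt).1 hm''] at hwb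
    exact Bool.noConfusion hwb

theorem part_ne {t : G} (ht : IsD z V t) (htE : t ∉ E) : IsConj z (z * t) ∧
    ∃ c : ↥(CZ z π), t * (c : G)⁻¹ ∈ E ∧ J.proj c ∈ hexK g ∧ J.proj c ≠ 1 := by
  obtain ⟨c, hc2, hcK, hc1, -, hzc, hu, e, he, hes⟩ := D.cross_bad ht.1 htE ht.2.2
  refine ⟨?_, c, (Subgroup.mem_inf.1 (D.tc_le hc2 hcK hc1 hu)).2, hcK, hc1⟩
  have e1 : z * t = e * (z * c) * e⁻¹ := by
    rw [← hes, show e * (z * (c : G)) * e⁻¹ = e * z * e⁻¹ * (e * c * e⁻¹) by group, J.s.z_comm he, mul_inv_cancel_right]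
  rw [e1]
  exact (isConj_conj_iff e).2 hzc

/-- The case of an element in exactly one of the two conjugates of `E`. -/
theorem mixed {t p k : G} (ht : IsD z V t) (htE : t ∈ E) (hkp : k * z * k⁻¹ = p) (hpE : p ∈ E) (hpV : p ∉ V)
    (ht1 : IsD z V (k⁻¹ * t * k)) (ht1E : k⁻¹ * t * k ∉ E) (hpt : p * t = t * p)
    (hz1 : k⁻¹ * z * k ∈ E) (hz1V : k⁻¹ * z * k ∉ V) : False := by
  obtain ⟨hzt1, c, hcE, hcK, hc1⟩ := D.part_ne ht1 ht1E
  set t1 := k⁻¹ * t * k with ht1d
  set z1 := k⁻¹ * z * k with hz1d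
  have hept : k * (z * t1) * k⁻¹ = p * t := by rw [← hkp, ht1d]; group
  have hpt1 : IsConj z (p * t) := by rw [← hept]; exact (isConj_conj_iff k).2 hzt1
  have hptE : p * t ∈ E := E.mul_mem hpE htE
  have hptz : p * t ≠ z := fun e => by
    have hz : (z * p) = t := by
      have hpc : p * z = z * p := J.s.z_comm hpE
      have hp2 : p * p = 1 := by
        rw [← hkp, show k * z * k⁻¹ * (k * z * k⁻¹) = k * (z * z) * k⁻¹ by group, J.zz]; group
      rw [← hpc, ← e, ← mul_assoc, hp2, one_mul]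
    exact ht.2.2 (hz ▸ (D.z_mul_iff hpE (conj_ne_one J.z_ne (isConj_iff.2 ⟨k, hkp⟩))
      (fun e' => hpV (e' ▸ D.isV.z_mem))).2 (isConj_iff.2 ⟨k, hkp⟩))
  have hzpt : IsConj z (z * (p * t)) := (D.z_mul_iff hptE (conj_ne_one J.z_ne hpt1) hptz).2 hpt1
  set v := z1 * (z * t1) with hv
  have hvz : IsConj z v := by
    rw [← isConj_conj_iff k, show k * v * k⁻¹ = z * (p * t) by rw [hv, hz1d, ← hept]; group]
    exact hzpt
  have hz1z : z1 * z = z * z1 := J.s.z_comm hz1
  have hv2 : v * v = 1 := by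
    obtain ⟨x, hx⟩ := isConj_iff.1 hvz
    rw [← hx, show x * z * x⁻¹ * (x * z * x⁻¹) = x * (z * z) * x⁻¹ by group, J.zz]; group
  have hvH : v ∈ H0 z π E :=
    (H0 z π E).mul_mem (E_le_H0 z π E hz1) ((H0 z π E).mul_mem J.z_mem_H0 (D.isV.le_H0 ht1.1))
  have hvc : v * (c : G)⁻¹ ∈ E := by
    rw [hv, show z1 * (z * t1) * (c : G)⁻¹ = z1 * z * (t1 * (c : G)⁻¹) by group]
    exact E.mul_mem (E.mul_mem hz1 J.s.z_mem) hcE
  have hvV := D.inner_mem hvH hv2 hvz hvc hcK hc1
  apply hz1V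
  have := V.mul_mem hvV (V.inv_mem (V.mul_mem D.isV.z_mem ht1.1))
  rwa [hv, mul_inv_cancel_right] at this

/-- **A conjugate of `z` in the centralizer commuting with one in the subgroup lies in it.** -/
theorem strong_z {t y o : G} (ht : IsD z V t) (hy : y * t = t * y) (ho : o ∈ V) (hoz : IsConj z o)
    (hu : y * o * y⁻¹ * z = z * (y * o * y⁻¹)) : y * o * y⁻¹ ∈ V := by
  classical
  haveI := Fact.mk Nat.prime_two
  by_cases hyN : y ∈ Subgroup.normalizer (V : Set G)
  · exact D.conj_mem hyN ho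
  exfalso
  have hyt : y⁻¹ * t = t * y⁻¹ := (Commute.inv_left (show Commute y t from hy)).eq
  have hyt' : y * t * y⁻¹ = t := by rw [hy, mul_inv_cancel_right]
  set W := V.map (MulAut.conj y).toMonoidHom with hW
  have hWm : ∀ w, w ∈ W ↔ y⁻¹ * w * y ∈ V := fun w => by
    rw [hW, Subgroup.mem_map_equiv, MulAut.conj_symm_apply]
  have hfree : ∀ f ∈ V, f ∈ W → ¬ IsConj z f := by
    intro f hf hfW hc
    refine hyN (D.fuse_cent (a := y⁻¹ * f * y) ((hWm f).1 hfW) ?_ ht hy ?_)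
    · rw [← isConj_conj_iff y, show y * (y⁻¹ * f * y) * y⁻¹ = f by group]; exact hc
    · rw [show y * (y⁻¹ * f * y) * y⁻¹ = f by group]; exact hf
  have htW : t ∈ W := (hWm t).2 (by rw [hyt, inv_mul_cancel_right]; exact ht.1)
  have hWsq : ∀ w ∈ W, w * w = 1 := by
    intro w hw
    have := D.isV.sq _ ((hWm w).1 hw)
    calc w * w = y * (y⁻¹ * w * y * (y⁻¹ * w * y)) * y⁻¹ := by group
      _ = 1 := by rw [this]; group
  have hWc := comm_of_sq hWsq
  have hWcard : Nat.card W = 2 ^ 11 := by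
    rw [hW, Subgroup.card_map_of_injective (MulAut.conj y).injective, D.isV.card]
  have hzW : ∀ w ∈ W, z * w * z⁻¹ ∈ W := by
    intro w hw
    have hz' : y⁻¹ * z * y ∈ Subgroup.normalizer (V : Set G) := by
      refine D.cent_conj ho hoz ht ?_ ?_
      · calc y⁻¹ * z * y * o = y⁻¹ * (z * (y * o * y⁻¹)) * y := by group
          _ = _ := by rw [← hu]; group
      · have hzt : z * t = t * z := (D.isV.cz t ht.1).symm
        calc y⁻¹ * z * y * t = y⁻¹ * (z * (y * t)) := by group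
          _ = y⁻¹ * (z * t) * y := by rw [hy]; group
          _ = y⁻¹ * t * z * y := by rw [hzt]; group
          _ = _ := by rw [hyt]; group
    refine (hWm _).2 ?_
    have := D.conj_mem hz' ((hWm w).1 hw)
    convert this using 1
    group
  set P := W ⊓ Subgroup.centralizer ({z} : Set G) with hP
  -- it is large
  have hP46 : 46 ≤ Nat.card P := by
    have hcm : ∀ a : ↥W, z * (a : G) * z⁻¹ * (a : G) ∈ P := fun a => by
      refine Subgroup.mem_inf.2 ⟨W.mul_mem (hzW a a.2) a.2, Subgroup.mem_centralizer_singleton_iff.2 ?_⟩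
      have h := hWc _ (hzW a a.2) a a.2
      have e : z * (z * (a : G) * z⁻¹ * a) * z⁻¹ = (a : G) * (z * a * z⁻¹) := by
        calc z * (z * (a : G) * z⁻¹ * a) * z⁻¹ = (z * z) * a * (z * z)⁻¹ * (z * a * z⁻¹) := by group
          _ = _ := by rw [J.zz]; group
      rw [← h] at e
      exact (mul_inv_eq_iff_eq_mul.1 e).symm
    let f : ↥W →* ↥P := MonoidHom.mk' (fun a => ⟨z * (a : G) * z⁻¹ * (a : G), hcm a⟩) fun a b => Subtype.ext (by
      show z * ((a : G) * b) * z⁻¹ * ((a : G) * b) = z * a * z⁻¹ * a * (z * b * z⁻¹ * b)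
      have h := hWc _ (hzW b b.2) a a.2
      calc z * ((a : G) * b) * z⁻¹ * ((a : G) * b) = z * a * z⁻¹ * ((z * b * z⁻¹) * a) * b := by group
        _ = _ := by rw [h]; group)
    have hker : Nat.card f.ker ≤ Nat.card P := by
      refine Nat.card_le_card_of_injective (fun a => ⟨((a : ↥W) : G), (a : ↥W).2, Subgroup.mem_centralizer_singleton_iff.2 ?_⟩)
        fun a b e => Subtype.ext (Subtype.ext (congrArg Subtype.val e :))
      have h : z * ((a : ↥W) : G) * z⁻¹ * ((a : ↥W) : G) = 1 := congrArg Subtype.val a.2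
      rw [mul_eq_one_iff_eq_inv, inv_eq_of_mul_eq_one_right (hWsq _ (a : ↥W).2), mul_inv_eq_iff_eq_mul] at h
      exact h.symm
    have h1 := f.ker.card_mul_index
    rw [Subgroup.index_ker, hWcard] at h1
    have h2 : Nat.card f.range ≤ Nat.card P := Subgroup.card_le_card_group f.range
    by_contra hlt
    have h3 := Nat.mul_le_mul (hker.trans (show Nat.card P ≤ 45 by omega)) (h2.trans (show Nat.card P ≤ 45 by omega))
    rw [h1] at h3
    norm_num at h3
  have hPz : ∀ x ∈ P, x * z = z * x := fun x hx => Subgroup.mem_centralizer_singleton_iff.1 (Subgroup.mem_inf.1 hx).2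
  have hPN : ∀ x ∈ P, x ∈ Subgroup.normalizer (V : Set G) := fun x hx =>
    D.cent_z ht (hPz x hx) (hWc x (Subgroup.mem_inf.1 hx).1 t htW)
  have hP0 := J.card_le_H0 (S := P) hPz
  set P0 := P ⊓ H0 z π E with hP0d
  obtain ⟨ψ, hψ⟩ := J.exists_projH
  let f : ↥P0 →* M := ψ.comp (Subgroup.inclusion inf_le_right)
  have hfN : f.range ≤ Subgroup.normalizer (hexK g : Set M) := by
    rintro _ ⟨x, rfl⟩
    obtain ⟨c, hc⟩ := J.exists_part ⟨(x : G), (Subgroup.mem_inf.1 x.2).2⟩
    show ψ ⟨(x : G), _⟩ ∈ _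
    rw [hψ _ c hc]
    refine D.proj_mem_normalizer ?_
    have e : (c : G) = ((x : G) * (c : G)⁻¹)⁻¹ * x := by group
    rw [e]
    exact mul_mem (inv_mem (D.E_le hc)) (hPN x (Subgroup.mem_inf.1 x.2).1)
  have hfsq : ∀ m ∈ f.range, m * m = 1 := by
    rintro _ ⟨x, rfl⟩
    rw [← map_mul, show x * x = 1 from Subtype.ext (hWsq _ (Subgroup.mem_inf.1 (Subgroup.mem_inf.1 x.2).1).1), map_one]
  set K := hexK g with hK
  -- the index of the part over the hexad subgroup
  have hidx : K.relIndex f.range ≤ 4 := by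
    set S := f.range ⊔ K with hS
    have hS2 : IsPGroup 2 S :=
      (isPGroup_of_sq hfsq).to_sup_of_normal_right' (IsPGroup.of_card (n := 4) (by rw [hK, D.hexK_card_eq.1]; norm_num)) hfN
    have hsq : ∀ s ∈ S, s * s ∈ K := by
      intro s hs
      rw [hS, ← SetLike.mem_coe, Subgroup.coe_mul_of_left_le_normalizer_right f.range K hfN] at hs
      obtain ⟨i, hi, k', hk', rfl⟩ := hs
      have h := (Subgroup.mem_normalizer_iff.1 (hfN hi) k').1 hk'
      rw [show i * k' * (i * k') = i * k' * i⁻¹ * ((i * i) * k') by group, hfsq i hi, one_mul]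
      exact K.mul_mem h hk'
    have hS128 : Nat.card S ≤ 64 := by
      obtain ⟨a, ha⟩ := IsPGroup.iff_card.1 hS2
      have hd : Nat.card S ∣ 443520 := D.small.card ▸ Subgroup.card_subgroup_dvd_card S
      rw [ha] at hd ⊢
      have ha7 : a ≤ 7 := by
        by_contra h
        have : 2 ^ 8 ∣ 443520 := (pow_dvd_pow 2 (show 8 ≤ a by omega)).trans hd
        norm_num at this
      rcases Nat.lt_or_ge a 7 with h | h
      · exact (Nat.pow_le_pow_right (by norm_num) (show a ≤ 6 by omega)).trans (by norm_num)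
      · exfalso
        obtain ⟨s, hs, t', ht', hne, -, -⟩ := D.full.H.comm S hS2 (by rw [ha, show a = 7 by omega]; norm_num) K
          le_sup_right D.hexK_card_eq.1 D.full.hexK_sq
        exact hne (hsq _ (S.mul_mem hs ht'))
    have h := card_mul_card_le (le_sup_left : f.range ≤ f.range ⊔ K) (le_sup_right : K ≤ f.range ⊔ K)
    rw [D.hexK_card_eq.1] at h
    have h2 := (K.subgroupOf f.range).card_mul_index
    have h3 : Nat.card ↥(K.subgroupOf f.range) = Nat.card ↥(f.range ⊓ K) := by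
      rw [← Subgroup.inf_subgroupOf_right, Nat.card_congr (Subgroup.subgroupOfEquivOfLe (inf_le_right : K ⊓ f.range ≤ f.range)).toEquiv, inf_comm]
    rw [h3] at h2
    change Nat.card ↥(f.range ⊓ K) * K.relIndex f.range = _ at h2
    have hpos : 0 < Nat.card ↥(f.range ⊓ K) := Nat.card_pos
    rw [← h2, mul_assoc] at h
    have h4 := Nat.le_of_mul_le_mul_left h hpos
    change K.relIndex f.range * 16 ≤ Nat.card ↥S at h4
    omega
  set R := (K.comap f).map P0.subtype with hR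
  have hRcard : 6 ≤ Nat.card R := by
    rw [hR, Subgroup.card_map_of_injective P0.subtype_injective]
    have h := (K.comap f).card_mul_index
    rw [Subgroup.index_comap] at h
    have := Nat.mul_le_mul_left (Nat.card ↥(K.comap f)) hidx
    rw [h] at this
    omega
  have hRmem : ∀ r ∈ R, r ∈ W ∧ r ∈ H0 z π E ∧ r * z = z * r ∧
      ∀ c : ↥(CZ z π), r * (c : G)⁻¹ ∈ E → J.proj c ∈ K := by
    rintro _ ⟨x, hx, rfl⟩
    obtain ⟨hxP, hxH⟩ := Subgroup.mem_inf.1 x.2
    refine ⟨(Subgroup.mem_inf.1 hxP).1, hxH, hPz _ hxP, fun c hc => ?_⟩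
    have : ψ ⟨(x : G), hxH⟩ = J.proj c := hψ _ c hc
    rw [← this]
    exact hx
  have htR : t ∈ R := by
    refine ⟨⟨t, ⟨htW, Subgroup.mem_centralizer_singleton_iff.2 (D.isV.cz t ht.1)⟩, D.isV.le_H0 ht.1⟩, ?_, rfl⟩
    obtain ⟨c, hcE, -, -, -, hcK⟩ := D.isV.split D.small ht.1
    show ψ ⟨t, _⟩ ∈ K
    rw [hψ _ c hcE]
    exact hcK
  obtain ⟨p, hpR, hpz⟩ : ∃ p ∈ R, IsConj z p := by
    by_contra hno
    push Not at hno
    have h := D.free_le (F := R.map (MulAut.conj y⁻¹).toMonoidHom) (t := t) ?_ ?_ ⟨t, htR, ?_⟩ ht.2.1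
    · rw [Subgroup.card_map_of_injective (MulAut.conj y⁻¹).injective] at h
      omega
    · rintro _ ⟨r, hr, rfl⟩
      have := (hWm r).1 (hRmem r hr).1
      simpa using this
    · rintro _ ⟨r, hr, rfl⟩ hc
      exact hno r hr ((isConj_conj_iff y⁻¹).1 hc)
    · show y⁻¹ * t * y⁻¹⁻¹ = t
      rw [hyt, mul_inv_cancel_right]
  obtain ⟨hpW, hpH, hpcz, hpK⟩ := hRmem p hpR
  have hpV : p ∉ V := fun h => hfree p h hpW hpz
  have hp2 := hWsq p hpW
  have hpE : p ∈ E := by
    obtain ⟨c, hc⟩ := J.exists_part ⟨p, hpH⟩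
    by_cases h1 : J.proj c = 1
    · exact J.mem_E_of_part D.small hc (by rw [hp2]; exact E.one_mem) h1
    · exact absurd (D.inner_mem hpH hp2 hpz hc (hpK c hc) h1) hpV
  have hzW' : z ∉ W := fun h => hfree z D.isV.z_mem h (IsConj.refl z)
  have hpt : p * t = t * p := hWc p hpW t htW
  -- the element carrying `z` to `p`
  have ha0 : y⁻¹ * p * y ∈ V := (hWm p).1 hpW
  have ha0z : IsConj z (y⁻¹ * p * y) := by
    rw [← isConj_conj_iff y, show y * (y⁻¹ * p * y) * y⁻¹ = p by group]; exact hpz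
  obtain ⟨x, hx⟩ := isConj_iff.1 ha0z
  obtain ⟨n, hn, hne⟩ := D.fuse (a := z) (k := x) D.isV.z_mem (by rw [hx]; exact ha0)
  rw [hx] at hne
  set k := y * n with hkdef
  have hkp : k * z * k⁻¹ = p := by
    calc k * z * k⁻¹ = y * (n * z * n⁻¹) * y⁻¹ := by rw [hkdef]; group
      _ = p := by rw [hne]; group
  have ht1e : k⁻¹ * t * k = n⁻¹ * t * n := by
    calc k⁻¹ * t * k = n⁻¹ * (y⁻¹ * t * y) * n := by rw [hkdef]; group
      _ = _ := by rw [hyt, inv_mul_cancel_right]
  have ht1D : IsD z V (k⁻¹ * t * k) := by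
    rw [ht1e]; simpa using IsD.conj D (inv_mem hn) ht
  have hz1 : k⁻¹ * z * k ∈ E := D.symm_E (by rw [hkp]; exact hpE)
  have hz1V : k⁻¹ * z * k ∉ V := fun h => hzW' ((hWm z).2 (by
    have := D.conj_mem hn h
    convert this using 1
    rw [hkdef]; group))
  by_cases htE : t ∈ E
  · by_cases ht1E : k⁻¹ * t * k ∈ E
    · exact D.core ht htE hkp hpE hpV hpt ht1E
    · exact D.mixed ht htE hkp hpE hpV ht1D ht1E hpt hz1 hz1V
  · by_cases ht1E : k⁻¹ * t * k ∈ E
    · refine D.mixed ht1D ht1E (k := k⁻¹) (p := k⁻¹ * z * k) (by rw [inv_inv]) hz1 hz1V ?_ ?_ ?_ ?_ ?_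
      · rw [inv_inv, show k * (k⁻¹ * t * k) * k⁻¹ = t by group]; exact ht
      · rw [inv_inv, show k * (k⁻¹ * t * k) * k⁻¹ = t by group]; exact htE
      · calc k⁻¹ * z * k * (k⁻¹ * t * k) = k⁻¹ * (z * t) * k := by group
          _ = k⁻¹ * (t * z) * k := by rw [D.isV.cz t ht.1]
          _ = _ := by group
      · rw [inv_inv, hkp]; exact hpE
      · rw [inv_inv, hkp]; exact hpV
    · -- cross for both
      obtain ⟨hzt1, -⟩ := D.part_ne ht1D ht1E
      obtain ⟨-, c, hcE, hcK, hc1⟩ := D.part_ne ht htE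
      have hv : IsConj z (p * t) := by
        rw [show p * t = k * (z * (k⁻¹ * t * k)) * k⁻¹ by rw [← hkp]; group]
        exact (isConj_conj_iff k).2 hzt1
      have hv2 : p * t * (p * t) = 1 := by
        rw [show p * t * (p * t) = p * (t * p) * t by group, ← hpt, ← mul_assoc, hp2, one_mul, D.isV.sq t ht.1]
      have hvc : p * t * (c : G)⁻¹ ∈ E := by
        rw [mul_assoc]; exact E.mul_mem hpE hcE
      have := D.inner_mem ((H0 z π E).mul_mem hpH (D.isV.le_H0 ht.1)) hv2 hv hvc hcK hc1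
      exact hpV ((V.mul_mem_cancel_right ht.1).1 this)

/-- The same with any conjugate of `z` in the subgroup. -/
theorem strong {t v y o : G} (ht : IsD z V t) (hv : v ∈ V) (hvz : IsConj z v) (hy : y * t = t * y) (ho : o ∈ V)
    (hoz : IsConj z o) (hu : y * o * y⁻¹ * v = v * (y * o * y⁻¹)) : y * o * y⁻¹ ∈ V := by
  obtain ⟨x, rfl⟩ := isConj_iff.1 hvz
  obtain ⟨n, hn, hne⟩ := D.fuse D.isV.z_mem hv
  rw [← hne] at hu
  have h := D.strong_z (t := n⁻¹ * t * n) (y := n⁻¹ * y * n) (o := n⁻¹ * o * n)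
    (by simpa using IsD.conj D (inv_mem hn) ht)
    (by calc n⁻¹ * y * n * (n⁻¹ * t * n) = n⁻¹ * (y * t) * n := by group
          _ = _ := by rw [hy]; group)
    (by simpa using D.conj_mem (inv_mem hn) ho)
    (by rw [← isConj_conj_iff n, show n * (n⁻¹ * o * n) * n⁻¹ = o by group]; exact hoz)
    (by
      calc n⁻¹ * y * n * (n⁻¹ * o * n) * (n⁻¹ * y * n)⁻¹ * z = n⁻¹ * (y * o * y⁻¹ * (n * z * n⁻¹)) * n := by group
        _ = _ := by rw [hu]; group)
  have h' := D.conj_mem hn h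
  rwa [show n * (n⁻¹ * y * n * (n⁻¹ * o * n) * (n⁻¹ * y * n)⁻¹) * n⁻¹ = y * o * y⁻¹ by group] at h'

/-- A conjugate of `z` whose product with a given element of the small class is one as well. -/
theorem exists_far {t : G} (ht : IsD z V t) : ∃ b ∈ V, IsConj z b ∧ IsConj z (b * t) := by
  suffices key : ∃ b ∈ V, IsConj z b ∧ IsConj z (b * vec 260) by
    obtain ⟨n, hn, rfl⟩ := D.D_trans D.seed_IsD ht
    obtain ⟨b, hb, h1, h2⟩ := key
    refine ⟨n * b * n⁻¹, D.conj_mem hn hb, (isConj_conj_iff n).2 h1, ?_⟩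
    rw [show n * b * n⁻¹ * (n * vec 260 * n⁻¹) = n * (b * vec 260) * n⁻¹ by group]
    exact (isConj_conj_iff n).2 h2
  obtain ⟨c, hcp, hc2, -, hzc, hcV, hcE⟩ := D.exists_bad (y := ((hexS.getD 1 []).map g).prod) D.hexS_mem (fun h => by
    have := D.full.S16.distinct (1 : Fin 16) 0 (by
      show ((hexS.getD 1 []).map g).prod = ((hexS.getD 0 []).map g).prod
      rw [h, D.hexS_zero])
    exact absurd this (by decide))
  have hcK : J.proj c ∈ hexK g := hcp ▸ D.hexS_mem
  have hc1 : J.proj c ≠ 1 := fun h => hcE (by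
    rcases J.small_of_proj_one h (Or.inl hc2) with k | k <;> rw [k]
    exacts [E.one_mem, J.s.z_mem])
  refine ⟨z * c, V.mul_mem D.isV.z_mem hcV, hzc, ?_⟩
  have h260 : vec 260 ∈ E := D.full.Mo.coords.mem 260 (by norm_num)
  have e : z * (c : G) * vec 260 = z * vec 260 * c := by
    rw [mul_assoc, D.isV.comm _ hcV _ D.seed_IsD.1, ← mul_assoc]
  rw [e]
  refine D.conj_classes.2.2.1 c hc2 hcK hc1 _ ⟨V.mul_mem D.isV.z_mem D.seed_IsD.1, E.mul_mem J.s.z_mem h260⟩ fun h => ?_
  have h' := (tc z E (c : G)).mul_mem (J.z_mem_tc (mem_CZ.1 c.2).1) h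
  rw [← mul_assoc, J.zz, one_mul] at h'
  obtain ⟨p, hp, he, -⟩ := D.five_of_tc hc2 hcK hc1 h'
  have hp16 : p.1 < 16 := by
    have : fiveL.all (fun p => decide (p.1 < 16)) = true := by decide
    exact of_decide_eq_true (List.all_eq_true.1 this p hp)
  have h1 := D.full.S16.distinct ⟨1, by norm_num⟩ ⟨p.1, hp16⟩ (hcp.symm.trans he)
  have : (fiveL.map Prod.fst).contains 1 = false := by decide
  rw [List.contains_iff_mem.2 (List.mem_map.2 ⟨p, hp, (congrArg Fin.val h1).symm⟩)] at this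
  exact Bool.noConfusion this

/-- **The centralizer of an element of the small class normalizes the subgroup.** -/
theorem cent_le_normalizer {t x : G} (ht : IsD z V t) (hx : x * t = t * x) :
    x ∈ Subgroup.normalizer (V : Set G) := by
  classical
  by_contra hxN
  have hxt : x⁻¹ * t = t * x⁻¹ := (Commute.inv_left (show Commute x t from hx)).eq
  set W := V.map (MulAut.conj x).toMonoidHom with hW
  have hWm : ∀ w, w ∈ W ↔ x⁻¹ * w * x ∈ V := fun w => by
    rw [hW, Subgroup.mem_map_equiv, MulAut.conj_symm_apply]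
  set Dd := V ⊓ W with hDd
  have hfree : ∀ f ∈ Dd, ¬ IsConj z f := by
    intro f hf hc
    obtain ⟨hfV, hfW⟩ := Subgroup.mem_inf.1 hf
    refine hxN (D.fuse_cent (a := x⁻¹ * f * x) ((hWm f).1 hfW) ?_ ht hx ?_)
    · rw [← isConj_conj_iff x, show x * (x⁻¹ * f * x) * x⁻¹ = f by group]; exact hc
    · rw [show x * (x⁻¹ * f * x) * x⁻¹ = f by group]; exact hfV
  have htD : t ∈ Dd := ⟨ht.1, (hWm t).2 (by rw [hxt, inv_mul_cancel_right]; exact ht.1)⟩
  have hD4 := D.free_le (F := Dd) inf_le_left hfree htD ht.2.1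
  have hDis : ∀ f ∈ Dd, f ≠ 1 → IsD z V f := fun f hf h1 => ⟨(Subgroup.mem_inf.1 hf).1, h1, hfree f hf⟩
  -- the first element
  obtain ⟨a, ha, haz, hat, haD⟩ : ∃ a ∈ V, IsConj z a ∧ ¬ IsConj z (a * t) ∧ ∀ f ∈ Dd, f ≠ 1 → ¬ IsConj z (a * f) := by
    by_cases hex : ∃ s ∈ Dd, s ≠ 1 ∧ s ≠ t
    · obtain ⟨s, hs, hs1, hst⟩ := hex
      have hts1 : t * s ≠ 1 := fun h =>
        hst ((eq_inv_of_mul_eq_one_right h).trans (inv_eq_of_mul_eq_one_right (D.isV.sq t ht.1)))
      obtain ⟨a, ha, haz, h1, h2, h3⟩ := D.exists_common ht (hDis s hs hs1) (hDis _ (Dd.mul_mem htD hs) hts1)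
      have hsub : ↑({1, t, s, t * s} : Finset G) ⊆ (Dd : Set G) := by
        simp only [Finset.coe_insert, Finset.coe_singleton, Set.insert_subset_iff, Set.singleton_subset_iff]
        exact ⟨Dd.one_mem, htD, hs, Dd.mul_mem htD hs⟩
      have hc4 : ({1, t, s, t * s} : Finset G).card = 4 := by
        rw [Finset.card_eq_four]
        exact ⟨1, t, s, t * s, ht.2.1.symm, hs1.symm, hts1.symm, hst.symm,
          fun h => hs1 (mul_eq_left.1 h.symm), fun h => ht.2.1 (mul_eq_right.1 h.symm), rfl⟩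
      have heq := Set.eq_of_subset_of_ncard_le hsub (by
        rw [Set.ncard_coe_finset, hc4, ← Nat.card_coe_set_eq]; simpa using hD4) (Set.toFinite _)
      refine ⟨a, ha, haz, h1.2.2, fun f hf hf1 => ?_⟩
      have hf' : f ∈ (↑({1, t, s, t * s} : Finset G) : Set G) := heq ▸ hf
      simp only [Finset.coe_insert, Finset.coe_singleton, Set.mem_insert_iff, Set.mem_singleton_iff] at hf'
      rcases hf' with rfl | rfl | rfl | rfl
      exacts [absurd rfl hf1, h1.2.2, h2.2.2, h3.2.2]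
    · push Not at hex
      obtain ⟨n, hn, hne⟩ := D.D_trans D.seed_IsD ht
      obtain ⟨s, -, -, -, a, ha, haz, h1, -, -⟩ := D.exists_cross_common
      have h' : ¬ IsConj z (n * a * n⁻¹ * t) := by
        rw [← hne, show n * a * n⁻¹ * (n * vec 260 * n⁻¹) = n * (a * vec 260) * n⁻¹ by group, isConj_conj_iff]
        exact h1.2.2
      refine ⟨n * a * n⁻¹, D.conj_mem hn ha, (isConj_conj_iff n).2 haz, h', fun f hf hf1 => ?_⟩
      rw [hex f hf hf1]
      exact h'
  obtain ⟨b, hb, hbz, hbt⟩ := D.exists_far ht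
  set b' := x * b * x⁻¹ with hb'
  have ha2 := D.isV.sq a ha
  have hb2 : b' * b' = 1 := by
    rw [hb', show x * b * x⁻¹ * (x * b * x⁻¹) = x * (b * b) * x⁻¹ by group, D.isV.sq b hb]; group
  have hai : a⁻¹ = a := inv_eq_of_mul_eq_one_right ha2
  have hbi : b'⁻¹ = b' := inv_eq_of_mul_eq_one_right hb2
  have hab't : b' * t = t * b' := by
    calc b' * t = x * b * (x⁻¹ * t) := by rw [hb']; group
      _ = x * (b * t) * x⁻¹ := by rw [hxt]; group
      _ = (x * t) * b * x⁻¹ := by rw [D.isV.comm b hb t ht.1]; group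
      _ = _ := by rw [hx, hb']; group
  obtain ⟨r, hr⟩ : ∃ r, r = a * b' := ⟨_, rfl⟩
  have hrt : Commute r t := hr ▸ (show Commute a t from D.isV.comm a ha t ht.1).mul_left hab't
  have hab : b' = a * r := by rw [hr, ← mul_assoc, ha2, one_mul]
  have hflip : ∀ i : ℕ, a * r ^ i * a⁻¹ = (r ^ i)⁻¹ := fun i => by
    rw [← conj_pow, ← inv_pow]
    congr 1
    rw [hr, mul_inv_rev, hbi, hai]
    calc a * (a * b') * a = (a * a) * b' * a := by group
      _ = b' * a := by rw [ha2, one_mul]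
  have hmove : ∀ i l : ℕ, (r ^ i)⁻¹ * (a * r ^ l) * r ^ i = a * r ^ (i + i + l) := fun i l => by
    rw [← hflip i, hai]
    calc a * r ^ i * a * (a * r ^ l) * r ^ i = a * r ^ i * ((a * a) * r ^ l) * r ^ i := by group
      _ = a * (r ^ i * r ^ l * r ^ i) := by rw [ha2, one_mul]; group
      _ = _ := by rw [← pow_add, ← pow_add, show i + l + i = i + i + l by omega]
  have hmove' : ∀ i l : ℕ, ((r ^ i)⁻¹) * (a * r ^ l) * ((r ^ i)⁻¹)⁻¹ = a * r ^ (i + i + l) := fun i l => by
    rw [inv_inv, hmove]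
  have hrit : ∀ i : ℕ, (r ^ i)⁻¹ * t = t * (r ^ i)⁻¹ := fun i => ((hrt.pow_left i).inv_left).eq
  have hnr : ∀ k : G, k * t = t * k → k * a * k⁻¹ ≠ b' := by
    intro k hk hkb
    apply hat
    rw [← isConj_conj_iff (x⁻¹ * k)]
    have e : x⁻¹ * k * (a * t) * (x⁻¹ * k)⁻¹ = b * t := by
      calc x⁻¹ * k * (a * t) * (x⁻¹ * k)⁻¹ = x⁻¹ * (k * a * k⁻¹) * (k * t * k⁻¹) * x := by group
        _ = x⁻¹ * b' * t * x := by rw [hkb, hk, mul_inv_cancel_right]
        _ = b * (x⁻¹ * t) * x := by rw [hb']; group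
        _ = b * t := by rw [hxt, ← mul_assoc, inv_mul_cancel_right]
    rw [e]
    exact hbt
  set n := orderOf r
  have hn : 0 < n := orderOf_pos r
  have heven : Even n := by
    by_contra hodd
    obtain ⟨j, hj⟩ := Nat.not_even_iff_odd.1 hodd
    refine hnr _ (hrit (j + 1)) ?_
    have := hmove' (j + 1) 0
    rw [pow_zero, mul_one, add_zero, show j + 1 + (j + 1) = n + 1 by omega, pow_succ r n, pow_orderOf_eq_one, one_mul,
      ← hab] at this
    exact this
  obtain ⟨m, hm⟩ := heven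
  set s := r ^ m with hs
  have hs2 : s * s = 1 := by rw [hs, ← pow_add, ← hm]; exact pow_orderOf_eq_one r
  have hs1 : s ≠ 1 := pow_ne_one_of_lt_orderOf (by omega) (show m < n by omega)
  have hsi : s⁻¹ = s := inv_eq_of_mul_eq_one_right hs2
  have has : a * s = s * a := by
    have h := hflip m
    rw [← hs, hsi] at h
    exact mul_inv_eq_iff_eq_mul.1 h
  have hbs : b' * s = a * r ^ (1 + m) := by rw [hab, hs, pow_add, pow_one, mul_assoc]
  have hsb : s * b' = b' * s := by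
    have hsr : Commute s r := hs ▸ (Commute.refl r).pow_left m
    rw [hab]
    exact ((show Commute s a from has.symm).mul_right hsr).eq
  -- `a s` and `b' s` as conjugates
  obtain ⟨y, y', o, o', ho, ho', hoz, ho'z, hy, hy', hya, hyb⟩ : ∃ y y' o o' : G, o ∈ V ∧ o' ∈ V ∧ IsConj z o ∧
      IsConj z o' ∧ y * t = t * y ∧ y' * t = t * y' ∧ y * o * y⁻¹ = a * s ∧ y' * o' * y'⁻¹ = b' * s := by
    rcases Nat.even_or_odd m with ⟨j, hj⟩ | ⟨j, hj⟩
    · refine ⟨(r ^ j)⁻¹, (r ^ j)⁻¹ * x, a, b, ha, hb, haz, hbz, hrit j,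
        ((show Commute (r ^ j)⁻¹ t from hrit j).mul_left (show Commute x t from hx)).eq, ?_, ?_⟩
      · have := hmove' j 0
        rw [pow_zero, mul_one, add_zero, ← hj] at this
        exact this
      · have := hmove' j 1
        rw [pow_one, ← hab, show j + j + 1 = 1 + m by omega, ← hbs] at this
        rw [← this, hb']; group
    · refine ⟨(r ^ j)⁻¹ * x, (r ^ (j + 1))⁻¹, b, a, hb, ha, hbz, haz,
        ((show Commute (r ^ j)⁻¹ t from hrit j).mul_left (show Commute x t from hx)).eq, hrit (j + 1), ?_, ?_⟩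
      · have := hmove' j 1
        rw [pow_one, ← hab, show j + j + 1 = m by omega, ← hs] at this
        rw [← this, hb']; group
      · have := hmove' (j + 1) 0
        rw [pow_zero, mul_one, add_zero, show j + 1 + (j + 1) = 1 + m by omega, ← hbs] at this
        exact this
  have hsV : s ∈ V := by
    have h := D.strong ht ha haz hy ho hoz (by
      rw [hya, mul_assoc, ← has])
    rw [hya] at h
    exact (V.mul_mem_cancel_left ha).1 h
  have hsW : s ∈ W := by
    refine (hWm s).2 ?_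
    have e : x⁻¹ * y' * o' * (x⁻¹ * y')⁻¹ = b * (x⁻¹ * s * x) := by
      calc x⁻¹ * y' * o' * (x⁻¹ * y')⁻¹ = x⁻¹ * (y' * o' * y'⁻¹) * x := by group
        _ = _ := by rw [hyb, hb']; group
    have h := D.strong ht hb hbz (y := x⁻¹ * y')
      (((show Commute x⁻¹ t from hxt).mul_left (show Commute y' t from hy')).eq) ho' ho'z (by
        rw [e, mul_assoc]
        congr 1
        calc x⁻¹ * s * x * b = x⁻¹ * (s * b') * x := by rw [hb']; group
          _ = x⁻¹ * (b' * s) * x := by rw [hsb]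
          _ = _ := by rw [hb']; group)
    rw [e] at h
    exact (V.mul_mem_cancel_left hb).1 h
  refine haD s ⟨hsV, hsW⟩ hs1 ?_
  rw [← hya]
  exact (isConj_conj_iff y).2 hoz

end Ctx.Std

end CfsgLib.JFour
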