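import Cfsg.Agent.Lib.JFour.VData

/-!
# Checks on the orbits
-/

set_option autoImplicit false
set_option maxRecDepth 100000
set_option Elab.async false

namespace CfsgLib.JFour

theorem move_ok : (List.range 6).all (fun k => okB (moveI.getD k []) && okB (moveB.getD k []) &&
    comp (moveB.getD k []) (moveI.getD k []) == idB) = true ∧ moveI.length = 6 := by decide +kernel

theorem layA_ok : linked layA = true ∧ single (layA.getD 0 0) 76 = true := by decide +kernel

theorem layB_ok : linked layB = true ∧ single (layB.getD 0 0) 260 = true := by decide +kernel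

theorem layC_ok : linked layC = true ∧ single (layC.getD 0 0) 6 = true := by decide +kernel

theorem cover_ok : (List.range 4096).all (fun n =>
    Nat.beq n 0 || inLay layA n || inLay layB n || inLay layC n) = true := by decide +kernel

theorem count_layB : ((List.range 4096).filter (inLay layB)).length = 1386 := by decide +kernel

theorem gA_count : ((List.range 4096).filter fun n => inLay layB n && Nat.beq (ap gA n) n).length = 3 := by
  decide +kernel

theorem u_ok : discovered uA 76 = true ∧ discovered uB 260 = true ∧
    fixV.all (fun n => Nat.beq n 0 || uA.contains n || uB.contains n) = true ∧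
    (uA ++ uB).all (fixP hexW) = true ∧ normB.all okB = true ∧
    uA.length = 45 ∧ uB.length = 18 ∧ (uA ++ uB).Nodup ∧ fixV.length = 64 ∧ uB.all (inLay layB) = true ∧
    uA.all (inLay layA) = true := by decide +kernel

theorem nbr_ok : uB.all (fun d => !uB.contains (Nat.xor 260 d) || Nat.beq d 520 || Nat.beq d 780) = true ∧
    ap gW0 260 = 520 ∧ ap gW0 520 = 780 ∧ Nat.xor 260 520 = 780 := by decide +kernel

theorem five_ok : fiveL.all (fun p => Nat.beq (Nat.xor (ap (hexB p.1) p.2) p.2) 260 &&
      bb p.2 520 && bb p.2 780) = true ∧
    restL.all (fun p => Nat.beq (ap (hexB p.1) p.2) p.2 && bb p.2 260) = true ∧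
    (List.range 16).all (fun i => Nat.beq i 0 || (fiveL.map Prod.fst).contains i ||
      (restL.map Prod.fst).contains i) = true ∧
    Nat.beq (ap (sB 2 (wordB MS (normW.getD 2 []))) 260) 260 = true ∧
    (List.range 16).all (fun i => okB (hexB i)) = true := by decide +kernel

theorem six_ok' : fiveW.all (fun w => w.all (fun k => decide (k < 5)) &&
      fixV.any fun u => Nat.beq (ap (wordB MS w) u) 76) = true ∧
    stabW.all (fun w => w.all (fun k => decide (k < 5)) && okB (wordB MS w) && Nat.beq (ap (wordB MS w) 76) 76) = true := by
  decide +kernel

theorem stab_ok : (List.range 4096).all (fun n => !inLay layB n || bb n 76 ||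
    (fiveW.any fun w => uB.any fun u => Nat.beq (ap (wordB MS w) u) n) ||
    stabW.any fun w => bb n (ap (wordB MS w) n)) = true := by decide +kernel

end CfsgLib.JFour
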