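import Cfsg.Agent.Lib.JFour.VNorm

/-!
# The classes of the elements of the standard subgroup under its normalizer in `C(z)`

Inside `E` there are two classes besides `1` and `z`.  Over each nontrivial element of the hexad
subgroup the elements `u c` fall into those with `u` a commutator of `c`, which are conjugate under
`E` to `c` or `c z`, and the others, which form one class.
-/

set_option autoImplicit false
set_option maxRecDepth 100000
set_option linter.style.haveILetI false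
set_option linter.unusedSectionVars false

open Cfsg

namespace CfsgLib.JFour

variable {G : Type*} [Group G] [Finite G] {M : Type*} [Group M] [Finite M] {z π : G} {E : Subgroup G}

/-- An order of discovery of the fifteen listed products. -/
def permOrder : List ℕ := [1, 2, 12, 15, 11, 5, 6, 4, 8, 3, 13, 10, 14, 9, 7]

theorem permOrder_ok : (List.range permOrder.length).all (fun i => Nat.beq (permOrder.getD i 0) 1 ||
      (List.range i).any fun j => (List.range 2).any fun s =>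
        Nat.beq ((normPerm.getD s []).getD (permOrder.getD j 0) 0) (permOrder.getD i 0)) = true ∧
    (List.range 16).all (fun i => Nat.beq i 0 || permOrder.contains i) = true ∧
    permOrder.all (fun i => decide (i < 16)) = true := by decide +kernel

namespace Ctx.Std

variable {J : Ctx M z π E} {g : ℕ → M} {vec : ℕ → G} {V : Subgroup G} (D : J.Std g vec V)
include D

/-- Being conjugate under the part of the normalizer in `C(z)`. -/
theorem conj_trans {x y w : G}
    (h1 : ∃ d ∈ Subgroup.normalizer (V : Set G), d * z = z * d ∧ d * x * d⁻¹ = y)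
    (h2 : ∃ d ∈ Subgroup.normalizer (V : Set G), d * z = z * d ∧ d * y * d⁻¹ = w) :
    ∃ d ∈ Subgroup.normalizer (V : Set G), d * z = z * d ∧ d * x * d⁻¹ = w := by
  obtain ⟨d, hd, hdz, e1⟩ := h1
  obtain ⟨d', hd', hdz', e2⟩ := h2
  exact ⟨d' * d, mul_mem hd' hd, ((show Commute d' z from hdz').mul_left (show Commute d z from hdz)).eq,
    by rw [← e2, ← e1]; group⟩

/-- Vectors of the fixed space are conjugate to their translates by `z`. -/
theorem flip {e : G} (he : e ∈ E) (h1 : e ≠ 1) (hz : e ≠ z) :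
    ∃ d ∈ Subgroup.normalizer (V : Set G), d * z = z * d ∧ d * e * d⁻¹ = z * e := by
  obtain ⟨u, hu, hue⟩ := J.s.exists_move he h1 hz
  exact ⟨u, D.E_le hu, J.s.z_comm hu, hue⟩

theorem of_rel {x y e : G} (he : e ∈ E) (h1 : e ≠ 1) (hz : e ≠ z) (h : Rel z y e)
    (hx : ∃ d ∈ Subgroup.normalizer (V : Set G), d * z = z * d ∧ d * x * d⁻¹ = e) :
    ∃ d ∈ Subgroup.normalizer (V : Set G), d * z = z * d ∧ d * x * d⁻¹ = y := by
  rcases h with rfl | rfl
  · exact hx
  · exact D.conj_trans hx (D.flip he h1 hz)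

theorem vec_ne {n : ℕ} (hn : n < 4096) (h0 : n ≠ 0) : vec n ≠ 1 ∧ vec n ≠ z :=
  ⟨fun h => h0 (D.full.Mo.coords.inj n hn (Or.inl h)),
    fun h => h0 (D.full.Mo.coords.inj n hn (Or.inr (by rw [h, mul_one])))⟩

/-- An orbit in the fixed space. -/
theorem conj_of_discovered {L : List ℕ} {seed : ℕ} (hd : discovered L seed = true) (hs : seed < 4096)
    (hs0 : seed ≠ 0) {i : ℕ} (hi : i < L.length) :
    L.getD i 0 < 4096 ∧ L.getD i 0 ≠ 0 ∧
      ∃ d ∈ Subgroup.normalizer (V : Set G), d * z = z * d ∧ d * vec seed * d⁻¹ = vec (L.getD i 0) := by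
  induction i using Nat.strong_induction_on with
  | _ i ih =>
    have h := List.all_eq_true.1 hd i (List.mem_range.2 hi)
    simp only [Bool.or_eq_true, Nat.beq_eq, List.any_eq_true, List.mem_range] at h
    rcases h with h | ⟨j, hj, B, hB, hBe⟩
    · rw [h]
      exact ⟨hs, hs0, 1, one_mem _, by simp, by group⟩
    obtain ⟨hj1, hj0, hj2⟩ := ih j hj (hj.trans hi)
    obtain ⟨d, hdN, hdA⟩ := D.exists_normB hB
    have hd0 := hdA.2 _ hj1
    rw [hBe] at hd0
    have hlt : L.getD i 0 < 4096 := hBe ▸ okB_lt hdA.1 _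
    have hdz := (mem_CZ.1 d.2).1
    have hj' := D.vec_ne hj1 hj0
    have hne : L.getD i 0 ≠ 0 := by
      intro h0
      rw [h0] at hd0
      have h1 := J.rel_trans hd0 (D.full.Mo.coords.rel_zero J)
      rcases h1 with k | k
      · rw [mul_inv_eq_one, mul_eq_left] at k; exact hj'.1 k
      · rw [mul_one, mul_inv_eq_iff_eq_mul, ← hdz, mul_right_inj] at k; exact hj'.2 k
    refine ⟨hlt, hne, ?_⟩
    have hv := D.vec_ne hlt hne
    have hR := J.rel_symm hd0
    have hm : (d : G) * vec (L.getD j 0) * (d : G)⁻¹ ∈ E := J.conjE hdz (D.full.Mo.coords.mem _ hj1)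
    refine D.of_rel hm (fun k => ?_) (fun k => ?_) hR (D.conj_trans hj2 ⟨_, hdN, hdz, rfl⟩)
    · rw [mul_inv_eq_one, mul_eq_left] at k; exact hj'.1 k
    · rw [mul_inv_eq_iff_eq_mul, ← hdz, mul_right_inj] at k; exact hj'.2 k

/-- The two classes in `E`. -/
theorem inE_cases {e : G} (he : e ∈ V) (heE : e ∈ E) (h1 : e ≠ 1) (hz : e ≠ z) :
    ∃ n < 4096, Rel z e (vec n) ∧
      ((n ∈ uA ∧ ∃ d ∈ Subgroup.normalizer (V : Set G), d * z = z * d ∧ d * vec 76 * d⁻¹ = e) ∨
       (n ∈ uB ∧ ∃ d ∈ Subgroup.normalizer (V : Set G), d * z = z * d ∧ d * vec 260 * d⁻¹ = e)) := by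
  obtain ⟨n, hn, hr, hiff⟩ := J.vec_mem D.full.Mo.coords (A := V) D.isV.z_mem heE
  refine ⟨n, hn, hr, ?_⟩
  have hfix : n ∈ fixV := List.mem_filter.2 ⟨List.mem_range.2 hn, (D.full.vec_mem_V D.isV hn).1 (hiff.1 he)⟩
  have h := List.all_eq_true.1 u_ok.2.2.1 n hfix
  simp only [Bool.or_eq_true, Nat.beq_eq, List.contains_iff_mem] at h
  rcases h with (h | h) | h
  · exfalso
    subst h
    rcases J.rel_trans hr (D.full.Mo.coords.rel_zero J) with k | k
    · exact h1 k
    · exact hz (by rwa [mul_one] at k)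
  all_goals
    obtain ⟨i, hi, rfl⟩ := List.getElem_of_mem h
  · obtain ⟨-, h0, hd⟩ := D.conj_of_discovered u_ok.1 (by norm_num) (by norm_num) hi
    rw [List.getD_eq_getElem _ _ hi] at h0 hd
    have hv := D.vec_ne hn h0
    exact Or.inl ⟨h, D.of_rel (D.full.Mo.coords.mem _ hn) hv.1 hv.2 hr hd⟩
  · obtain ⟨-, h0, hd⟩ := D.conj_of_discovered u_ok.2.1 (by norm_num) (by norm_num) hi
    rw [List.getD_eq_getElem _ _ hi] at h0 hd
    have hv := D.vec_ne hn h0
    exact Or.inr ⟨h, D.of_rel (D.full.Mo.coords.mem _ hn) hv.1 hv.2 hr hd⟩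

/-- A lift of an involution has exactly one conjugate of `z` among it and its translate. -/
theorem z_or_zc {c : ↥(CZ z π)} (hc2 : (c : G) * c = 1) (h1 : J.proj c ≠ 1) :
    (IsConj z (c : G) ∧ ¬ IsConj z (z * c)) ∨ (IsConj z (z * c) ∧ ¬ IsConj z (c : G)) := by
  obtain ⟨a, b, P, -, w, h, hw, hwne, hh, hha⟩ := D.full.fus
  have hwz := JFourLocal.not_conj_wz J D.small D.full.T D.full.hC D.full.hdim P hw hwne hh hha
  have hw2 : w * w = 1 := by
    rw [← hh, show h * z * h⁻¹ * (h * z * h⁻¹) = h * (z * z) * h⁻¹ by group, J.zz]; group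
  have hw1 : J.proj ⟨w, hw⟩ ≠ 1 := fun e => by
    rcases J.small_of_proj_one e (Or.inl hw2) with k | k
    · change w = 1 at k
      rw [k, mul_inv_eq_one] at hh
      exact J.z_ne (mul_eq_left.1 hh)
    · exact hwne k
  have ho : ∀ {t : ↥(CZ z π)}, (t : G) * t = 1 → J.proj t ≠ 1 → orderOf (J.proj t) = 2 := fun {t} ht2 ht =>
    orderOf_eq_prime (by rw [pow_two, ← map_mul, show t * t = 1 from Subtype.ext ht2, map_one]) ht
  obtain ⟨m, hm⟩ := isConj_iff.1 (D.small.invol_conj _ _ (ho hw2 hw1) (ho hc2 h1))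
  obtain ⟨d, rfl⟩ := J.proj_surj m
  have hdz := (mem_CZ.1 d.2).1
  have hd2 : ((d * ⟨w, hw⟩ * d⁻¹ : ↥(CZ z π)) : G) * (d * ⟨w, hw⟩ * d⁻¹ : ↥(CZ z π)) = 1 := by
    calc _ = (d : G) * (w * w) * (d : G)⁻¹ := by simp only [Subgroup.coe_mul, InvMemClass.coe_inv]; group
      _ = 1 := by rw [hw2]; group
  have key : ∀ {s : G}, s = (d : G) * w * (d : G)⁻¹ → IsConj z s ∧ ¬ IsConj z (z * s) := by
    intro s hs
    refine ⟨isConj_iff.2 ⟨(d : G) * h, by rw [hs, ← hh]; group⟩, fun hc => ?_⟩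
    obtain ⟨k, hk⟩ := isConj_iff.1 hc
    refine hwz ((d : G)⁻¹ * k) ?_
    calc (d : G)⁻¹ * k * z * ((d : G)⁻¹ * k)⁻¹ = (d : G)⁻¹ * (k * z * k⁻¹) * d := by group
      _ = (d : G)⁻¹ * z * ((d : G) * w * (d : G)⁻¹) * d := by rw [hk, hs]; group
      _ = z * w := by
        rw [(Commute.inv_left (show Commute (d : G) z from hdz)).eq]; group
      _ = w * z := (mem_CZ.1 hw).1.symm
  rcases J.lift_unique hd2 hc2 (by rw [map_mul, map_mul, map_inv, hm]) with k | k
  · simp only [Subgroup.coe_mul, InvMemClass.coe_inv] at k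
    exact Or.inl (key k)
  · simp only [Subgroup.coe_mul, InvMemClass.coe_inv] at k
    refine Or.inr ?_
    have e : z * (c : G) = (d : G) * w * (d : G)⁻¹ := by rw [k, ← mul_assoc, J.zz, one_mul]
    have := key e
    rwa [← mul_assoc z z (c : G), J.zz, one_mul] at this

theorem hexK_trans_aux {i : ℕ} (hi : i < permOrder.length) :
    ∃ d : ↥(CZ z π), J.proj d ∈ Subgroup.normalizer (hexK g : Set M) ∧
      J.proj d * ((hexS.getD 1 []).map g).prod * (J.proj d)⁻¹ = ((hexS.getD (permOrder.getD i 0) []).map g).prod := by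
  induction i using Nat.strong_induction_on with
  | _ i ih =>
    have h := List.all_eq_true.1 permOrder_ok.1 i (List.mem_range.2 hi)
    simp only [Bool.or_eq_true, Nat.beq_eq, List.any_eq_true, List.mem_range] at h
    rcases h with h | ⟨j, hj, s, hs, he⟩
    · exact ⟨1, by rw [map_one]; exact one_mem _, by rw [h, map_one]; group⟩
    obtain ⟨d, hd, hd'⟩ := ih j hj (hj.trans hi)
    have hjl : j < permOrder.length := hj.trans hi
    have hlt : permOrder.getD j 0 < 16 := by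
      rw [List.getD_eq_getElem _ _ hjl]
      exact of_decide_eq_true (List.all_eq_true.1 permOrder_ok.2.2 _ (List.getElem_mem _))
    obtain ⟨d', hd''⟩ : ∃ d' : ↥(CZ z π), J.proj d' = ((normW.getD s []).map g).prod := J.proj_surj _
    refine ⟨d' * d, by rw [map_mul, hd'']; exact mul_mem (D.normW_mem hs) hd, ?_⟩
    have hq : (normW.getD s [], permOrder.getD j 0, (normPerm.getD s []).getD (permOrder.getD j 0) 0) ∈ conjL :=
      List.mem_append_left _ (List.mem_flatMap.2 ⟨s, List.mem_range.2 hs,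
        List.mem_map.2 ⟨_, List.mem_range.2 hlt, rfl⟩⟩)
    have hc := D.full.H.conjW _ hq
    simp only [List.map_append, List.prod_append, he] at hc
    rw [map_mul, hd'']
    rw [show ((normW.getD s []).map g).prod * J.proj d * ((hexS.getD 1 []).map g).prod *
        (((normW.getD s []).map g).prod * J.proj d)⁻¹ = ((normW.getD s []).map g).prod *
        (J.proj d * ((hexS.getD 1 []).map g).prod * (J.proj d)⁻¹) * (((normW.getD s []).map g).prod)⁻¹ by group,
      hd', hc, mul_inv_cancel_right]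

theorem hexS_zero : ((hexS.getD 0 []).map g).prod = 1 := by
  rw [show hexS.getD 0 [] = [] by decide]; rfl

/-- The normalizer of the hexad subgroup is transitive on its involutions. -/
theorem hexK_trans {y y' : M} (hy : y ∈ hexK g) (hy1 : y ≠ 1) (hy' : y' ∈ hexK g) (hy'1 : y' ≠ 1) :
    ∃ d : ↥(CZ z π), J.proj d ∈ Subgroup.normalizer (hexK g : Set M) ∧ J.proj d * y * (J.proj d)⁻¹ = y' := by
  have key : ∀ {y : M}, y ∈ hexK g → y ≠ 1 → ∃ d : ↥(CZ z π), J.proj d ∈ Subgroup.normalizer (hexK g : Set M) ∧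
      J.proj d * ((hexS.getD 1 []).map g).prod * (J.proj d)⁻¹ = y := by
    intro y hy hy1
    obtain ⟨i, hi, rfl⟩ := D.hexK_card_eq.2 y hy
    have h := List.all_eq_true.1 permOrder_ok.2.1 i (List.mem_range.2 hi)
    simp only [Bool.or_eq_true, Nat.beq_eq, List.contains_iff_mem] at h
    rcases h with rfl | h
    · exact absurd D.hexS_zero hy1
    obtain ⟨j, hj, rfl⟩ := List.getElem_of_mem h
    have := D.hexK_trans_aux hj
    rwa [List.getD_eq_getElem _ _ hj] at this
  obtain ⟨d, hd, e⟩ := key hy hy1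
  obtain ⟨d', hd', e'⟩ := key hy' hy'1
  refine ⟨d' * d⁻¹, by rw [map_mul, map_inv]; exact mul_mem hd' (inv_mem hd), ?_⟩
  rw [← e', ← e, map_mul, map_inv]
  group

section Cross

variable {c : ↥(CZ z π)} (hc2 : (c : G) * c = 1) (hcK : J.proj c ∈ hexK g) (hc1 : J.proj c ≠ 1)
include hc2 hcK hc1

theorem lift_ne : (c : G) ≠ 1 ∧ (c : G) ≠ z := by
  constructor <;> intro h <;> apply hc1
  · rw [show c = 1 from Subtype.ext h, map_one]
  · rw [show c = ⟨z, J.z_mem_CZ⟩ from Subtype.ext h, J.proj_z]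

theorem card_tc : Nat.card (tc z E (c : G)) = 2 ^ 5 := by
  have := J.card_tc_mul_fx (mem_CZ.1 c.2).1
  rw [D.full.hdim _ c.2 hc2 (D.lift_ne hc2 hcK hc1).1 (D.lift_ne hc2 hcK hc1).2] at this
  norm_num at this ⊢
  omega

theorem tc_le : tc z E (c : G) ≤ V ⊓ E := by
  have hcV := D.isV.lift c hc2 hcK
  refine (Subgroup.closure_le _).2 ?_
  rintro x ⟨e, he, hx⟩
  have h : (c : G) * e * (c : G)⁻¹ * e⁻¹ ∈ V ⊓ E := by
    refine ⟨?_, E.mul_mem (J.conjE (mem_CZ.1 c.2).1 he) (E.inv_mem he)⟩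
    rw [show (c : G) * e * (c : G)⁻¹ * e⁻¹ = (c : G) * (e * (c : G)⁻¹ * e⁻¹) by group]
    exact V.mul_mem hcV (D.conj_mem (D.E_le he) (V.inv_mem hcV))
  rcases hx with k | k <;> rw [k]
  · exact h
  · exact mul_mem (show z ∈ V ⊓ E from ⟨D.isV.z_mem, J.s.z_mem⟩) h

theorem inf_le_fx : V ⊓ E ≤ fx z E (c : G) := fun u hu =>
  (J.mem_fx (mem_CZ.1 c.2).1).2 ⟨(Subgroup.mem_inf.1 hu).2,
    Or.inl (by rw [D.isV.comm _ (D.isV.lift c hc2 hcK) u (Subgroup.mem_inf.1 hu).1, mul_inv_cancel_right])⟩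

/-- The elements over commutators are conjugate under `E` to the lift or its translate. -/
theorem conj_tc {u : G} (hu : u ∈ tc z E (c : G)) :
    ∃ e ∈ E, e * (c : G) * e⁻¹ = u * c ∨ e * (z * c) * e⁻¹ = u * c := by
  obtain ⟨f, hf, hr⟩ := (J.mem_tc (mem_CZ.1 c.2).1).1 hu
  have hci : (c : G)⁻¹ = c := inv_eq_of_mul_eq_one_right hc2
  set r := (c : G) * f * (c : G)⁻¹ * f⁻¹ with hr'
  have hrE : r ∈ E := mul_mem (J.conjE (mem_CZ.1 c.2).1 hf) (inv_mem hf)
  -- `f` conjugates to the inverse commutator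
  have h1 : Rel z (f * c * f⁻¹) (u * c) := by
    have e1 : f * c * f⁻¹ = r⁻¹ * c := by
      rw [hr']; group
    rw [e1]
    exact J.rel_mul (J.s.z_comm (J.rel_mem hr hrE)) (J.rel_trans (J.rel_inv hrE) (J.rel_symm hr)) (J.rel_refl _)
  refine ⟨f, hf, ?_⟩
  rcases h1 with k | k
  · exact Or.inl k
  · refine Or.inr ?_
    rw [← mul_assoc f z, J.s.z_comm hf, mul_assoc, mul_assoc, ← mul_assoc f, k, ← mul_assoc, J.zz, one_mul]

theorem exists_flip_cross {u : G} (hu : u ∈ V ⊓ E) (hut : u ∉ tc z E (c : G)) :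
    ∃ d ∈ Subgroup.normalizer (V : Set G), d * z = z * d ∧ d * (u * c) * d⁻¹ = z * (u * c) := by
  obtain ⟨f, hf, hfu⟩ : ∃ f ∈ fx z E (c : G), f * u ≠ u * f := by
    by_contra hno
    push Not at hno
    apply hut
    rw [← J.perp_fx (mem_CZ.1 c.2).1]
    exact mem_perp.2 ⟨(Subgroup.mem_inf.1 hu).2, hno⟩
  have hfE : f ∈ E := J.fx_le (mem_CZ.1 c.2).1 hf
  refine ⟨f, D.E_le hfE, J.s.z_comm hfE, ?_⟩
  have hcf : f * c * f⁻¹ = (c : G) := by rw [← J.comm_of_fx c.2 hf, mul_inv_cancel_right]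
  calc f * (u * c) * f⁻¹ = (f * u * f⁻¹) * (f * c * f⁻¹) := by group
    _ = z * u * c := by
      rw [hcf, (J.s.comm_cases hfE (Subgroup.mem_inf.1 hu).2).resolve_left fun h => hfu (mul_inv_eq_iff_eq_mul.1 h)]
    _ = _ := mul_assoc _ _ _

omit hc2 hcK hc1 in
theorem tc_pi {s : G} (hs : s ∈ tc z E (c : G)) :
    π * s * π⁻¹ ∈ tc z E (c : G) ∧ π⁻¹ * s * π ∈ tc z E (c : G) := by
  obtain ⟨hcz, hcp⟩ := mem_CZ.1 c.2
  obtain ⟨f, hf, hr⟩ := (J.mem_tc hcz).1 hs
  constructor
  · refine (J.mem_tc hcz).2 ⟨π * f * π⁻¹, J.conjE J.piz hf, ?_⟩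
    have := J.rel_conj J.piz hr
    convert this using 1
    calc (c : G) * (π * f * π⁻¹) * (c : G)⁻¹ * (π * f * π⁻¹)⁻¹
        = ((c : G) * π) * f * ((c : G) * π)⁻¹ * π * f⁻¹ * π⁻¹ := by group
      _ = _ := by rw [hcp]; group
  · refine (J.mem_tc hcz).2 ⟨π⁻¹ * f * π, J.conjE' J.piz hf, ?_⟩
    have hpz : π⁻¹ * z = z * π⁻¹ := (Commute.inv_left (show Commute π z from J.piz)).eq
    have hcp' : (c : G) * π⁻¹ = π⁻¹ * c := (Commute.inv_right (show Commute (c : G) π from hcp)).eq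
    have := J.rel_conj hpz hr
    rw [inv_inv] at this
    convert this using 1
    calc (c : G) * (π⁻¹ * f * π) * (c : G)⁻¹ * (π⁻¹ * f * π)⁻¹
        = ((c : G) * π⁻¹) * f * ((c : G) * π⁻¹)⁻¹ * π⁻¹ * f⁻¹ * π := by group
      _ = _ := by rw [hcp']; group

/-- The elements over non-commutators form one class. -/
theorem conj_cross {u u' : G} (hu : u ∈ V ⊓ E) (hut : u ∉ tc z E (c : G)) (hu' : u' ∈ V ⊓ E)
    (hu't : u' ∉ tc z E (c : G)) :
    ∃ d ∈ Subgroup.normalizer (V : Set G), d * z = z * d ∧ d * (u * c) * d⁻¹ = u' * c := by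
  classical
  obtain ⟨hcz, hcp⟩ := mem_CZ.1 c.2
  set T := tc z E (c : G) with hT
  have huE := (Subgroup.mem_inf.1 hu).2
  have huV := (Subgroup.mem_inf.1 hu).1
  set u1 := π * u * π⁻¹ with hu1
  set u2 := π⁻¹ * u * π with hu2
  have hu1' : u1 ∈ V ⊓ E := ⟨D.conj_mem D.pi_mem huV, J.conjE J.piz huE⟩
  have hu2' : u2 ∈ V ⊓ E := ⟨by simpa [hu2] using D.conj_mem (inv_mem D.pi_mem) huV, J.conjE' J.piz huE⟩
  have h1t : u1 ∉ T := fun h => hut (by
    have := (D.tc_pi h).2; rwa [hu1, show π⁻¹ * (π * u * π⁻¹) * π = u by group] at this)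
  have h2t : u2 ∉ T := fun h => hut (by
    have := (D.tc_pi h).1; rwa [hu2, show π * (π⁻¹ * u * π) * π⁻¹ = u by group] at this)
  have h1u : u1 * u⁻¹ ∉ T := by
    intro h
    apply hut
    have h2 : u2 * u⁻¹ ∈ T := by
      have := inv_mem (D.tc_pi h).2
      rwa [hu1, show (π⁻¹ * (π * u * π⁻¹ * u⁻¹) * π)⁻¹ = π⁻¹ * u * π * u⁻¹ by group, ← hu2] at this
    rcases J.decomp huE with k | k <;> rw [k]
    · exact mul_mem h h2
    · exact mul_mem (J.z_mem_tc hcz) (mul_mem h h2)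
  have h2u : u2 * u⁻¹ ∉ T := fun h => h1u (by
    have := inv_mem (D.tc_pi h).1
    rwa [hu2, show (π * (π⁻¹ * u * π * u⁻¹) * π⁻¹)⁻¹ = π * u * π⁻¹ * u⁻¹ by group, ← hu1] at this)
  have h12 : u1 * u2⁻¹ ∉ T := by
    intro h
    refine h1u ?_
    have := inv_mem (D.tc_pi h).1
    have e : π * π * u * (π * π)⁻¹ = u2 := by rw [hu2, ← J.pi_inv, inv_inv]
    rw [hu2, show (π * (u1 * (π⁻¹ * u * π)⁻¹) * π⁻¹)⁻¹ = u * (π * u1 * π⁻¹)⁻¹ by group, hu1,
      show π * (π * u * π⁻¹) * π⁻¹ = π * π * u * (π * π)⁻¹ by group, e] at this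
    exact absurd (by simpa using inv_mem this : u2 * u⁻¹ ∈ T) h2u
  -- the four cosets cover
  have hTU : T ≤ V ⊓ E := D.tc_le hc2 hcK hc1
  let r : Fin 4 → G := ![1, u, u1, u2]
  have hrU : ∀ i, r i ∈ V ⊓ E := by
    intro i; fin_cases i <;> simp only [r]
    exacts [one_mem _, hu, hu1', hu2']
  let F : Fin 4 × ↥T → ↥(V ⊓ E) := fun p => ⟨r p.1 * p.2, mul_mem (hrU p.1) (hTU p.2.2)⟩
  have hinj : Function.Injective F := by
    rintro ⟨i, s⟩ ⟨j, s'⟩ h
    have h' : r i * s = r j * s' := congrArg Subtype.val h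
    have hd : (r j)⁻¹ * r i ∈ T := by
      rw [show (r j)⁻¹ * r i = (s' : G) * (s : G)⁻¹ by rw [inv_mul_eq_iff_eq_mul, ← mul_assoc, ← h']; group]
      exact mul_mem s'.2 (inv_mem s.2)
    have hd' : r i * (r j)⁻¹ ∈ T := by
      have e := D.isV.comm _ (Subgroup.mem_inf.1 (hrU i)).1 _ (inv_mem (Subgroup.mem_inf.1 (hrU j)).1)
      rwa [e]
    have hij : i = j := by
      have hi : ∀ {x : G}, x⁻¹ ∈ T → x ∈ T := fun h => by simpa using inv_mem h
      fin_cases i <;> fin_cases j <;> simp only [r] at hd' ⊢ <;>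
        first
        | rfl
        | exact absurd (by simpa using hd') hut
        | exact absurd (by simpa using hd') h1t
        | exact absurd (by simpa using hd') h2t
        | exact absurd (hi (by simpa using hd')) hut
        | exact absurd (hi (by simpa using hd')) h1t
        | exact absurd (hi (by simpa using hd')) h2t
        | exact absurd (by simpa using hd') h1u
        | exact absurd (by simpa using hd') h2u
        | exact absurd (by simpa using hd') h12
        | exact absurd (hi (by simpa using hd')) h1u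
        | exact absurd (hi (by simpa using hd')) h2u
        | exact absurd (hi (by simpa using hd')) h12
    subst hij
    exact Prod.ext rfl (Subtype.ext (mul_left_cancel h'))
  letI := Fintype.ofFinite ↥(V ⊓ E)
  letI := Fintype.ofFinite ↥T
  have hsurj := ((Fintype.bijective_iff_injective_and_card F).2 ⟨hinj, by
    rw [Fintype.card_prod, Fintype.card_fin, ← Nat.card_eq_fintype_card, ← Nat.card_eq_fintype_card,
      hT, D.card_tc hc2 hcK hc1, D.full.card_inf_E D.isV]; norm_num⟩).2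
  obtain ⟨⟨i, s⟩, his⟩ := hsurj ⟨u', hu'⟩
  have hu'e : r i * s = u' := congrArg Subtype.val his
  -- conjugating
  have hpz : π⁻¹ * z = z * π⁻¹ := (Commute.inv_left (show Commute π z from J.piz)).eq
  have hpow : ∃ d ∈ Subgroup.normalizer (V : Set G), d * z = z * d ∧ d * (u * c) * d⁻¹ = r i * c := by
    fin_cases i <;> simp only [r] at hu'e ⊢
    · exfalso
      refine hu't (hu'e ▸ ?_)
      simp
    · exact ⟨1, one_mem _, by simp, by simp⟩
    · refine ⟨π, D.pi_mem, J.piz, ?_⟩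
      calc π * (u * c) * π⁻¹ = π * u * π⁻¹ * (π * c * π⁻¹) := by group
        _ = u1 * c := by rw [← hcp, mul_inv_cancel_right, hu1]
    · refine ⟨π⁻¹, inv_mem D.pi_mem, hpz, ?_⟩
      have hcp' : (c : G) * π = π * c := hcp
      calc π⁻¹ * (u * c) * π⁻¹⁻¹ = π⁻¹ * u * π * (π⁻¹ * ((c : G) * π)) := by group
        _ = u2 * c := by rw [hcp', inv_mul_cancel_left, hu2]
  obtain ⟨f, hf, hfe⟩ := D.conj_tc hc2 hcK hc1 s.2
  have hri := (Subgroup.mem_inf.1 (hrU i))
  have h2 : ∃ d ∈ Subgroup.normalizer (V : Set G), d * z = z * d ∧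
      (d * (r i * c) * d⁻¹ = u' * c ∨ d * (r i * c) * d⁻¹ = z * (u' * c)) := by
    refine ⟨f, D.E_le hf, J.s.z_comm hf, ?_⟩
    have hfr := J.s.comm_cases hf hri.2
    have e : f * (r i * c) * f⁻¹ = (f * r i * f⁻¹) * (f * c * f⁻¹) := by group
    have hfc : f * c * f⁻¹ = (s : G) * c ∨ f * c * f⁻¹ = z * ((s : G) * c) := by
      rcases hfe with k | k
      · exact Or.inl k
      · refine Or.inr ?_
        calc f * c * f⁻¹ = z * z * (f * c * f⁻¹) := by rw [J.zz, one_mul]
          _ = z * (z * f * c * f⁻¹) := by group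
          _ = z * (f * z * c * f⁻¹) := by rw [J.s.z_comm hf]
          _ = z * (f * (z * c) * f⁻¹) := by group
          _ = _ := by rw [k]
    have hzr : r i * z = z * r i := J.s.z_comm hri.2
    rw [e]
    rcases hfr with k | k <;> rcases hfc with k' | k' <;> rw [k, k']
    · exact Or.inl (by rw [← hu'e, mul_assoc])
    · exact Or.inr (by rw [← mul_assoc (r i) z, hzr, ← hu'e]; group)
    · exact Or.inr (by rw [← hu'e]; group)
    · refine Or.inl ?_
      rw [mul_assoc, ← mul_assoc (r i) z, hzr, mul_assoc z (r i), ← mul_assoc z z, J.zz, one_mul, ← hu'e, mul_assoc]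
  obtain ⟨d2, hd2, hd2z, hd2e | hd2e⟩ := h2
  · exact D.conj_trans hpow ⟨d2, hd2, hd2z, hd2e⟩
  · obtain ⟨d3, hd3, hd3z, hd3e⟩ := D.exists_flip_cross hc2 hcK hc1 hu' hu't
    refine D.conj_trans (D.conj_trans hpow ⟨d2, hd2, hd2z, hd2e⟩) ⟨d3, hd3, hd3z, ?_⟩
    rw [← mul_assoc d3 z, hd3z, mul_assoc, mul_assoc, ← mul_assoc d3, hd3e, ← mul_assoc, J.zz, one_mul]

end Cross

end Ctx.Std

end CfsgLib.JFour
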