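import Cfsg.Agent.Lib.JFour.VClasses

/-!
# The conjugates of `z` in the standard subgroup

Their number is determined by three unknown truth values.  It divides the order of the normalizer, whose
prime divisors act on the subgroup, and this leaves 1771 only.  The other 276 elements form one class.
-/

set_option autoImplicit false
set_option maxRecDepth 100000
set_option linter.style.haveILetI false
set_option linter.unusedSectionVars false

open Cfsg

namespace CfsgLib.JFour

variable {G : Type*} [Group G] [Finite G] {M : Type*} [Group M] [Finite M] {z π : G} {E : Subgroup G}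

/-- An element of the standard subgroup not conjugate to `z`. -/
def IsD (z : G) (V : Subgroup G) (t : G) : Prop := t ∈ V ∧ t ≠ 1 ∧ ¬ IsConj z t

theorem isConj_conj_iff {G : Type*} [Group G] {z v : G} (d : G) : IsConj z (d * v * d⁻¹) ↔ IsConj z v :=
  ⟨fun h => h.trans (isConj_iff.2 ⟨d⁻¹, by group⟩), fun h => h.trans (isConj_iff.2 ⟨d, rfl⟩)⟩

theorem conj_ne_one {G : Type*} [Group G] {z v : G} (hz : z ≠ 1) (h : IsConj z v) : v ≠ 1 := by
  rintro rfl
  exact hz (isConj_one_right.1 h.symm)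

/-- The number of elements. -/
theorem count_vals : ∀ n ∈ [241, 277, 331, 367, 1681, 1717, 1807],
    ∃ p ∈ [241, 277, 331, 367, 41, 101, 139], p ∣ n := by decide +kernel

theorem prime_vals : ∀ p ∈ [241, 277, 331, 367, 41, 101, 139], ∀ f < 11, ¬ p ∣ 2 ^ 11 - 2 ^ f := by decide +kernel

namespace Ctx.Std

variable {J : Ctx M z π E} {g : ℕ → M} {vec : ℕ → G} {V : Subgroup G} (D : J.Std g vec V)
include D

/-- A prime divisor of the order of the normalizer acts on the subgroup. -/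
theorem no_prime {p : ℕ} (hp : p.Prime) (hd : p ∣ Nat.card ↥(Subgroup.normalizer (V : Set G))) (hp2 : p ≠ 2)
    (hf : ∀ f < 11, ¬ p ∣ 2 ^ 11 - 2 ^ f) : False := by
  classical
  haveI := Fact.mk hp
  obtain ⟨x, hx⟩ := exists_prime_orderOf_dvd_card' (G := ↥(Subgroup.normalizer (V : Set G))) p hd
  let A := Subgroup.zpowers x
  letI : MulAction ↥A ↥V :=
    { smul := fun a v => ⟨((a : ↥(Subgroup.normalizer (V : Set G))) : G) * v *
        ((a : ↥(Subgroup.normalizer (V : Set G))) : G)⁻¹, D.conj_mem (a : ↥(Subgroup.normalizer (V : Set G))).2 v.2⟩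
      one_smul := fun v => Subtype.ext (by show (1 : G) * v * (1 : G)⁻¹ = v; group)
      mul_smul := fun a b v => Subtype.ext (by
        show (((a * b : ↥A) : ↥(Subgroup.normalizer (V : Set G))) : G) * v * _ = _
        simp only [Subgroup.coe_mul, mul_inv_rev]
        show _ = (((a : ↥(Subgroup.normalizer (V : Set G))) : G) * (((b : ↥(Subgroup.normalizer (V : Set G))) : G) * v *
          ((b : ↥(Subgroup.normalizer (V : Set G))) : G)⁻¹) * ((a : ↥(Subgroup.normalizer (V : Set G))) : G)⁻¹)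
        group) }
  have hA : IsPGroup p ↥A := IsPGroup.of_card (n := 1) (by rw [Nat.card_zpowers, hx, pow_one])
  have hmod := hA.card_modEq_card_fixedPoints (α := ↥V)
  set F := V ⊓ Subgroup.centralizer ({((x : ↥(Subgroup.normalizer (V : Set G))) : G)} : Set G) with hF
  have hfix : Nat.card (MulAction.fixedPoints ↥A ↥V) = Nat.card F := by
    refine Nat.card_congr ⟨fun v => ⟨(v.1 : G), v.1.2, Subgroup.mem_centralizer_singleton_iff.2 ?_⟩,
      fun v => ⟨⟨v, v.2.1⟩, ?_⟩, fun v => Subtype.ext (Subtype.ext rfl), fun v => rfl⟩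
    · have h : (x : G) * (v.1 : G) * (x : G)⁻¹ = v.1 :=
        congrArg Subtype.val (v.2 ⟨x, Subgroup.mem_zpowers x⟩)
      exact (mul_inv_eq_iff_eq_mul.1 h).symm
    · rintro ⟨a, ha⟩
      obtain ⟨i, rfl⟩ := Subgroup.mem_zpowers_iff.1 ha
      refine Subtype.ext ?_
      show ((x ^ i : ↥(Subgroup.normalizer (V : Set G))) : G) * v * ((x ^ i : ↥(Subgroup.normalizer (V : Set G))) : G)⁻¹ = v
      have hc : Commute ((x : G) ^ i) (v : G) :=
        (show Commute (x : G) (v : G) from (Subgroup.mem_centralizer_singleton_iff.1 v.2.2).symm).zpow_left i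
      rw [SubgroupClass.coe_zpow, hc.eq, mul_inv_cancel_right]
  rw [hfix, D.isV.card] at hmod
  obtain ⟨f, hf11, hfc⟩ := (Nat.dvd_prime_pow Nat.prime_two).1
    (show Nat.card F ∣ 2 ^ 11 from D.isV.card ▸ Subgroup.card_dvd_of_le inf_le_left)
  rw [hfc] at hmod
  rcases lt_or_eq_of_le hf11 with h | h
  · exact hf f h ((Nat.modEq_iff_dvd' (Nat.pow_le_pow_right (by norm_num) hf11)).1 hmod.symm)
  · have heq : F = V := Subgroup.eq_of_le_of_card_ge inf_le_left (by rw [D.isV.card, hfc, h])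
    have hxV : (x : G) ∈ V := D.centralizer_le (Subgroup.mem_centralizer_iff.2 fun v hv =>
      Subgroup.mem_centralizer_singleton_iff.1 (heq.ge hv).2)
    have h1 : orderOf (x : G) ∣ 2 := orderOf_dvd_of_pow_eq_one (by rw [pow_two]; exact D.isV.sq _ hxV)
    rw [Subgroup.orderOf_coe, hx] at h1
    rcases (Nat.dvd_prime Nat.prime_two).1 h1 with e | e
    · exact hp.ne_one e
    · exact hp2 e

/-- The elements over a list of vectors of the fixed space. -/
theorem ncard_list {L : List ℕ} (hL : L.Nodup) (hlt : ∀ n ∈ L, n < 4096 ∧ n ≠ 0) :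
    Set.ncard {u : G | ∃ n ∈ L, Rel z u (vec n)} = 2 * L.length := by
  classical
  let f : Fin 2 × Fin L.length → G := fun p => z ^ (p.1 : ℕ) * vec (L.get p.2)
  have hinj : Function.Injective f := by
    rintro ⟨i, m⟩ ⟨j, n⟩ h
    have hmn : m = n := by
      apply hL.injective_get
      refine (D.full.Mo.coords.rel_iff J (hlt _ (List.get_mem L m)).1 (hlt _ (List.get_mem L n)).1).1 ?_
      have h' : z ^ (i : ℕ) * vec (L.get m) = z ^ (j : ℕ) * vec (L.get n) := h
      fin_cases i <;> fin_cases j <;> simp at h' ⊢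
      · exact Or.inl h'
      · exact Or.inr h'
      · exact J.rel_symm (Or.inr h'.symm)
      · exact Or.inl h'
    subst hmn
    have h2 := mul_right_cancel (show z ^ (i : ℕ) * vec (L.get m) = z ^ (j : ℕ) * vec (L.get m) from h)
    refine Prod.ext ?_ rfl
    fin_cases i <;> fin_cases j <;> simp at h2 ⊢
    · exact J.z_ne h2.symm
    · exact J.z_ne h2
  have he : {u : G | ∃ n ∈ L, Rel z u (vec n)} = Set.range f := by
    ext u
    constructor
    · rintro ⟨n, hn, h⟩
      obtain ⟨m, rfl⟩ := List.mem_iff_get.1 hn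
      rcases h with h | h
      · exact ⟨(0, m), by simp [f, h]⟩
      · exact ⟨(1, m), by simp [f, h]⟩
    · rintro ⟨⟨i, m⟩, rfl⟩
      refine ⟨_, List.get_mem L m, ?_⟩
      fin_cases i
      · exact Or.inl (by simp [f])
      · exact Or.inr (by simp [f])
  rw [he, Set.ncard_range_of_injective hinj, Nat.card_prod, Nat.card_fin, Nat.card_fin]

theorem uA_mem {n : ℕ} (hn : n ∈ uA ++ uB) : n < 4096 ∧ n ≠ 0 := by
  have : (uA ++ uB).all (fun n => decide (n < 4096 ∧ n ≠ 0)) = true := by decide +kernel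
  exact of_decide_eq_true (List.all_eq_true.1 this n hn)

theorem ncard_uA : Set.ncard {u : G | ∃ n ∈ uA, Rel z u (vec n)} = 90 := by
  rw [D.ncard_list (List.nodup_append.1 u_ok.2.2.2.2.2.2.2.1).1 (fun n hn => D.uA_mem (List.mem_append_left _ hn)),
    u_ok.2.2.2.2.2.1]

theorem ncard_uB : Set.ncard {u : G | ∃ n ∈ uB, Rel z u (vec n)} = 36 := by
  rw [D.ncard_list (List.nodup_append.1 u_ok.2.2.2.2.2.2.2.1).2.1 (fun n hn => D.uA_mem (List.mem_append_right _ hn)),
    u_ok.2.2.2.2.2.2.1]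

theorem disjoint_uAB {u : G} {m n : ℕ} (hm : m ∈ uA) (hn : n ∈ uB) (h : Rel z u (vec m)) (h' : Rel z u (vec n)) :
    False := by
  have e := (D.full.Mo.coords.rel_iff J (D.uA_mem (List.mem_append_left _ hm)).1
    (D.uA_mem (List.mem_append_right _ hn)).1).1 (J.rel_trans (J.rel_symm h) h')
  subst e
  exact (List.nodup_append.1 u_ok.2.2.2.2.2.2.2.1).2.2 m hm m hn rfl

/-- The vectors of the two lists lie in the subgroup. -/
theorem mem_of_list {u : G} {n : ℕ} (hn : n ∈ uA ++ uB) (h : Rel z u (vec n)) :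
    u ∈ V ∧ u ∈ E ∧ u ≠ 1 ∧ u ≠ z := by
  obtain ⟨hlt, h0⟩ := D.uA_mem hn
  have hv := (D.full.vec_mem_V D.isV hlt).2 (List.all_eq_true.1 u_ok.2.2.2.1 n hn)
  have hne := D.vec_ne hlt h0
  have hE := D.full.Mo.coords.mem n hlt
  rcases h with k | k <;> rw [k]
  · exact ⟨hv, hE, hne.1, hne.2⟩
  · refine ⟨V.mul_mem D.isV.z_mem hv, E.mul_mem J.s.z_mem hE, fun e => hne.2 ?_, fun e => hne.1 (mul_eq_left.1 e)⟩
    rw [← one_mul (vec n), ← J.zz, mul_assoc, e, mul_one]

theorem uA_class {u : G} {n : ℕ} (hn : n ∈ uA) (h : Rel z u (vec n)) : IsConj z u ↔ IsConj z (vec 76) := by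
  obtain ⟨hV, hE, h1, hz⟩ := D.mem_of_list (List.mem_append_left _ hn) h
  obtain ⟨m, -, hr, ⟨-, d, -, -, he⟩ | ⟨hm, -⟩⟩ := D.inE_cases hV hE h1 hz
  · rw [← he, isConj_conj_iff]
  · exact (D.disjoint_uAB hn hm h hr).elim

theorem uB_class {u : G} {n : ℕ} (hn : n ∈ uB) (h : Rel z u (vec n)) : IsConj z u ↔ IsConj z (vec 260) := by
  obtain ⟨hV, hE, h1, hz⟩ := D.mem_of_list (List.mem_append_right _ hn) h
  obtain ⟨m, -, hr, ⟨hm, -⟩ | ⟨-, d, -, -, he⟩⟩ := D.inE_cases hV hE h1 hz
  · exact (D.disjoint_uAB hm hn hr h).elim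
  · rw [← he, isConj_conj_iff]

/-- The count inside `E`. -/
theorem count_E : ∃ a b : Bool, (a = true ↔ IsConj z (vec 76)) ∧ (b = true ↔ IsConj z (vec 260)) ∧
    Set.ncard {u : G | u ∈ V ⊓ E ∧ IsConj z u} = 1 + (if a then 90 else 0) + (if b then 36 else 0) := by
  classical
  refine ⟨decide (IsConj z (vec 76)), decide (IsConj z (vec 260)), by simp, by simp, ?_⟩
  simp only [decide_eq_true_eq]
  set A := {u : G | ∃ n ∈ uA, Rel z u (vec n)}
  set B := {u : G | ∃ n ∈ uB, Rel z u (vec n)}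
  have hset : {u : G | u ∈ V ⊓ E ∧ IsConj z u} =
      insert z ((if IsConj z (vec 76) then A else ∅) ∪ (if IsConj z (vec 260) then B else ∅)) := by
    ext u
    simp only [Set.mem_ofPred_eq, Set.mem_insert_iff, Set.mem_union]
    constructor
    · rintro ⟨hu, hc⟩
      by_cases huz : u = z
      · exact Or.inl huz
      obtain ⟨n, -, hr, ⟨hn, -⟩ | ⟨hn, -⟩⟩ := D.inE_cases (Subgroup.mem_inf.1 hu).1 (Subgroup.mem_inf.1 hu).2
        (conj_ne_one J.z_ne hc) huz
      · exact Or.inr (Or.inl (by rw [if_pos ((D.uA_class hn hr).1 hc)]; exact ⟨n, hn, hr⟩))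
      · exact Or.inr (Or.inr (by rw [if_pos ((D.uB_class hn hr).1 hc)]; exact ⟨n, hn, hr⟩))
    · rintro (rfl | h | h)
      · exact ⟨⟨D.isV.z_mem, J.s.z_mem⟩, IsConj.refl u⟩
      all_goals
        split_ifs at h with hc
        swap
        · exact absurd h (Set.notMem_empty u)
        obtain ⟨n, hn, hr⟩ := h
      · obtain ⟨h1, h2, -⟩ := D.mem_of_list (List.mem_append_left _ hn) hr
        exact ⟨⟨h1, h2⟩, (D.uA_class hn hr).2 hc⟩
      · obtain ⟨h1, h2, -⟩ := D.mem_of_list (List.mem_append_right _ hn) hr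
        exact ⟨⟨h1, h2⟩, (D.uB_class hn hr).2 hc⟩
  have hzA : ∀ {n : ℕ}, n ∈ uA ++ uB → ¬ Rel z z (vec n) := fun hn h => (D.mem_of_list hn h).2.2.2 rfl
  have hdis : Disjoint (if IsConj z (vec 76) then A else ∅) (if IsConj z (vec 260) then B else ∅) := by
    refine Set.disjoint_left.2 fun u h h' => ?_
    split_ifs at h h'
    all_goals first
      | exact absurd h (Set.notMem_empty u)
      | exact absurd h' (Set.notMem_empty u)
      | exact D.disjoint_uAB h.choose_spec.1 h'.choose_spec.1 h.choose_spec.2 h'.choose_spec.2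
  rw [hset, Set.ncard_insert_of_notMem ?_ (Set.toFinite _), Set.ncard_union_eq hdis (Set.toFinite _) (Set.toFinite _)]
  · have hA : Set.ncard (if IsConj z (vec 76) then A else ∅) = if IsConj z (vec 76) then 90 else 0 := by
      split_ifs
      · exact D.ncard_uA
      · exact Set.ncard_empty _
    have hB : Set.ncard (if IsConj z (vec 260) then B else ∅) = if IsConj z (vec 260) then 36 else 0 := by
      split_ifs
      · exact D.ncard_uB
      · exact Set.ncard_empty _
    rw [hA, hB]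
    omega
  · intro h
    rcases h with h | h <;> split_ifs at h
    · obtain ⟨n, hn, hr⟩ := h
      exact hzA (List.mem_append_left _ hn) hr
    · exact absurd h (Set.notMem_empty z)
    · obtain ⟨n, hn, hr⟩ := h
      exact hzA (List.mem_append_right _ hn) hr
    · exact absurd h (Set.notMem_empty z)

/-- The statement that the classes outside the commutators consist of conjugates of `z`. -/
def Far (J : Ctx M z π E) (g : ℕ → M) (V : Subgroup G) : Prop :=
  ∀ c : ↥(CZ z π), (c : G) * c = 1 → J.proj c ∈ hexK g → J.proj c ≠ 1 →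
    ∀ u ∈ V ⊓ E, u ∉ tc z E (c : G) → IsConj z (u * c)

/-- The classes outside the commutators agree. -/
theorem far_or : Far J g V ∨ ∀ c : ↥(CZ z π), (c : G) * c = 1 → J.proj c ∈ hexK g → J.proj c ≠ 1 →
    ∀ u ∈ V ⊓ E, u ∉ tc z E (c : G) → ¬ IsConj z (u * c) := by
  classical
  by_contra hcon
  rw [not_or] at hcon
  obtain ⟨hA, hB⟩ := hcon
  simp only [Far, not_forall, not_not, exists_prop] at hA hB
  obtain ⟨c, hc2, hcK, hc1, u, hu, hut, hnc⟩ := hA
  obtain ⟨c', hc'2, hc'K, hc'1, u', hu', hu't, hyc⟩ := hB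
  obtain ⟨d, hd, hde⟩ := D.hexK_trans hcK hc1 hc'K hc'1
  have hdN := D.isV.mem_normalizer D.small hd
  obtain ⟨hdz, hdp⟩ := mem_CZ.1 d.2
  have hsq : ((d * c * d⁻¹ : ↥(CZ z π)) : G) * (d * c * d⁻¹ : ↥(CZ z π)) = 1 := by
    calc _ = (d : G) * ((c : G) * c) * (d : G)⁻¹ := by simp only [Subgroup.coe_mul, InvMemClass.coe_inv]; group
      _ = 1 := by rw [hc2]; group
  have hr := J.lift_unique hc'2 hsq (by rw [map_mul, map_mul, map_inv, hde])
  simp only [Subgroup.coe_mul, InvMemClass.coe_inv] at hr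
  set w := (d : G) * u * (d : G)⁻¹ with hw
  have hwU : w ∈ V ⊓ E := ⟨D.conj_mem hdN (Subgroup.mem_inf.1 hu).1, J.conjE hdz (Subgroup.mem_inf.1 hu).2⟩
  have hwt : w ∉ tc z E (c' : G) := by
    intro hw'
    obtain ⟨f, hf, hfr⟩ := (J.mem_tc (mem_CZ.1 c'.2).1).1 hw'
    refine hut ((J.mem_tc (mem_CZ.1 c.2).1).2 ⟨(d : G)⁻¹ * f * d, J.conjE' hdz hf, ?_⟩)
    have hdz' : (d : G)⁻¹ * z = z * (d : G)⁻¹ := (Commute.inv_left (show Commute (d : G) z from hdz)).eq
    have h2 := J.rel_conj hdz' hfr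
    rw [inv_inv, hw, show (d : G)⁻¹ * ((d : G) * u * (d : G)⁻¹) * d = u by group] at h2
    have e : (d : G)⁻¹ * ((c' : G) * f * (c' : G)⁻¹ * f⁻¹) * d =
        (c : G) * ((d : G)⁻¹ * f * d) * (c : G)⁻¹ * ((d : G)⁻¹ * f * d)⁻¹ := by
      rcases J.rel_symm hr with k | k <;> rw [k]
      · group
      · have hzf : f * z = z * f := J.s.z_comm hf
        calc (d : G)⁻¹ * (z * ((d : G) * c * (d : G)⁻¹) * f * (z * ((d : G) * c * (d : G)⁻¹))⁻¹ * f⁻¹) * d
            = (d : G)⁻¹ * (z * (((d : G) * c * (d : G)⁻¹) * f * ((d : G) * c * (d : G)⁻¹)⁻¹) * z⁻¹ * f⁻¹) * d := by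
              group
          _ = (d : G)⁻¹ * ((((d : G) * c * (d : G)⁻¹) * f * ((d : G) * c * (d : G)⁻¹)⁻¹) * f⁻¹) * d := by
              have hx : ((d : G) * c * (d : G)⁻¹) * f * ((d : G) * c * (d : G)⁻¹)⁻¹ ∈ E :=
                J.conjE (mem_CZ.1 (d * c * d⁻¹).2).1 hf
              rw [← J.s.z_comm hx, mul_inv_cancel_right]
          _ = _ := by group
    rwa [e] at h2
  have e : (d : G) * (u * c) * (d : G)⁻¹ = w * ((d : G) * c * (d : G)⁻¹) := by rw [hw]; group
  apply hnc
  rw [← isConj_conj_iff (d : G), e]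
  rcases hr with k | k <;> rw [k]
  · obtain ⟨f, -, -, hf⟩ := D.conj_cross hc'2 hc'K hc'1 hu' hu't hwU hwt
    rw [← hf, isConj_conj_iff]
    exact hyc
  · obtain ⟨f, -, -, hf⟩ := D.conj_cross hc'2 hc'K hc'1 hu' hu't hwU hwt
    obtain ⟨f', -, -, hf'⟩ := D.exists_flip_cross hc'2 hc'K hc'1 hwU hwt
    rw [← mul_assoc, J.s.z_comm (Subgroup.mem_inf.1 hwU).2, mul_assoc, ← hf', isConj_conj_iff, ← hf, isConj_conj_iff]
    exact hyc

/-- The count over a nontrivial element of the hexad subgroup. -/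
theorem count_cross {c : ↥(CZ z π)} (hc2 : (c : G) * c = 1) (hcK : J.proj c ∈ hexK g) (hc1 : J.proj c ≠ 1) :
    (Far J g V → Set.ncard {u : G | u ∈ V ⊓ E ∧ IsConj z (u * c)} = 112) ∧
    (¬ Far J g V → Set.ncard {u : G | u ∈ V ⊓ E ∧ IsConj z (u * c)} = 16) := by
  classical
  obtain ⟨hcz, -⟩ := mem_CZ.1 c.2
  set T := {u : G | u ∈ tc z E (c : G) ∧ IsConj z (u * c)} with hT
  have hTU := D.tc_le hc2 hcK hc1
  have hone : ∀ u ∈ tc z E (c : G), (IsConj z (u * c) ↔ ¬ IsConj z (z * u * c)) := by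
    intro u hu
    obtain ⟨e, he, h⟩ := D.conj_tc hc2 hcK hc1 hu
    have hz' : e * z * e⁻¹ = z := by rw [J.s.z_comm he, mul_inv_cancel_right]
    rcases h with h | h
    · have h' : z * u * (c : G) = e * (z * c) * e⁻¹ := by
        rw [mul_assoc, ← h, show e * (z * (c : G)) * e⁻¹ = e * z * e⁻¹ * (e * c * e⁻¹) by group, hz']
      rw [← h, h', isConj_conj_iff, isConj_conj_iff]
      rcases D.z_or_zc hc2 hc1 with k | k
      · exact iff_of_true k.1 k.2
      · exact iff_of_false k.2 (not_not.2 k.1)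
    · have h' : z * u * (c : G) = e * c * e⁻¹ := by
        rw [mul_assoc, ← h, show e * (z * (c : G)) * e⁻¹ = e * z * e⁻¹ * (e * c * e⁻¹) by group, hz', ← mul_assoc,
          J.zz, one_mul]
      rw [← h, h', isConj_conj_iff, isConj_conj_iff]
      rcases D.z_or_zc hc2 hc1 with k | k
      · exact iff_of_false k.2 (not_not.2 k.1)
      · exact iff_of_true k.1 k.2
  have hTc : Set.ncard T = 16 := by
    have hunion : T ∪ (fun u => z * u) '' T = (tc z E (c : G) : Set G) := by
      ext u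
      constructor
      · rintro (h | ⟨v, hv, rfl⟩)
        · exact h.1
        · exact mul_mem (J.z_mem_tc hcz) hv.1
      · intro hu
        by_cases h : IsConj z (u * c)
        · exact Or.inl ⟨hu, h⟩
        · refine Or.inr ⟨z * u, ⟨mul_mem (J.z_mem_tc hcz) hu, ?_⟩, ?_⟩
          · rw [hone u hu, not_not] at h
            exact h
          · show z * (z * u) = u
            rw [← mul_assoc, J.zz, one_mul]
    have hdis : Disjoint T ((fun u => z * u) '' T) := by
      refine Set.disjoint_left.2 ?_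
      rintro u h ⟨v, hv, rfl⟩
      exact (hone v hv.1).1 hv.2 h.2
    have h := Set.ncard_union_eq hdis (Set.toFinite _) (Set.toFinite _)
    rw [hunion, Set.ncard_image_of_injective T (mul_right_injective z), ← Nat.card_coe_set_eq] at h
    have h' := D.card_tc hc2 hcK hc1
    simp only [SetLike.coe_sort_coe] at h
    omega
  constructor
  · intro hF
    have hset : {u : G | u ∈ V ⊓ E ∧ IsConj z (u * c)} = T ∪ (((V ⊓ E : Subgroup G) : Set G) \ (tc z E (c : G) : Set G)) := by
      ext u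
      constructor
      · rintro ⟨hu, h⟩
        by_cases ht : u ∈ tc z E (c : G)
        · exact Or.inl ⟨ht, h⟩
        · exact Or.inr ⟨hu, ht⟩
      · rintro (h | ⟨hu, ht⟩)
        · exact ⟨hTU h.1, h.2⟩
        · exact ⟨hu, hF c hc2 hcK hc1 u hu ht⟩
    rw [hset, Set.ncard_union_eq (Set.disjoint_left.2 fun u h h' => h'.2 h.1) (Set.toFinite _) (Set.toFinite _), hTc,
      Set.ncard_sdiff (show (tc z E (c : G) : Set G) ⊆ ((V ⊓ E : Subgroup G) : Set G) from hTU) (Set.toFinite _),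
      ← Nat.card_coe_set_eq, ← Nat.card_coe_set_eq]
    simp only [SetLike.coe_sort_coe]
    rw [D.card_tc hc2 hcK hc1, D.full.card_inf_E D.isV]
    norm_num
  · intro hF
    have hset : {u : G | u ∈ V ⊓ E ∧ IsConj z (u * c)} = T := by
      ext u
      constructor
      · rintro ⟨hu, h⟩
        by_contra ht
        exact (D.far_or.resolve_left hF) c hc2 hcK hc1 u hu (fun h' => ht ⟨h', h⟩) h
      · exact fun h => ⟨hTU h.1, h.2⟩
    rw [hset, hTc]

/-- The number of conjugates of `z`. -/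
theorem count_all : ∃ a b : Bool, (a = true ↔ IsConj z (vec 76)) ∧ (b = true ↔ IsConj z (vec 260)) ∧
    (Far J g V → Set.ncard {v : G | v ∈ V ∧ IsConj z v} = 1681 + (if a then 90 else 0) + (if b then 36 else 0)) ∧
    (¬ Far J g V → Set.ncard {v : G | v ∈ V ∧ IsConj z v} = 241 + (if a then 90 else 0) + (if b then 36 else 0)) := by
  classical
  obtain ⟨a, b, ha, hb, hE⟩ := D.count_E
  refine ⟨a, b, ha, hb, ?_⟩
  have hl : ∀ i : Fin 16, ∃ c : ↥(CZ z π), J.proj c = ((hexS.getD (i : ℕ) []).map g).prod ∧ (c : G) * c = 1 :=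
    fun i => J.exists_lift_invol D.small (D.full.hexK_sq _ D.hexS_mem)
  choose c hcp hc2 using hl
  have hcV : ∀ i, (c i : G) ∈ V := fun i => D.isV.lift _ (hc2 i) (hcp i ▸ D.hexS_mem)
  let F : (Σ i : Fin 16, {u : G // u ∈ V ⊓ E ∧ IsConj z (u * c i)}) → {v : G // v ∈ V ∧ IsConj z v} :=
    fun p => ⟨p.2.1 * c p.1, V.mul_mem (Subgroup.mem_inf.1 p.2.2.1).1 (hcV p.1), p.2.2.2⟩
  have hbij : Function.Bijective F := by
    constructor
    · rintro ⟨i, u, hu⟩ ⟨j, u', hu'⟩ h
      have h' : u * (c i : G) = u' * c j := congrArg Subtype.val h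
      have hij : i = j := by
        refine D.full.S16.distinct i j ?_
        rw [← hcp, ← hcp]
        refine J.proj_eq ?_
        have e : (c i : G) * (c j : G)⁻¹ = u⁻¹ * u' := by
          rw [eq_inv_mul_iff_mul_eq, ← mul_assoc, h', mul_inv_cancel_right]
        rw [e]
        exact mul_mem (inv_mem (Subgroup.mem_inf.1 hu.1).2) (Subgroup.mem_inf.1 hu'.1).2
      subst hij
      obtain rfl := mul_right_cancel h'
      rfl
    · rintro ⟨v, hv, hz⟩
      obtain ⟨c', hE', hV', hc'2, -, hc'K⟩ := D.isV.split D.small hv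
      obtain ⟨i, hi, he⟩ := D.hexK_card_eq.2 _ hc'K
      have hr := J.lift_unique (hc2 ⟨i, hi⟩) hc'2 (by rw [hcp, he])
      have hu : v * (c ⟨i, hi⟩ : G)⁻¹ ∈ V ⊓ E := by
        refine ⟨V.mul_mem hv (V.inv_mem (hcV _)), ?_⟩
        have e : v * (c ⟨i, hi⟩ : G)⁻¹ = v * (c' : G)⁻¹ * ((c' : G) * (c ⟨i, hi⟩ : G)⁻¹) := by group
        rw [e]
        refine E.mul_mem hE' ?_
        rcases hr with k | k <;> rw [k]
        · rw [mul_inv_cancel]; exact E.one_mem
        · rw [mul_inv_cancel_right]; exact J.s.z_mem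
      exact ⟨⟨⟨i, hi⟩, v * (c ⟨i, hi⟩ : G)⁻¹, hu, by simpa using hz⟩, Subtype.ext (by simp [F])⟩
  have hcard : Set.ncard {v : G | v ∈ V ∧ IsConj z v} =
      ∑ i : Fin 16, Set.ncard {u : G | u ∈ V ⊓ E ∧ IsConj z (u * c i)} := by
    rw [← Nat.card_coe_set_eq]
    refine (Nat.card_congr (Equiv.ofBijective F hbij).symm).trans ?_
    rw [Nat.card_sigma]
    rfl
  have h0 : Set.ncard {u : G | u ∈ V ⊓ E ∧ IsConj z (u * c 0)} = 1 + (if a then 90 else 0) + (if b then 36 else 0) := by
    rw [← hE]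
    have h1 : J.proj (c 0) = 1 := by rw [hcp]; exact D.hexS_zero
    rcases J.small_of_proj_one h1 (Or.inl (hc2 0)) with k | k
    · simp [k]
    · rw [k]
      have himg : {u : G | u ∈ V ⊓ E ∧ IsConj z (u * z)} = (fun u => u * z) '' {u : G | u ∈ V ⊓ E ∧ IsConj z u} := by
        ext u
        constructor
        · rintro ⟨hu, h⟩
          exact ⟨u * z, ⟨(V ⊓ E).mul_mem hu ⟨D.isV.z_mem, J.s.z_mem⟩, h⟩, by simp [mul_assoc, J.zz]⟩
        · rintro ⟨v, ⟨hv, h⟩, rfl⟩
          exact ⟨(V ⊓ E).mul_mem hv ⟨D.isV.z_mem, J.s.z_mem⟩, by rwa [mul_assoc, J.zz, mul_one]⟩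
      rw [himg, Set.ncard_image_of_injective _ (mul_left_injective z)]
  have hne : ∀ i : Fin 15, J.proj (c i.succ) ≠ 1 := fun i h => by
    rw [hcp, ← D.hexS_zero] at h
    exact Fin.succ_ne_zero i (D.full.S16.distinct i.succ 0 h)
  rw [hcard, Fin.sum_univ_succ, h0]
  constructor <;> intro hF
  · rw [Finset.sum_eq_card_nsmul fun i _ => (D.count_cross (hc2 i.succ) (hcp _ ▸ D.hexS_mem) (hne i)).1 hF]
    simp; omega
  · rw [Finset.sum_eq_card_nsmul fun i _ => (D.count_cross (hc2 i.succ) (hcp _ ▸ D.hexS_mem) (hne i)).2 hF]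
    simp; omega

/-- The conjugates of `z` form one class under the normalizer. -/
theorem orbit_eq {x : G} (hx : x ∈ V) :
    {v : G | ∃ n ∈ Subgroup.normalizer (V : Set G), n * x * n⁻¹ = v} = {v : G | v ∈ V ∧ IsConj x v} := by
  ext v
  constructor
  · rintro ⟨n, hn, rfl⟩
    exact ⟨D.conj_mem hn hx, isConj_iff.2 ⟨n, rfl⟩⟩
  · rintro ⟨hv, h⟩
    obtain ⟨k, rfl⟩ := isConj_iff.1 h
    exact D.fuse hx hv

/-- The number of conjugates divides the order of the normalizer. -/
theorem ncard_dvd : Set.ncard {v : G | v ∈ V ∧ IsConj z v} ∣ Nat.card ↥(Subgroup.normalizer (V : Set G)) := by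
  classical
  rw [← D.orbit_eq D.isV.z_mem, ← Nat.card_coe_set_eq]
  set N := Subgroup.normalizer (V : Set G)
  set C := (Subgroup.centralizer ({z} : Set G)).subgroupOf N
  let F : ↥N ⧸ C → {v : G // ∃ n ∈ N, n * z * n⁻¹ = v} := Quotient.lift
    (fun n => ⟨(n : G) * z * (n : G)⁻¹, n, n.2, rfl⟩) fun a b hab => Subtype.ext (by
      have h := Subgroup.mem_centralizer_singleton_iff.1
        (Subgroup.mem_subgroupOf.1 (QuotientGroup.leftRel_apply.1 hab))
      simp only [Subgroup.coe_mul, InvMemClass.coe_inv] at h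
      calc (a : G) * z * (a : G)⁻¹ = (a : G) * (z * ((a : G)⁻¹ * b)) * (b : G)⁻¹ := by group
        _ = (a : G) * ((a : G)⁻¹ * b * z) * (b : G)⁻¹ := by rw [h]
        _ = (b : G) * z * (b : G)⁻¹ := by group)
  have hbij : Function.Bijective F := by
    constructor
    · rintro ⟨a⟩ ⟨b⟩ h
      have h' : (a : G) * z * (a : G)⁻¹ = (b : G) * z * (b : G)⁻¹ := congrArg Subtype.val h
      refine QuotientGroup.eq.2 (Subgroup.mem_subgroupOf.2 (Subgroup.mem_centralizer_singleton_iff.2 ?_))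
      simp only [Subgroup.coe_mul, InvMemClass.coe_inv]
      calc (a : G)⁻¹ * b * z = (a : G)⁻¹ * ((b : G) * z * (b : G)⁻¹) * b := by group
        _ = z * ((a : G)⁻¹ * b) := by rw [← h']; group
    · rintro ⟨v, n, hn, rfl⟩
      exact ⟨QuotientGroup.mk ⟨n, hn⟩, rfl⟩
  have h := Subgroup.index_dvd_card C
  rw [Subgroup.index, Nat.card_congr (Equiv.ofBijective F hbij)] at h
  exact h

/-- The number of conjugates of `z` and their classes. -/
theorem conj_classes : IsConj z (vec 76) ∧ ¬ IsConj z (vec 260) ∧ Far J g V ∧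
    Set.ncard {v : G | v ∈ V ∧ IsConj z v} = 1771 := by
  classical
  obtain ⟨a, b, ha, hb, h1, h2⟩ := D.count_all
  have hbad : ∀ n ∈ [241, 277, 331, 367, 1681, 1717, 1807], Set.ncard {v : G | v ∈ V ∧ IsConj z v} ≠ n := by
    intro n hn h
    obtain ⟨p, hp, hpn⟩ := count_vals n hn
    refine D.no_prime ?_ (hpn.trans (h ▸ D.ncard_dvd)) ?_ (prime_vals p hp)
    · simp only [List.mem_cons, List.not_mem_nil, or_false] at hp
      rcases hp with rfl | rfl | rfl | rfl | rfl | rfl | rfl <;> norm_num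
    · simp only [List.mem_cons, List.not_mem_nil, or_false] at hp
      omega
  by_cases hF : Far J g V
  · have h := h1 hF
    cases a <;> cases b <;> simp only [Bool.false_eq_true, if_false, if_true, add_zero] at h ha hb
    · exact absurd h (hbad 1681 (by simp))
    · exact absurd h (hbad 1717 (by simp))
    · exact ⟨ha.1 trivial, fun k => hb.2 k, hF, h⟩
    · exact absurd h (hbad 1807 (by simp))
  · have h := h2 hF
    cases a <;> cases b <;> simp only [Bool.false_eq_true, if_false, if_true, add_zero] at h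
    · exact absurd h (hbad 241 (by simp))
    · exact absurd h (hbad 277 (by simp))
    · exact absurd h (hbad 331 (by simp))
    · exact absurd h (hbad 367 (by simp))

end Ctx.Std

end CfsgLib.JFour
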