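import Cfsg.Agent.Lib.JFour.VCount

/-!
# The 276 elements of the standard subgroup not conjugate to `z`

They are 36 in `E` and sixteen over every involution of the hexad subgroup, and form one class under
the normalizer.
-/

set_option autoImplicit false
set_option maxRecDepth 100000
set_option linter.style.haveILetI false
set_option linter.unusedSectionVars false

open Cfsg

namespace CfsgLib.JFour

variable {G : Type*} [Group G] [Finite G] {M : Type*} [Group M] [Finite M] {z π : G} {E : Subgroup G}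

namespace Ctx.Std

variable {J : Ctx M z π E} {g : ℕ → M} {vec : ℕ → G} {V : Subgroup G} (D : J.Std g vec V)
include D

/-- A representative of a vector of the orbit of a seed is conjugate to the seed in `C(z)`. -/
theorem conj_seed {ls : List ℕ} {seed : ℕ} (hseed : seed < 4096) (hs0 : seed ≠ 0)
    (h : linked ls = true ∧ single (ls.getD 0 0) seed = true) {e : G} {n : ℕ} (hn : n < 4096)
    (hin : inLay ls n = true) (hr : Rel z e (vec n)) :
    ∃ d, d * z = z * d ∧ d * vec seed * d⁻¹ = e := by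
  obtain ⟨d, hd⟩ := D.full.reach hseed h hn hin
  have hv := D.vec_ne hseed hs0
  have hdz := (mem_CZ.1 d.2).1
  rcases J.rel_trans hd (J.rel_symm hr) with k | k
  · exact ⟨d, hdz, k⟩
  · obtain ⟨u, hu, hue⟩ := J.s.exists_move (D.full.Mo.coords.mem seed hseed) hv.1 hv.2
    refine ⟨(d : G) * u, ((show Commute (d : G) z from hdz).mul_left (show Commute u z from J.s.z_comm hu)).eq, ?_⟩
    calc (d : G) * u * vec seed * ((d : G) * u)⁻¹ = (d : G) * (u * vec seed * u⁻¹) * (d : G)⁻¹ := by group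
      _ = (d : G) * z * (d : G)⁻¹ * ((d : G) * vec seed * (d : G)⁻¹) := by rw [hue]; group
      _ = e := by rw [hdz, mul_inv_cancel_right, k, ← mul_assoc, J.zz, one_mul]

theorem conj_of_layA {e : G} {n : ℕ} (hn : n < 4096) (hin : inLay layA n = true) (hr : Rel z e (vec n)) :
    IsConj z e := by
  obtain ⟨d, -, rfl⟩ := D.conj_seed (by norm_num) (by norm_num) layA_ok hn hin hr
  exact (isConj_conj_iff d).2 D.conj_classes.1

theorem not_conj_of_layB {e : G} {n : ℕ} (hn : n < 4096) (hin : inLay layB n = true) (hr : Rel z e (vec n)) :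
    ¬ IsConj z e := by
  obtain ⟨d, -, rfl⟩ := D.conj_seed (by norm_num) (by norm_num) layB_ok hn hin hr
  rw [isConj_conj_iff]
  exact D.conj_classes.2.1

/-- The two kinds of involutions of `E`. -/
theorem E_cases {e : G} (he : e ∈ E) (h2 : e * e = 1) (h1 : e ≠ 1) (hz : e ≠ z) :
    ∃ n, n < 4096 ∧ Rel z e (vec n) ∧
      ((inLay layA n = true ∧ IsConj z e) ∨ (inLay layB n = true ∧ ¬ IsConj z e)) := by
  obtain ⟨n, hn, hr⟩ := D.full.Mo.coords.surj e he
  refine ⟨n, hn, hr, ?_⟩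
  rcases D.full.vec_cases hn with k | k | k | k
  · exfalso
    subst k
    rcases J.rel_trans hr (D.full.Mo.coords.rel_zero J) with k | k
    · exact h1 k
    · exact hz (by rwa [mul_one] at k)
  · exact Or.inl ⟨k, D.conj_of_layA hn k hr⟩
  · exact Or.inr ⟨k, D.not_conj_of_layB hn k hr⟩
  · exfalso
    rw [D.full.sq_of_rel hr (D.full.Mo.coords.mem n hn), D.full.sq_one_iff D.isV hn, k] at h2
    exact Bool.noConfusion h2

/-- The translate by `z` of an element of the fixed space behaves alike. -/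
theorem z_mul_iff {e : G} (he : e ∈ E) (h1 : e ≠ 1) (hz : e ≠ z) : IsConj z (z * e) ↔ IsConj z e := by
  obtain ⟨d, -, -, hd⟩ := D.flip he h1 hz
  rw [← hd, isConj_conj_iff]

/-- An element outside `E` not conjugate to `z` is conjugate under `E` to a lift. -/
theorem cross_bad {v : G} (hv : v ∈ V) (hvE : v ∉ E) (hb : ¬ IsConj z v) :
    ∃ c : ↥(CZ z π), (c : G) * c = 1 ∧ J.proj c ∈ hexK g ∧ J.proj c ≠ 1 ∧ ¬ IsConj z (c : G) ∧
      IsConj z (z * c) ∧ v * (c : G)⁻¹ ∈ tc z E (c : G) ∧ ∃ e ∈ E, e * c * e⁻¹ = v := by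
  obtain ⟨c, hcE, hcV, hc2, -, hcK⟩ := D.isV.split D.small hv
  have hc1 : J.proj c ≠ 1 := by
    intro h
    apply hvE
    have : (c : G) ∈ E := by
      rcases J.small_of_proj_one h (Or.inl hc2) with k | k <;> rw [k]
      exacts [E.one_mem, J.s.z_mem]
    have h' := E.mul_mem hcE this
    rwa [inv_mul_cancel_right] at h'
  have hu : v * (c : G)⁻¹ ∈ tc z E (c : G) := by
    by_contra hut
    refine hb ?_
    have := D.conj_classes.2.2.1 c hc2 hcK hc1 _ ⟨hcV, hcE⟩ hut
    rwa [inv_mul_cancel_right] at this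
  obtain ⟨e, he, h⟩ := D.conj_tc hc2 hcK hc1 hu
  rw [inv_mul_cancel_right] at h
  rcases h with h | h
  · have hnc : ¬ IsConj z (c : G) := fun k => hb (h ▸ (isConj_conj_iff e).2 k)
    rcases D.z_or_zc hc2 hc1 with k | k
    · exact absurd k.1 hnc
    · exact ⟨c, hc2, hcK, hc1, k.2, k.1, hu, e, he, h⟩
  · have hnc : ¬ IsConj z (z * (c : G)) := fun k => hb (h ▸ (isConj_conj_iff e).2 k)
    rcases D.z_or_zc hc2 hc1 with k | k
    swap
    · exact absurd k.1 hnc
    let c' : ↥(CZ z π) := ⟨z, J.z_mem_CZ⟩ * c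
    have hval : (c' : G) = z * c := rfl
    have hcz := (mem_CZ.1 c.2).1
    have hp : J.proj c' = J.proj c := by rw [map_mul, J.proj_z, one_mul]
    refine ⟨c', ?_, by rw [hp]; exact hcK, by rw [hp]; exact hc1, hnc,
      by rw [hval, ← mul_assoc, J.zz, one_mul]; exact k.1, ?_, e, he, h⟩
    · rw [hval, show z * (c : G) * (z * c) = z * ((c : G) * z) * c by group, hcz, ← mul_assoc z z, J.zz, one_mul, hc2]
    · obtain ⟨f, hf, hr⟩ := (J.mem_tc hcz).1 hu
      refine (J.mem_tc (mem_CZ.1 c'.2).1).2 ⟨f, hf, ?_⟩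
      rw [hval, show z * (c : G) * f * (z * (c : G))⁻¹ = z * ((c : G) * f * (c : G)⁻¹) * z⁻¹ by group,
        ← J.s.z_comm (J.conjE hcz hf), mul_inv_cancel_right, mul_inv_rev, J.s.inv_z]
      refine J.rel_trans ?_ hr
      exact Or.inr (by rw [← mul_assoc, J.s.z_comm (show v * (c : G)⁻¹ ∈ E from hcE)])

/-- The elements outside `E` not conjugate to `z` form one class under the normalizer in `C(z)`. -/
theorem cross_trans {v v' : G} (hv : v ∈ V) (hvE : v ∉ E) (hb : ¬ IsConj z v) (hv' : v' ∈ V) (hvE' : v' ∉ E)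
    (hb' : ¬ IsConj z v') : ∃ d ∈ Subgroup.normalizer (V : Set G), d * z = z * d ∧ d * v * d⁻¹ = v' := by
  obtain ⟨c, hc2, hcK, hc1, hnc, -, -, e, he, hec⟩ := D.cross_bad hv hvE hb
  obtain ⟨c', hc'2, hc'K, hc'1, hnc', -, -, e', he', hec'⟩ := D.cross_bad hv' hvE' hb'
  obtain ⟨d, hd, hde⟩ := D.hexK_trans hcK hc1 hc'K hc'1
  have hdN := D.isV.mem_normalizer D.small hd
  have hsq : ((d * c * d⁻¹ : ↥(CZ z π)) : G) * (d * c * d⁻¹ : ↥(CZ z π)) = 1 := by
    calc _ = (d : G) * ((c : G) * c) * (d : G)⁻¹ := by simp only [Subgroup.coe_mul, InvMemClass.coe_inv]; group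
      _ = 1 := by rw [hc2]; group
  have hr := J.lift_unique hc'2 hsq (by rw [map_mul, map_mul, map_inv, hde])
  simp only [Subgroup.coe_mul, InvMemClass.coe_inv] at hr
  have h0 : e⁻¹ * v * (e⁻¹)⁻¹ = (c : G) := by rw [← hec]; group
  refine D.conj_trans (D.conj_trans ⟨e⁻¹, D.E_le (inv_mem he), J.s.z_comm (inv_mem he), h0⟩
    ⟨(d : G), hdN, (mem_CZ.1 d.2).1, ?_⟩) ⟨e', D.E_le he', J.s.z_comm he', hec'⟩
  rcases hr with k | k
  · exact k
  · exfalso
    apply hnc
    rw [← isConj_conj_iff (d : G), k]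
    rcases D.z_or_zc hc'2 hc'1 with l | l
    · exact absurd l.1 hnc'
    · exact l.1

/-- The elements in `E` not conjugate to `z` form one class under the normalizer in `C(z)`. -/
theorem inE_bad {t : G} (ht : t ∈ V) (htE : t ∈ E) (h1 : t ≠ 1) (hb : ¬ IsConj z t) :
    ∃ n ∈ uB, Rel z t (vec n) ∧
      ∃ d ∈ Subgroup.normalizer (V : Set G), d * z = z * d ∧ d * vec 260 * d⁻¹ = t := by
  have hz : t ≠ z := fun h => hb (h ▸ IsConj.refl z)
  obtain ⟨n, -, hr, ⟨-, d, -, -, rfl⟩ | ⟨hn, h⟩⟩ := D.inE_cases ht htE h1 hz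
  · exact absurd ((isConj_conj_iff d).2 D.conj_classes.1) hb
  · exact ⟨n, hn, hr, h⟩

theorem seed_IsD : IsD z V (vec 260) := by
  refine ⟨(D.full.seeds_mem D.isV).2, (D.vec_ne (by norm_num) (by norm_num)).1, D.conj_classes.2.1⟩

/-- An involutive lift not conjugate to `z` over every nontrivial element. -/
theorem exists_bad {y : M} (hy : y ∈ hexK g) (hy1 : y ≠ 1) :
    ∃ c : ↥(CZ z π), J.proj c = y ∧ (c : G) * c = 1 ∧ ¬ IsConj z (c : G) ∧ IsConj z (z * c) ∧
      (c : G) ∈ V ∧ (c : G) ∉ E := by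
  obtain ⟨c, hc, hc2⟩ := J.exists_lift_invol D.small (D.full.hexK_sq y hy)
  have key : ∀ c : ↥(CZ z π), J.proj c = y → (c : G) * c = 1 → (c : G) ∈ V ∧ (c : G) ∉ E := by
    intro c hc hc2
    refine ⟨D.isV.lift c hc2 (hc ▸ hy), fun hE => hy1 ?_⟩
    rw [← hc, show J.proj c = J.proj 1 from J.proj_eq (by simpa using hE), map_one]
  rcases D.z_or_zc hc2 (hc ▸ hy1) with h | h
  · let c' : ↥(CZ z π) := ⟨z, J.z_mem_CZ⟩ * c
    have hcz := (mem_CZ.1 c.2).1
    have hp : J.proj c' = y := by rw [map_mul, J.proj_z, one_mul, hc]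
    have h2 : (c' : G) * c' = 1 := by
      show z * (c : G) * (z * c) = 1
      rw [show z * (c : G) * (z * c) = z * ((c : G) * z) * c by group, hcz, ← mul_assoc z z, J.zz, one_mul, hc2]
    refine ⟨c', hp, h2, h.2, ?_, key c' hp h2⟩
    show IsConj z (z * (z * (c : G)))
    rw [← mul_assoc, J.zz, one_mul]
    exact h.1
  · exact ⟨c, hc, hc2, h.2, h.1, key c hc hc2⟩

theorem exists_ne_one : ∃ y ∈ hexK g, y ≠ 1 := by
  refine ⟨((hexS.getD 1 []).map g).prod, D.hexS_mem, fun h => ?_⟩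
  have := D.full.S16.distinct (1 : Fin 16) 0 (by
    show ((hexS.getD 1 []).map g).prod = ((hexS.getD 0 []).map g).prod
    rw [h, D.hexS_zero])
  exact absurd this (by decide)

/-- Some element of the normalizer moves the vector 260 out of `E`. -/
theorem exists_leave : ∃ n ∈ Subgroup.normalizer (V : Set G), n * vec 260 * n⁻¹ ∉ E := by
  by_contra hno
  push Not at hno
  obtain ⟨y, hy, hy1⟩ := D.exists_ne_one
  obtain ⟨c, hc, hc2, -, hz, hcV, hcE⟩ := D.exists_bad hy hy1
  obtain ⟨k, hk⟩ := isConj_iff.1 hz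
  obtain ⟨n, hn, hne⟩ := D.fuse (a := z) (k := k) D.isV.z_mem (by rw [hk]; exact V.mul_mem D.isV.z_mem hcV)
  obtain ⟨u, hu, -, hue⟩ := D.flip (D.full.Mo.coords.mem 260 (by norm_num))
    (D.vec_ne (by norm_num) (by norm_num : (260 : ℕ) ≠ 0)).1 (D.vec_ne (by norm_num) (by norm_num : (260 : ℕ) ≠ 0)).2
  have h1 := hno n hn
  have h2 := hno (n * u) (mul_mem hn hu)
  rw [show n * u * vec 260 * (n * u)⁻¹ = n * (u * vec 260 * u⁻¹) * n⁻¹ by group, hue,
    show n * (z * vec 260) * n⁻¹ = n * z * n⁻¹ * (n * vec 260 * n⁻¹) by group] at h2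
  have h3 := E.mul_mem h2 (E.inv_mem h1)
  rw [mul_inv_cancel_right, hne, hk] at h3
  exact hcE (by simpa [← mul_assoc, J.zz] using E.mul_mem J.s.z_mem h3)

/-- All the elements not conjugate to `z` form one class under the normalizer. -/
theorem D_trans {t t' : G} (ht : IsD z V t) (ht' : IsD z V t') :
    ∃ n ∈ Subgroup.normalizer (V : Set G), n * t * n⁻¹ = t' := by
  have key : ∀ {t : G}, IsD z V t → ∃ n ∈ Subgroup.normalizer (V : Set G), n * vec 260 * n⁻¹ = t := by
    rintro t ⟨htV, ht1, hb⟩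
    by_cases htE : t ∈ E
    · obtain ⟨-, -, -, d, hd, -, he⟩ := D.inE_bad htV htE ht1 hb
      exact ⟨d, hd, he⟩
    · obtain ⟨n, hn, hnE⟩ := D.exists_leave
      obtain ⟨d, hd, -, he⟩ := D.cross_trans (D.conj_mem hn D.seed_IsD.1) hnE
        (fun h => D.seed_IsD.2.2 ((isConj_conj_iff n).1 h)) htV htE hb
      exact ⟨d * n, mul_mem hd hn, by rw [← he]; group⟩
  obtain ⟨n, hn, rfl⟩ := key ht
  obtain ⟨n', hn', rfl⟩ := key ht'
  exact ⟨n' * n⁻¹, mul_mem hn' (inv_mem hn), by group⟩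

theorem IsD.conj {n t : G} (hn : n ∈ Subgroup.normalizer (V : Set G)) (ht : IsD z V t) :
    IsD z V (n * t * n⁻¹) :=
  ⟨D.conj_mem hn ht.1, fun h => ht.2.1 (by rw [mul_inv_eq_one, mul_eq_left] at h; exact h),
    fun h => ht.2.2 ((isConj_conj_iff n).1 h)⟩

/-- The class of an element not conjugate to `z` has 276 members. -/
theorem ncard_D {t : G} (ht : IsD z V t) :
    Set.ncard {v : G | ∃ n ∈ Subgroup.normalizer (V : Set G), n * t * n⁻¹ = v} = 276 := by
  classical
  have hset : {v : G | ∃ n ∈ Subgroup.normalizer (V : Set G), n * t * n⁻¹ = v} = {v : G | IsD z V v} := by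
    ext v
    constructor
    · rintro ⟨n, hn, rfl⟩
      exact IsD.conj D hn ht
    · exact fun hv => D.D_trans ht hv
  rw [hset]
  have h : insert 1 ({v : G | IsD z V v} ∪ {v : G | v ∈ V ∧ IsConj z v}) = (V : Set G) := by
    ext v
    constructor
    · rintro (rfl | h | h)
      exacts [V.one_mem, h.1, h.1]
    · intro hv
      by_cases h1 : v = 1
      · exact Or.inl h1
      by_cases hc : IsConj z v
      · exact Or.inr (Or.inr ⟨hv, hc⟩)
      · exact Or.inr (Or.inl ⟨hv, h1, hc⟩)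
  have hc := congrArg Set.ncard h
  rw [Set.ncard_insert_of_notMem (fun k => by
      rcases k with k | k
      · exact k.2.1 rfl
      · exact conj_ne_one J.z_ne k.2 rfl) (Set.toFinite _),
    Set.ncard_union_eq (Set.disjoint_left.2 fun v h h' => h.2.2 h'.2) (Set.toFinite _) (Set.toFinite _),
    D.conj_classes.2.2.2, ← Nat.card_coe_set_eq (V : Set G)] at hc
  simp only [SetLike.coe_sort_coe, D.isV.card] at hc
  omega

end Ctx.Std

end CfsgLib.JFour
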