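import Cfsg.Agent.Lib.JFour.VDelta

/-!
# Conjugates of `z` over an involution of the hexad subgroup

The involution `h⁻¹ z h` centralizes the centralizer of `a` in `E`, and translating by it exchanges
conjugates of `z` and non-conjugates there.  Hence a conjugate of `z` in `H0` over a nontrivial element
of the hexad subgroup lies in the standard subgroup.
-/

set_option autoImplicit false
set_option maxRecDepth 100000
set_option linter.style.haveILetI false
set_option linter.unusedSectionVars false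

open Cfsg

namespace CfsgLib.JFour

variable {G : Type*} [Group G] [Finite G] {M : Type*} [Group M] [Finite M] {z π : G} {E : Subgroup G}

theorem gA_fix : ((List.range 4096).filter fun n => ap gA n == n).length = 16 := by decide +kernel

namespace Ctx.Std

variable {J : Ctx M z π E} {g : ℕ → M} {vec : ℕ → G} {V : Subgroup G} (D : J.Std g vec V)
include D

/-- Over a commutator of a lift exactly one of the two translates is conjugate to `z`. -/
theorem tc_one {c : ↥(CZ z π)} (hc2 : (c : G) * c = 1) (hcK : J.proj c ∈ hexK g) (hc1 : J.proj c ≠ 1)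
    {u : G} (hu : u ∈ tc z E (c : G)) : IsConj z (u * c) ↔ ¬ IsConj z (z * u * c) := by
  obtain ⟨e, he, h⟩ := D.conj_tc hc2 hcK hc1 hu
  have hz' : e * z * e⁻¹ = z := by rw [J.s.z_comm he, mul_inv_cancel_right]
  rcases h with h | h
  · have h' : z * u * (c : G) = e * (z * c) * e⁻¹ := by
      rw [mul_assoc, ← h, show e * (z * (c : G)) * e⁻¹ = e * z * e⁻¹ * (e * c * e⁻¹) by group, hz']
    rw [← h, h', isConj_conj_iff, isConj_conj_iff]
    rcases D.z_or_zc hc2 hc1 with k | k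
    · exact iff_of_true k.1 k.2
    · exact iff_of_false k.2 (not_not.2 k.1)
  · have h' : z * u * (c : G) = e * c * e⁻¹ := by
      rw [mul_assoc, ← h, show e * (z * (c : G)) * e⁻¹ = e * z * e⁻¹ * (e * c * e⁻¹) by group, hz', ← mul_assoc,
        J.zz, one_mul]
    rw [← h, h', isConj_conj_iff, isConj_conj_iff]
    rcases D.z_or_zc hc2 hc1 with k | k
    · exact iff_of_false k.2 (not_not.2 k.1)
    · exact iff_of_true k.1 k.2

/-- The local data at an element of the hexad subgroup. -/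
theorem exists_local {y : M} (hy : y ∈ hexK g) (hy1 : y ≠ 1) :
    ∃ (c : ↥(CZ z π)) (A : Subgroup G), J.proj c = y ∧ (c : G) * c = 1 ∧ A ≤ fx z E (c : G) ∧
      Nat.card A = 32 ∧ z ∈ A ∧ (∀ f ∈ A, π * f * π⁻¹ ∈ A) ∧
      (∀ f ∈ A, f * f = 1 → f ≠ 1 → f ≠ z → (IsConj z f ↔ ¬ IsConj z (f * c))) ∧
      Set.ncard {f : G | f ∈ A ∧ f * f = 1 ∧ f ≠ 1 ∧ ¬ IsConj z f} ≤ 6 := by
  classical
  obtain ⟨a, b, P, hA, w, h, hw, hwne, hh, hha⟩ := D.full.fus
  obtain ⟨haz, hap⟩ := mem_CZ.1 a.2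
  obtain ⟨zc, hzc⟩ : ∃ zc, zc = h⁻¹ * z * h := ⟨_, rfl⟩
  have hhz : h * zc * h⁻¹ = z := by rw [hzc]; group
  have hcC : ∀ {x : G}, x * (a : G) = a * x → h * x * h⁻¹ ∈ CZ z π := fun {x} hx =>
    D.full.hC.le (Subgroup.mem_centralizer_singleton_iff.2 (by
      rw [← hha]
      calc h * x * h⁻¹ * (h * (a : G) * h⁻¹) = h * (x * a) * h⁻¹ := by group
        _ = h * ((a : G) * x) * h⁻¹ := by rw [hx]
        _ = _ := by group))
  have hzcom : ∀ {x : G}, x * (a : G) = a * x → x * zc = zc * x := fun {x} hx => by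
    have h1 := (mem_CZ.1 (hcC hx)).1
    calc x * zc = h⁻¹ * (h * x * h⁻¹ * z) * h := by rw [hzc]; group
      _ = h⁻¹ * (z * (h * x * h⁻¹)) * h := by rw [h1]
      _ = _ := by rw [hzc]; group
  have hzcC : zc ∈ CZ z π := D.full.hC.le (Subgroup.mem_centralizer_singleton_iff.2
    (hzcom (x := π) hap.symm).symm)
  have hzc2 : zc * zc = 1 := by
    rw [hzc, show h⁻¹ * z * h * (h⁻¹ * z * h) = h⁻¹ * (z * z) * h by group, J.zz]; group
  have hzc1 : zc ≠ 1 := fun e => by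
    rw [e, mul_one, mul_inv_cancel] at hhz
    exact J.z_ne hhz.symm
  have hzcz : zc ≠ z := fun e => hwne (by rw [← hh]; nth_rewrite 1 [← e]; exact hhz)
  have hp : J.proj ⟨zc, hzcC⟩ ≠ 1 := fun e => by
    rcases J.small_of_proj_one e (Or.inl hzc2) with k | k
    exacts [hzc1 k, hzcz k]
  -- the pairing at `a`
  have pair : ∀ {f : G}, f ∈ fx z E (a : G) → f * f = 1 → f ≠ 1 → f ≠ z →
      (IsConj z f ↔ ¬ IsConj z (f * zc)) := by
    intro f hf hf2 hf1 hfz
    have hfa : f * (a : G) = a * f := (J.comm_of_fx a.2 hf).symm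
    let v : ↥(CZ z π) := ⟨h * f * h⁻¹, hcC hfa⟩
    have hfE : f ∈ E := J.fx_le haz hf
    have hv2 : (v : G) * v = 1 := by
      show h * f * h⁻¹ * (h * f * h⁻¹) = 1
      rw [show h * f * h⁻¹ * (h * f * h⁻¹) = h * (f * f) * h⁻¹ by group, hf2]; group
    have hv1 : J.proj v ≠ 1 := fun e => by
      rcases J.small_of_proj_one e (Or.inl hv2) with k | k
      · exact hf1 (by change h * f * h⁻¹ = 1 at k; rwa [mul_inv_eq_one, mul_eq_left] at k)
      · change h * f * h⁻¹ = z at k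
        have e1 : f = zc := by rw [hzc, ← k]; group
        rcases J.eq_center_of_mem_E hzcC (e1 ▸ hfE) with l | l
        exacts [hzc1 l, hzcz l]
    have e2 : h * (f * zc) * h⁻¹ = z * (v : G) := by
      show _ = z * (h * f * h⁻¹)
      rw [← (mem_CZ.1 v.2).1]
      show _ = h * f * h⁻¹ * z
      rw [← hhz]; group
    rw [← isConj_conj_iff h (v := f), ← isConj_conj_iff h (v := f * zc), e2]
    show IsConj z (v : G) ↔ _
    rcases D.z_or_zc hv2 hv1 with k | k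
    · exact iff_of_true k.1 k.2
    · exact iff_of_false k.2 (not_not.2 k.1)
  -- moving to the given element
  have ho : orderOf (J.proj ⟨zc, hzcC⟩) = 2 := orderOf_eq_prime (by
    rw [pow_two, ← map_mul, show (⟨zc, hzcC⟩ : ↥(CZ z π)) * ⟨zc, hzcC⟩ = 1 from Subtype.ext hzc2, map_one]) hp
  have hoy : orderOf y = 2 := orderOf_eq_prime (by rw [pow_two]; exact D.full.hexK_sq y hy) hy1
  obtain ⟨m, hm⟩ := isConj_iff.1 (D.small.invol_conj _ _ ho hoy)
  obtain ⟨d, rfl⟩ := J.proj_surj m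
  obtain ⟨hdz, hdp⟩ := mem_CZ.1 d.2
  let c : ↥(CZ z π) := d * ⟨zc, hzcC⟩ * d⁻¹
  have hcv : (c : G) = (d : G) * zc * (d : G)⁻¹ := rfl
  have hc2 : (c : G) * c = 1 := by
    rw [hcv, show (d : G) * zc * (d : G)⁻¹ * ((d : G) * zc * (d : G)⁻¹) = (d : G) * (zc * zc) * (d : G)⁻¹ by group, hzc2]
    group
  have hcz := (mem_CZ.1 c.2).1
  refine ⟨c, (fx z E (a : G)).map (MulAut.conj (d : G)).toMonoidHom, by rw [map_mul, map_mul, map_inv, hm], hc2,
    ?_, ?_, ?_, ?_, ?_, ?_⟩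
  · rintro _ ⟨f, hf, rfl⟩
    refine (J.mem_fx hcz).2 ⟨J.conjE hdz (J.fx_le haz hf), Or.inl ?_⟩
    have hfz := hzcom (x := f) (J.comm_of_fx a.2 hf).symm
    show (c : G) * ((d : G) * f * (d : G)⁻¹) * (c : G)⁻¹ = (d : G) * f * (d : G)⁻¹
    rw [hcv]
    calc _ = (d : G) * (zc * f * zc⁻¹) * (d : G)⁻¹ := by group
      _ = _ := by rw [← hfz, mul_inv_cancel_right]
  · rw [Subgroup.card_map_of_injective (MulAut.conj (d : G)).injective, D.full.Mo.coords.card_fx J hA haz, gA_fix]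
  · exact ⟨z, J.z_mem_fx haz, by show (d : G) * z * (d : G)⁻¹ = z; rw [hdz, mul_inv_cancel_right]⟩
  · rintro _ ⟨f, hf, rfl⟩
    refine ⟨π * f * π⁻¹, (J.mem_fx haz).2 ⟨J.conjE J.piz (J.fx_le haz hf), Or.inl ?_⟩, ?_⟩
    · have hfa := J.comm_of_fx a.2 hf
      calc (a : G) * (π * f * π⁻¹) * (a : G)⁻¹ = ((a : G) * π) * f * ((a : G) * π)⁻¹ := by group
        _ = π * ((a : G) * f * (a : G)⁻¹) * π⁻¹ := by rw [hap]; group
        _ = _ := by rw [hfa, mul_inv_cancel_right]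
    · show (d : G) * (π * f * π⁻¹) * (d : G)⁻¹ = π * ((d : G) * f * (d : G)⁻¹) * π⁻¹
      calc _ = ((d : G) * π) * f * ((d : G) * π)⁻¹ := by group
        _ = _ := by rw [hdp]; group
  · rintro _ ⟨f, hf, rfl⟩ hf2 hf1 hfz
    simp only [MulEquiv.coe_toMonoidHom, MulAut.conj_apply] at hf2 hf1 hfz ⊢
    have e : (d : G) * f * (d : G)⁻¹ * (c : G) = (d : G) * (f * zc) * (d : G)⁻¹ := by rw [hcv]; group
    rw [e, isConj_conj_iff, isConj_conj_iff]
    refine pair hf ?_ ?_ ?_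
    · calc f * f = (d : G)⁻¹ * ((d : G) * f * (d : G)⁻¹ * ((d : G) * f * (d : G)⁻¹)) * d := by group
        _ = 1 := by rw [hf2]; group
    · exact fun k => hf1 (by rw [k]; group)
    · exact fun k => hfz (by rw [k, hdz, mul_inv_cancel_right])
  · set L := (List.range 4096).filter fun n => inLay layB n && Nat.beq (ap gA n) n with hL
    have hsub : {f : G | f ∈ (fx z E (a : G)).map (MulAut.conj (d : G)).toMonoidHom ∧ f * f = 1 ∧ f ≠ 1 ∧
        ¬ IsConj z f} ⊆ (fun f => (d : G) * f * (d : G)⁻¹) '' {u : G | ∃ n ∈ L, Rel z u (vec n)} := by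
      rintro _ ⟨⟨f, hf, rfl⟩, hf2, hf1, hnc⟩
      simp only [MulEquiv.coe_toMonoidHom, MulAut.conj_apply] at hf2 hf1 hnc
      rw [isConj_conj_iff] at hnc
      have hfE := J.fx_le haz hf
      have hf2' : f * f = 1 := by
        calc f * f = (d : G)⁻¹ * ((d : G) * f * (d : G)⁻¹ * ((d : G) * f * (d : G)⁻¹)) * d := by group
          _ = 1 := by rw [hf2]; group
      have hf1' : f ≠ 1 := fun k => hf1 (by rw [k]; group)
      have hfz' : f ≠ z := fun k => hnc (k ▸ IsConj.refl z)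
      obtain ⟨n, hn, hr, ⟨-, k⟩ | ⟨k, -⟩⟩ := D.E_cases hfE hf2' hf1' hfz'
      · exact absurd k hnc
      refine ⟨f, ⟨n, List.mem_filter.2 ⟨List.mem_range.2 hn, ?_⟩, hr⟩, rfl⟩
      rw [k, Bool.true_and, Nat.beq_eq]
      exact (D.full.Mo.coords.mem_fx_vec J hA haz hn).1 ((J.mem_vec_iff (J.z_mem_fx haz) hr).1 hf)
    refine (Set.ncard_le_ncard hsub (Set.toFinite _)).trans ((Set.ncard_image_le (Set.toFinite _)).trans ?_)
    rw [D.ncard_list (List.nodup_range.filter _) (fun n hn => ?_), gA_count]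
    obtain ⟨h1, h2⟩ := List.mem_filter.1 hn
    refine ⟨List.mem_range.1 h1, fun h0 => ?_⟩
    subst h0
    have : inLay layB 0 = false := by decide +kernel
    rw [this] at h2
    exact Bool.noConfusion h2

/-- Products of outer elements of `E` with such lifts are not conjugate to `z`. -/
theorem not_conj_outer {y : M} (hy : y ∈ hexK g) (hy1 : y ≠ 1) :
    ∃ c : ↥(CZ z π), J.proj c = y ∧ (c : G) * c = 1 ∧
      ∀ e ∈ E, e ∉ V → e * e = 1 → (c : G) * e = e * c → ¬ IsConj z (e * c) := by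
  classical
  obtain ⟨c, A, hc, hc2, hAfx, hAc, hzA, hAπ, hpair, hBc⟩ := D.exists_local hy hy1
  refine ⟨c, hc, hc2, ?_⟩
  have hcK : J.proj c ∈ hexK g := hc ▸ hy
  have hc1 : J.proj c ≠ 1 := hc ▸ hy1
  have hcz := (mem_CZ.1 c.2).1
  set T := tc z E (c : G) with hT
  have hTV := D.tc_le hc2 hcK hc1
  have hTfx : T ≤ fx z E (c : G) := hTV.trans (D.inf_le_fx hc2 hcK hc1)
  have hAE : A ≤ E := hAfx.trans (J.fx_le hcz)
  have hcap : A ⊓ T ≤ Subgroup.zpowers z := by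
    intro f hf
    obtain ⟨hfA, hfT⟩ := Subgroup.mem_inf.1 hf
    by_contra hn
    have hf1 : f ≠ 1 := fun k => hn (k ▸ one_mem _)
    have hfz : f ≠ z := fun k => hn (k ▸ Subgroup.mem_zpowers z)
    obtain ⟨hfV, hfE⟩ := Subgroup.mem_inf.1 (hTV hfT)
    have hf2 := D.isV.sq f hfV
    have hzf1 : z * f ≠ 1 := fun k => hfz (by rw [← one_mul f, ← J.zz, mul_assoc, k, mul_one])
    have hzfz : z * f ≠ z := fun k => hf1 (mul_eq_left.1 k)
    have hzf2 : z * f * (z * f) = 1 := D.isV.sq _ (V.mul_mem D.isV.z_mem hfV)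
    have h1 := hpair f hfA hf2 hf1 hfz
    have h2 := hpair (z * f) (A.mul_mem hzA hfA) hzf2 hzf1 hzfz
    rw [D.z_mul_iff hfE hf1 hfz] at h2
    have h3 := D.tc_one hc2 hcK hc1 hfT
    tauto
  have hAT : A ⊔ T = fx z E (c : G) := by
    refine Subgroup.eq_of_le_of_card_ge (sup_le hAfx hTfx) ?_
    have h := card_mul_card_le (le_sup_left : A ≤ A ⊔ T) (le_sup_right : T ≤ A ⊔ T)
    have h2 : Nat.card ↥(A ⊓ T) ≤ 2 := J.card_zpowers_z ▸ Subgroup.card_le_of_le hcap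
    have h3 := Nat.mul_le_mul_right (Nat.card ↥(A ⊔ T)) h2
    rw [hAc, show Nat.card T = 2 ^ 5 from D.card_tc hc2 hcK hc1] at h
    rw [D.full.hdim _ c.2 hc2 (D.lift_ne hc2 hcK hc1).1 (D.lift_ne hc2 hcK hc1).2]
    omega
  have hAN : A ≤ Subgroup.normalizer (T : Set G) := by
    have key : ∀ f ∈ A, ∀ s ∈ T, f * s * f⁻¹ ∈ T := by
      intro f hf s hs
      rcases J.s.comm_cases (hAE hf) (Subgroup.mem_inf.1 (hTV hs)).2 with k | k <;> rw [k]
      exacts [hs, T.mul_mem (J.z_mem_tc hcz) hs]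
    intro f hf
    refine Subgroup.mem_normalizer_iff.2 fun s => ⟨key f hf s, fun h => ?_⟩
    have := key f⁻¹ (inv_mem hf) _ h
    rwa [show f⁻¹ * (f * s * f⁻¹) * f⁻¹⁻¹ = s by group] at this
  have hprod : ∀ u ∈ fx z E (c : G), ∃ f ∈ A, ∃ s ∈ T, u = f * s := by
    intro u hu
    rw [← hAT, ← SetLike.mem_coe, Subgroup.coe_mul_of_left_le_normalizer_right A T hAN] at hu
    obtain ⟨f, hf, s, hs, rfl⟩ := hu
    exact ⟨f, hf, s, hs, rfl⟩
  -- three classes in the fixed space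
  obtain ⟨u, hu, hut⟩ : ∃ u ∈ V ⊓ E, u ∉ T := by
    refine SetLike.not_le_iff_exists.1 fun h => ?_
    have := Subgroup.card_le_of_le h
    rw [D.full.card_inf_E D.isV, hT, D.card_tc hc2 hcK hc1] at this
    norm_num at this
  obtain ⟨f, hfA, s, hs, hfs⟩ := hprod u (D.inf_le_fx hc2 hcK hc1 hu)
  have hfU : f ∈ V ⊓ E := by
    have e : f = u * s⁻¹ := by rw [hfs, mul_inv_cancel_right]
    rw [e]
    exact (V ⊓ E).mul_mem hu ((V ⊓ E).inv_mem (hTV hs))
  have hfz0 : f ∉ Subgroup.zpowers z := by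
    intro h
    apply hut
    rw [hfs]
    refine T.mul_mem ?_ hs
    rcases J.s.mem_zpowers h with k | k <;> rw [k]
    exacts [T.one_mem, J.z_mem_tc hcz]
  have hgood : ∀ v ∈ A, v ∈ V ⊓ E → v ∉ Subgroup.zpowers z → v * v = 1 ∧ v ≠ 1 ∧ ¬ IsConj z v := by
    intro v hvA hvU hvz
    have hv2 := D.isV.sq v (Subgroup.mem_inf.1 hvU).1
    have hv1 : v ≠ 1 := fun k => hvz (k ▸ one_mem _)
    have hvz' : v ≠ z := fun k => hvz (k ▸ Subgroup.mem_zpowers z)
    have hvt : v ∉ T := fun k => hvz (hcap ⟨hvA, k⟩)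
    exact ⟨hv2, hv1, fun k => (hpair v hvA hv2 hv1 hvz').1 k (D.conj_classes.2.2.1 c hc2 hcK hc1 v hvU hvt)⟩
  have hconjπ : ∀ v ∈ A, v ∈ V ⊓ E → π * v * π⁻¹ ∈ V ⊓ E := fun v _ hv =>
    ⟨D.conj_mem D.pi_mem (Subgroup.mem_inf.1 hv).1, J.conjE J.piz (Subgroup.mem_inf.1 hv).2⟩
  have hpiz0 : ∀ v : G, v ∉ Subgroup.zpowers z → π * v * π⁻¹ ∉ Subgroup.zpowers z := fun v hv h => hv (by
    rcases J.s.mem_zpowers h with k | k
    · rw [mul_inv_eq_one, mul_eq_left] at k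
      rw [k]; exact one_mem _
    · rw [mul_inv_eq_iff_eq_mul, ← J.piz, mul_right_inj] at k
      rw [k]; exact Subgroup.mem_zpowers z)
  set f1 := π * f * π⁻¹ with hf1d
  set f2 := π * f1 * π⁻¹ with hf2d
  let S : Fin 2 × Fin 3 → G := fun p => z ^ (p.1 : ℕ) * ![f, f1, f2] p.2
  have hmem : ∀ k : Fin 3, ![f, f1, f2] k ∈ A ∧ ![f, f1, f2] k ∈ V ⊓ E ∧ ![f, f1, f2] k ∉ Subgroup.zpowers z := by
    intro k
    have b1 : f1 ∈ A := hAπ f hfA
    have b2 : f1 ∈ V ⊓ E := hconjπ f hfA hfU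
    have b3 := hpiz0 f hfz0
    fin_cases k
    · exact ⟨hfA, hfU, hfz0⟩
    · exact ⟨b1, b2, b3⟩
    · exact ⟨hAπ f1 b1, hconjπ f1 b1 b2, hpiz0 f1 b3⟩
  have hfE := (Subgroup.mem_inf.1 hfU).2
  have hne : ¬ Rel z f1 f := fun h => hfz0 (by
    rcases J.fpf_rel hfE h with k | k <;> rw [k]
    exacts [one_mem _, by rw [mul_one]; exact Subgroup.mem_zpowers z])
  have hne2 : ¬ Rel z f2 f1 := fun h => hpiz0 f hfz0 (by
    rcases J.fpf_rel (J.conjE J.piz hfE) h with k | k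
    · show π * f * π⁻¹ ∈ _; rw [k]; exact one_mem _
    · show π * f * π⁻¹ ∈ _; rw [k, mul_one]; exact Subgroup.mem_zpowers z)
  have hne3 : ¬ Rel z f2 f := by
    intro h
    apply hne
    have h2 := J.rel_conj J.piz h
    rw [hf2d, hf1d, show π * (π * (π * f * π⁻¹) * π⁻¹) * π⁻¹ = π * π * π * f * (π * π * π)⁻¹ by group, J.pi3,
      one_mul, inv_one, mul_one] at h2
    exact J.rel_symm h2
  have hinj : Function.Injective S := by
    rintro ⟨i, k⟩ ⟨j, l⟩ h
    have h' : z ^ (i : ℕ) * ![f, f1, f2] k = z ^ (j : ℕ) * ![f, f1, f2] l := h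
    have hr : Rel z (![f, f1, f2] k) (![f, f1, f2] l) := by
      fin_cases i <;> fin_cases j <;> simp at h'
      · exact Or.inl h'
      · exact Or.inr h'
      · exact J.rel_symm (Or.inr h'.symm)
      · exact Or.inl h'
    have hkl : k = l := by
      fin_cases k <;> fin_cases l <;> simp at hr ⊢
      · exact hne (J.rel_symm hr)
      · exact hne3 (J.rel_symm hr)
      · exact hne hr
      · exact hne2 (J.rel_symm hr)
      · exact hne3 hr
      · exact hne2 hr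
    subst hkl
    have h2 := mul_right_cancel h'
    refine Prod.ext ?_ rfl
    fin_cases i <;> fin_cases j <;> simp at h2 ⊢
    · exact J.z_ne h2.symm
    · exact J.z_ne h2
  have hSsub : Set.range S ⊆ {f : G | f ∈ A ∧ f * f = 1 ∧ f ≠ 1 ∧ ¬ IsConj z f} := by
    rintro _ ⟨⟨i, k⟩, rfl⟩
    obtain ⟨h1, h2, h3⟩ := hmem k
    have hzi : z ^ (i : ℕ) ∈ Subgroup.zpowers z := pow_mem (Subgroup.mem_zpowers z) _
    have hA' : S (i, k) ∈ A := A.mul_mem (A.pow_mem hzA _) h1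
    refine ⟨hA', hgood _ hA' ((V ⊓ E).mul_mem ((V ⊓ E).pow_mem ⟨D.isV.z_mem, J.s.z_mem⟩ _) h2)
      fun h => h3 (((Subgroup.zpowers z).mul_mem_cancel_left hzi).1 h)⟩
  have hSV : Set.range S = {f : G | f ∈ A ∧ f * f = 1 ∧ f ≠ 1 ∧ ¬ IsConj z f} :=
    Set.eq_of_subset_of_ncard_le hSsub (by
      rw [Set.ncard_range_of_injective hinj, Nat.card_prod, Nat.card_fin, Nat.card_fin]; omega) (Set.toFinite _)
  -- conclusion
  intro e heE heV he2 hce
  obtain ⟨v, hvA, t, ht, rfl⟩ := hprod e ((J.mem_fx hcz).2 ⟨heE, Or.inl (by rw [hce, mul_inv_cancel_right])⟩)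
  obtain ⟨htV, htE⟩ := Subgroup.mem_inf.1 (hTV ht)
  have hvt : t * v = v * t := (mem_perp.1 (J.fx_le_perp hcz (hAfx hvA))).2 t ht
  have hv2 : v * v = 1 := by
    calc v * v = v * v * (t * t) := by rw [D.isV.sq t htV, mul_one]
      _ = v * (v * t) * t := by group
      _ = v * (t * v) * t := by rw [hvt]
      _ = v * t * (v * t) := by group
      _ = 1 := he2
  have hvV : v ∉ V := fun h => heV (V.mul_mem h htV)
  have hv1 : v ≠ 1 := fun k => hvV (k ▸ V.one_mem)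
  have hvz : v ≠ z := fun k => hvV (k ▸ D.isV.z_mem)
  have hvc : IsConj z v := by
    by_contra hnc
    obtain ⟨⟨i, k⟩, hik⟩ := hSV.ge ⟨hvA, hv2, hv1, hnc⟩
    apply hvV
    rw [← hik]
    exact V.mul_mem (V.pow_mem D.isV.z_mem _) (Subgroup.mem_inf.1 (hmem k).2.1).1
  have hvE := hAE hvA
  have hzv : IsConj z (z * v) := (D.z_mul_iff hvE hv1 hvz).2 hvc
  have hn1 : ¬ IsConj z (v * c) := (hpair v hvA hv2 hv1 hvz).1 hvc
  have hn2 : ¬ IsConj z (z * v * c) := by
    refine (hpair (z * v) (A.mul_mem hzA hvA) ?_ (fun k => hvz ?_) (fun k => hv1 (mul_eq_left.1 k))).1 hzv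
    · rw [show z * v * (z * v) = z * (v * z) * v by group, J.s.z_comm hvE, ← mul_assoc, J.zz, one_mul, hv2]
    · rw [← one_mul v, ← J.zz, mul_assoc, k, mul_one]
  obtain ⟨q, hq, hqe⟩ := D.conj_tc hc2 hcK hc1 ht
  have hqv : ∀ x : G, v * (q * x * q⁻¹) = q * ((q⁻¹ * v * q) * x) * q⁻¹ := fun x => by group
  have hqv' := J.s.comm_cases (inv_mem hq) hvE
  rw [inv_inv] at hqv'
  have hzx : v * z = z * v := J.s.z_comm hvE
  rcases hqe with k | k <;> rw [mul_assoc v t, ← k, hqv, isConj_conj_iff] <;> rcases hqv' with l | l <;> rw [l]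
  · exact hn1
  · exact hn2
  · rw [← mul_assoc, hzx]; exact hn2
  · rw [← mul_assoc, mul_assoc z v z, hzx, ← mul_assoc, J.zz, one_mul]; exact hn1

/-- **Conjugates of `z` over the hexad subgroup.** -/
theorem inner_mem {v : G} (hv : v ∈ H0 z π E) (hv2 : v * v = 1) (hvz : IsConj z v) {c : ↥(CZ z π)}
    (hc : v * (c : G)⁻¹ ∈ E) (hcK : J.proj c ∈ hexK g) (hc1 : J.proj c ≠ 1) : v ∈ V := by
  obtain ⟨e, he, c', hc', hvc, hc'2, hr⟩ := J.exists_split D.small hv hv2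
  have hp : J.proj ⟨c', hc'⟩ = J.proj c := J.proj_part ⟨c', hc'⟩ c
    (by simp only [hvc, mul_inv_cancel_right]; exact he) hc
  obtain ⟨c0, hc0, hc02, hnot⟩ := D.not_conj_outer hcK hc1
  have hc0V : (c0 : G) ∈ V := D.isV.lift c0 hc02 (hc0 ▸ hcK)
  obtain ⟨hc'z, -⟩ := mem_CZ.1 hc'
  have hce : c' * e = e * c' := J.comm_of_fx hc' ((J.mem_fx hc'z).2 ⟨he, hr⟩)
  have he2 : e * e = 1 := by
    calc e * e = e * e * (c' * c') := by rw [hc'2, mul_one]
      _ = e * (e * c') * c' := by group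
      _ = e * (c' * e) * c' := by rw [hce]
      _ = v * v := by rw [hvc]; group
      _ = 1 := hv2
  obtain ⟨hc0z, -⟩ := mem_CZ.1 c0.2
  rcases J.lift_unique (c := c0) (c' := ⟨c', hc'⟩) hc02 hc'2 (hp.trans hc0.symm) with k | k
  · simp only at k
    subst k
    by_contra hV
    exact hnot e he (fun h => hV (hvc ▸ V.mul_mem h hc0V)) he2 hce (hvc ▸ hvz)
  · simp only at k
    have hez : e * z = z * e := J.s.z_comm he
    by_contra hV
    refine hnot (e * z) (E.mul_mem he J.s.z_mem) (fun h => hV ?_) ?_ ?_ ?_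
    · rw [hvc, k, ← mul_assoc]
      exact V.mul_mem h hc0V
    · rw [show e * z * (e * z) = e * (z * e) * z by group, ← hez, ← mul_assoc, he2, one_mul, J.zz]
    · have hce' : (c0 : G) * e = e * c0 := by
        rw [k, mul_assoc, ← mul_assoc e, hez, mul_assoc z] at hce
        exact mul_left_cancel hce
      rw [← mul_assoc, hce', mul_assoc, hc0z, ← mul_assoc]
    · rw [mul_assoc, ← k, ← hvc]
      exact hvz

end Ctx.Std

end CfsgLib.JFour
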