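import Cfsg.Agent.Lib.JFour.VDelta

/-!
# The centralizer of an element of the small class inside `C(z)`

It normalizes the standard subgroup, and the normalizer controls fusion in such a centralizer.
-/

set_option autoImplicit false
set_option maxRecDepth 100000
set_option linter.style.haveILetI false
set_option linter.unusedSectionVars false

open Cfsg

namespace CfsgLib.JFour

variable {G : Type*} [Group G] [Finite G] {M : Type*} [Group M] [Finite M] {z π : G} {E : Subgroup G}

namespace Ctx.Std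

variable {J : Ctx M z π E} {g : ℕ → M} {vec : ℕ → G} {V : Subgroup G} (D : J.Std g vec V)
include D

/-- An element of `C(z, π)` normalizing the subgroup preserves the hexad subgroup. -/
theorem proj_mem_normalizer {d : ↥(CZ z π)} (hd : (d : G) ∈ Subgroup.normalizer (V : Set G)) :
    J.proj d ∈ Subgroup.normalizer (hexK g : Set M) := by
  have hle : ∀ x ∈ hexK g, J.proj d * x * (J.proj d)⁻¹ ∈ hexK g := by
    intro x hx
    obtain ⟨c, hc, hc2⟩ := J.exists_lift_invol D.small (D.full.hexK_sq x hx)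
    have hm := D.conj_mem hd (D.isV.lift c hc2 (hc ▸ hx))
    have := D.isV.image _ hm (d * c * d⁻¹) (by simp only [Subgroup.coe_mul, InvMemClass.coe_inv, mul_inv_cancel]; exact E.one_mem)
    rwa [map_mul, map_mul, map_inv, hc] at this
  have heq : (hexK g).map (MulAut.conj (J.proj d)).toMonoidHom = hexK g := by
    refine Subgroup.eq_of_le_of_card_ge ?_ (by rw [Subgroup.card_map_of_injective (MulAut.conj _).injective])
    rintro _ ⟨v, hv, rfl⟩
    exact hle v hv
  rw [Subgroup.mem_normalizer_iff]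
  intro x
  conv_rhs => rw [← heq, Subgroup.mem_map_equiv, MulAut.conj_symm_apply]
  rw [show (J.proj d)⁻¹ * (J.proj d * x * (J.proj d)⁻¹) * J.proj d = x by group]

/-- The centralizer of an involution of the hexad subgroup normalizes it. -/
theorem cent_le {y m : M} (hy : y ∈ hexK g) (hy1 : y ≠ 1) (hm : m * y = y * m) :
    m ∈ Subgroup.normalizer (hexK g : Set M) := by
  obtain ⟨Z, hZK, hZ, hC⟩ := D.full.H.cent
  obtain ⟨d, hd, hde⟩ := D.hexK_trans hy hy1 hZK (fun h => by rw [h, orderOf_one] at hZ; norm_num at hZ)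
  have h := hC (J.proj d * m * (J.proj d)⁻¹) (by
    rw [← hde]
    calc J.proj d * m * (J.proj d)⁻¹ * (J.proj d * y * (J.proj d)⁻¹) = J.proj d * (m * y) * (J.proj d)⁻¹ := by group
      _ = _ := by rw [hm]; group)
  have := mul_mem (mul_mem (inv_mem hd) h) hd
  rwa [show (J.proj d)⁻¹ * (J.proj d * m * (J.proj d)⁻¹) * J.proj d = m by group] at this

/-- The order of the normalizer of the hexad subgroup. -/
theorem card_normalizer_hexK : 5760 ≤ Nat.card ↥(Subgroup.normalizer (hexK g : Set M)) := by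
  classical
  obtain ⟨Z, hZK, hZ, hC⟩ := D.full.H.cent
  have hZ1 : Z ≠ 1 := fun h => by rw [h, orderOf_one] at hZ; norm_num at hZ
  let Y := {y : M // y ∈ hexK g ∧ y ≠ 1}
  have hr : ∀ y : Y, ∃ d : ↥(CZ z π), J.proj d ∈ Subgroup.normalizer (hexK g : Set M) ∧
      J.proj d * Z * (J.proj d)⁻¹ = y.1 := fun y => D.hexK_trans hZK hZ1 y.2.1 y.2.2
  choose r hr1 hr2 using hr
  let F : Y × ↥(Subgroup.centralizer ({Z} : Set M)) → ↥(Subgroup.normalizer (hexK g : Set M)) := fun p =>
    ⟨J.proj (r p.1) * p.2, mul_mem (hr1 p.1) (hC _ (Subgroup.mem_centralizer_singleton_iff.1 p.2.2))⟩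
  have hF : Function.Injective F := by
    rintro ⟨y, a⟩ ⟨y', a'⟩ h
    have h' : J.proj (r y) * (a : M) = J.proj (r y') * a' := congrArg Subtype.val h
    have e : ∀ (y : Y) (a : ↥(Subgroup.centralizer ({Z} : Set M))),
        J.proj (r y) * a * Z * (J.proj (r y) * a)⁻¹ = y.1 := fun y a => by
      rw [← hr2 y]
      calc J.proj (r y) * a * Z * (J.proj (r y) * a)⁻¹ = J.proj (r y) * ((a : M) * Z * (a : M)⁻¹) * (J.proj (r y))⁻¹ := by group
        _ = _ := by rw [Subgroup.mem_centralizer_singleton_iff.1 a.2, mul_inv_cancel_right]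
    have hy : y = y' := Subtype.ext (by rw [← e y a, h', e y' a'])
    subst hy
    exact Prod.ext rfl (Subtype.ext (mul_left_cancel h'))
  have hY : Nat.card Y = 15 := by
    have hset : Nat.card Y = Set.ncard ((hexK g : Set M) \ {1}) := (Nat.card_coe_set_eq _).symm ▸ rfl
    rw [hset, Set.ncard_sdiff_singleton_of_mem (hexK g).one_mem, ← Nat.card_coe_set_eq]
    simp only [SetLike.coe_sort_coe, D.hexK_card_eq.1]
  have h := Nat.card_le_card_of_injective F hF
  rw [Nat.card_prod, hY, D.small.card_invol Z hZ] at h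
  exact h

theorem uB_reach {i : ℕ} (hi : i < uB.length) : ∃ r : ↥(CZ z π), (r : G) ∈ Subgroup.normalizer (V : Set G) ∧
    uB.getD i 0 < 4096 ∧ Rel z ((r : G) * vec 260 * (r : G)⁻¹) (vec (uB.getD i 0)) := by
  induction i using Nat.strong_induction_on with
  | _ i ih =>
    have h := List.all_eq_true.1 u_ok.2.1 i (List.mem_range.2 hi)
    simp only [Bool.or_eq_true, Nat.beq_eq, List.any_eq_true, List.mem_range] at h
    rcases h with h | ⟨j, hj, B, hB, hBe⟩
    · exact ⟨1, by simp, by rw [h]; norm_num, by rw [h]; simpa using J.rel_refl (vec 260)⟩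
    obtain ⟨r, hr, hj1, hr2⟩ := ih j hj (hj.trans hi)
    obtain ⟨d, hdN, hdA⟩ := D.exists_normB hB
    refine ⟨d * r, mul_mem hdN hr, hBe ▸ okB_lt hdA.1 _, ?_⟩
    have h1 := hdA.2 _ hj1
    rw [hBe] at h1
    refine J.rel_trans ?_ h1
    have h2 := J.rel_conj (mem_CZ.1 d.2).1 hr2
    simpa only [Subgroup.coe_mul, mul_inv_rev, mul_assoc] using h2

/-- The elements of `C(z, π)` fixing the vector 260. -/
def stabSet (_D : J.Std g vec V) : Subgroup ↥(CZ z π) where
  carrier := {d | Rel z ((d : G) * vec 260 * (d : G)⁻¹) (vec 260)}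
  one_mem' := by simpa using J.rel_refl (vec 260)
  mul_mem' := by
    intro a b ha hb
    refine J.rel_trans ?_ ha
    have h := J.rel_conj (mem_CZ.1 a.2).1 hb
    simpa only [Subgroup.coe_mul, mul_inv_rev, mul_assoc] using h
  inv_mem' := by
    intro a ha
    have hz := (Commute.inv_left (show Commute (a : G) z from (mem_CZ.1 a.2).1)).eq
    have h := J.rel_symm (J.rel_conj hz ha)
    rw [inv_inv, show (a : G)⁻¹ * ((a : G) * vec 260 * (a : G)⁻¹) * a = vec 260 by group] at h
    show Rel z (((a⁻¹ : ↥(CZ z π)) : G) * vec 260 * ((a⁻¹ : ↥(CZ z π)) : G)⁻¹) (vec 260)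
    simpa only [InvMemClass.coe_inv, inv_inv] using h

/-- The stabilizer of the vector 260 normalizes the standard subgroup. -/
theorem stab_le {d : ↥(CZ z π)} (hd : Rel z ((d : G) * vec 260 * (d : G)⁻¹) (vec 260)) :
    (d : G) ∈ Subgroup.normalizer (V : Set G) := by
  classical
  set S := D.stabSet with hS
  set N := (Subgroup.normalizer (V : Set G)).subgroupOf (CZ z π) with hN
  have hcard := J.card_CZ D.small.card
  have hS1 : 1386 * Nat.card S ≤ Nat.card ↥(CZ z π) := by
    let L := (List.range 4096).filter (inLay layB)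
    have hr : ∀ i : Fin L.length, ∃ r : ↥(CZ z π), Rel z ((r : G) * vec 260 * (r : G)⁻¹) (vec (L.get i)) := by
      intro i
      obtain ⟨h1, h2⟩ := List.mem_filter.1 (List.get_mem L i)
      exact D.full.reach (by norm_num) layB_ok (List.mem_range.1 h1) h2
    choose r hr using hr
    have hinj : Function.Injective (fun p : Fin L.length × ↥S => r p.1 * (p.2 : ↥(CZ z π))) := by
      rintro ⟨i, a⟩ ⟨j, b⟩ h
      simp only at h
      have key : ∀ (i : Fin L.length) (a : ↥S), Rel z (((r i * (a : ↥(CZ z π)) : ↥(CZ z π)) : G) * vec 260 *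
          ((r i * (a : ↥(CZ z π)) : ↥(CZ z π)) : G)⁻¹) (vec (L.get i)) := fun i a => by
        refine J.rel_trans ?_ (hr i)
        have h := J.rel_conj (mem_CZ.1 (r i).2).1 a.2
        simpa only [Subgroup.coe_mul, mul_inv_rev, mul_assoc] using h
      have hij : i = j := by
        have h1 := key i a
        rw [h] at h1
        refine (List.nodup_range.filter _).injective_get ?_
        exact (D.full.Mo.coords.rel_iff J (List.mem_range.1 (List.mem_filter.1 (List.get_mem L i)).1)
          (List.mem_range.1 (List.mem_filter.1 (List.get_mem L j)).1)).1 (J.rel_trans (J.rel_symm h1) (key j b))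
      subst hij
      exact Prod.ext rfl (Subtype.ext (mul_left_cancel h))
    have h := Nat.card_le_card_of_injective _ hinj
    rwa [Nat.card_prod, Nat.card_fin, show L.length = 1386 from count_layB] at h
  have hN1 : 6 * 5760 ≤ Nat.card N := by
    let K := (Subgroup.normalizer (hexK g : Set M)).comap J.proj
    have hKN : K ≤ N := fun x hx => Subgroup.mem_subgroupOf.2 (D.isV.mem_normalizer D.small hx)
    refine le_trans ?_ (Subgroup.card_le_of_le hKN)
    have h1 := K.card_mul_index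
    rw [Subgroup.index_comap_of_surjective _ J.proj_surj] at h1
    have h2 := (Subgroup.normalizer (hexK g : Set M)).card_mul_index
    rw [D.small.card] at h2
    have hi : 0 < (Subgroup.normalizer (hexK g : Set M)).index := Nat.pos_of_ne_zero Subgroup.index_ne_zero_of_finite
    have h3 := D.card_normalizer_hexK
    rw [hcard, ← h2, ← mul_assoc] at h1
    have := Nat.eq_of_mul_eq_mul_right hi h1
    omega
  have hN2 : Nat.card N ≤ 18 * Nat.card ↥(S ⊓ N) := by
    have hr : ∀ i : Fin uB.length, ∃ r : ↥(CZ z π), (r : G) ∈ Subgroup.normalizer (V : Set G) ∧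
        Rel z ((r : G) * vec 260 * (r : G)⁻¹) (vec (uB.getD i 0)) := fun i => by
      obtain ⟨r, h1, -, h2⟩ := D.uB_reach i.2
      exact ⟨r, h1, h2⟩
    choose r hr1 hr2 using hr
    have hf : ∀ x : ↥N, ∃ i : Fin uB.length, (r i)⁻¹ * (x : ↥(CZ z π)) ∈ S ⊓ N := by
      intro x
      have hxN : ((x : ↥(CZ z π)) : G) ∈ Subgroup.normalizer (V : Set G) := Subgroup.mem_subgroupOf.1 x.2
      obtain ⟨hxz, -⟩ := mem_CZ.1 (x : ↥(CZ z π)).2
      obtain ⟨n, hn, hrn, -⟩ := D.inE_bad (D.conj_mem hxN D.seed_IsD.1)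
        (J.conjE hxz (D.full.Mo.coords.mem 260 (by norm_num))) (IsD.conj D hxN D.seed_IsD).2.1
        (IsD.conj D hxN D.seed_IsD).2.2
      obtain ⟨i, hi, rfl⟩ := List.getElem_of_mem hn
      refine ⟨⟨i, hi⟩, ?_, Subgroup.mem_subgroupOf.2 (mul_mem (inv_mem (hr1 _)) hxN)⟩
      have hrz := (Commute.inv_left (show Commute (r ⟨i, hi⟩ : G) z from (mem_CZ.1 (r ⟨i, hi⟩).2).1)).eq
      have h1 := hr2 ⟨i, hi⟩
      rw [List.getD_eq_getElem _ _ hi] at h1
      have h2 := J.rel_conj hrz (J.rel_trans hrn (J.rel_symm h1))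
      rw [inv_inv, show (r ⟨i, hi⟩ : G)⁻¹ * ((r ⟨i, hi⟩ : G) * vec 260 * (r ⟨i, hi⟩ : G)⁻¹) * (r ⟨i, hi⟩ : G) = vec 260 by group] at h2
      show Rel z (((r ⟨i, hi⟩)⁻¹ * (x : ↥(CZ z π)) : ↥(CZ z π)) * vec 260 * (((r ⟨i, hi⟩)⁻¹ * (x : ↥(CZ z π)) : ↥(CZ z π)) : G)⁻¹) (vec 260)
      simpa only [Subgroup.coe_mul, InvMemClass.coe_inv, mul_inv_rev, inv_inv, mul_assoc] using h2
    choose f hf using hf
    have h := Nat.card_le_card_of_injective (fun x : ↥N => ((f x, ⟨_, hf x⟩) : Fin uB.length × ↥(S ⊓ N))) fun x y e => by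
      obtain ⟨e1, e2⟩ := Prod.ext_iff.1 e
      have e2' : (r (f x))⁻¹ * (x : ↥(CZ z π)) = (r (f y))⁻¹ * (y : ↥(CZ z π)) := congrArg Subtype.val e2
      simp only at e1
      rw [e1] at e2'
      exact Subtype.ext (mul_left_cancel e2')
    rwa [Nat.card_prod, Nat.card_fin, u_ok.2.2.2.2.2.2.1] at h
  have heq : S ⊓ N = S := Subgroup.eq_of_le_of_card_ge inf_le_left (by omega)
  have hdS : d ∈ S := hd
  rw [← heq] at hdS
  exact Subgroup.mem_subgroupOf.1 hdS.2

/-- An element of the small class in `E` lies in one conjugate only. -/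
theorem uB_unique {t : G} (ht : IsD z V t) (htE : t ∈ E) {d : ↥(CZ z π)} (hd : (d : G)⁻¹ * t * d ∈ V) :
    (d : G) ∈ Subgroup.normalizer (V : Set G) := by
  obtain ⟨hdz, -⟩ := mem_CZ.1 d.2
  set t' := (d : G)⁻¹ * t * d with ht'
  have ht'E : t' ∈ E := J.conjE' hdz htE
  have ht'D : IsD z V t' := ⟨hd, fun h => ht.2.1 (by
      calc t = (d : G) * t' * (d : G)⁻¹ := by rw [ht']; group
        _ = 1 := by rw [h]; group),
    fun h => ht.2.2 (by
      rw [show t = (d : G) * t' * (d : G)⁻¹ by rw [ht']; group]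
      exact (isConj_conj_iff _).2 h)⟩
  obtain ⟨n, hn, hr, -⟩ := D.inE_bad ht.1 htE ht.2.1 ht.2.2
  obtain ⟨n', hn', hr', -⟩ := D.inE_bad hd ht'E ht'D.2.1 ht'D.2.2
  obtain ⟨i, hi, rfl⟩ := List.getElem_of_mem hn
  obtain ⟨j, hj, rfl⟩ := List.getElem_of_mem hn'
  obtain ⟨r, hrN, -, hr1⟩ := D.uB_reach hi
  obtain ⟨r', hr'N, -, hr'1⟩ := D.uB_reach hj
  rw [List.getD_eq_getElem _ _ hi] at hr1
  rw [List.getD_eq_getElem _ _ hj] at hr'1
  have h : ((r⁻¹ * d * r' : ↥(CZ z π)) : G) ∈ Subgroup.normalizer (V : Set G) := by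
    refine D.stab_le ?_
    have hrz := (Commute.inv_left (show Commute (r : G) z from (mem_CZ.1 r.2).1)).eq
    have h1 : Rel z ((r' : G) * vec 260 * (r' : G)⁻¹) t' := J.rel_trans hr'1 (J.rel_symm hr')
    have h2 := J.rel_conj hdz h1
    rw [ht', show (d : G) * ((d : G)⁻¹ * t * d) * (d : G)⁻¹ = t by group] at h2
    have h3 := J.rel_conj hrz (J.rel_trans h2 (J.rel_trans hr (J.rel_symm hr1)))
    rw [inv_inv, show (r : G)⁻¹ * ((r : G) * vec 260 * (r : G)⁻¹) * r = vec 260 by group] at h3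
    simpa only [Subgroup.coe_mul, InvMemClass.coe_inv, mul_inv_rev, inv_inv, mul_assoc] using h3
  simp only [Subgroup.coe_mul, InvMemClass.coe_inv] at h
  have := mul_mem (mul_mem hrN h) (inv_mem hr'N)
  rwa [show (r : G) * ((r : G)⁻¹ * d * r') * (r' : G)⁻¹ = d by group] at this

/-- **The centralizer in `C(z)` of an element of the small class normalizes the subgroup.** -/
theorem cent_z {t k : G} (ht : IsD z V t) (hkz : k * z = z * k) (hkt : k * t = t * k) :
    k ∈ Subgroup.normalizer (V : Set G) := by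
  set A := V.map (MulAut.conj k).toMonoidHom with hA
  have hAz : ∀ a ∈ A, a * z = z * a := by
    rintro _ ⟨v, hv, rfl⟩
    show k * v * k⁻¹ * z = z * (k * v * k⁻¹)
    have hz' : k⁻¹ * z = z * k⁻¹ := (Commute.inv_left (show Commute k z from hkz)).eq
    calc k * v * k⁻¹ * z = k * (v * z) * k⁻¹ := by rw [mul_assoc (k * v), hz']; group
      _ = k * (z * v) * k⁻¹ := by rw [D.isV.cz v hv]
      _ = _ := by rw [← mul_assoc k z, hkz]; group
  have hA1 : ∀ a ∈ A, a * a = 1 := by
    rintro _ ⟨v, hv, rfl⟩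
    rw [← map_mul, D.isV.sq v hv, map_one]
  obtain ⟨d, hd⟩ := D.full.exists_isV_conj hAz hA1
    (by rw [hA, Subgroup.card_map_of_injective (MulAut.conj k).injective, D.isV.card])
  have heq := D.isV.unique D.small hd
  have hmem : ∀ x, x ∈ A → (d : G)⁻¹ * x * d ∈ V := fun x hx => heq.le ⟨x, hx, by simp⟩
  have htA : t ∈ A := ⟨t, ht.1, by show k * t * k⁻¹ = t; rw [hkt, mul_inv_cancel_right]⟩
  have hdN : (d : G) ∈ Subgroup.normalizer (V : Set G) := by
    by_cases htE : t ∈ E
    · exact D.uB_unique ht htE (hmem t htA)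
    · obtain ⟨hdz, -⟩ := mem_CZ.1 d.2
      obtain ⟨c, hcE, -, hc2, -, hcK⟩ := D.isV.split D.small ht.1
      have hc1 : J.proj c ≠ 1 := by
        intro h
        apply htE
        have : (c : G) ∈ E := by
          rcases J.small_of_proj_one h (Or.inl hc2) with k | k <;> rw [k]
          exacts [E.one_mem, J.s.z_mem]
        have h' := E.mul_mem hcE this
        rwa [inv_mul_cancel_right] at h'
      have hK : J.proj (d⁻¹ * c * d) ∈ hexK g := D.isV.image _ (hmem t htA) _ (by
        have := J.conjE' hdz hcE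
        convert this using 1
        simp only [Subgroup.coe_mul, InvMemClass.coe_inv]; group)
      rw [map_mul, map_mul, map_inv] at hK
      have hne : (J.proj d)⁻¹ * J.proj c * J.proj d ≠ 1 := fun h => hc1 (by
        calc J.proj c = J.proj d * ((J.proj d)⁻¹ * J.proj c * J.proj d) * (J.proj d)⁻¹ := by group
          _ = 1 := by rw [h]; group)
      obtain ⟨r, hr, hre⟩ := D.hexK_trans hcK hc1 hK hne
      have h1 := D.cent_le hcK hc1 (m := J.proj d * J.proj r) (mul_inv_eq_iff_eq_mul.1 (by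
        calc J.proj d * J.proj r * J.proj c * (J.proj d * J.proj r)⁻¹ =
            J.proj d * (J.proj r * J.proj c * (J.proj r)⁻¹) * (J.proj d)⁻¹ := by group
          _ = J.proj c := by rw [hre]; group))
      refine D.isV.mem_normalizer D.small ?_
      have := mul_mem h1 (inv_mem hr)
      rwa [mul_inv_cancel_right] at this
  refine D.mem_normalizer_of_conj fun v hv => ?_
  have h := D.conj_mem hdN (hmem _ (⟨v, hv, rfl⟩ : k * v * k⁻¹ ∈ A))
  rwa [show (d : G) * ((d : G)⁻¹ * (k * v * k⁻¹) * d) * (d : G)⁻¹ = k * v * k⁻¹ by group] at h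

/-- The same for any conjugate of `z` in the subgroup. -/
theorem cent_conj {v t k : G} (hv : v ∈ V) (hvz : IsConj z v) (ht : IsD z V t) (hkv : k * v = v * k)
    (hkt : k * t = t * k) : k ∈ Subgroup.normalizer (V : Set G) := by
  obtain ⟨x, rfl⟩ := isConj_iff.1 hvz
  obtain ⟨n, hn, hne⟩ := D.fuse D.isV.z_mem hv
  rw [← hne] at hkv
  have ht' : IsD z V (n⁻¹ * t * n) := by
    have := IsD.conj D (inv_mem hn) ht
    rwa [inv_inv] at this
  have h := D.cent_z (k := n⁻¹ * k * n) ht'
    (by calc n⁻¹ * k * n * z = n⁻¹ * (k * (n * z * n⁻¹)) * n := by group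
          _ = _ := by rw [hkv]; group)
    (by calc n⁻¹ * k * n * (n⁻¹ * t * n) = n⁻¹ * (k * t) * n := by group
          _ = _ := by rw [hkt]; group)
  have := mul_mem (mul_mem hn h) (inv_mem hn)
  rwa [show n * (n⁻¹ * k * n) * n⁻¹ = k by group] at this

/-- The normalizer controls fusion in the centralizer of an element of the small class. -/
theorem fuse_cent {a t k : G} (ha : a ∈ V) (haz : IsConj z a) (ht : IsD z V t) (hkt : k * t = t * k)
    (hk : k * a * k⁻¹ ∈ V) : k ∈ Subgroup.normalizer (V : Set G) := by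
  refine D.eq_of_le_normalizer fun v hv => ?_
  refine D.cent_conj hk ((isConj_conj_iff k).2 haz) ht ?_ ?_
  · calc k * v * k⁻¹ * (k * a * k⁻¹) = k * (v * a) * k⁻¹ := by group
      _ = k * (a * v) * k⁻¹ := by rw [D.isV.comm v hv a ha]
      _ = _ := by group
  · have hti : k⁻¹ * t = t * k⁻¹ := (Commute.inv_left (show Commute k t from hkt)).eq
    calc k * v * k⁻¹ * t = k * (v * t) * k⁻¹ := by rw [mul_assoc (k * v), hti]; group
      _ = k * (t * v) * k⁻¹ := by rw [D.isV.comm v hv t ht.1]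
      _ = _ := by rw [← mul_assoc k t, hkt]; group

end Ctx.Std

end CfsgLib.JFour
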