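import Cfsg.Agent.Lib.JFour.VSetup
import Cfsg.Agent.Lib.JFour.VChecks

/-!
# The three kinds of vectors

Every nonzero vector is the image of one of the seeds `76`, `260`, `6` under `C(z, π)`.  The first two
lie in the fixed space, so their representatives are involutions; the last one has square `z`.
-/

set_option autoImplicit false
set_option maxRecDepth 100000
set_option linter.style.haveILetI false
set_option linter.unusedSectionVars false

open Cfsg

namespace CfsgLib.JFour

variable {G : Type*} [Group G] [Finite G] {M : Type*} [Group M] [Finite M] {z π : G} {E : Subgroup G}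

theorem linked_induction {P : ℕ → Prop} (hstep : ∀ k < 6, ∀ n < 4096, P (ap (moveI.getD k []) n) → P n) :
    ∀ ls : List ℕ, linked ls = true → (∀ n < 4096, (ls.getD 0 0).testBit n = true → P n) →
      ∀ n < 4096, inLay ls n = true → P n
  | [], _, _ => fun n _ h => by simp [inLay] at h
  | [a], _, h0 => fun n hn h => h0 n hn (by simpa [inLay] using h)
  | a :: b :: ls, h, h0 => fun n hn hin => by
    simp only [linked, Bool.and_eq_true, List.all_eq_true, List.mem_range, Bool.or_eq_true,
      Bool.not_eq_true', List.any_eq_true] at h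
    obtain ⟨h1, h2⟩ := h
    have hb : ∀ n < 4096, b.testBit n = true → P n := by
      intro n hn hb
      rcases h1 n hn with h1 | ⟨B, hB, hB'⟩
      · rw [hb] at h1
        exact Bool.noConfusion h1
      obtain ⟨k, hk, rfl⟩ := List.getElem_of_mem hB
      have hok : okB moveI[k] = true := by
        have := List.all_eq_true.1 move_ok.1 k (List.mem_range.2 (move_ok.2 ▸ hk))
        simp only [Bool.and_eq_true] at this
        rw [← List.getD_eq_getElem moveI [] hk]
        exact this.1.1
      refine hstep k (move_ok.2 ▸ hk) n hn ?_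
      rw [List.getD_eq_getElem _ _ hk]
      exact h0 _ (okB_lt hok n) hB'
    simp only [inLay, List.any_cons, Bool.or_eq_true] at hin
    rcases hin with hin | hin
    · exact h0 n hn hin
    · refine linked_induction hstep (b :: ls) h2 hb n hn ?_
      simp only [inLay, List.any_cons, Bool.or_eq_true]
      exact hin

theorem single_seed {ls : List ℕ} {seed : ℕ} (h : single (ls.getD 0 0) seed = true) {n : ℕ} (hn : n < 4096)
    (hb : (ls.getD 0 0).testBit n = true) : n = seed := by
  have := List.all_eq_true.1 h n (List.mem_range.2 hn)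
  rw [hb] at this
  simpa using this

theorem comp_idB_apply {B C : List ℕ} (h : (comp B C == idB) = true) {n : ℕ} (hn : n < 4096) :
    ap B (ap C n) = n := by
  rw [← ap_comp, beq_iff_eq.1 h]
  refine (ap_ext (f := fun n => n) (fun _ _ _ _ => rfl) ?_ rfl n hn).symm
  intro i hi
  interval_cases i <;> decide

namespace Ctx

variable {J : Ctx M z π E} {g : ℕ → M} {vec : ℕ → G}

namespace Full

variable (S : J.Full g vec)
include S

/-- The elements of `C(z, π)` giving the six moves. -/
theorem exists_move' {k : ℕ} (hk : k < 6) : ∃ c : ↥(CZ z π), Acts z vec (c : G) (moveB.getD k []) := by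
  have hlen : MS.length = 5 := rfl
  rcases Nat.lt_or_ge k 5 with h | h
  · obtain ⟨c, -, hc⟩ := S.Mo.gens k h
    refine ⟨c, ?_⟩
    rw [moveB, List.getD_append _ _ _ _ (by omega), List.getD_eq_getElem _ _ (by omega)]
    rwa [List.getD_eq_getElem _ _ (by omega)] at hc
  · obtain rfl : k = 5 := by omega
    exact ⟨⟨π, J.pi_mem_CZ⟩, S.Mo.om⟩

/-- A vector of an orbit is the image of the seed. -/
theorem reach {ls : List ℕ} {seed : ℕ} (hseed : seed < 4096)
    (h : linked ls = true ∧ single (ls.getD 0 0) seed = true) {n : ℕ} (hn : n < 4096) (hin : inLay ls n = true) :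
    ∃ d : ↥(CZ z π), Rel z ((d : G) * vec seed * (d : G)⁻¹) (vec n) := by
  refine linked_induction (P := fun n => ∃ d : ↥(CZ z π), Rel z ((d : G) * vec seed * (d : G)⁻¹) (vec n))
    ?_ ls h.1 ?_ n hn hin
  · intro k hk n hn ⟨d, hd⟩
    obtain ⟨c, hc⟩ := S.exists_move' hk
    have hok := List.all_eq_true.1 move_ok.1 k (List.mem_range.2 hk)
    simp only [Bool.and_eq_true] at hok
    refine ⟨c * d, ?_⟩
    have h1 := hc.2 _ (okB_lt hok.1.1 n)
    rw [comp_idB_apply hok.2 hn] at h1
    refine J.rel_trans ?_ h1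
    have h2 := J.rel_conj (mem_CZ.1 c.2).1 hd
    simpa only [Subgroup.coe_mul, mul_inv_rev, mul_assoc] using h2
  · intro n hn hb
    obtain rfl := single_seed h.2 hn hb
    exact ⟨1, by simpa using J.rel_refl (vec n)⟩

/-- The four cases. -/
theorem vec_cases {n : ℕ} (hn : n < 4096) :
    n = 0 ∨ inLay layA n = true ∨ inLay layB n = true ∨ inLay layC n = true := by
  have := List.all_eq_true.1 cover_ok n (List.mem_range.2 hn)
  simpa [or_assoc] using this

variable {V : Subgroup G} (hV : J.IsV g V)
include hV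

/-- The fixed space. -/
theorem vec_mem_V {n : ℕ} (hn : n < 4096) : vec n ∈ V ↔ fixP hexW n = true := by
  obtain ⟨d, U, ψ, -, -, -, hU, hUc, -, -⟩ := S.eleven_data hV.cz hV.sq hV.card
  obtain ⟨U', hU'E, hzU', hU'v, hU'c⟩ := J.exists_fixU S.Mo.coords hexW
  rw [fix_counts.1] at hU'c
  have hle : V ⊓ E ≤ U' := by
    intro e he
    obtain ⟨m, hm, hr, hiff⟩ := J.vec_mem S.Mo.coords (A := U') hzU' he.2
    refine hiff.2 ((hU'v m hm).2 ?_)
    simp only [fixP, List.all_eq_true, Nat.beq_eq]
    intro w hw
    obtain ⟨c, hc, hc2⟩ := J.exists_lift_invol S.small (S.S16.sq w hw)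
    have hB := S.Mo.acts_invol S.small (hex_mem_hw hw) (a := (c : G)) (c := c)
      (by rw [mul_inv_cancel]; exact one_mem E) (by rw [hc2]; exact one_mem E) hc
    have hce := hV.comm _ (hV.lift c hc2 (hc ▸ Subgroup.subset_closure ⟨w, hw, rfl⟩)) e he.1
    refine (S.Mo.coords.rel_iff J (okB_lt hB.1 m) hm).1 ?_
    refine J.rel_trans (J.rel_symm (hB.2 m hm)) ?_
    refine J.rel_trans (J.rel_conj (mem_CZ.1 c.2).1 (J.rel_symm hr)) ?_
    rw [hce, mul_inv_cancel_right]
    exact hr
  have heq : V ⊓ E = U' := Subgroup.eq_of_le_of_card_ge hle (by rw [hU, hUc, hU'c]; norm_num)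
  rw [← hU'v n hn, ← heq, Subgroup.mem_inf]
  exact ⟨fun h => ⟨h, S.Mo.coords.mem n hn⟩, fun h => h.1⟩

theorem card_inf_E : Nat.card ↥(V ⊓ E) = 2 ^ 7 := by
  obtain ⟨d, U, ψ, -, -, -, hU, hUc, -, -⟩ := S.eleven_data hV.cz hV.sq hV.card
  rw [hU, hUc]

theorem seeds_mem : vec 76 ∈ V ∧ vec 260 ∈ V := by
  have hA : 76 ∈ uA := by decide
  have hB : 260 ∈ uB := by decide
  have h := List.all_eq_true.1 u_ok.2.2.2.1
  exact ⟨(S.vec_mem_V hV (by norm_num)).2 (h _ (List.mem_append_left _ hA)),
    (S.vec_mem_V hV (by norm_num)).2 (h _ (List.mem_append_right _ hB))⟩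

omit hV in
/-- Squares are invariant. -/
theorem sq_of_rel {a b : G} (h : Rel z a b) (hb : b ∈ E) : a * a = b * b := by
  rcases h with rfl | rfl
  · rfl
  · calc z * b * (z * b) = z * (b * z) * b := by group
      _ = z * z * (b * b) := by rw [J.s.z_comm hb]; group
      _ = b * b := by rw [J.zz, one_mul]

omit hV in
theorem sq_conj {d : ↥(CZ z π)} {x : G} (hx : x * x = 1 ∨ x * x = z) :
    (d : G) * x * (d : G)⁻¹ * ((d : G) * x * (d : G)⁻¹) = x * x := by
  calc (d : G) * x * (d : G)⁻¹ * ((d : G) * x * (d : G)⁻¹) = (d : G) * (x * x) * (d : G)⁻¹ := by group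
    _ = x * x := by
      rcases hx with e | e <;> rw [e]
      · group
      · rw [(mem_CZ.1 d.2).1, mul_inv_cancel_right]

/-- Exactly the vectors of the third kind square to `z`. -/
theorem sq_vec {n : ℕ} (hn : n < 4096) : vec n * vec n = if aniso n then z else 1 := by
  have hsq : ∀ {ls : List ℕ} {seed : ℕ}, seed < 4096 → linked ls = true ∧ single (ls.getD 0 0) seed = true →
      ∀ {m : ℕ}, m < 4096 → inLay ls m = true → vec m * vec m = vec seed * vec seed := by
    intro ls seed hs h m hm hin
    obtain ⟨d, hd⟩ := S.reach hs h hm hin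
    have hx := J.s.sq_cases (S.Mo.coords.mem seed hs)
    rw [← S.sq_conj (d := d) hx, S.sq_of_rel hd (S.Mo.coords.mem m hm)]
  have h0 : ∀ m, m < 4096 → inLay layC m = false → vec m * vec m = 1 := by
    intro m hm hC
    rcases S.vec_cases hm with e | e | e | e
    · subst e
      rw [S.sq_of_rel (S.Mo.coords.rel_zero J) (one_mem E), one_mul]
    · rw [hsq (by norm_num) layA_ok hm e, hV.sq _ (S.seeds_mem hV).1]
    · rw [hsq (by norm_num) layB_ok hm e, hV.sq _ (S.seeds_mem hV).2]
    · rw [e] at hC
      exact Bool.noConfusion hC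
  obtain ⟨f, hf, hff⟩ : ∃ f ∈ E, f * f = z := by
    by_contra hno
    push Not at hno
    have hall : ∀ f ∈ E, f * f = 1 := fun f hf => (J.s.sq_cases hf).resolve_right (hno f hf)
    have := J.card_abelian_le le_rfl (comm_of_sq hall)
    rw [J.cardE] at this
    norm_num at this
  have hseed : vec 6 * vec 6 = z := by
    obtain ⟨m, hm, hr⟩ := S.Mo.coords.surj f hf
    have hmz : vec m * vec m = z := by rw [← S.sq_of_rel hr (S.Mo.coords.mem m hm), hff]
    cases hC : inLay layC m
    · rw [h0 m hm hC] at hmz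
      exact absurd hmz.symm J.z_ne
    · rw [← hsq (by norm_num) layC_ok hm hC, hmz]
  cases hC : inLay layC n
  · rw [h0 n hn hC, show aniso n = false from hC]
    rfl
  · rw [hsq (by norm_num) layC_ok hn hC, hseed, show aniso n = true from hC]
    rfl

theorem sq_one_iff {n : ℕ} (hn : n < 4096) : vec n * vec n = 1 ↔ inLay layC n = false := by
  rw [S.sq_vec hV hn]
  show (if inLay layC n then z else 1) = 1 ↔ _
  cases inLay layC n
  · simp
  · simp [J.z_ne]

/-- The commutator form. -/
theorem comm_vec {m n : ℕ} (hm : m < 4096) (hn : n < 4096) :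
    vec m * vec n = vec n * vec m ↔ bb m n = false := by
  have hmn : Nat.xor m n < 4096 := Nat.xor_lt_two_pow (n := 12) hm hn
  set a := vec m
  set b := vec n
  have ha : a ∈ E := S.Mo.coords.mem m hm
  have hb : b ∈ E := S.Mo.coords.mem n hn
  have hab : (a * b) * (a * b) = vec (Nat.xor m n) * vec (Nat.xor m n) :=
    S.sq_of_rel (J.rel_symm (S.Mo.coords.add m n hm hn)) (S.Mo.coords.mem _ hmn)
  rw [S.sq_vec hV hmn] at hab
  have h1 : a * a = if aniso m then z else 1 := S.sq_vec hV hm
  have h2 : b * b = if aniso n then z else 1 := S.sq_vec hV hn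
  have e : (a * b) * (a * b) = a * (b * a) * b := by group
  rcases J.comm_val hb ha with k | k
  · rw [e, k, show a * (a * b) * b = a * a * (b * b) by group, h1, h2] at hab
    refine iff_of_true k.symm ?_
    unfold bb
    simp only [show Nat.xor m n = m ^^^ n from rfl] at hab ⊢
    cases hA : aniso m <;> cases hB : aniso n <;> cases hC : aniso (m ^^^ n) <;>
      simp_all [J.zz, J.z_ne, J.z_ne.symm]
  · rw [e, k, show a * (z * (a * b)) * b = a * z * (a * (b * b)) by group, J.s.z_comm ha,
      show z * a * (a * (b * b)) = z * ((a * a) * (b * b)) by group, h1, h2] at hab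
    refine iff_of_false (fun h => ?_) ?_
    · rw [h] at k
      exact J.z_ne (mul_eq_right.1 k.symm)
    · unfold bb
      simp only [show Nat.xor m n = m ^^^ n from rfl] at hab ⊢
      cases hA : aniso m <;> cases hB : aniso n <;> cases hC : aniso (m ^^^ n) <;>
        simp_all [J.zz, J.z_ne, J.z_ne.symm]

end Full

end Ctx

end CfsgLib.JFour
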