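import Cfsg.Agent.Lib.JFour.VLocal
import Cfsg.Agent.Lib.JFour.VInner

/-!
# Subgroups of the standard subgroup without conjugates of `z`

They have order at most four, and two elements of such a subgroup have a common translating conjugate
of `z`.
-/

set_option autoImplicit false
set_option maxRecDepth 100000
set_option linter.style.haveILetI false
set_option linter.unusedSectionVars false

open Cfsg

namespace CfsgLib.JFour

/-- No product of two of the five lies among the five. -/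
theorem five_indep : (fiveL.all fun p => fiveL.all fun q => fiveL.all fun r => Nat.beq p.1 q.1 ||
    (List.range 12).any fun l => !Nat.beq (ap (comp (hexB p.1) (hexB q.1)) (2 ^ l)) (ap (hexB r.1) (2 ^ l))) = true := by
  decide +kernel

/-- The five form one cycle. -/
theorem five_cycle : fivePerm.map Prod.snd = [12, 6, 14, 15, 11] ∧ fiveL.map Prod.fst = [6, 11, 12, 14, 15] ∧
    fivePerm.map Prod.fst = [6, 11, 12, 14, 15] := by decide +kernel

theorem fiveU_ok : uB.contains 520 = true ∧ uB.contains 780 = true ∧ okB (wordB MS (normW.getD 2 [])) = true := by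
  decide +kernel

variable {G : Type*} [Group G] [Finite G] {M : Type*} [Group M] [Finite M] {z π : G} {E : Subgroup G}

namespace Ctx.Std

variable {J : Ctx M z π E} {g : ℕ → M} {vec : ℕ → G} {V : Subgroup G} (D : J.Std g vec V)
include D

/-- The lifts of a listed product act by its matrix. -/
theorem acts_hexB {i : ℕ} (hi : i < 16) {c : ↥(CZ z π)} (hc : J.proj c = ((hexS.getD i []).map g).prod)
    (hc2 : (c : G) * c = 1) : Acts z vec (c : G) (hexB i) := by
  have key : ∀ s : List (List ℕ), (∀ w ∈ s, w ∈ hexW) → ∃ c : ↥(CZ z π), (c : G) ∈ V ∧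
      J.proj c = ((s.flatten).map g).prod ∧ Acts z vec (c : G) ((s.map wB).foldr comp idB) := by
    intro s hs
    induction s with
    | nil => exact ⟨1, V.one_mem, by simp, D.full.Mo.coords.acts_one J⟩
    | cons w s ih =>
      obtain ⟨c, hcV, hcp, hcA⟩ := ih fun x hx => hs x (List.mem_cons_of_mem _ hx)
      have hw := hs w List.mem_cons_self
      obtain ⟨d, hd, hd2⟩ := J.exists_lift_invol D.small (D.full.S16.sq w hw)
      have hdV := D.isV.lift d hd2 (hd ▸ Subgroup.subset_closure ⟨w, hw, rfl⟩)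
      have hdA := D.full.Mo.acts_invol D.small (hex_mem_hw hw) (a := (d : G)) (c := d)
        (by rw [mul_inv_cancel]; exact one_mem E) (by rw [hd2]; exact one_mem E) hd
      refine ⟨d * c, V.mul_mem hdV hcV, by rw [map_mul, hd, hcp, List.flatten_cons, List.map_append, List.prod_append], ?_⟩
      exact D.full.Mo.coords.acts_mul J hdA (mem_CZ.1 d.2).1 hcA (okB_comp hdA.1 hcA.1)
  obtain ⟨c', hc'V, hc'p, hc'A⟩ := key (hexW.sublists.getD i []) (fun w hw => by
    rw [List.getD_eq_getElem _ _ (show i < hexW.sublists.length by rw [List.length_sublists]; exact hi)] at hw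
    exact (List.mem_sublists.1 (List.getElem_mem _)).subset hw)
  have hlen : i < hexW.sublists.length := by rw [List.length_sublists]; exact hi
  have he : (hexW.sublists.getD i []).flatten = hexS.getD i [] := by
    rw [List.getD_eq_getElem _ _ hlen, List.getD_eq_getElem _ _ (show i < hexS.length by
      rw [hexS, List.length_map]; exact hlen)]
    simp [hexS]
  rw [he] at hc'p
  rcases J.lift_unique (D.isV.sq _ hc'V) hc2 (hc.trans hc'p.symm) with k | k <;> rw [k]
  · exact hc'A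
  · exact D.full.Mo.coords.acts_mul_E J hc'A J.s.z_mem (mem_CZ.1 c'.2).1

/-- A vector acted on trivially, up to the centre. -/
theorem seed_cases {d : G} (hd : d * z = z * d) (h : Rel z (d * vec 260 * d⁻¹) (vec 260)) :
    ∃ u ∈ E, u * d * vec 260 * (u * d)⁻¹ = vec 260 := by
  rcases h with h | h
  · exact ⟨1, E.one_mem, by rw [one_mul]; exact h⟩
  · have hv := D.vec_ne (n := 260) (by norm_num) (by norm_num)
    obtain ⟨u, hu, hue⟩ := J.s.exists_move (D.full.Mo.coords.mem 260 (by norm_num)) hv.1 hv.2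
    refine ⟨u, hu, ?_⟩
    calc u * d * vec 260 * (u * d)⁻¹ = u * (d * vec 260 * d⁻¹) * u⁻¹ := by group
      _ = u * z * u⁻¹ * (u * vec 260 * u⁻¹) := by rw [h]; group
      _ = vec 260 := by rw [J.s.z_comm hu, mul_inv_cancel_right, hue, ← mul_assoc, J.zz, one_mul]

/-- Over the small class the part in `E` is a commutator. -/
theorem mem_tc_of_bad {c : ↥(CZ z π)} (hc2 : (c : G) * c = 1) (hcK : J.proj c ∈ hexK g) (hc1 : J.proj c ≠ 1)
    {u : G} (hu : u ∈ V ⊓ E) (hb : ¬ IsConj z (u * c)) : u ∈ tc z E (c : G) := by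
  by_contra h
  exact hb (D.conj_classes.2.2.1 c hc2 hcK hc1 u hu h)

/-- The neighbours inside `E`. -/
theorem nbr_U {s : G} (hs : IsD z V s) (hsE : s ∈ E) (hts : IsD z V (vec 260 * s)) :
    Rel z s (vec 520) ∨ Rel z s (vec 780) := by
  obtain ⟨n, hn, hr, -⟩ := D.inE_bad hs.1 hsE hs.2.1 hs.2.2
  obtain ⟨hlt, -⟩ := D.uA_mem (List.mem_append_right _ hn)
  have h260 : vec 260 ∈ E := D.full.Mo.coords.mem 260 (by norm_num)
  obtain ⟨m, hm, hr', -⟩ := D.inE_bad hts.1 (E.mul_mem h260 hsE) hts.2.1 hts.2.2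
  obtain ⟨hlt', -⟩ := D.uA_mem (List.mem_append_right _ hm)
  have h1 : Rel z (vec 260 * s) (vec (Nat.xor 260 n)) :=
    J.rel_trans (J.rel_mul (J.s.z_comm h260) (J.rel_refl _) hr)
      (J.rel_symm (D.full.Mo.coords.add 260 n (by norm_num) hlt))
  have hmx : m = Nat.xor 260 n := (D.full.Mo.coords.rel_iff J hlt' (Nat.xor_lt_two_pow (n := 12) (by norm_num) hlt)).1
    (J.rel_trans (J.rel_symm hr') h1)
  have h := List.all_eq_true.1 nbr_ok.1 n hn
  simp only [Bool.or_eq_true, Bool.not_eq_true', Nat.beq_eq] at h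
  rcases h with (h | h) | h
  · rw [hmx] at hm
    rw [List.contains_iff_mem.2 hm] at h
    exact Bool.noConfusion h
  · exact Or.inl (h ▸ hr)
  · exact Or.inr (h ▸ hr)

/-- The neighbours outside `E`. -/
theorem nbr_cross {t s : G} (ht : t ∈ V) (htE : t ∈ E) (hs : IsD z V s) (hsE : s ∉ E) (hts : IsD z V (t * s)) :
    ∃ c : ↥(CZ z π), (c : G) * c = 1 ∧ J.proj c ∈ hexK g ∧ J.proj c ≠ 1 ∧ ¬ IsConj z (c : G) ∧
      t ∈ tc z E (c : G) ∧ ∃ e ∈ E, e * c * e⁻¹ = s := by
  obtain ⟨c, hc2, hcK, hc1, hnc, -, hu, e, he, hes⟩ := D.cross_bad hs.1 hsE hs.2.2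
  refine ⟨c, hc2, hcK, hc1, hnc, ?_, e, he, hes⟩
  have hcV := D.isV.lift c hc2 hcK
  have huE := (Subgroup.mem_inf.1 (D.tc_le hc2 hcK hc1 hu))
  have h1 : t * (s * (c : G)⁻¹) ∈ tc z E (c : G) := D.mem_tc_of_bad hc2 hcK hc1
    ⟨V.mul_mem ht huE.1, E.mul_mem htE huE.2⟩ (by rw [← mul_assoc, inv_mul_cancel_right]; exact hts.2.2)
  have := (tc z E (c : G)).mul_mem h1 ((tc z E (c : G)).inv_mem hu)
  rwa [mul_inv_cancel_right] at this

/-- The element 260 is a commutator only over the five listed products. -/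
theorem five_of_tc {c : ↥(CZ z π)} (hc2 : (c : G) * c = 1) (hcK : J.proj c ∈ hexK g) (hc1 : J.proj c ≠ 1)
    (ht : vec 260 ∈ tc z E (c : G)) :
    ∃ p ∈ fiveL, J.proj c = ((hexS.getD p.1 []).map g).prod ∧ Acts z vec (c : G) (hexB p.1) := by
  obtain ⟨i, hi, he⟩ := D.hexK_card_eq.2 _ hcK
  have hA := D.acts_hexB hi he hc2
  have h := List.all_eq_true.1 five_ok.2.2.1 i (List.mem_range.2 hi)
  simp only [Bool.or_eq_true, Nat.beq_eq, List.contains_iff_mem, List.mem_map] at h
  rcases h with (h | ⟨p, hp, rfl⟩) | ⟨p, hp, rfl⟩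
  · subst h
    exact absurd (he.trans D.hexS_zero) hc1
  · exact ⟨p, hp, he, hA⟩
  · exfalso
    have h := List.all_eq_true.1 five_ok.2.1 p hp
    simp only [Bool.and_eq_true, Nat.beq_eq] at h
    have hp2 : p.2 < 4096 := h.1 ▸ okB_lt hA.1 _
    have hfx : vec p.2 ∈ fx z E (c : G) := (D.full.Mo.coords.mem_fx_vec J hA (mem_CZ.1 c.2).1 hp2).2 h.1
    have hcom : vec p.2 * vec 260 = vec 260 * vec p.2 :=
      ((mem_perp.1 (J.fx_le_perp (mem_CZ.1 c.2).1 hfx)).2 _ ht).symm
    rw [D.full.comm_vec D.isV hp2 (by norm_num), h.2] at hcom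
    exact Bool.noConfusion hcom

/-- An element of the normalizer in `C(z)` cycling the five products and fixing the element 260. -/
theorem five_move {p : ℕ × ℕ} (hp : p ∈ fivePerm) :
    ∃ d : G, d ∈ Subgroup.normalizer (V : Set G) ∧ d * z = z * d ∧ d * vec 260 * d⁻¹ = vec 260 ∧
      ∀ s, IsD z V s → ∀ c : ↥(CZ z π), s * (c : G)⁻¹ ∈ E → J.proj c = ((hexS.getD p.1 []).map g).prod →
        ∃ c' : ↥(CZ z π), d * s * d⁻¹ * (c' : G)⁻¹ ∈ E ∧ J.proj c' = ((hexS.getD p.2 []).map g).prod := by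
  obtain ⟨w, hw, hwA⟩ := D.full.Mo.lift (w := normW.getD 2 []) (by decide)
  let d0 : ↥(CZ z π) := ⟨π, J.pi_mem_CZ⟩ * (⟨π, J.pi_mem_CZ⟩ * w)
  have hA : Acts z vec (d0 : G) (sB 2 (wordB MS (normW.getD 2 []))) := by
    have h1 := D.full.Mo.coords.acts_mul J D.full.Mo.om J.piz hwA (okB_comp D.full.Mo.om.1 hwA.1)
    exact D.full.Mo.coords.acts_mul J D.full.Mo.om J.piz h1 (okB_comp D.full.Mo.om.1 h1.1)
  have h260 := hA.2 260 (by norm_num)
  rw [Nat.eq_of_beq_eq_true five_ok.2.2.2.1] at h260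
  obtain ⟨hdz, -⟩ := mem_CZ.1 d0.2
  have hd0N : (d0 : G) ∈ Subgroup.normalizer (V : Set G) := D.stab_le h260
  obtain ⟨u, hu, hue⟩ := D.seed_cases hdz h260
  refine ⟨u * d0, mul_mem (D.E_le hu) hd0N,
    ((show Commute u z from J.s.z_comm hu).mul_left (show Commute (d0 : G) z from hdz)).eq, hue, fun s hs c hc hcp => ?_⟩
  refine ⟨d0 * c * d0⁻¹, ?_, ?_⟩
  · have h1 : (d0 : G) * (s * (c : G)⁻¹) * (d0 : G)⁻¹ ∈ E := J.conjE hdz hc
    have h2 : ((d0 * c * d0⁻¹ : ↥(CZ z π)) : G) * u⁻¹ * ((d0 * c * d0⁻¹ : ↥(CZ z π)) : G)⁻¹ ∈ E :=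
      J.conjE (mem_CZ.1 (d0 * c * d0⁻¹).2).1 (E.inv_mem hu)
    have := E.mul_mem (E.mul_mem hu h1) h2
    convert this using 1
    simp only [Subgroup.coe_mul, InvMemClass.coe_inv]
    group
  · have hq : (normW.getD 2 [], p.1, p.2) ∈ conjL := List.mem_append_right _ (List.mem_map.2 ⟨p, hp, rfl⟩)
    have hc' := D.full.H.conjW _ hq
    simp only [List.map_append, List.prod_append] at hc'
    have hd0p : J.proj d0 = ((normW.getD 2 []).map g).prod := by
      rw [map_mul, map_mul, J.proj_pi, one_mul, one_mul, hw]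
    rw [map_mul, map_mul, map_inv, hd0p, hcp, hc', mul_inv_cancel_right]

/-- Two neighbours outside `E` over the same product are conjugate fixing 260. -/
theorem five_same {c : ↥(CZ z π)} (hc2 : (c : G) * c = 1) (hcK : J.proj c ∈ hexK g) (hc1 : J.proj c ≠ 1)
    {s s' : G} (hs : IsD z V s) (hts : IsD z V (vec 260 * s)) (hse : ∃ e ∈ E, e * c * e⁻¹ = s)
    (hts' : IsD z V (vec 260 * s')) (hse' : ∃ e ∈ E, e * c * e⁻¹ = s') (ht : vec 260 ∈ tc z E (c : G)) :
    ∃ d ∈ Subgroup.normalizer (V : Set G), d * z = z * d ∧ d * vec 260 * d⁻¹ = vec 260 ∧ d * s * d⁻¹ = s' := by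
  obtain ⟨e, he, hes⟩ := hse
  obtain ⟨e', he', hes'⟩ := hse'
  have hd : e' * e⁻¹ ∈ E := E.mul_mem he' (E.inv_mem he)
  have hds : e' * e⁻¹ * s * (e' * e⁻¹)⁻¹ = s' := by rw [← hes, ← hes']; group
  refine ⟨_, D.E_le hd, J.s.z_comm hd, ?_, hds⟩
  refine (J.s.comm_cases hd (D.full.Mo.coords.mem 260 (by norm_num))).resolve_right fun h => ?_
  have h1 : e' * e⁻¹ * (vec 260 * s) * (e' * e⁻¹)⁻¹ = z * vec 260 * s' := by
    rw [← hds, ← h]; group
  have hb1 : ¬ IsConj z (z * vec 260 * s') := by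
    rw [← h1, isConj_conj_iff]
    exact hts.2.2
  have hu : s' * (c : G)⁻¹ ∈ tc z E (c : G) := by
    obtain ⟨hcz, -⟩ := mem_CZ.1 c.2
    refine (J.mem_tc hcz).2 ⟨e', he', ?_⟩
    have e1 : s' * (c : G)⁻¹ = ((c : G) * e' * (c : G)⁻¹ * e'⁻¹)⁻¹ := by rw [← hes']; group
    rw [e1]
    exact J.rel_inv (E.mul_mem (J.conjE hcz he') (E.inv_mem he'))
  have hu' := (tc z E (c : G)).mul_mem ht hu
  have h2 := D.tc_one hc2 hcK hc1 hu'
  rw [show vec 260 * (s' * (c : G)⁻¹) * (c : G) = vec 260 * s' by group,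
    show z * (vec 260 * (s' * (c : G)⁻¹)) * (c : G) = z * vec 260 * s' by group] at h2
  exact hts'.2.2 (h2.2 hb1)

/-- The property of a neighbour of 260 of having a common translating conjugate of `z`. -/
def HasCommon (_D : J.Std g vec V) (t s : G) : Prop :=
  ∃ a ∈ V, IsConj z a ∧ IsD z V (a * t) ∧ IsD z V (a * s) ∧ IsD z V (a * (t * s))

/-- A conjugate of `z` carrying a neighbour in `E` out of it. -/
theorem exists_cross_common :
    ∃ s, IsD z V s ∧ s ∉ E ∧ IsD z V (vec 260 * s) ∧ D.HasCommon (vec 260) s := by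
  have ht := D.seed_IsD
  have h260 : vec 260 ∈ E := D.full.Mo.coords.mem 260 (by norm_num)
  -- a conjugate of `z` outside `E`
  obtain ⟨c, hcp, hc2, hnc, hzc, hcV, hcE⟩ := D.exists_bad (y := ((hexS.getD 1 []).map g).prod) D.hexS_mem (fun h => by
    have := D.full.S16.distinct (1 : Fin 16) 0 (by
      show ((hexS.getD 1 []).map g).prod = ((hexS.getD 0 []).map g).prod
      rw [h, D.hexS_zero])
    exact absurd this (by decide))
  have hcK : J.proj c ∈ hexK g := hcp ▸ D.hexS_mem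
  have hc1 : J.proj c ≠ 1 := fun h => hcE (by
    rcases J.small_of_proj_one h (Or.inl hc2) with k | k <;> rw [k]
    exacts [E.one_mem, J.s.z_mem])
  have hnt : vec 260 ∉ tc z E (c : G) := by
    intro h
    obtain ⟨p, hp, he, -⟩ := D.five_of_tc hc2 hcK hc1 h
    have hp16 : p.1 < 16 := by
      have : fiveL.all (fun p => decide (p.1 < 16)) = true := by decide
      exact of_decide_eq_true (List.all_eq_true.1 this p hp)
    have h1 := D.full.S16.distinct ⟨1, by norm_num⟩ ⟨p.1, hp16⟩ (hcp.symm.trans he)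
    have : (fiveL.map Prod.fst).contains 1 = false := by decide
    rw [List.contains_iff_mem.2 (List.mem_map.2 ⟨p, hp, (congrArg Fin.val h1).symm⟩)] at this
    exact Bool.noConfusion this
  set q := vec 260 * c with hq
  have hqV : q ∈ V := V.mul_mem ht.1 hcV
  have hqz : IsConj z q := D.conj_classes.2.2.1 c hc2 hcK hc1 _ ⟨ht.1, h260⟩ hnt
  have hcD : IsD z V (c : G) := ⟨hcV, fun h => hcE (h ▸ E.one_mem), hnc⟩
  have hqt : IsD z V (q * vec 260) := by
    rwa [hq, D.isV.comm _ (V.mul_mem ht.1 hcV) _ ht.1, ← mul_assoc, D.isV.sq _ ht.1, one_mul]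
  have hqE : q ∉ E := fun h => hcE (by
    have := E.mul_mem (E.inv_mem h260) h
    rwa [hq, inv_mul_cancel_left] at this)
  obtain ⟨k, hk⟩ := isConj_iff.1 hqz
  obtain ⟨n1, hn1, hn1e⟩ := D.fuse (a := z) (k := k) D.isV.z_mem (by rw [hk]; exact hqV)
  rw [hk] at hn1e
  set t1 := n1⁻¹ * vec 260 * n1 with ht1
  have ht1D : IsD z V t1 := by simpa [ht1] using IsD.conj D (inv_mem hn1) ht
  have hzt1 : IsD z V (z * t1) := by
    have := IsD.conj D (inv_mem hn1) hqt
    rwa [← hn1e, inv_inv, show n1⁻¹ * (n1 * z * n1⁻¹ * vec 260) * n1 = z * t1 by rw [ht1]; group] at this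
  have ht1E : t1 ∈ E := by
    by_contra hE
    obtain ⟨c1, hc12, hc1K, hc11, -, hzc1, -, e, he, hes⟩ := D.cross_bad ht1D.1 hE ht1D.2.2
    refine hzt1.2.2 ?_
    have e1 : z * t1 = e * (z * c1) * e⁻¹ := by
      rw [← hes, show e * (z * (c1 : G)) * e⁻¹ = e * z * e⁻¹ * (e * c1 * e⁻¹) by group, J.s.z_comm he, mul_inv_cancel_right]
    rw [e1]
    exact (isConj_conj_iff e).2 hzc1
  obtain ⟨-, -, -, h, hh, hhz, hhe⟩ := D.inE_bad ht1D.1 ht1E ht1D.2.1 ht1D.2.2
  set n := n1 * h with hn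
  have hnN : n ∈ Subgroup.normalizer (V : Set G) := mul_mem hn1 hh
  have hnz : n * z * n⁻¹ = q := by
    rw [hn, ← hn1e, show n1 * h * z * (n1 * h)⁻¹ = n1 * (h * z * h⁻¹) * n1⁻¹ by group, hhz, mul_inv_cancel_right]
  have hnt2 : n * vec 260 * n⁻¹ = vec 260 := by
    rw [hn, show n1 * h * vec 260 * (n1 * h)⁻¹ = n1 * (h * vec 260 * h⁻¹) * n1⁻¹ by group, hhe, ht1]; group
  -- one of the two translates leaves `E`
  have hx : ∀ {m : ℕ}, uB.contains m = true → ∀ {x : G}, Rel z x (vec m) → IsD z V x := fun {m} hm {x} hx => by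
    obtain ⟨h1, -, h3, -⟩ := D.mem_of_list (List.mem_append_right _ (List.contains_iff_mem.1 hm)) hx
    exact ⟨h1, h3, fun k => D.conj_classes.2.1 ((D.uB_class (List.contains_iff_mem.1 hm) hx).1 k)⟩
  obtain ⟨d, hd, hdE⟩ : ∃ d, Rel z d (vec 520) ∧ n * d * n⁻¹ ∉ E := by
    by_contra hno
    push Not at hno
    have h1 := hno (vec 520) (Or.inl rfl)
    have h2 := hno (z * vec 520) (Or.inr rfl)
    rw [show n * (z * vec 520) * n⁻¹ = n * z * n⁻¹ * (n * vec 520 * n⁻¹) by group, hnz] at h2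
    exact hqE ((E.mul_mem_cancel_right h1).1 h2)
  have hdD := hx fiveU_ok.1 hd
  have htd : Rel z (vec 260 * d) (vec 780) := by
    refine J.rel_trans (J.rel_mul (J.s.z_comm h260) (J.rel_refl _) hd) ?_
    have h := D.full.Mo.coords.add 260 520 (by norm_num) (by norm_num)
    rw [show Nat.xor 260 520 = 780 from nbr_ok.2.2.2] at h
    exact J.rel_symm h
  have htdD := hx fiveU_ok.2.1 htd
  have e2 : vec 260 * (n * d * n⁻¹) = n * (vec 260 * d) * n⁻¹ := by
    calc vec 260 * (n * d * n⁻¹) = n * vec 260 * n⁻¹ * (n * d * n⁻¹) := by rw [hnt2]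
      _ = _ := by group
  refine ⟨n * d * n⁻¹, IsD.conj D hnN hdD, hdE, by rw [e2]; exact IsD.conj D hnN htdD, q, hqV, hqz, hqt, ?_, ?_⟩
  · rw [← hnz, show n * z * n⁻¹ * (n * d * n⁻¹) = n * (z * d) * n⁻¹ by group]
    refine IsD.conj D hnN (hx fiveU_ok.1 ?_)
    rcases hd with k | k <;> rw [k]
    · exact Or.inr rfl
    · exact Or.inl (by rw [← mul_assoc, J.zz, one_mul])
  · rw [e2, ← hnz, show n * z * n⁻¹ * (n * (vec 260 * d) * n⁻¹) = n * (z * (vec 260 * d)) * n⁻¹ by group]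
    refine IsD.conj D hnN (hx fiveU_ok.2.1 ?_)
    rcases htd with k | k <;> rw [k]
    · exact Or.inr rfl
    · exact Or.inl (by rw [← mul_assoc, J.zz, one_mul])

theorem hasCommon_conj {t s n : G} (hn : n ∈ Subgroup.normalizer (V : Set G)) (h : D.HasCommon t s) :
    D.HasCommon (n * t * n⁻¹) (n * s * n⁻¹) := by
  obtain ⟨a, ha, haz, h1, h2, h3⟩ := h
  refine ⟨n * a * n⁻¹, D.conj_mem hn ha, (isConj_conj_iff n).2 haz, ?_, ?_, ?_⟩
  · have := IsD.conj D hn h1; convert this using 1; group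
  · have := IsD.conj D hn h2; convert this using 1; group
  · have := IsD.conj D hn h3; convert this using 1; group

/-- Two elements whose product also is in the small class have a common translating conjugate. -/
theorem exists_common {t s : G} (ht : IsD z V t) (hs : IsD z V s) (hts : IsD z V (t * s)) : D.HasCommon t s := by
  suffices key : ∀ {s : G}, IsD z V s → IsD z V (vec 260 * s) → D.HasCommon (vec 260) s by
    obtain ⟨n, hn, rfl⟩ := D.D_trans D.seed_IsD ht
    have h1 : IsD z V (n⁻¹ * s * n) := by simpa using IsD.conj D (inv_mem hn) hs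
    have h2 : IsD z V (vec 260 * (n⁻¹ * s * n)) := by
      have := IsD.conj D (inv_mem hn) hts
      convert this using 1
      group
    have := D.hasCommon_conj hn (key h1 h2)
    convert this using 1
    group
  intro s hs hts
  have h260 : vec 260 ∈ E := D.full.Mo.coords.mem 260 (by norm_num)
  have hzD : ∀ {x : G}, IsD z V x → x ∈ E → IsD z V (z * x) := by
    intro x hx hxE
    have hxz : x ≠ z := fun k => hx.2.2 (k ▸ IsConj.refl z)
    refine ⟨V.mul_mem D.isV.z_mem hx.1, fun k => hxz ?_, fun k => hx.2.2 ((D.z_mul_iff hxE hx.2.1 hxz).1 k)⟩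
    rw [← one_mul x, ← J.zz, mul_assoc, k, mul_one]
  by_cases hsE : s ∈ E
  · exact ⟨z, D.isV.z_mem, IsConj.refl z, hzD D.seed_IsD h260, hzD hs hsE, hzD hts (E.mul_mem h260 hsE)⟩
  -- move the model neighbour to the given one
  obtain ⟨c, hc2, hcK, hc1, hnc, htc, hse⟩ := D.nbr_cross D.seed_IsD.1 h260 hs hsE hts
  obtain ⟨p, hp, hcp, -⟩ := D.five_of_tc hc2 hcK hc1 htc
  obtain ⟨s0, hs0, hs0E, hts0, hcom⟩ := D.exists_cross_common
  -- neighbours over each of the five
  suffices hall : ∀ i ∈ fiveL.map Prod.fst, ∃ s1, IsD z V s1 ∧ s1 ∉ E ∧ IsD z V (vec 260 * s1) ∧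
      D.HasCommon (vec 260) s1 ∧ ∃ c' : ↥(CZ z π), s1 * (c' : G)⁻¹ ∈ E ∧
        J.proj c' = ((hexS.getD i []).map g).prod by
    obtain ⟨s1, hs1, hs1E, hts1, hcom1, c', hc'E, hc'p⟩ := hall p.1 (List.mem_map.2 ⟨p, hp, rfl⟩)
    obtain ⟨c1, hc12, hc1K, hc11, hnc1, htc1, hse1⟩ := D.nbr_cross D.seed_IsD.1 h260 hs1 hs1E hts1
    have hproj : J.proj c1 = J.proj c := by
      rw [hcp, ← hc'p]
      refine J.proj_part c1 c' ?_ hc'E
      obtain ⟨e, he, rfl⟩ := hse1
      rw [show e * (c1 : G) * e⁻¹ * (c1 : G)⁻¹ = e * ((c1 : G) * e⁻¹ * (c1 : G)⁻¹) by group]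
      exact E.mul_mem he (J.conjE (mem_CZ.1 c1.2).1 (E.inv_mem he))
    have hcc : c1 = c := by
      rcases J.lift_unique hc2 hc12 hproj with k | k
      · exact Subtype.ext k
      · exfalso
        rcases D.z_or_zc hc2 hc1 with l | l
        · exact hnc l.1
        · exact hnc1 (k ▸ l.1)
    subst hcc
    obtain ⟨d, hd, -, hdt, hds⟩ := D.five_same hc2 hcK hc1 hs1 hts1 hse1 hts hse htc
    have := D.hasCommon_conj hd hcom1
    rwa [hdt, hds] at this
  -- the cycle
  have step : ∀ q ∈ fivePerm, (∃ s1, IsD z V s1 ∧ s1 ∉ E ∧ IsD z V (vec 260 * s1) ∧ D.HasCommon (vec 260) s1 ∧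
      ∃ c' : ↥(CZ z π), s1 * (c' : G)⁻¹ ∈ E ∧ J.proj c' = ((hexS.getD q.1 []).map g).prod) →
      ∃ s1, IsD z V s1 ∧ s1 ∉ E ∧ IsD z V (vec 260 * s1) ∧ D.HasCommon (vec 260) s1 ∧
      ∃ c' : ↥(CZ z π), s1 * (c' : G)⁻¹ ∈ E ∧ J.proj c' = ((hexS.getD q.2 []).map g).prod := by
    rintro q hq ⟨s1, hs1, hs1E, hts1, hcom1, c', hc'E, hc'p⟩
    obtain ⟨d, hd, hdz, hdt, hdc⟩ := D.five_move hq
    refine ⟨d * s1 * d⁻¹, IsD.conj D hd hs1, fun h => hs1E ?_, ?_, ?_, hdc s1 hs1 c' hc'E hc'p⟩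
    · have := J.conjE' hdz h
      rwa [show d⁻¹ * (d * s1 * d⁻¹) * d = s1 by group] at this
    · have := IsD.conj D hd hts1
      rwa [show d * (vec 260 * s1) * d⁻¹ = d * vec 260 * d⁻¹ * (d * s1 * d⁻¹) by group, hdt] at this
    · have := D.hasCommon_conj hd hcom1
      rwa [hdt] at this
  obtain ⟨c0, hc02, hc0K, hc01, hnc0, htc0, hse0⟩ := D.nbr_cross D.seed_IsD.1 h260 hs0 hs0E hts0
  obtain ⟨p0, hp0, hc0p, -⟩ := D.five_of_tc hc02 hc0K hc01 htc0
  have hbase : ∃ s1, IsD z V s1 ∧ s1 ∉ E ∧ IsD z V (vec 260 * s1) ∧ D.HasCommon (vec 260) s1 ∧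
      ∃ c' : ↥(CZ z π), s1 * (c' : G)⁻¹ ∈ E ∧ J.proj c' = ((hexS.getD p0.1 []).map g).prod := by
    refine ⟨s0, hs0, hs0E, hts0, hcom, c0, ?_, hc0p⟩
    obtain ⟨e, he, rfl⟩ := hse0
    rw [show e * (c0 : G) * e⁻¹ * (c0 : G)⁻¹ = e * ((c0 : G) * e⁻¹ * (c0 : G)⁻¹) by group]
    exact E.mul_mem he (J.conjE (mem_CZ.1 c0.2).1 (E.inv_mem he))
  have h0 : p0.1 ∈ fiveL.map Prod.fst := List.mem_map.2 ⟨p0, hp0, rfl⟩
  intro i hi
  rw [five_cycle.2.1] at h0 hi
  have s6 := step (6, 12) (by decide)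
  have s12 := step (12, 14) (by decide)
  have s14 := step (14, 15) (by decide)
  have s15 := step (15, 11) (by decide)
  have s11 := step (11, 6) (by decide)
  simp only [List.mem_cons, List.not_mem_nil, or_false] at h0 hi
  rcases h0 with k | k | k | k | k <;> rw [k] at hbase <;> rcases hi with l | l | l | l | l <;> rw [l] <;>
    first
    | exact hbase
    | exact s6 hbase
    | exact s12 hbase
    | exact s14 hbase
    | exact s15 hbase
    | exact s11 hbase
    | exact s12 (s6 hbase)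
    | exact s14 (s12 hbase)
    | exact s15 (s14 hbase)
    | exact s11 (s15 hbase)
    | exact s6 (s11 hbase)
    | exact s14 (s12 (s6 hbase))
    | exact s15 (s14 (s12 hbase))
    | exact s11 (s15 (s14 hbase))
    | exact s6 (s11 (s15 hbase))
    | exact s12 (s6 (s11 hbase))
    | exact s15 (s14 (s12 (s6 hbase)))
    | exact s11 (s15 (s14 (s12 hbase)))
    | exact s6 (s11 (s15 (s14 hbase)))
    | exact s12 (s6 (s11 (s15 hbase)))
    | exact s14 (s12 (s6 (s11 hbase)))

/-- **Subgroups without conjugates of `z` have order at most four.** -/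
theorem free_le {F : Subgroup G} (hF : F ≤ V) (hfree : ∀ f ∈ F, ¬ IsConj z f) {t : G} (ht : t ∈ F)
    (ht1 : t ≠ 1) : Nat.card F ≤ 4 := by
  classical
  suffices key : ∀ F : Subgroup G, F ≤ V → (∀ f ∈ F, ¬ IsConj z f) → vec 260 ∈ F → Nat.card F ≤ 4 by
    obtain ⟨n, hn, hne⟩ := D.D_trans ⟨hF ht, ht1, hfree t ht⟩ D.seed_IsD
    rw [← Subgroup.card_map_of_injective (f := (MulAut.conj n).toMonoidHom) (MulAut.conj n).injective]
    refine key _ ?_ ?_ ⟨t, ht, hne⟩
    · rintro _ ⟨f, hf, rfl⟩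
      exact D.conj_mem hn (hF hf)
    · rintro _ ⟨f, hf, rfl⟩ h
      exact hfree f hf ((isConj_conj_iff n).1 h)
  clear hfree ht hF ht1 t F
  intro F hF hfree ht
  have hD : ∀ {f : G}, f ∈ F → f ≠ 1 → IsD z V f := fun {f} hf h1 => ⟨hF hf, h1, hfree f hf⟩
  have hzF : z ∉ F := fun h => hfree z h (IsConj.refl z)
  have h260 : vec 260 ∈ E := D.full.Mo.coords.mem 260 (by norm_num)
  have hv := D.vec_ne (n := 260) (by norm_num) (by norm_num)
  have hnc : ∀ {s : G}, s ∈ F → s ∉ E → ∃ c : ↥(CZ z π), (c : G) * c = 1 ∧ J.proj c ∈ hexK g ∧ J.proj c ≠ 1 ∧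
      ¬ IsConj z (c : G) ∧ vec 260 ∈ tc z E (c : G) ∧ ∃ e ∈ E, e * c * e⁻¹ = s := fun {s} hs hsE => by
    refine D.nbr_cross D.seed_IsD.1 h260 (hD hs fun k => hsE (k ▸ E.one_mem)) hsE (hD (F.mul_mem ht hs) fun k => ?_)
    exact hsE (eq_inv_of_mul_eq_one_right k ▸ E.inv_mem h260)
  by_contra hlt
  push Not at hlt
  -- part in `E`
  set Q : Set G := {f | f ∈ F ∧ f ∈ E}
  have hQ : ∀ f ∈ F, f ∈ E → f = 1 ∨ f = vec 260 ∨ Rel z f (vec 520) ∨ Rel z f (vec 780) := by
    intro f hf hfE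
    by_cases h1 : f = 1
    · exact Or.inl h1
    by_cases h2 : f = vec 260
    · exact Or.inr (Or.inl h2)
    refine Or.inr (Or.inr (D.nbr_U (hD hf h1) hfE (hD (F.mul_mem ht hf) fun k => h2 ?_)))
    exact (eq_inv_of_mul_eq_one_right k).trans (inv_eq_of_mul_eq_one_right (D.isV.sq _ D.seed_IsD.1))
  have hsame : ∀ {f f' : G} {m : ℕ}, f ∈ F → f' ∈ F → Rel z f (vec m) → Rel z f' (vec m) → f = f' := by
    intro f f' m hf hf' h h'
    rcases J.rel_trans h (J.rel_symm h') with k | k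
    · exact k
    · refine absurd ?_ hzF
      have := F.mul_mem hf (F.inv_mem hf')
      rwa [k, mul_inv_cancel_right] at this
  by_cases hd : ∃ d ∈ F, d ∈ E ∧ (Rel z d (vec 520) ∨ Rel z d (vec 780))
  · -- a line in `E`: there is nothing else
    obtain ⟨d, hdF, hdE, hd⟩ := hd
    obtain ⟨s, hs, hsE⟩ : ∃ s ∈ F, s ∉ E := by
      by_contra hno
      push Not at hno
      have htd : Rel z (vec 260 * d) (vec 780) ∨ Rel z (vec 260 * d) (vec 520) := by
        rcases hd with k | k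
        · refine Or.inl (J.rel_trans (J.rel_mul (J.s.z_comm h260) (J.rel_refl _) k) ?_)
          have h := D.full.Mo.coords.add 260 520 (by norm_num) (by norm_num)
          rw [show Nat.xor 260 520 = 780 from nbr_ok.2.2.2] at h
          exact J.rel_symm h
        · refine Or.inr (J.rel_trans (J.rel_mul (J.s.z_comm h260) (J.rel_refl _) k) ?_)
          have h := D.full.Mo.coords.add 260 780 (by norm_num) (by norm_num)
          rw [show Nat.xor 260 780 = 520 by decide] at h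
          exact J.rel_symm h
      have hsub : (F : Set G) ⊆ ↑({1, vec 260, d, vec 260 * d} : Finset G) := by
        intro f hf
        simp only [Finset.coe_insert, Finset.coe_singleton, Set.mem_insert_iff, Set.mem_singleton_iff]
        rcases hQ f hf (hno f hf) with k | k | k | k
        · exact Or.inl k
        · exact Or.inr (Or.inl k)
        all_goals
          rcases hd with l | l
        · exact Or.inr (Or.inr (Or.inl (hsame hf hdF k l)))
        · rcases htd with m | m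
          · exact Or.inr (Or.inr (Or.inl (by
              have := hsame (F.mul_mem ht hdF) hdF m l
              exact absurd (mul_eq_right.1 this) hv.1)))
          · exact Or.inr (Or.inr (Or.inr (hsame hf (F.mul_mem ht hdF) k m)))
        · rcases htd with m | m
          · exact Or.inr (Or.inr (Or.inr (hsame hf (F.mul_mem ht hdF) k m)))
          · exact Or.inr (Or.inr (Or.inl (by
              have := hsame (F.mul_mem ht hdF) hdF m l
              exact absurd (mul_eq_right.1 this) hv.1)))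
        · exact Or.inr (Or.inr (Or.inl (hsame hf hdF k l)))
      have h := Set.ncard_le_ncard hsub (Finset.finite_toSet _)
      rw [Set.ncard_coe_finset, ← Nat.card_coe_set_eq] at h
      simp only [SetLike.coe_sort_coe] at h
      have h4 : ({1, vec 260, d, vec 260 * d} : Finset G).card ≤ 4 := Finset.card_le_four
      omega
    obtain ⟨c, hc2, hcK, hc1, hncc, htc, e, he, hes⟩ := hnc hs hsE
    obtain ⟨hcz, -⟩ := mem_CZ.1 c.2
    -- move to the lift
    have hei : e⁻¹ ∈ E := E.inv_mem he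
    set F' := F.map (MulAut.conj e⁻¹).toMonoidHom
    have hcF : (c : G) ∈ F' := ⟨s, hs, by show e⁻¹ * s * e⁻¹⁻¹ = c; rw [← hes]; group⟩
    have hF'D : ∀ x ∈ F', x ≠ 1 → IsD z V x := by
      rintro _ ⟨x, hx, rfl⟩ h1
      exact IsD.conj D (D.E_le hei) (hD hx fun k => h1 (by rw [k]; exact map_one _))
    set t' := e⁻¹ * vec 260 * e⁻¹⁻¹ with ht'
    set d' := e⁻¹ * d * e⁻¹⁻¹ with hd'
    have ht'F : t' ∈ F' := ⟨_, ht, rfl⟩
    have hd'F : d' ∈ F' := ⟨_, hdF, rfl⟩
    have ht'r : Rel z t' (vec 260) := J.rel_conj_E hei h260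
    have hd'r : Rel z d' d := J.rel_conj_E hei hdE
    have ht'E : t' ∈ E := J.rel_mem ht'r h260
    have hd'E : d' ∈ E := J.rel_mem hd'r hdE
    have hcE : (c : G) ∉ E := fun h => hsE (by rw [← hes]; exact J.conjE (J.s.z_comm he) h)
    have hbad : ∀ x ∈ F', x ∈ E → ¬ IsConj z (x * c) := fun x hx hxE =>
      (hF'D _ (F'.mul_mem hx hcF) fun k => hcE (eq_inv_of_mul_eq_one_right k ▸ E.inv_mem hxE)).2.2
    have hF'V : ∀ x ∈ F', x ∈ V := fun x hx => by
      by_cases h1 : x = 1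
      · rw [h1]; exact V.one_mem
      · exact (hF'D x hx h1).1
    have hdt : d' ∈ tc z E (c : G) := D.mem_tc_of_bad hc2 hcK hc1 ⟨hF'V d' hd'F, hd'E⟩ (hbad d' hd'F hd'E)
    have htt : t' ∈ tc z E (c : G) := D.mem_tc_of_bad hc2 hcK hc1 ⟨hF'V t' ht'F, ht'E⟩ (hbad t' ht'F ht'E)
    obtain ⟨e1, he1, he1e⟩ := D.conj_tc hc2 hcK hc1 htt
    have he1c : e1 * c * e1⁻¹ = t' * c := he1e.resolve_right fun k => hbad t' ht'F ht'E (by
      rw [← k, isConj_conj_iff]
      exact ((D.z_or_zc hc2 hc1).resolve_left fun l => hncc l.1).1)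
    obtain ⟨e2, he2, he2e⟩ := D.conj_tc hc2 hcK hc1 hdt
    have he2c : e2 * c * e2⁻¹ = d' * c := he2e.resolve_right fun k => hbad d' hd'F hd'E (by
      rw [← k, isConj_conj_iff]
      exact ((D.z_or_zc hc2 hc1).resolve_left fun l => hncc l.1).1)
    -- the witness
    have htc' : vec 260 ∈ tc z E (c : G) := htc
    obtain ⟨p, hp, -, hA⟩ := D.five_of_tc hc2 hcK hc1 htc'
    have hpf := List.all_eq_true.1 five_ok.1 p hp
    simp only [Bool.and_eq_true, Nat.beq_eq] at hpf
    have hp2 : p.2 < 4096 := by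
      have : fiveL.all (fun p => decide (p.2 < 4096)) = true := by decide
      exact of_decide_eq_true (List.all_eq_true.1 this p hp)
    set w := vec p.2
    have hwE : w ∈ E := D.full.Mo.coords.mem _ hp2
    have hwr : Rel z ((c : G) * w * (c : G)⁻¹ * w⁻¹) t' := by
      refine J.rel_trans ?_ (J.rel_symm ht'r)
      refine J.rel_trans (J.rel_mul (J.s.z_comm (D.full.Mo.coords.mem _ (okB_lt hA.1 _))) (hA.2 _ hp2) (J.rel_inv hwE)) ?_
      have h := D.full.Mo.coords.add (ap (hexB p.1) p.2) p.2 (okB_lt hA.1 _) hp2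
      rw [hpf.1.1] at h
      exact J.rel_symm h
    have hfx : w⁻¹ * e1 ∈ fx z E (c : G) := by
      refine (J.mem_fx hcz).2 ⟨E.mul_mem (E.inv_mem hwE) he1, ?_⟩
      have h1 : Rel z ((c : G) * e1 * (c : G)⁻¹ * e1⁻¹) t' := by
        have hci : (c : G)⁻¹ = c := inv_eq_of_mul_eq_one_right hc2
        have e3 : (c : G) * e1 * (c : G)⁻¹ * e1⁻¹ = (t' : G)⁻¹ := by
          calc (c : G) * e1 * (c : G)⁻¹ * e1⁻¹ = (c : G) * (e1 * c * e1⁻¹) := by rw [hci]; group
            _ = (c : G) * t' * c := by rw [he1c]; group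
            _ = t' * ((c : G) * c) := by
              rw [D.isV.comm _ (D.isV.lift c hc2 hcK) t' (hF'V t' ht'F), mul_assoc]
            _ = t'⁻¹ := by rw [hc2, mul_one, inv_eq_of_mul_eq_one_right (D.isV.sq _ (hF'V t' ht'F))]
        rw [e3]
        exact J.rel_inv ht'E
      have hx : (c : G) * (w⁻¹ * e1) * (c : G)⁻¹ =
          ((c : G) * w * (c : G)⁻¹ * w⁻¹ * w)⁻¹ * ((c : G) * e1 * (c : G)⁻¹ * e1⁻¹ * e1) := by group
      rw [hx, mul_inv_rev]
      have htE' := E.inv_mem ht'E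
      have h2 : Rel z (((c : G) * w * (c : G)⁻¹ * w⁻¹)⁻¹) t'⁻¹ := by
        have hWE : (c : G) * w * (c : G)⁻¹ * w⁻¹ ∈ E := E.mul_mem (J.conjE hcz hwE) (E.inv_mem hwE)
        exact J.rel_trans (J.rel_inv hWE) (J.rel_trans hwr (J.rel_symm (J.rel_inv ht'E)))
      have h3 := J.rel_mul (J.s.z_comm (E.mul_mem (E.inv_mem hwE) htE')) (J.rel_mul (J.s.z_comm (E.inv_mem hwE)) (J.rel_refl w⁻¹) h2)
        (J.rel_mul (J.s.z_comm ht'E) h1 (J.rel_refl e1))
      convert h3 using 1
      group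
    have hnw : w * d' ≠ d' * w := by
      intro h
      have hm : ∃ m, (m = 520 ∨ m = 780) ∧ Rel z d' (vec m) := by
        rcases hd with k | k
        · exact ⟨520, Or.inl rfl, J.rel_trans hd'r k⟩
        · exact ⟨780, Or.inr rfl, J.rel_trans hd'r k⟩
      obtain ⟨m, hm, hmr⟩ := hm
      have hm' : m < 4096 := by rcases hm with k | k <;> rw [k] <;> norm_num
      have h' : vec m * w = w * vec m :=
        J.comm_of_rel (J.s.z_comm hwE) (J.rel_symm hmr) h.symm
      have hb : bb p.2 m = true := by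
        rcases hm with k | k <;> rw [k]
        exacts [hpf.1.2, hpf.2]
      rw [(D.full.comm_vec D.isV hp2 hm').1 h'.symm] at hb
      exact Bool.noConfusion hb
    have hne : e1 * d' * e1⁻¹ = z * d' := by
      refine (J.s.comm_cases he1 hd'E).resolve_left fun h => hnw ?_
      have h' : e1 * d' = d' * e1 := mul_inv_eq_iff_eq_mul.1 h
      have hf : (w⁻¹ * e1) * d' = d' * (w⁻¹ * e1) :=
        ((mem_perp.1 (J.fx_le_perp hcz hfx)).2 d' hdt).symm
      calc w * d' = w * d' * (w⁻¹ * e1) * (w⁻¹ * e1)⁻¹ := by rw [mul_inv_cancel_right]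
        _ = w * ((w⁻¹ * e1) * d') * (w⁻¹ * e1)⁻¹ := by rw [hf]; group
        _ = (e1 * d') * e1⁻¹ * w := by group
        _ = d' * w := by rw [h', mul_inv_cancel_right]
    -- the contradiction
    have h3 := D.tc_one hc2 hcK hc1 ((tc z E (c : G)).mul_mem hdt htt)
    have hconj : e1 * (d' * c) * e1⁻¹ = z * (d' * t') * c := by
      calc e1 * (d' * c) * e1⁻¹ = (e1 * d' * e1⁻¹) * (e1 * c * e1⁻¹) := by group
        _ = _ := by rw [hne, he1c]; group
    have hz' : ¬ IsConj z (z * (d' * t') * c) := by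
      rw [← hconj, isConj_conj_iff]
      exact hbad d' hd'F hd'E
    exact hbad (d' * t') (F'.mul_mem hd'F ht'F) (E.mul_mem hd'E ht'E) (h3.2 hz')
  · -- the image lies in the five, which contain no product
    push Not at hd
    have hQ' : ∀ f ∈ F, f ∈ E → f = 1 ∨ f = vec 260 := fun f hf hfE => by
      rcases hQ f hf hfE with k | k | k | k
      exacts [Or.inl k, Or.inr k, absurd k (hd f hf hfE).1, absurd k (hd f hf hfE).2]
    obtain ⟨s, hs, hsE⟩ : ∃ s ∈ F, s ∉ E := by
      by_contra hno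
      push Not at hno
      have hsub : (F : Set G) ⊆ ↑({1, vec 260} : Finset G) := fun f hf => by
        simpa using hQ' f hf (hno f hf)
      have h := Set.ncard_le_ncard hsub (Finset.finite_toSet _)
      rw [Set.ncard_coe_finset, ← Nat.card_coe_set_eq] at h
      simp only [SetLike.coe_sort_coe] at h
      have h4 : ({1, vec 260} : Finset G).card ≤ 2 := Finset.card_le_two
      omega
    have h2s : ∀ f ∈ F, f ∈ E ∨ s * f ∈ E ∨ (f ∉ E ∧ s * f ∉ E) := fun f _ => by tauto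
    obtain ⟨r, hr, hrE, hsrE⟩ : ∃ r ∈ F, r ∉ E ∧ s * r ∉ E := by
      by_contra hno
      push Not at hno
      have hsub : (F : Set G) ⊆ ↑({1, vec 260, s, s * vec 260} : Finset G) := by
        intro f hf
        simp only [Finset.coe_insert, Finset.coe_singleton, Set.mem_insert_iff, Set.mem_singleton_iff]
        by_cases hfE : f ∈ E
        · rcases hQ' f hf hfE with k | k
          exacts [Or.inl k, Or.inr (Or.inl k)]
        · have hs2 : s * s = 1 := D.isV.sq _ (hF hs)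
          rcases hQ' _ (F.mul_mem hs hf) (hno f hf hfE) with k | k
          · refine Or.inr (Or.inr (Or.inl ?_))
            rw [← one_mul f, ← hs2, mul_assoc, k, mul_one]
          · refine Or.inr (Or.inr (Or.inr ?_))
            rw [← one_mul f, ← hs2, mul_assoc, k]
      have h := Set.ncard_le_ncard hsub (Finset.finite_toSet _)
      rw [Set.ncard_coe_finset, ← Nat.card_coe_set_eq] at h
      simp only [SetLike.coe_sort_coe] at h
      have h4 : ({1, vec 260, s, s * vec 260} : Finset G).card ≤ 4 := Finset.card_le_four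
      omega
    have hpart : ∀ {x : G}, x ∈ F → x ∉ E → ∃ c : ↥(CZ z π), (c : G) * c = 1 ∧ x * (c : G)⁻¹ ∈ E ∧
        ∃ p ∈ fiveL, J.proj c = ((hexS.getD p.1 []).map g).prod ∧ Acts z vec (c : G) (hexB p.1) := by
      intro x hx hxE
      obtain ⟨c, hc2, hcK, hc1, -, htc, e, he, hex⟩ := hnc hx hxE
      refine ⟨c, hc2, ?_, D.five_of_tc hc2 hcK hc1 htc⟩
      rw [← hex, show e * (c : G) * e⁻¹ * (c : G)⁻¹ = e * ((c : G) * e⁻¹ * (c : G)⁻¹) by group]
      exact E.mul_mem he (J.conjE (mem_CZ.1 c.2).1 (E.inv_mem he))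
    obtain ⟨a, ha2, haE, p, hp, hap, haA⟩ := hpart hs hsE
    obtain ⟨b, hb2, hbE, q, hq, hbp, hbA⟩ := hpart hr hrE
    obtain ⟨c, hc2, hcE', o, ho, hcp, hcA⟩ := hpart (F.mul_mem hs hr) hsrE
    obtain ⟨haz, -⟩ := mem_CZ.1 a.2
    have hprod : s * r * ((a * b : ↥(CZ z π)) : G)⁻¹ ∈ E := by
      have := E.mul_mem haE (J.conjE haz hbE)
      convert this using 1
      simp only [Subgroup.coe_mul, mul_inv_rev]
      group
    have hpe := J.proj_part (a * b) c hprod hcE'
    have hpq : p.1 ≠ q.1 := by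
      intro h
      have hab : J.proj a = J.proj b := by rw [hap, hbp, h]
      have h1 : J.proj (a * b) = 1 := by
        rw [map_mul, hab, ← map_mul, show b * b = 1 from Subtype.ext hb2, map_one]
      have hcK1 : J.proj c = 1 := hpe ▸ h1
      have : (c : G) ∈ E := by
        rcases J.small_of_proj_one hcK1 (Or.inl hc2) with k | k <;> rw [k]
        exacts [E.one_mem, J.s.z_mem]
      have h' := E.mul_mem hcE' this
      rw [inv_mul_cancel_right] at h'
      exact hsrE h'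
    have habV : ∀ {x : ↥(CZ z π)} {p : ℕ}, (x : G) * x = 1 → J.proj x = ((hexS.getD p []).map g).prod →
        (x : G) ∈ V := fun {x} {p} h1 h2 => D.isV.lift x h1 (h2 ▸ D.hexS_mem)
    have hab2 : ((a * b : ↥(CZ z π)) : G) * (a * b : ↥(CZ z π)) = 1 :=
      D.isV.sq _ (V.mul_mem (habV ha2 hap) (habV hb2 hbp))
    have hAab : Acts z vec ((a * b : ↥(CZ z π)) : G) (hexB o.1) := by
      rcases J.lift_unique hc2 hab2 hpe with k | k <;> rw [k]
      · exact hcA
      · exact D.full.Mo.coords.acts_mul_E J hcA J.s.z_mem (mem_CZ.1 c.2).1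
    have hAcomp := D.full.Mo.coords.acts_mul J haA haz hbA (okB_comp haA.1 hbA.1)
    have hnum := List.all_eq_true.1 (List.all_eq_true.1 (List.all_eq_true.1 five_indep p hp) q hq) o ho
    simp only [Bool.or_eq_true, Nat.beq_eq, List.any_eq_true, List.mem_range, Bool.not_eq_true'] at hnum
    rcases hnum with k | ⟨l, hl, k⟩
    · exact hpq k
    · have h2 := D.full.Mo.coords.acts_eq J hAcomp hAab (2 ^ l) (Nat.pow_lt_pow_right (by norm_num) (show l < 12 by omega))
      rw [h2] at k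
      simp at k

end Ctx.Std

end CfsgLib.JFour
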