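import Cfsg.Agent.Lib.JFour.ElevenSylow
import Cfsg.Agent.Lib.JFour.HexM
import Cfsg.Agent.Lib.JFourLocal.Classes

/-!
# The standard elementary subgroup of order `2 ^ 11`

`IsV V`: the elementary subgroup of `C(z)` lying over the hexad subgroup.  It consists of the
elements of `E` commuting with the lifts and their translates by these lifts, so any element of
`C(z)` preserving the hexad subgroup normalizes it.
-/

set_option autoImplicit false
set_option maxRecDepth 100000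
set_option linter.style.haveILetI false
set_option linter.unusedSectionVars false

open Cfsg

namespace CfsgLib.JFour

variable {G : Type*} [Group G] [Finite G] {M : Type*} [Group M] [Finite M] {z π : G} {E : Subgroup G}

/-- All the data on a group of this type used for the subgroups of order `2 ^ 11`. -/
structure Ctx.Full (J : Ctx M z π E) (g : ℕ → M) (vec : ℕ → G) : Prop where
  Mo : J.Model g vec
  T : Tables M g
  S16 : Sixteen M g
  H : HexFacts M g
  hdim : ∀ c ∈ CZ z π, c * c = 1 → c ≠ 1 → c ≠ z → Nat.card (fx z E c) = 2 ^ 9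
  hC : Subgroup.centralizer ({π} : Set G) = CZ z π
  fus : ∃ a b : ↥(CZ z π), J.IsPair a b ∧ Acts z vec (a : G) gA ∧
    ∃ w h : G, w ∈ CZ z π ∧ w ≠ z ∧ h * z * h⁻¹ = w ∧ h * (a : G) * h⁻¹ = π

/-- The elementary subgroup over the hexad subgroup. -/
structure Ctx.IsV (J : Ctx M z π E) (g : ℕ → M) (V : Subgroup G) : Prop where
  sq : ∀ a ∈ V, a * a = 1
  card : Nat.card V = 2 ^ 11
  cz : ∀ a ∈ V, a * z = z * a
  z_mem : z ∈ V
  le_H0 : V ≤ H0 z π E
  inf_E : ∀ e ∈ E, e ∈ V ↔ ∀ c : ↥(CZ z π), (c : G) * c = 1 → J.proj c ∈ hexK g → (c : G) * e = e * c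
  image : ∀ v ∈ V, ∀ c : ↥(CZ z π), v * (c : G)⁻¹ ∈ E → J.proj c ∈ hexK g
  lift : ∀ c : ↥(CZ z π), (c : G) * c = 1 → J.proj c ∈ hexK g → (c : G) ∈ V

namespace Ctx

variable (J : Ctx M z π E)
include J

/-- Involutive lifts of one element differ by a power of `z`. -/
theorem lift_unique {c c' : ↥(CZ z π)} (hc : (c : G) * c = 1) (hc' : (c' : G) * c' = 1)
    (h : J.proj c' = J.proj c) : Rel z (c' : G) c := by
  obtain ⟨u, -, hu, k, hk, he⟩ := J.exists_pow' (c := c' * c⁻¹) (by rw [map_mul, map_inv, h, mul_inv_cancel])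
  simp only [Subgroup.coe_mul, InvMemClass.coe_inv] at he
  have he' : (c' : G) = u * π ^ k * c := by rw [← he]; group
  obtain ⟨hcz, hcp⟩ := mem_CZ.1 c.2
  have hcomm : Commute (u * π ^ k) (c : G) := by
    refine Commute.mul_left ?_ ((show Commute π (c : G) from hcp.symm).pow_left k)
    rcases hu with e | e <;> rw [e]
    exacts [Commute.one_left _, hcz.symm]
  have huu : u * u = 1 := by rcases hu with e | e <;> rw [e]; exacts [one_mul 1, J.zz]
  have hup : Commute u (π ^ k) := by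
    rcases hu with e | e <;> rw [e]
    exacts [Commute.one_left _, ((show Commute π z from J.piz).pow_left k).symm]
  have h2 : (π ^ k) ^ 2 = 1 := by
    have := hc'
    rw [he', ← pow_two, hcomm.mul_pow, pow_two (c : G), hc, mul_one, hup.mul_pow, pow_two u, huu, one_mul] at this
    exact this
  have h3 : (π ^ k) ^ 3 = 1 := by rw [← pow_mul, mul_comm, pow_mul, J.pi_pow_three, one_pow]
  rw [pow_succ, h2, one_mul] at h3
  rw [h3, mul_one] at he'
  rcases hu with e | e <;> rw [e] at he'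
  · exact Or.inl (by rw [he', one_mul])
  · exact Or.inr he'

/-- An element of the hexad subgroup has an involutive lift. -/
theorem exists_lift_invol (F : Small M) {m : M} (hm : m * m = 1) :
    ∃ c : ↥(CZ z π), J.proj c = m ∧ (c : G) * c = 1 := by
  obtain ⟨c, hc, hc2⟩ := J.exists_lift_sq hm
  exact ⟨c, hc, J.sq_eq_one F hc2⟩

variable {g : ℕ → M} {vec : ℕ → G}

namespace Full

variable {J} (S : J.Full g vec)
include S

theorem small : Small M := S.T.gens.small

/-- The hexad subgroup is elementary. -/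
theorem hexK_sq : ∀ m ∈ hexK g, m * m = 1 := by
  haveI : IsMulCommutative ↥(hexK g) := by
    refine Subgroup.isMulCommutative_closure fun a ha b hb => ?_
    obtain ⟨v, hv, rfl⟩ := ha
    obtain ⟨w, hw, rfl⟩ := hb
    exact S.S16.comm v hv w hw
  intro m hm
  have key : m * m = 1 ∧ m ∈ hexK g := by
    induction hm using Subgroup.closure_induction with
    | mem x hx =>
      obtain ⟨w, hw, rfl⟩ := hx
      exact ⟨S.S16.sq w hw, Subgroup.subset_closure ⟨w, hw, rfl⟩⟩
    | one => exact ⟨mul_one 1, one_mem _⟩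
    | mul x y _ _ hx hy =>
      refine ⟨?_, mul_mem hx.2 hy.2⟩
      have hxy : y * x = x * y := congrArg Subtype.val (mul_comm' (⟨y, hy.2⟩ : ↥(hexK g)) ⟨x, hx.2⟩)
      calc x * y * (x * y) = x * (y * x) * y := by group
        _ = x * x * (y * y) := by rw [hxy]; group
        _ = 1 := by rw [hx.1, hy.1, one_mul]
    | inv x _ hx => exact ⟨by rw [← mul_inv_rev, hx.1, inv_one], inv_mem hx.2⟩
  exact key.1

/-- An elementary subgroup of order `2 ^ 11` of `C(z)` lies over a conjugate of the hexad subgroup and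
meets `E` in its fixed space. -/
theorem eleven_data {A : Subgroup G} (hA : ∀ a ∈ A, a * z = z * a) (h1 : ∀ a ∈ A, a * a = 1)
    (hAc : Nat.card A = 2 ^ 11) :
    ∃ (d : ↥(CZ z π)) (U : Subgroup G) (ψ : ↥(H0 z π E) →* M),
      (∀ (h : ↥(H0 z π E)) (c : ↥(CZ z π)), (h : G) * (c : G)⁻¹ ∈ E → ψ h = J.proj c) ∧
      A ≤ H0 z π E ∧ z ∈ A ∧ A ⊓ E = U ∧ Nat.card U = 2 ^ 7 ∧
      (∀ n, n < 4096 → ((d : G) * vec n * (d : G)⁻¹ ∈ U ↔ fixP hexW n = true)) ∧
      (A.subgroupOf (H0 z π E)).map ψ = (hexK g).map (MulAut.conj (J.proj d)).toMonoidHom := by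
  have F := S.small
  obtain ⟨ψ, hψ⟩ := J.exists_projH
  obtain ⟨hAH, hAE, hAI, hAsq⟩ := (J.card_elem_le F S.hdim hψ hA h1).2 hAc.ge
  have hzA := J.z_mem_elem F S.hdim hA h1 hAc.ge
  obtain ⟨m, W, hW, he⟩ := S.T.e16 _ hAI hAsq
  obtain ⟨d, rfl⟩ := J.proj_surj m
  obtain ⟨U, hUE, hzU, hUv, hUc⟩ := J.exists_fixU (S.Mo.conj d).coords W
  have hle : A ⊓ E ≤ U := J.inf_E_le_fix F hψ (S.Mo.conj d) hW hAH h1 hzA (fun w hw => by
    rw [prod_conj, he]
    exact Subgroup.subset_closure ⟨w, hw, rfl⟩) hzU hUv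
  have hcle := Subgroup.card_le_of_le hle
  rw [hAE, hUc] at hcle
  obtain rfl : W = hexW := by
    rcases List.mem_cons.1 hW with e | e
    · exfalso
      rw [e] at hcle
      have := fix_counts.2
      omega
    · exact List.mem_singleton.1 e
  rw [fix_counts.1] at hUc
  refine ⟨d, U, ψ, hψ, hAH, hzA, Subgroup.eq_of_le_of_card_ge hle (by rw [hAE, hUc]; norm_num), by rw [hUc]; norm_num, hUv, ?_⟩
  rw [he, hexK, MonoidHom.map_closure]
  congr 1
  ext x
  simp only [Set.mem_image, Set.mem_ofPred_eq, MulEquiv.coe_toMonoidHom, MulAut.conj_apply]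
  constructor
  · rintro ⟨w, hw, rfl⟩
    exact ⟨_, ⟨w, hw, rfl⟩, rfl⟩
  · rintro ⟨_, ⟨w, hw, rfl⟩, rfl⟩
    exact ⟨w, hw, rfl⟩

/-- Every elementary subgroup of order `2 ^ 11` in `C(z)` is a conjugate of one over the hexad
subgroup by an element of `C(z, π)`. -/
theorem exists_isV_conj {A : Subgroup G} (hA : ∀ a ∈ A, a * z = z * a) (h1 : ∀ a ∈ A, a * a = 1)
    (hAc : Nat.card A = 2 ^ 11) :
    ∃ d : ↥(CZ z π), J.IsV g (A.map (MulAut.conj (d : G)⁻¹).toMonoidHom) := by
  have F := S.small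
  obtain ⟨d, -⟩ := S.eleven_data hA h1 hAc
  obtain ⟨d, U, ψ, hψ, hAH, hzA, hU, hUc, hUv, hI⟩ := S.eleven_data hA h1 hAc
  refine ⟨d, ?_⟩
  set V := A.map (MulAut.conj (d : G)⁻¹).toMonoidHom with hV
  obtain ⟨hdz, hdp⟩ := mem_CZ.1 d.2
  have hdz' : (d : G)⁻¹ * z = z * (d : G)⁻¹ := (Commute.inv_left (show Commute (d : G) z from hdz)).eq
  have hmem : ∀ x, x ∈ V ↔ (d : G) * x * (d : G)⁻¹ ∈ A := fun x => by
    rw [hV, Subgroup.mem_map_equiv, MulAut.conj_symm_apply]
    simp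
  have hcA := comm_of_sq h1
  have hUab : ∀ a ∈ U, ∀ b ∈ U, a * b = b * a := fun a ha b hb =>
    hcA a (hU.ge ha).1 b (hU.ge hb).1
  have hperp : perp E U = U := by
    refine (Subgroup.eq_of_le_of_card_ge (fun x hx => mem_perp.2 ⟨(hU.ge hx).2, fun a ha =>
      hUab a ha x hx⟩) ?_).symm
    have h := J.card_mul_perp (A := U) (hU.le ⟨hzA, J.s.z_mem⟩) (hU ▸ inf_le_right)
    rw [hUc] at h
    rw [hUc]
    omega
  -- the image of a member
  have hPsi : ∀ (v : ↥(H0 z π E)), (v : G) ∈ A → ψ v ∈ (hexK g).map (MulAut.conj (J.proj d)).toMonoidHom :=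
    fun v hv => hI.le ⟨v, hv, rfl⟩
  -- the part in `C(z, π)` of a member lies in it
  have hpart : ∀ a ∈ A, ∃ c : ↥(CZ z π), a * (c : G)⁻¹ ∈ E ∧ (c : G) * c = 1 ∧ (c : G) ∈ A := by
    intro a ha
    obtain ⟨e, he, c, hc, hac, hc2, hcr⟩ := J.exists_split F (hAH ha) (h1 a ha)
    have hcz := (mem_CZ.1 hc).1
    refine ⟨⟨c, hc⟩, by simp only [hac, mul_inv_cancel_right]; exact he, hc2, ?_⟩
    have heU : e ∈ U := by
      rw [← hperp]
      refine mem_perp.2 ⟨he, fun u hu => ?_⟩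
      have hau : a * u = u * a := hcA a ha u (hU.ge hu).1
      have huE : u ∈ E := (hU.ge hu).2
      have hf : Rel z (c * u * c⁻¹) u := by
        have h2 : e * (c * u * c⁻¹) * e⁻¹ = u := by
          calc e * (c * u * c⁻¹) * e⁻¹ = a * u * a⁻¹ := by rw [hac]; group
            _ = u := by rw [hau, mul_inv_cancel_right]
        have h3 := J.rel_conj_E he (J.conjE hcz huE)
        rw [h2] at h3
        exact J.rel_symm h3
      have hcu : c * u = u * c := J.comm_of_fx hc ((J.mem_fx hcz).2 ⟨huE, hf⟩)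
      refine mul_right_cancel (b := c) ?_
      calc u * e * c = u * a := by rw [hac]; group
        _ = a * u := hau.symm
        _ = e * (c * u) := by rw [hac]; group
        _ = e * u * c := by rw [hcu]; group
    have := A.mul_mem (A.inv_mem (hU.ge heU).1) ha
    rwa [hac, inv_mul_cancel_left] at this
  have himg : ∀ v ∈ V, ∀ c : ↥(CZ z π), v * (c : G)⁻¹ ∈ E → J.proj c ∈ hexK g := by
    intro v hv c hc
    have hva := (hmem v).1 hv
    have hc' : (d : G) * v * (d : G)⁻¹ * ((d * c * d⁻¹ : ↥(CZ z π)) : G)⁻¹ ∈ E := by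
      have := J.conjE hdz hc
      convert this using 1
      simp only [Subgroup.coe_mul, InvMemClass.coe_inv]
      group
    have h := hPsi ⟨_, hAH hva⟩ hva
    rw [hψ _ _ hc', map_mul, map_mul, map_inv] at h
    obtain ⟨x, hx, hxe⟩ := h
    rw [MulEquiv.coe_toMonoidHom, MulAut.conj_apply] at hxe
    rwa [← mul_left_cancel (mul_right_cancel hxe)]
  have hlift : ∀ c : ↥(CZ z π), (c : G) * c = 1 → J.proj c ∈ hexK g → (c : G) ∈ V := by
    intro c hc2 hc
    rw [hmem]
    obtain ⟨t, ht, hte⟩ := hI.ge ⟨_, hc, rfl⟩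
    obtain ⟨c', hc', hc'2, hc'A⟩ := hpart _ ht
    rw [hψ t c' hc', MulEquiv.coe_toMonoidHom, MulAut.conj_apply] at hte
    have hsq : ((d * c * d⁻¹ : ↥(CZ z π)) : G) * (d * c * d⁻¹ : ↥(CZ z π)) = 1 := by
      calc _ = (d : G) * ((c : G) * c) * (d : G)⁻¹ := by
            simp only [Subgroup.coe_mul, InvMemClass.coe_inv]; group
        _ = 1 := by rw [hc2]; group
    rcases J.lift_unique hc'2 hsq (by rw [map_mul, map_mul, map_inv, hte]) with k | k
    · simp only [Subgroup.coe_mul, InvMemClass.coe_inv] at k; rw [k]; exact hc'A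
    · simp only [Subgroup.coe_mul, InvMemClass.coe_inv] at k; rw [k]; exact mul_mem hzA hc'A
  have hVsq : ∀ a ∈ V, a * a = 1 := fun a ha => by
    have h := h1 _ ((hmem a).1 ha)
    calc a * a = (d : G)⁻¹ * ((d : G) * a * (d : G)⁻¹ * ((d : G) * a * (d : G)⁻¹)) * d := by group
      _ = 1 := by rw [h]; group
  refine ⟨hVsq, ?_, ?_, ?_, ?_, ?_, himg, hlift⟩
  · rw [hV, Subgroup.card_map_of_injective (MulAut.conj _).injective, hAc]
  · intro a ha
    have h := hA _ ((hmem a).1 ha)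
    calc a * z = (d : G)⁻¹ * ((d : G) * a * (d : G)⁻¹ * ((d : G) * z * (d : G)⁻¹)) * d := by group
      _ = (d : G)⁻¹ * (z * ((d : G) * a * (d : G)⁻¹)) * d := by rw [hdz, mul_inv_cancel_right, h]
      _ = _ := by rw [← mul_assoc (d : G)⁻¹, hdz']; group
  · rw [hmem, hdz, mul_inv_cancel_right]; exact hzA
  · intro v hv
    have := hAH ((hmem v).1 hv)
    have hd0 := CZ_le_H0 z π E d.2
    have e := mul_mem (mul_mem (inv_mem hd0) this) hd0
    rwa [show (d : G)⁻¹ * ((d : G) * v * (d : G)⁻¹) * d = v by group] at e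
  · intro e he
    refine ⟨fun hev c hc2 hc => comm_of_sq hVsq _ (hlift c hc2 hc) e hev, fun hcom => ?_⟩
    rw [hmem]
    obtain ⟨n, hn, hr⟩ := S.Mo.coords.surj e he
    have hr' : Rel z ((d : G) * e * (d : G)⁻¹) ((d : G) * vec n * (d : G)⁻¹) := J.rel_conj hdz hr
    have hnU : (d : G) * vec n * (d : G)⁻¹ ∈ U := by
      rw [hUv n hn]
      simp only [fixP, List.all_eq_true, Nat.beq_eq]
      intro w hw
      obtain ⟨c, hc, hc2⟩ := J.exists_lift_invol F (S.S16.sq w hw)
      have hB := S.Mo.acts_invol F (hex_mem_hw hw) (a := (c : G)) (c := c)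
        (by rw [mul_inv_cancel]; exact one_mem E) (by rw [hc2]; exact one_mem E) hc
      have hce := hcom c hc2 (hc ▸ Subgroup.subset_closure ⟨w, hw, rfl⟩)
      refine (S.Mo.coords.rel_iff J (okB_lt hB.1 n) hn).1 ?_
      refine J.rel_trans (J.rel_symm (hB.2 n hn)) ?_
      refine J.rel_trans (J.rel_conj (mem_CZ.1 c.2).1 (J.rel_symm hr)) ?_
      rw [hce, mul_inv_cancel_right]
      exact hr
    rcases hr' with k | k <;> rw [k]
    · exact (hU.ge hnU).1
    · exact mul_mem hzA (hU.ge hnU).1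

/-- It exists. -/
theorem exists_isV : ∃ V : Subgroup G, J.IsV g V := by
  obtain ⟨V, hVz, -, hVel, hVc⟩ := J.exists_eleven S.Mo S.T S.S16 S.hdim
  obtain ⟨d, hd⟩ := S.exists_isV_conj hVz (fun a ha => by rw [← pow_two]; exact hVel.2 a ha) hVc
  exact ⟨_, hd⟩

end Full

namespace IsV

variable {J} {V : Subgroup G} (hV : J.IsV g V)
include hV

theorem comm : ∀ a ∈ V, ∀ b ∈ V, a * b = b * a := comm_of_sq hV.sq

/-- A member is a product of a member in `E` and a lift. -/
theorem split (F : Small M) {v : G} (hv : v ∈ V) :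
    ∃ c : ↥(CZ z π), v * (c : G)⁻¹ ∈ E ∧ v * (c : G)⁻¹ ∈ V ∧ (c : G) * c = 1 ∧ (c : G) ∈ V ∧
      J.proj c ∈ hexK g := by
  obtain ⟨e, he, c, hc, hvc, hc2, -⟩ := J.exists_split F (hV.le_H0 hv) (hV.sq v hv)
  have h : v * ((⟨c, hc⟩ : ↥(CZ z π)) : G)⁻¹ ∈ E := by simp only [hvc, mul_inv_cancel_right]; exact he
  have hK := hV.image v hv _ h
  have hcV : c ∈ V := hV.lift ⟨c, hc⟩ hc2 hK
  exact ⟨⟨c, hc⟩, h, mul_mem hv (inv_mem hcV), hc2, hcV, hK⟩

/-- There is only one. -/
theorem unique (F : Small M) {W : Subgroup G} (hW : J.IsV g W) : W = V := by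
  refine Subgroup.eq_of_le_of_card_ge (fun v hv => ?_) (by rw [hV.card, hW.card])
  obtain ⟨c, hcE, hcW, hc2, -, hcK⟩ := hW.split F hv
  have h1 : v * (c : G)⁻¹ ∈ V := (hV.inf_E _ hcE).2 ((hW.inf_E _ hcE).1 hcW)
  have := mul_mem h1 (hV.lift c hc2 hcK)
  rwa [inv_mul_cancel_right] at this

/-- Elements of `C(z, π)` preserving the hexad subgroup normalize it. -/
theorem map_conj {d : ↥(CZ z π)} (hd : J.proj d ∈ Subgroup.normalizer (hexK g : Set M)) :
    J.IsV g (V.map (MulAut.conj (d : G)).toMonoidHom) := by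
  obtain ⟨hdz, hdp⟩ := mem_CZ.1 d.2
  have hdz' : (d : G)⁻¹ * z = z * (d : G)⁻¹ := (Commute.inv_left (show Commute (d : G) z from hdz)).eq
  have hmem : ∀ x, x ∈ V.map (MulAut.conj (d : G)).toMonoidHom ↔ (d : G)⁻¹ * x * d ∈ V := fun x => by
    rw [Subgroup.mem_map_equiv, MulAut.conj_symm_apply]
  have hK : ∀ c : ↥(CZ z π), J.proj (d⁻¹ * c * d) ∈ hexK g ↔ J.proj c ∈ hexK g := fun c => by
    rw [map_mul, map_mul, map_inv]
    exact (Subgroup.mem_normalizer_iff''.1 hd _).symm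
  have hsq : ∀ c : ↥(CZ z π), ((d⁻¹ * c * d : ↥(CZ z π)) : G) * (d⁻¹ * c * d : ↥(CZ z π)) =
      (d : G)⁻¹ * ((c : G) * c) * d := fun c => by
    simp only [Subgroup.coe_mul, InvMemClass.coe_inv]; group
  refine ⟨fun a ha => ?_, ?_, fun a ha => ?_, ?_, fun a ha => ?_, fun e he => ?_, fun v hv c hc => ?_,
    fun c hc2 hc => ?_⟩
  · have h := hV.sq _ ((hmem a).1 ha)
    calc a * a = (d : G) * ((d : G)⁻¹ * a * d * ((d : G)⁻¹ * a * d)) * (d : G)⁻¹ := by group
      _ = 1 := by rw [h]; group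
  · rw [Subgroup.card_map_of_injective (MulAut.conj _).injective, hV.card]
  · have h := hV.cz _ ((hmem a).1 ha)
    calc a * z = (d : G) * ((d : G)⁻¹ * a * d * ((d : G)⁻¹ * z * d)) * (d : G)⁻¹ := by group
      _ = (d : G) * (z * ((d : G)⁻¹ * a * d)) * (d : G)⁻¹ := by rw [hdz', inv_mul_cancel_right, h]
      _ = _ := by rw [← mul_assoc (d : G), hdz]; group
  · rw [hmem, hdz', inv_mul_cancel_right]; exact hV.z_mem
  · have h := hV.le_H0 ((hmem a).1 ha)
    have e := mul_mem (mul_mem (CZ_le_H0 z π E d.2) h) (inv_mem (CZ_le_H0 z π E d.2))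
    rwa [show (d : G) * ((d : G)⁻¹ * a * d) * (d : G)⁻¹ = a by group] at e
  · rw [hmem, hV.inf_E _ (J.conjE' hdz he)]
    constructor
    · intro h c hc2 hc
      have h' := h (d⁻¹ * c * d) (by rw [hsq, hc2]; group) ((hK c).2 hc)
      simp only [Subgroup.coe_mul, InvMemClass.coe_inv] at h'
      calc (c : G) * e = (d : G) * ((d : G)⁻¹ * c * d * ((d : G)⁻¹ * e * d)) * (d : G)⁻¹ := by group
        _ = _ := by rw [h']; group
    · intro h c hc2 hc
      have e1 : d⁻¹ * (d * c * d⁻¹) * d = c := by group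
      have h' := h (d * c * d⁻¹) (by
        simp only [Subgroup.coe_mul, InvMemClass.coe_inv]
        calc (d : G) * c * (d : G)⁻¹ * ((d : G) * c * (d : G)⁻¹) = (d : G) * ((c : G) * c) * (d : G)⁻¹ := by group
          _ = 1 := by rw [hc2]; group) ((hK _).1 (by rw [e1]; exact hc))
      simp only [Subgroup.coe_mul, InvMemClass.coe_inv] at h'
      calc (c : G) * ((d : G)⁻¹ * e * d) = (d : G)⁻¹ * ((d : G) * c * (d : G)⁻¹ * e) * d := by group
        _ = _ := by rw [h']; group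
  · refine (hK c).1 (hV.image _ ((hmem v).1 hv) _ ?_)
    have := J.conjE' hdz hc
    convert this using 1
    simp only [Subgroup.coe_mul, InvMemClass.coe_inv]
    group
  · rw [hmem]
    have h := hV.lift (d⁻¹ * c * d) (by rw [hsq, hc2]; group) ((hK c).2 hc)
    simpa only [Subgroup.coe_mul, InvMemClass.coe_inv] using h

/-- The normalizer of the hexad subgroup normalizes it. -/
theorem mem_normalizer (F : Small M) {d : ↥(CZ z π)}
    (hd : J.proj d ∈ Subgroup.normalizer (hexK g : Set M)) : (d : G) ∈ Subgroup.normalizer (V : Set G) := by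
  have h := hV.unique F (hV.map_conj hd)
  rw [Subgroup.mem_normalizer_iff]
  intro x
  conv_rhs => rw [← h, Subgroup.mem_map_equiv, MulAut.conj_symm_apply]
  rw [show (d : G)⁻¹ * ((d : G) * x * (d : G)⁻¹) * d = x by group]

end IsV

end Ctx

/-- The data exist. -/
theorem exists_full [IsSimpleGroup G] (hG : ¬ IsMulCommutative G) {z : G} {P : Subgroup G}
    (hJ : IsOfJankoFourTypeWith z P) :
    ∃ π : G, P = Subgroup.zpowers π ∧ ∃ (J : Ctx ↥Cfsg.Spor.M22 z π (twoCoreOfCentralizer z))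
      (g : ℕ → ↥Cfsg.Spor.M22) (vec : ℕ → G), J.Full g vec := by
  obtain ⟨π₀, hP, J₀⟩ := exists_ctx hJ
  have T₀ := M22Cert.tables
  obtain ⟨π, hπ, J, θ, vec, Mo⟩ := J₀.exists_model T₀.gens
  have T := T₀.map θ
  have F := T.gens.small
  have hP' : P = Subgroup.zpowers π := by
    rw [hP]
    rcases hπ with rfl | rfl
    · rfl
    · exact Subgroup.zpowers_inv.symm
  have h44 : θ (M22Cert.gM 4) * θ (M22Cert.gM 4) = 1 := by
    simpa using T.gens.rels [4, 4] (by simp [relList])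
  have h4 : θ (M22Cert.gM 4) ≠ 1 := by
    intro h
    have hne : M22Cert.gM 4 ≠ 1 := fun e => by
      have h' : Golay.toPerm (M22Cert.gensP.getD 4 Golay.SylowTwo.idP) = Golay.toPerm Golay.SylowTwo.idP := by
        rw [← (M22Cert.gM_val 4).2, e, Golay.SylowTwo.toPerm_idP]; rfl
      have := Golay.SylowTwo.eqP_of_toPerm_eq (M22Cert.gM_val 4).1 Golay.SylowTwo.validP_idP h'
      revert this
      decide +kernel
    exact hne (θ.injective (h.trans (map_one θ).symm))
  have hdim := Mo.card_fx F h4 h44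
  obtain ⟨a, b, ha, hb, PR, hA⟩ := J.exists_ab Mo T.gens
  obtain ⟨k, hk, hne⟩ := J.exists_conj_CZ hG F Mo T hdim
  obtain ⟨h, hh, hha⟩ := J.exists_h F hdim PR hk hne
  obtain ⟨-, hC⟩ := J.cent_pi_le F T hdim PR hk hne hh hha
  exact ⟨π, hP', J, _, vec, ⟨Mo, T, sixteen_gM θ, M22Cert.hex_facts.map θ, hdim, hC,
    a, b, PR, hA, _, h, hk, hne, hh, hha⟩⟩

end CfsgLib.JFour
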